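import Mathlib
import Groth.Agent.S5804

/-!
# Global dimension of a Noetherian local ring via the residue field (elementary Tor balance)

`Groth.Agent.H60.GlDim.pd_fg_le` : finitely generated modules over a Noetherian local ring have
projective dimension at most that of the residue field; `glDim_le` : all modules.
The proof avoids `Tor`: "`Tor_{n+1}(X, Y) = 0`" is expressed through iterated syzygies of `X`
(`V Y n X`) and shifted in the second variable by a diagram chase.
-/

set_option autoImplicit false
universe u
open CategoryTheory

namespace Groth.Agent.H60.GlDim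

open Abelian TensorProduct Function

/-- Bundled finitely generated modules. -/
structure FG (A : Type u) [CommRing A] where
  X : Type u
  [acg : AddCommGroup X]
  [mod : Module A X]
  [fin : Module.Finite A X]

attribute [instance] FG.acg FG.mod FG.fin

variable {A : Type u} [CommRing A]

/-- number of generators in the chosen presentation -/
noncomputable def FG.rank (X : FG A) : ℕ := (Module.Finite.exists_fin' A X.X).choose

/-- the chosen presentation -/
noncomputable def FG.π (X : FG A) : (Fin X.rank → A) →ₗ[A] X.X :=
  (Module.Finite.exists_fin' A X.X).choose_spec.choose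

theorem FG.π_surjective (X : FG A) : Surjective X.π :=
  (Module.Finite.exists_fin' A X.X).choose_spec.choose_spec

variable [IsNoetherianRing A]

/-- the first syzygy -/
noncomputable def FG.syz (X : FG A) : FG A := { X := ↥(LinearMap.ker X.π) }

/-- "`Tor_{n+1}(X, Y) = 0`", via iterated syzygies of `X`. -/
noncomputable def V (Y : Type u) [AddCommGroup Y] [Module A Y] : ℕ → FG A → Prop
  | 0, X => Injective ((LinearMap.ker X.π).subtype.lTensor Y)
  | n + 1, X => V Y n X.syz

theorem V_of_flat (Y : Type u) [AddCommGroup Y] [Module A Y] [Module.Flat A Y] :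
    ∀ (n : ℕ) (X : FG A), V Y n X
  | 0, X => Module.Flat.lTensor_preserves_injective_linearMap _ (Submodule.injective_subtype _)
  | n + 1, X => V_of_flat Y n X.syz

theorem V_shift {L G Y : Type u} [AddCommGroup L] [Module A L] [AddCommGroup G] [Module A G]
    [AddCommGroup Y] [Module A Y] [Module.Flat A G] (g₁ : L →ₗ[A] G) (g₂ : G →ₗ[A] Y)
    (hinj₁ : Injective g₁) (hex : Exact g₁ g₂) (hsurj : Surjective g₂) :
    ∀ (n : ℕ) (X : FG A), V L n X → V Y (n + 1) X
  | 0, X, h => by
    show Injective ((LinearMap.ker X.syz.π).subtype.lTensor Y)
    have h' : Injective ((LinearMap.ker X.π).subtype.lTensor L) := h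
    refine lTensor_injective_of_exact_of_exact_of_rTensor_injective (f₁ := g₁) (f₂ := g₂)
      (g₁ := (LinearMap.ker X.syz.π).subtype) (g₂ := X.syz.π) hex hsurj
      (LinearMap.exact_subtype_ker_map _) X.syz.π_surjective ?_ ?_
    · have hcomp : (LinearMap.lTensor G (LinearMap.ker X.π).subtype) ∘ₗ
            (g₁.rTensor (LinearMap.ker X.π)) =
          (g₁.rTensor (Fin X.rank → A)) ∘ₗ (LinearMap.lTensor L (LinearMap.ker X.π).subtype) := by
        rw [LinearMap.lTensor_comp_rTensor, LinearMap.rTensor_comp_lTensor]
      have hinj : Injective ((g₁.rTensor (Fin X.rank → A)) ∘ₗ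
          (LinearMap.lTensor L (LinearMap.ker X.π).subtype)) := by
        rw [LinearMap.coe_comp]
        exact (Module.Flat.rTensor_preserves_injective_linearMap g₁ hinj₁).comp h'
      rw [← hcomp, LinearMap.coe_comp] at hinj
      exact Injective.of_comp hinj
    · exact Module.Flat.lTensor_preserves_injective_linearMap _ (Submodule.injective_subtype _)
  | n + 1, X, h => V_shift g₁ g₂ hinj₁ hex hsurj n X.syz h

theorem V_of_pd : ∀ (n : ℕ) (Y : FG A),
    HasProjectiveDimensionLT (ModuleCat.of A Y.X) (n + 1) → ∀ X : FG A, V Y.X n X
  | 0, Y, h, X => by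
    rw [zero_add, ← projective_iff_hasProjectiveDimensionLT_one] at h
    have : Module.Projective A Y.X := (IsProjective.iff_projective (R := A) Y.X).mpr h
    exact V_of_flat Y.X 0 X
  | n + 1, Y, h, X => by
    have hS : Y.π.shortComplexKer.ShortExact :=
      LinearMap.shortExact_shortComplexKer Y.π_surjective
    have hP : Projective Y.π.shortComplexKer.X₂ :=
      (IsProjective.iff_projective (R := A) (Fin Y.rank → A)).mp inferInstance
    have hL : HasProjectiveDimensionLT (ModuleCat.of A Y.syz.X) (n + 1) :=
      (hS.hasProjectiveDimensionLT_X₃_iff n hP).mp h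
    exact V_shift (LinearMap.ker Y.π).subtype Y.π (Submodule.injective_subtype _)
      (LinearMap.exact_subtype_ker_map _) Y.π_surjective n X (V_of_pd n Y.syz hL X)

theorem pd_of_V [IsLocalRing A] : ∀ (n : ℕ) (X : FG A),
    V (IsLocalRing.ResidueField A) n X → HasProjectiveDimensionLT (ModuleCat.of A X.X) (n + 1)
  | 0, X, h => by
    have h' : Injective ((LinearMap.ker X.π).subtype.lTensor (IsLocalRing.ResidueField A)) := h
    have hfree : Module.Free A X.X :=
      Module.free_of_lTensor_residueField_injective (LinearMap.ker X.π).subtype X.π
        X.π_surjective (LinearMap.exact_subtype_ker_map _) h'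
    have : Projective (ModuleCat.of A X.X) :=
      (IsProjective.iff_projective (R := A) X.X).mp inferInstance
    rw [zero_add]
    infer_instance
  | n + 1, X, h => by
    have hS : X.π.shortComplexKer.ShortExact :=
      LinearMap.shortExact_shortComplexKer X.π_surjective
    have hP : Projective X.π.shortComplexKer.X₂ :=
      (IsProjective.iff_projective (R := A) (Fin X.rank → A)).mp inferInstance
    exact (hS.hasProjectiveDimensionLT_X₃_iff n hP).mpr (pd_of_V n X.syz h)

/-- Finitely generated modules over a Noetherian local ring have projective dimension at most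
that of the residue field. -/
theorem pd_fg_le [IsLocalRing A] (n : ℕ)
    (hk : HasProjectiveDimensionLT (ModuleCat.of A (IsLocalRing.ResidueField A)) (n + 1))
    (M : Type u) [AddCommGroup M] [Module A M] [Module.Finite A M] :
    HasProjectiveDimensionLT (ModuleCat.of A M) (n + 1) := by
  haveI : Module.Finite A (IsLocalRing.ResidueField A) :=
    Module.Finite.of_surjective (Algebra.linearMap A (IsLocalRing.ResidueField A))
      IsLocalRing.residue_surjective
  let Yk : FG A := { X := IsLocalRing.ResidueField A }
  let XM : FG A := { X := M }
  exact pd_of_V n XM (V_of_pd n Yk hk XM)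

/-- The global dimension of a Noetherian local ring is at most the projective dimension of its
residue field. -/
theorem glDim_le [IsLocalRing A] (n : ℕ)
    (hk : HasProjectiveDimensionLT (ModuleCat.of A (IsLocalRing.ResidueField A)) (n + 1))
    (M : Type u) [AddCommGroup M] [Module A M] :
    HasProjectiveDimensionLT (ModuleCat.of A M) (n + 1) := by
  apply Groth.Agent.S5804.result A n
  intro I
  exact pd_fg_le n hk (A ⧸ I)

end Groth.Agent.H60.GlDim
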