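import Mathlib
import Groth.Agent.S0339
import Groth.Agent.S8149
import Groth.Agent.H72.AB
import Groth.Agent.H26.DepthQuot

/-!
# Modules of finite injective dimension over a Noetherian local ring

* `exists_r`: the injective dimension `r` of a finite nonzero module `Y` of finite injective
  dimension is detected by `Ext^r(k, Y) ≠ 0`.
* `F2` (Ischebeck / Bass): for finite `N ≠ 0`, `depth N + sup {i | Ext^i(N, Y) ≠ 0} = r`.
* `depth_self_eq`, `isCM_of_data`: a Gorenstein local ring has `depth = inj dim = dim`.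
-/

set_option autoImplicit false
universe u

namespace Groth.Agent.H60.Bass

open CategoryTheory Abelian IsLocalRing RingTheory.Sequence
open Groth.Agent.H72.AB (kk E)

variable {A : Type u} [CommRing A]

theorem depth_quot_eq [IsNoetherianRing A] [IsLocalRing A] (N : Type u) [AddCommGroup N]
    [Module A N] [Module.Finite A N] (x : A) (hx : x ∈ maximalIdeal A) (hreg : IsSMulRegular N x)
    (t : ℕ) (h : LocCoh.depth A N = ((t + 1 : ℕ) : ℕ∞)) :
    LocCoh.depth A (QuotSMulTop x N) = (t : ℕ∞) := by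
  unfold LocCoh.depth at h ⊢
  have h1 : (t : ℕ∞) ≤ LocCoh.idealDepth (maximalIdeal A) (QuotSMulTop x N) :=
    Groth.Agent.H26.DepthQuot.depth_quot (maximalIdeal A) N x hreg t h.ge
  by_contra hne
  have h2 : (t : ℕ∞) < LocCoh.idealDepth (maximalIdeal A) (QuotSMulTop x N) :=
    lt_of_le_of_ne h1 (Ne.symm hne)
  have h3 : ((t + 1 : ℕ) : ℕ∞) ≤ LocCoh.idealDepth (maximalIdeal A) (QuotSMulTop x N) := by
    have h' := Order.add_one_le_of_lt h2
    exact_mod_cast h'
  have h4 := Groth.Agent.H26.DepthQuot.depth_cons (maximalIdeal A) N x hx hreg (t + 1) h3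
  rw [h] at h4
  have h5 : t + 1 + 1 ≤ t + 1 := by exact_mod_cast h4
  omega

theorem exists_regular_of_depth_pos [IsLocalRing A] (N : Type u) [AddCommGroup N]
    [Module A N] [Module.Finite A N] [Nontrivial N] (t : ℕ)
    (h : LocCoh.depth A N = ((t + 1 : ℕ) : ℕ∞)) :
    ∃ x ∈ maximalIdeal A, IsSMulRegular N x := by
  have h1 : ((1 : ℕ) : ℕ∞) ≤ LocCoh.idealDepth (maximalIdeal A) N := by
    have h0 : LocCoh.idealDepth (maximalIdeal A) N = ((t + 1 : ℕ) : ℕ∞) := h
    rw [h0]
    exact_mod_cast Nat.succ_le_succ (Nat.zero_le t)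
  obtain ⟨rs, hlen, hW, hmem⟩ := Groth.Agent.H26.DepthLib.exists_of_le_idealDepth
    (maximalIdeal A) 1 h1 (Groth.Agent.H29.maximalIdeal_smul_top_ne_top A N)
  obtain ⟨x, rfl⟩ := List.length_eq_one_iff.mp hlen
  exact ⟨x, hmem x (List.mem_singleton_self x), (isWeaklyRegular_singleton_iff N x).mp hW⟩

/-- Ischebeck / Bass: `depth N + sup {i | Ext^i(N, Y) ≠ 0} = r`. -/
theorem F2 [IsNoetherianRing A] [IsLocalRing A] (Y : ModuleCat.{u} A) [Module.Finite A Y] (r : ℕ)
    (hr1 : ∀ (X : ModuleCat.{u} A) (i : ℕ), r < i → ∀ z : Ext X Y i, z = 0)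
    (hr2 : ∃ z : Ext (kk A) Y r, z ≠ 0) :
    ∀ (t : ℕ) (N : Type u) [AddCommGroup N] [Module A N] [Module.Finite A N] [Nontrivial N],
      LocCoh.depth A N = (t : ℕ∞) →
      t ≤ r ∧ (∃ z : Ext (ModuleCat.of A N) Y (r - t), z ≠ 0) ∧
        ∀ i, r - t < i → ∀ z : Ext (ModuleCat.of A N) Y i, z = 0 := by
  intro t
  induction t with
  | zero =>
    intro N _ _ _ _ hd
    refine ⟨Nat.zero_le r, ?_, fun i hi z => hr1 _ i (by omega) z⟩
    have h0 := ((Groth.Agent.H72.AB.depth_eq_iff A N 0).mp hd).2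
    rw [not_subsingleton_iff_nontrivial] at h0
    haveI := h0
    obtain ⟨z0, hz0⟩ := exists_ne (0 : E A 0 N)
    obtain ⟨φ, rfl⟩ := (Ext.mk₀_bijective _ _).2 z0
    have hφ : φ ≠ 0 := fun h => hz0 (by rw [h, Ext.mk₀_zero])
    haveI : IsSimpleModule A (A ⧸ maximalIdeal A) :=
      isSimpleModule_iff_isCoatom.mpr (Ideal.isMaximal_def.mp (maximalIdeal.isMaximal A))
    have hinj : Function.Injective φ.hom := by
      rcases LinearMap.injective_or_eq_zero φ.hom with h | h
      · exact h
      · exact absurd (ModuleCat.hom_ext h) hφ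
    let S : ShortComplex (ModuleCat.{u} A) :=
      ModuleCat.shortComplexOfCompEqZero _ _ φ.hom.exact_map_mkQ_range.linearMap_comp_eq_zero
    have hS : S.ShortExact := ModuleCat.shortComplex_shortExact S φ.hom.exact_map_mkQ_range hinj
      (Submodule.mkQ_surjective _)
    obtain ⟨w, hw⟩ := hr2
    obtain ⟨x₂, hx₂⟩ := Ext.contravariant_sequence_exact₁ hS Y w (n₁ := r + 1) (by omega)
      (hr1 _ _ (by omega) _)
    refine ⟨x₂, fun h => hw ?_⟩
    rw [← hx₂, h, Ext.comp_zero]
  | succ t ih =>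
    intro N _ _ _ _ hd
    obtain ⟨x, hxm, hreg⟩ := exists_regular_of_depth_pos N t hd
    haveI : Nontrivial (QuotSMulTop x N) := nontrivial_quotSMulTop_of_mem_maximalIdeal N hxm
    have hd' := depth_quot_eq N x hxm hreg t hd
    obtain ⟨htr, hex', hvan'⟩ := ih (QuotSMulTop x N) hd'
    have hreg' : IsSMulRegular (ModuleCat.of A N) x := hreg
    have hS := hreg'.smulShortComplex_shortExact
    have hvan : ∀ i, r - t ≤ i → ∀ z : Ext (ModuleCat.of A N) Y i, z = 0 := by
      intro i hi z
      exact Groth.Agent.S0339.nakayama_step (ModuleCat.of A N) Y x hxm hreg' i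
        (fun w => hvan' (i + 1) (by omega) w) z
    generalize hk : r - t = k at hex' hvan'
    obtain ⟨z', hz'⟩ := hex'
    cases k with
    | zero =>
      exfalso
      have hinj := Ext.precomp_mk₀_injective_of_epi Y ((ModuleCat.of A N).smulShortComplex x).g
      have h1 : (Ext.mk₀ ((ModuleCat.of A N).smulShortComplex x).g).precomp Y (zero_add 0) z'
          = 0 := hvan 0 (by omega) _
      exact hz' (hinj (h1.trans (map_zero _).symm))
    | succ k =>
      have htr' : t + 1 ≤ r := by omega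
      refine ⟨htr', ?_, fun i hi z => hvan i (by omega) z⟩
      have hk' : r - (t + 1) = k := by omega
      rw [hk']
      have h1 : (Ext.mk₀ ((ModuleCat.of A N).smulShortComplex x).g).comp z' (zero_add (k + 1))
          = 0 := hvan (k + 1) (by omega) _
      obtain ⟨x₁, hx₁⟩ := Ext.contravariant_sequence_exact₃ hS Y z' h1 (n₀ := k) (by omega)
      refine ⟨x₁, fun h => hz' ?_⟩
      have h' : x₁ = (0 : Ext ((ModuleCat.of A N).smulShortComplex x).X₁ Y k) := h
      rw [← hx₁, h', Ext.comp_zero]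
      rfl

/-- The injective dimension `r` of a finite nonzero module of finite injective dimension is detected
by `Ext^r(k, Y) ≠ 0`. -/
theorem exists_r [IsNoetherianRing A] [IsLocalRing A] (Y : ModuleCat.{u} A) [Module.Finite A Y]
    [Nontrivial Y] (h : ∃ n : ℕ, HasInjectiveDimensionLT Y n) :
    ∃ r : ℕ, (∀ (X : ModuleCat.{u} A) (i : ℕ), r < i → ∀ z : Ext X Y i, z = 0) ∧
      ∃ z : Ext (kk A) Y r, z ≠ 0 := by
  classical
  have hn0 : Nat.find h ≠ 0 := by
    intro h0
    have h1 : HasInjectiveDimensionLT Y (Nat.find h) := Nat.find_spec h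
    rw [h0] at h1
    have h2 : Limits.IsZero Y := isZero_of_hasInjectiveDimensionLT_zero Y
    exact not_subsingleton Y (ModuleCat.subsingleton_of_isZero h2)
  obtain ⟨r, hr⟩ : ∃ r, Nat.find h = r + 1 := ⟨Nat.find h - 1, by omega⟩
  have hspec : HasInjectiveDimensionLT Y (r + 1) := by rw [← hr]; exact Nat.find_spec h
  have hmin : ¬ HasInjectiveDimensionLT Y r := Nat.find_min h (by omega)
  refine ⟨r, fun X i hi z => z.eq_zero_of_hasInjectiveDimensionLT (r + 1) (by omega), ?_⟩
  by_contra hcon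
  push Not at hcon
  apply hmin
  have hprime : ∀ q : PrimeSpectrum A,
      ∀ z : Ext (ModuleCat.of A (A ⧸ q.asIdeal)) Y r, z = 0 := by
    intro q
    by_cases hqm : q.asIdeal = maximalIdeal A
    · rw [hqm]; exact hcon
    · intro z
      have hlt : q.asIdeal < maximalIdeal A :=
        lt_of_le_of_ne (IsLocalRing.le_maximalIdeal q.2.ne_top) hqm
      obtain ⟨x, hxm, hxq⟩ := SetLike.exists_of_lt hlt
      have hreg : IsSMulRegular (A ⧸ q.asIdeal) x := by
        rw [isSMulRegular_quotient_iff_mem_of_smul_mem]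
        intro y hy
        exact (q.2.mem_or_mem hy).resolve_left hxq
      exact Groth.Agent.S0339.nakayama_step (ModuleCat.of A (A ⧸ q.asIdeal)) Y x hxm hreg r
        (fun w => w.eq_zero_of_hasInjectiveDimensionLT (r + 1) le_rfl) z
  have hall : ∀ (N' : Type u) [AddCommGroup N'] [Module A N'] [Module.Finite A N'],
      ∀ z : Ext (ModuleCat.of A N') Y r, z = 0 :=
    fun N' _ _ _ => Groth.Agent.S0339.L1 Y r N' (fun q _ => hprime q)
  cases r with
  | zero =>
    exfalso
    have h1 := hall Y (Ext.mk₀ (𝟙 Y))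
    have h2 : 𝟙 Y = 0 := (Ext.mk₀_bijective _ _).1 (h1.trans (Ext.mk₀_zero _ _).symm)
    exact not_subsingleton Y
      (ModuleCat.subsingleton_of_isZero ((Limits.IsZero.iff_id_eq_zero Y).mpr h2))
  | succ r' =>
    exact Groth.Agent.S5788.key A r' Y
      (fun I => ⟨fun a b => by rw [hall (A ⧸ I) a, hall (A ⧸ I) b]⟩)

section Gorenstein

variable [IsNoetherianRing A] [IsLocalRing A] (r : ℕ)
  (hr1 : ∀ (X : ModuleCat.{u} A) (i : ℕ), r < i → ∀ z : Ext X (ModuleCat.of A A) i, z = 0)
  (hr2 : ∃ z : Ext (kk A) (ModuleCat.of A A) r, z ≠ 0)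

include hr1 hr2

theorem depth_self_eq : LocCoh.depth A A = (r : ℕ∞) := by
  obtain ⟨t, ht⟩ := Groth.Agent.H29.CM.exists_nat_depth (A := A) (M := A)
  obtain ⟨htr, hex, -⟩ := F2 (ModuleCat.of A A) r hr1 hr2 t A ht
  haveI hproj : Projective (ModuleCat.of A A) :=
    (IsProjective.iff_projective (R := A) _).mp inferInstance
  generalize hk : r - t = k at hex
  obtain ⟨z, hz⟩ := hex
  cases k with
  | zero =>
    have htr' : t = r := by omega
    rw [ht, htr']
  | succ k => exact absurd (Ext.eq_zero_of_projective z) hz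

theorem isCM_of_data :
    Module.supportDim A A = ((LocCoh.depth A A : ℕ∞) : WithBot ℕ∞) := by
  classical
  have hdepth := depth_self_eq r hr1 hr2
  obtain ⟨rs, hW, hmem, hlen, hmax⟩ := Groth.Agent.S8149.exists_max_seq A r hdepth
  have hIm : Ideal.ofList rs ≤ maximalIdeal A := Ideal.span_le.mpr (fun x hx => hmem x hx)
  have hreg : IsRegular A rs := IsRegular.of_isWeaklyRegular_of_mem_maximalIdeal A hmem hW
  have hq : ∀ q : PrimeSpectrum A, Ideal.ofList rs ≤ q.asIdeal →
      q.asIdeal = maximalIdeal A := by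
    intro q hIq
    by_contra hqm
    have hlt : q.asIdeal < maximalIdeal A :=
      lt_of_le_of_ne (IsLocalRing.le_maximalIdeal q.2.ne_top) hqm
    obtain ⟨x, hxm, hxq⟩ := SetLike.exists_of_lt hlt
    have hregx : IsSMulRegular (A ⧸ q.asIdeal) x := by
      rw [isSMulRegular_quotient_iff_mem_of_smul_mem]
      intro y hy
      exact (q.2.mem_or_mem hy).resolve_left hxq
    haveI : Nontrivial (A ⧸ q.asIdeal) := Ideal.Quotient.nontrivial_iff.mpr q.2.ne_top
    obtain ⟨t', ht'⟩ := Groth.Agent.H29.CM.exists_nat_depth (A := A) (M := A ⧸ q.asIdeal)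
    have ht1 : 1 ≤ t' := by
      have h1 := Groth.Agent.H26.DepthLib.length_le_idealDepth (maximalIdeal A)
        (M := A ⧸ q.asIdeal) (rs := [x]) ((isWeaklyRegular_singleton_iff _ x).mpr hregx)
        (by simpa using hxm)
      have h2 : LocCoh.idealDepth (maximalIdeal A) (A ⧸ q.asIdeal) = t' := ht'
      rw [h2] at h1
      exact_mod_cast h1
    obtain ⟨htr, ⟨z, hz⟩, -⟩ := F2 (ModuleCat.of A A) r hr1 hr2 t' (A ⧸ q.asIdeal) ht'
    have hsupp : Module.support A (A ⧸ q.asIdeal) ⊆
        PrimeSpectrum.zeroLocus (Ideal.ofList rs : Set A) := by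
      rw [Module.support_eq_zeroLocus, Ideal.annihilator_quotient]
      exact PrimeSpectrum.zeroLocus_anti_mono (SetLike.coe_subset_coe.mpr hIq)
    have hlt' : Ideal.ofList rs • (⊤ : Submodule A A) < ⊤ :=
      lt_of_le_of_ne le_top hreg.top_ne_smul.symm
    have hsub := ModuleCat.subsingleton_ext_of_exists_isRegular (Ideal.ofList rs)
      (ModuleCat.of A (A ⧸ q.asIdeal)) hsupp (ModuleCat.of A A) hlt' rs
      (fun x hx => Ideal.subset_span hx) hreg (r - t') (by rw [hlen]; omega)
    exact hz (Subsingleton.elim _ _)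
  have hdim0 : ringKrullDim (A ⧸ Ideal.ofList rs) ≤ 0 := by
    rw [ringKrullDim_quotient]
    haveI : Subsingleton (PrimeSpectrum.zeroLocus (R := A) (Ideal.ofList rs : Set A)) :=
      ⟨fun a b => Subtype.ext (PrimeSpectrum.ext
        ((hq a.1 (fun x hx => (PrimeSpectrum.mem_zeroLocus _ _).mp a.2 hx)).trans
          (hq b.1 (fun x hx => (PrimeSpectrum.mem_zeroLocus _ _).mp b.2 hx)).symm))⟩
    exact Order.krullDim_nonpos_of_subsingleton
  have hspan : (Ideal.ofList rs).spanFinrank ≤ r := by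
    have hset : {x | x ∈ rs} = (rs.toFinset : Set A) := by ext; simp
    have hI' : Ideal.ofList rs = Ideal.span (rs.toFinset : Set A) := by
      show Ideal.span {x | x ∈ rs} = _
      rw [hset]
    rw [hI']
    refine (Submodule.spanFinrank_span_le_ncard_of_finite rs.toFinset.finite_toSet).trans ?_
    rw [Set.ncard_coe_finset, ← hlen]
    exact List.toFinset_card_le rs
  have hkrull := ringKrullDim_le_ringKrullDim_quotient_add_spanFinrank (Ideal.ofList rs)
    (by rw [IsLocalRing.ringJacobson_eq_maximalIdeal]; exact hIm)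
  have h1 : ringKrullDim A ≤ (r : WithBot ℕ∞) := by
    calc ringKrullDim A
        ≤ ringKrullDim (A ⧸ Ideal.ofList rs) + (Ideal.ofList rs).spanFinrank := hkrull
      _ ≤ 0 + (r : WithBot ℕ∞) := add_le_add hdim0 (by exact_mod_cast hspan)
      _ = r := zero_add _
  apply le_antisymm
  · rw [Module.supportDim_self_eq_ringKrullDim, hdepth]
    exact_mod_cast h1
  · exact Groth.Agent.H29.CM.depth_le_supportDim

end Gorenstein

end Groth.Agent.H60.Bass
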