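import Mathlib
import Groth.Agent.H60.Bass

/-!
# Injective dimension and localization (helper60)

Over a Noetherian ring: the localization functor preserves injective objects and bounds on the
injective dimension, and a bound on the injective dimension can be checked at maximal ideals.
-/

set_option autoImplicit false
universe u
open CategoryTheory Abelian

namespace Groth.Agent.H60.InjLoc

variable {A : Type u} [CommRing A]

/-- The localization functor preserves injective objects over a Noetherian ring. -/
theorem loc_inj [IsNoetherianRing A] (S : Submonoid A) (X : ModuleCat.{u} A) [hX : Injective X] :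
    Injective ((ModuleCat.localizedModuleFunctor S).obj X) := by
  have : Module.Injective A X := Module.injective_module_of_injective_object A X
  haveI : Module.Injective (Localization S) (X.localizedModule S) :=
    Module.injective_of_isLocalizedModule S (X.localizedModuleMkLinearMap S)
  exact Module.injective_object_of_injective_module (Localization S) (X.localizedModule S)

/-- A short exact sequence `0 → X → I → C → 0` with `I` injective. -/
theorem exists_inj_ses (X : ModuleCat.{u} A) :
    ∃ (I C : ModuleCat.{u} A) (_ : Injective I) (f : X ⟶ I) (g : I ⟶ C) (w : f ≫ g = 0),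
      (ShortComplex.mk f g w).ShortExact := by
  obtain ⟨⟨I, hI, f, hf⟩⟩ := EnoughInjectives.presentation X
  exact ⟨I, Limits.cokernel f, hI, f, Limits.cokernel.π f, Limits.cokernel.condition f,
    { exact := ShortComplex.exact_cokernel f, mono_f := hf, epi_g := by dsimp; infer_instance }⟩

/-- Bounds on the injective dimension are preserved by localization. -/
theorem loc_injdim [IsNoetherianRing A] (S : Submonoid A) :
    ∀ (n : ℕ) (X : ModuleCat.{u} A), HasInjectiveDimensionLT X (n + 1) →
      HasInjectiveDimensionLT ((ModuleCat.localizedModuleFunctor S).obj X) (n + 1) := by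
  intro n
  induction n with
  | zero =>
    intro X hX
    rw [zero_add] at hX ⊢
    rw [← injective_iff_hasInjectiveDimensionLT_one] at hX
    rw [← injective_iff_hasInjectiveDimensionLT_one]
    exact loc_inj S X
  | succ n ih =>
    intro X hX
    obtain ⟨I, C, hI, f, g, w, hS⟩ := exists_inj_ses X
    have h3 : HasInjectiveDimensionLT C (n + 1) :=
      (hS.hasInjectiveDimensionLT_X₃_iff n hI).mpr hX
    have h3' := ih C h3
    have hS' := hS.map_of_exact (ModuleCat.localizedModuleFunctor S)
    exact (hS'.hasInjectiveDimensionLT_X₃_iff n (loc_inj S I)).mp h3'

/-- A bound on the injective dimension can be checked after localizing at maximal ideals. -/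
theorem glob_injdim [IsNoetherianRing A] :
    ∀ (n : ℕ) (X : ModuleCat.{u} A),
      (∀ (m : Ideal A) [m.IsMaximal], HasInjectiveDimensionLT
        ((ModuleCat.localizedModuleFunctor m.primeCompl).obj X) (n + 1)) →
      HasInjectiveDimensionLT X (n + 1) := by
  intro n
  induction n with
  | zero =>
    intro X hX
    rw [zero_add, ← injective_iff_hasInjectiveDimensionLT_one]
    haveI : Module.Injective A X := by
      refine Module.injective_of_localization_maximal'
        (Rₚ := fun P _ => Localization.AtPrime P)
        (Mₚ := fun P _ => X.localizedModule P.primeCompl)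
        (f := fun P _ => X.localizedModuleMkLinearMap P.primeCompl) ?_
      intro m hm
      have h1 := hX m
      rw [zero_add, ← injective_iff_hasInjectiveDimensionLT_one] at h1
      exact Module.injective_module_of_injective_object (Localization.AtPrime m)
        (X.localizedModule m.primeCompl) (inj := h1)
    exact Module.injective_object_of_injective_module A X
  | succ n ih =>
    intro X hX
    obtain ⟨I, C, hI, f, g, w, hS⟩ := exists_inj_ses X
    have h3 : HasInjectiveDimensionLT C (n + 1) := by
      apply ih C
      intro m hm
      have hS' := hS.map_of_exact (ModuleCat.localizedModuleFunctor m.primeCompl)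
      exact (hS'.hasInjectiveDimensionLT_X₃_iff n (loc_inj m.primeCompl I)).mpr (hX m)
    exact (hS.hasInjectiveDimensionLT_X₃_iff n hI).mp h3

/-- The localization of the ring as a module is the localized ring. -/
noncomputable def isoSelf (S : Submonoid A) :
    (ModuleCat.localizedModuleFunctor S).obj (ModuleCat.of A A) ≅
      ModuleCat.of (Localization S) (Localization S) :=
  haveI := ModuleCat.localizedModule_isLocalizedModule (ModuleCat.of A A) S
  LinearEquiv.toModuleIso
    ((IsLocalizedModule.linearEquiv S ((ModuleCat.of A A).localizedModuleMkLinearMap S)
      (Algebra.linearMap A (Localization S))).extendScalarsOfIsLocalization S (Localization S))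

/-- Numerical data of a Gorenstein local ring: the injective dimension of the ring is its Krull
dimension. -/
theorem gor_data (R : Type u) [CommRing R] [IsLocalRing R] [IsNoetherianRing R]
    (h : ∃ n : ℕ, HasInjectiveDimensionLT (ModuleCat.of R R) n) :
    ∃ r : ℕ, ringKrullDim R = (r : WithBot ℕ∞) ∧
      HasInjectiveDimensionLT (ModuleCat.of R R) (r + 1) ∧
      ∀ n, HasInjectiveDimensionLT (ModuleCat.of R R) n → r < n := by
  haveI : Nontrivial (ModuleCat.of R R) := inferInstanceAs (Nontrivial R)
  obtain ⟨r, hr1, hr2⟩ := Bass.exists_r (ModuleCat.of R R) h
  refine ⟨r, ?_, ?_, ?_⟩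
  · rw [← Module.supportDim_self_eq_ringKrullDim, Bass.isCM_of_data r hr1 hr2,
      Bass.depth_self_eq r hr1 hr2]
    rfl
  · exact HasInjectiveDimensionLT.mk (fun i hi Y e => hr1 Y i (by omega) e)
  · intro n hn
    by_contra hle
    obtain ⟨z, hz⟩ := hr2
    exact hz (z.eq_zero_of_hasInjectiveDimensionLT n (by omega))

end Groth.Agent.H60.InjLoc
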