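import Mathlib
import Groth.Agent.S0299
import Groth.Agent.S0308
import Groth.Agent.S0339
import Groth.Agent.H60.InjLoc

/-!
# Socles of local rings and the Artinian Gorenstein criterion

For a local ring `R`, `InSoc x` says `x` is killed by the maximal ideal; `TypeOne R` says that the
socle is generated by a single nonzero element.  For an Artinian local ring, `R` has finite injective
dimension over itself iff `TypeOne R` (`typeOne_of_gor`, `gor_of_typeOne`).
-/

set_option autoImplicit false
universe u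

namespace Groth.Agent.H60.Soc

open CategoryTheory IsLocalRing

variable {R : Type u} [CommRing R] [IsLocalRing R]

/-- `x` lies in the socle of `R`. -/
def InSoc (x : R) : Prop := ∀ a ∈ maximalIdeal R, a * x = 0

variable (R) in
/-- The socle of `R` is generated by one nonzero element. -/
def TypeOne : Prop :=
  ∃ s : R, s ≠ 0 ∧ InSoc s ∧ ∀ x : R, InSoc x → ∃ c : R, x = c * s

lemma isUnit_of_notMem {a : R} (ha : a ∉ maximalIdeal R) : IsUnit a := by
  by_contra h
  exact ha ((IsLocalRing.mem_maximalIdeal a).mpr h)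

lemma mem_of_mul_eq_zero {a s : R} (hs : s ≠ 0) (h : a * s = 0) : a ∈ maximalIdeal R := by
  by_contra ha
  obtain ⟨u, rfl⟩ := isUnit_of_notMem ha
  exact hs ((Units.mul_right_eq_zero u).mp h)

lemma enat_aux {a b : ℕ∞} (ha : a ≠ ⊤) (h : a = a + b) : b = 0 := by
  lift a to ℕ using ha
  cases b using ENat.recTopCoe with
  | top => simp at h
  | coe b =>
    have h' : a = a + b := by exact_mod_cast h
    have hb : b = 0 := by omega
    simp [hb]

lemma injective_of_linearEquiv {Q Q' : Type u} [AddCommGroup Q] [Module R Q] [AddCommGroup Q']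
    [Module R Q'] (e : Q ≃ₗ[R] Q') (h : Module.Injective R Q) : Module.Injective R Q' where
  out X Y _ _ _ _ f hf g := by
    obtain ⟨h', hh'⟩ := h.out f hf (e.symm.toLinearMap ∘ₗ g)
    refine ⟨e.toLinearMap ∘ₗ h', fun x => ?_⟩
    rw [LinearMap.comp_apply, hh' x, LinearMap.comp_apply]
    exact e.apply_symm_apply (g x)

theorem exists_inSoc_of_ne_bot [IsArtinianRing R] (J : Ideal R) (hJ : J ≠ ⊥) :
    ∃ y ∈ J, y ≠ 0 ∧ InSoc y := by
  classical
  have hnil : IsNilpotent (maximalIdeal R) := by
    have h := IsArtinianRing.isNilpotent_jacobson_bot (R := R)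
    rwa [IsLocalRing.jacobson_eq_maximalIdeal ⊥ bot_ne_top] at h
  obtain ⟨n, hn⟩ := hnil
  obtain ⟨x, hxJ, hx0⟩ := Submodule.exists_mem_ne_zero_of_ne_bot hJ
  have hP : ∃ k, maximalIdeal R ^ k * Ideal.span {x} = ⊥ :=
    ⟨n, by rw [hn, zero_mul, Ideal.zero_eq_bot]⟩
  have hk0 : Nat.find hP ≠ 0 := by
    intro h0
    have h1 := Nat.find_spec hP
    rw [h0, pow_zero, Ideal.one_eq_top, Ideal.top_mul] at h1
    exact hx0 (Ideal.span_singleton_eq_bot.mp h1)
  obtain ⟨k, hk⟩ := Nat.exists_eq_succ_of_ne_zero hk0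
  have hk1 : maximalIdeal R ^ k * Ideal.span {x} ≠ ⊥ := Nat.find_min hP (by omega)
  have hk2 : maximalIdeal R ^ (k + 1) * Ideal.span {x} = ⊥ := by
    have := Nat.find_spec hP
    rwa [hk] at this
  obtain ⟨y, hy, hy0⟩ := Submodule.exists_mem_ne_zero_of_ne_bot hk1
  refine ⟨y, ?_, hy0, ?_⟩
  · exact (Ideal.mul_le_left.trans ((Ideal.span_singleton_le_iff_mem J).mpr hxJ)) (by rw [mul_comm]; exact hy)
  · intro a ha
    have h1 : a * y ∈ maximalIdeal R ^ (k + 1) * Ideal.span {x} := by
      rw [pow_succ', mul_assoc]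
      exact Ideal.mul_mem_mul ha hy
    rw [hk2] at h1
    exact (Ideal.mem_bot).mp h1

/-- The map `k → R`, `1 ↦ s`, for `s` in the socle. -/
noncomputable def ι (s : R) (hs : InSoc s) : ResidueField R →ₗ[R] R :=
  (Submodule.liftQ (maximalIdeal R) (LinearMap.toSpanSingleton R R s) (fun a ha => by
    rw [LinearMap.mem_ker, LinearMap.toSpanSingleton_apply, smul_eq_mul]
    exact hs a ha)) ∘ₗ (Groth.Agent.S0339.resEquiv (A := R)).symm.toLinearMap

lemma ι_residue (s : R) (hs : InSoc s) (a : R) : ι s hs (residue R a) = a * s := rfl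

lemma ι_injective (s : R) (hs : InSoc s) (hs0 : s ≠ 0) : Function.Injective (ι s hs) := by
  rw [injective_iff_map_eq_zero]
  intro y hy
  obtain ⟨a, rfl⟩ := IsLocalRing.residue_surjective y
  rw [ι_residue] at hy
  exact (IsLocalRing.residue_eq_zero_iff a).mpr (mem_of_mul_eq_zero hs0 hy)

theorem typeOne_of_injective [IsArtinianRing R] (hinj : Module.Injective R R) : TypeOne R := by
  obtain ⟨s, -, hs0, hs⟩ := exists_inSoc_of_ne_bot (⊤ : Ideal R) top_ne_bot
  refine ⟨s, hs0, hs, fun x hx => ?_⟩
  obtain ⟨h, hh⟩ := hinj.out (ι s hs) (ι_injective s hs hs0) (ι x hx)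
  refine ⟨h 1, ?_⟩
  have h1 := hh (residue R 1)
  rw [ι_residue, ι_residue, one_mul, one_mul] at h1
  rw [← h1]
  calc h s = h (s • (1 : R)) := by rw [smul_eq_mul, mul_one]
    _ = s • h 1 := map_smul h s 1
    _ = h 1 * s := by rw [smul_eq_mul, mul_comm]

theorem typeOne_of_gor [IsArtinianRing R] [IsNoetherianRing R]
    (h : ∃ n : ℕ, HasInjectiveDimensionLT (ModuleCat.of R R) n) : TypeOne R := by
  obtain ⟨r, hdim, hinj, -⟩ := InjLoc.gor_data R h
  have hr : r = 0 := by
    have h0 : ringKrullDim R ≤ 0 :=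
      Ring.krullDimLE_iff.mp (isArtinianRing_iff_krullDimLE_zero.mp inferInstance)
    rw [hdim] at h0
    have : r ≤ 0 := by exact_mod_cast h0
    omega
  subst hr
  have : Injective (ModuleCat.of R R) := injective_iff_hasInjectiveDimensionLT_one.mpr hinj
  exact typeOne_of_injective (Module.injective_module_of_injective_object R R)

theorem gor_of_typeOne [IsArtinianRing R] [IsNoetherianRing R] (h : TypeOne R) :
    ∃ n : ℕ, HasInjectiveDimensionLT (ModuleCat.of R R) n := by
  obtain ⟨s, hs0, hs, hgen⟩ := h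
  obtain ⟨E, _, _, f, hf⟩ := Groth.Agent.S0299.result R (ResidueField R)
  obtain ⟨g, hg⟩ := hf.isInjective.out (ι s hs) (ι_injective s hs hs0) f
  have hgs : g s = f 1 := by
    have := hg (residue R 1)
    rwa [ι_residue, one_mul, map_one] at this
  have hf1 : f 1 ≠ 0 := fun h0 => one_ne_zero (hf.injective (by rw [h0, map_zero]))
  have hginj : Function.Injective g := by
    rw [← LinearMap.ker_eq_bot]
    by_contra hne
    obtain ⟨y, hyJ, hy0, hy⟩ := exists_inSoc_of_ne_bot (LinearMap.ker g) hne
    obtain ⟨c, rfl⟩ := hgen y hy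
    have hc : c ∉ maximalIdeal R := fun hc => hy0 (hs c hc)
    obtain ⟨u, rfl⟩ := isUnit_of_notMem hc
    have h1 : g (↑u * s) = 0 := hyJ
    rw [← smul_eq_mul, map_smul] at h1
    have h2 : u • g s = 0 := by rw [Units.smul_def]; exact h1
    have h3 : g s = 0 := (smul_eq_zero_iff_eq u).mp h2
    exact hf1 (hgs ▸ h3)
  have hlenE : Module.length R E = Module.length R R := by
    rw [← Groth.Agent.S0308.result R E f hf R]
    exact (LinearMap.ringLmapEquivSelf R R E).symm.length_eq
  have hfin : Module.length R R ≠ ⊤ := Module.length_ne_top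
  have hsurj : Function.Surjective g := by
    have hadd := Module.length_eq_add_of_exact g (LinearMap.range g).mkQ hginj
      (Submodule.mkQ_surjective _) (LinearMap.exact_map_mkQ_range g)
    rw [hlenE] at hadd
    have h0 : Module.length R (E ⧸ LinearMap.range g) = 0 := enat_aux hfin hadd
    rw [Module.length_eq_zero_iff, Submodule.Quotient.subsingleton_iff] at h0
    exact LinearMap.range_eq_top.mp h0
  let e : R ≃ₗ[R] E := LinearEquiv.ofBijective g ⟨hginj, hsurj⟩
  have hRinj : Module.Injective R R := injective_of_linearEquiv e.symm hf.isInjective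
  have : Injective (ModuleCat.of R R) :=
    Module.injective_object_of_injective_module R R (inj := hRinj)
  exact ⟨1, injective_iff_hasInjectiveDimensionLT_one.mp inferInstance⟩

end Groth.Agent.H60.Soc
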