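import Mathlib

/-!
# Rees' change of rings for `Ext` into the ring (helper60)

For a commutative ring `A`, an `A`-regular element `f`, `B = A/(f)` and a finitely generated
`B`-module `N` (with `A` Noetherian) the canonical map
`Ψ : Ext_B^i(N, B) → Ext_A^{i+1}(N, A)`, `x ↦ Res(x) ∘ [0 → A → A → B → 0]`, is bijective.
-/

set_option autoImplicit false
universe u
open CategoryTheory Abelian

namespace Groth.Agent.H60.Rees

variable {A : Type u} [CommRing A] (f : A)

/-- The quotient ring `A/(f)`. -/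
abbrev Bq : Type u := A ⧸ Ideal.span {f}

/-- The quotient map. -/
abbrev π : A →+* Bq f := Ideal.Quotient.mk (Ideal.span {f})

/-- Restriction of scalars along `A → A/(f)`. -/
noncomputable abbrev Res : ModuleCat.{u} (Bq f) ⥤ ModuleCat.{u} A :=
  ModuleCat.restrictScalars (π f)

/-- `A/(f)` as a module over itself. -/
abbrev BB : ModuleCat.{u} (Bq f) := ModuleCat.of (Bq f) (Bq f)

theorem π_self : π f f = 0 :=
  Ideal.Quotient.eq_zero_iff_mem.mpr (Ideal.mem_span_singleton_self f)

/-- The quotient map as an `A`-linear map into the restriction of scalars of `A/(f)`. -/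
noncomputable def πlin : A →ₗ[A] ((Res f).obj (BB f)) where
  toFun a := (π f a : Bq f)
  map_add' a b := map_add (π f) a b
  map_smul' a b := by
    change π f (a * b) = π f a * π f b
    exact map_mul _ _ _

/-- The short exact sequence `0 → A → A → A/(f) → 0` of `A`-modules. -/
noncomputable abbrev S₀ : ShortComplex (ModuleCat.{u} A) where
  X₁ := ModuleCat.of A A
  X₂ := ModuleCat.of A A
  X₃ := (Res f).obj (BB f)
  f := ModuleCat.ofHom (LinearMap.lsmul A A f)
  g := ModuleCat.ofHom (πlin f)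
  zero := by
    refine ModuleCat.hom_ext (LinearMap.ext fun a => ?_)
    change (π f (f * a) : Bq f) = 0
    rw [map_mul, π_self, zero_mul]

theorem hS₀ (hreg : IsSMulRegular A f) : (S₀ f).ShortExact := by
  refine ModuleCat.shortComplex_shortExact _ ?_ ?_ ?_
  · intro y
    change (π f y : Bq f) = 0 ↔ ∃ x : A, f * x = y
    rw [Ideal.Quotient.eq_zero_iff_mem, Ideal.mem_span_singleton']
    exact ⟨fun ⟨a, ha⟩ => ⟨a, by rw [mul_comm]; exact ha⟩,
      fun ⟨a, ha⟩ => ⟨a, by rw [mul_comm]; exact ha⟩⟩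
  · intro a b hab
    exact hreg hab
  · intro b
    obtain ⟨a, ha⟩ := Ideal.Quotient.mk_surjective (I := Ideal.span {f}) b
    exact ⟨a, ha⟩

theorem S₀_f_eq : (S₀ f).f = f • 𝟙 (ModuleCat.of A A) := by
  refine ModuleCat.hom_ext (LinearMap.ext fun a => ?_)
  rfl

/-- `f` kills every restricted module. -/
theorem smul_res_eq_zero (N : ModuleCat.{u} (Bq f)) (n : (Res f).obj N) : f • n = 0 := by
  change (π f f : Bq f) • (show ↑N from n) = 0
  rw [π_self, zero_smul]

theorem smul_id_res (N : ModuleCat.{u} (Bq f)) : f • 𝟙 ((Res f).obj N) = 0 := by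
  refine ModuleCat.hom_ext (LinearMap.ext fun n => ?_)
  exact smul_res_eq_zero f N n

/-- `f` acts as zero on `Ext` out of a restricted module. -/
theorem smul_ext_res (N : ModuleCat.{u} (Bq f)) {Y : ModuleCat.{u} A} {i : ℕ}
    (z : Ext ((Res f).obj N) Y i) : f • z = 0 := by
  have h3 : (Ext.mk₀ (f • 𝟙 ((Res f).obj N))).comp z (zero_add i) = f • z := by
    rw [Ext.mk₀_smul, Ext.smul_comp, Ext.mk₀_id_comp]
  rw [← h3, smul_id_res, Ext.mk₀_zero, Ext.zero_comp]

/-- Restriction of scalars along a surjection is full. -/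
noncomputable def liftHom {N M : ModuleCat.{u} (Bq f)}
    (x' : (Res f).obj N ⟶ (Res f).obj M) : N ⟶ M :=
  ModuleCat.ofHom
    { toFun := fun n => x'.hom n
      map_add' := fun a b => x'.hom.map_add a b
      map_smul' := fun b n => by
        obtain ⟨a, rfl⟩ := Ideal.Quotient.mk_surjective b
        exact x'.hom.map_smul a n }

theorem res_map_liftHom {N M : ModuleCat.{u} (Bq f)}
    (x' : (Res f).obj N ⟶ (Res f).obj M) : (Res f).map (liftHom f x') = x' := by
  refine ModuleCat.hom_ext (LinearMap.ext fun n => ?_)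
  rfl

/-- The canonical comparison map `Ext_B^i(N, B) → Ext_A^{i+1}(N, A)`. -/
noncomputable def Ψ (hreg : IsSMulRegular A f) (N : ModuleCat.{u} (Bq f)) {i j : ℕ}
    (h : i + 1 = j) :
    Ext N (BB f) i →+ Ext ((Res f).obj N) (ModuleCat.of A A) j :=
  ((hS₀ f hreg).extClass.postcomp ((Res f).obj N) h).comp ((Res f).mapExtAddHom N (BB f) i)

theorem Ψ_apply (hreg : IsSMulRegular A f) (N : ModuleCat.{u} (Bq f)) {i j : ℕ}
    (h : i + 1 = j) (x : Ext N (BB f) i) :
    Ψ f hreg N h x = (x.mapExactFunctor (Res f)).comp (hS₀ f hreg).extClass h := rfl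

theorem Ψ_nat (hreg : IsSMulRegular A f) {N N' : ModuleCat.{u} (Bq f)} (g : N' ⟶ N) {i j : ℕ}
    (h : i + 1 = j) (x : Ext N (BB f) i) :
    Ψ f hreg N' h ((Ext.mk₀ g).comp x (zero_add i)) =
      (Ext.mk₀ ((Res f).map g)).comp (Ψ f hreg N h x) (zero_add j) := by
  rw [Ψ_apply, Ψ_apply, Ext.mapExactFunctor_comp, Ext.mapExactFunctor_mk₀,
    Ext.comp_assoc _ _ _ (zero_add i) h (by omega)]

theorem Ψ_delta (hreg : IsSMulRegular A f) {T : ShortComplex (ModuleCat.{u} (Bq f))}
    (hT : T.ShortExact) {i j : ℕ} (h : i + 1 = j) {i' j' : ℕ} (hi' : 1 + i = i')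
    (hj' : i' + 1 = j') (x : Ext T.X₁ (BB f) i) :
    Ψ f hreg T.X₃ hj' (hT.extClass.comp x hi') =
      (hT.map_of_exact (Res f)).extClass.comp (Ψ f hreg T.X₁ h x)
        (show 1 + j = j' by omega) := by
  rw [Ψ_apply, Ψ_apply, Ext.mapExactFunctor_comp, Ext.mapExactFunctor_extClass,
    Ext.comp_assoc _ _ _ hi' h (by omega)]
  rfl

/-- The base case: `Hom_B(N, B) ≃ Ext_A^1(N, A)`. -/
theorem Ψ_zero_bijective (hreg : IsSMulRegular A f) (N : ModuleCat.{u} (Bq f)) :
    Function.Bijective (Ψ f hreg N (zero_add 1)) := by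
  constructor
  · rw [injective_iff_map_eq_zero]
    intro x hx
    obtain ⟨g, rfl⟩ := (Ext.mk₀_bijective N (BB f)).2 x
    have hx' : (Ext.mk₀ ((Res f).map g)).comp (hS₀ f hreg).extClass (zero_add 1) = 0 := by
      rw [Ψ_apply, Ext.mapExactFunctor_mk₀] at hx
      exact hx
    obtain ⟨x₂, hx₂⟩ := Ext.covariant_sequence_exact₃ _ (hS₀ f hreg)
      (Ext.mk₀ ((Res f).map g)) (zero_add 1) hx'
    obtain ⟨y, rfl⟩ := (Ext.mk₀_bijective _ _).2 x₂
    have hy : y = 0 := by
      refine ModuleCat.hom_ext (LinearMap.ext fun n => ?_)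
      have h1 : f • (y.hom n) = f • (0 : A) := by
        rw [← LinearMap.map_smul, smul_res_eq_zero, map_zero, smul_zero]
      exact hreg h1
    rw [hy, Ext.mk₀_zero, Ext.zero_comp] at hx₂
    have hg : (Res f).map g = 0 :=
      (Ext.mk₀_bijective _ _).1 (by rw [← hx₂, Ext.mk₀_zero])
    have hg0 : g = 0 := (Res f).map_injective (by rw [hg, Functor.map_zero])
    rw [hg0, Ext.mk₀_zero]
  · intro z
    have hz : z.comp (Ext.mk₀ (S₀ f).f) (add_zero 1) = 0 := by
      rw [S₀_f_eq, Ext.mk₀_smul, Ext.comp_smul, Ext.comp_mk₀_id]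
      exact smul_ext_res f N z
    obtain ⟨x₃, hx₃⟩ := Ext.covariant_sequence_exact₁ _ (hS₀ f hreg) z hz (zero_add 1)
    obtain ⟨x', rfl⟩ := (Ext.mk₀_bijective _ _).2 x₃
    refine ⟨Ext.mk₀ (liftHom f (M := BB f) x'), ?_⟩
    rw [Ψ_apply, Ext.mapExactFunctor_mk₀, res_map_liftHom]
    exact hx₃

/-- The coordinatewise quotient map `Aⁿ → Res (Bⁿ)`. -/
noncomputable def πn (n : ℕ) :
    (Fin n → A) →ₗ[A] ((Res f).obj (ModuleCat.of (Bq f) (Fin n → Bq f))) where
  toFun v := (fun i => π f (v i) : Fin n → Bq f)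
  map_add' v w := by
    funext i
    exact map_add (π f) (v i) (w i)
  map_smul' a v := by
    funext i
    change π f (a * v i) = π f a * π f (v i)
    exact map_mul _ _ _

/-- The short exact sequence `0 → Aⁿ → Aⁿ → Bⁿ → 0` of `A`-modules. -/
noncomputable abbrev Sn (n : ℕ) : ShortComplex (ModuleCat.{u} A) where
  X₁ := ModuleCat.of A (Fin n → A)
  X₂ := ModuleCat.of A (Fin n → A)
  X₃ := (Res f).obj (ModuleCat.of (Bq f) (Fin n → Bq f))
  f := ModuleCat.ofHom (LinearMap.lsmul A (Fin n → A) f)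
  g := ModuleCat.ofHom (πn f n)
  zero := by
    refine ModuleCat.hom_ext (LinearMap.ext fun v => ?_)
    change (fun i => π f (f * v i) : Fin n → Bq f) = 0
    funext i
    change π f (f * v i) = 0
    rw [map_mul, π_self, zero_mul]

theorem hSn (hreg : IsSMulRegular A f) (n : ℕ) : (Sn f n).ShortExact := by
  refine ModuleCat.shortComplex_shortExact _ ?_ ?_ ?_
  · intro v
    change (fun i => π f (v i) : Fin n → Bq f) = 0 ↔ ∃ w : Fin n → A, f • w = v
    constructor
    · intro h
      have h' : ∀ i, ∃ c, c * f = v i := fun i => by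
        have h2 : π f (v i) = 0 := congrFun h i
        exact Ideal.mem_span_singleton'.mp (Ideal.Quotient.eq_zero_iff_mem.mp h2)
      choose c hc using h'
      exact ⟨c, funext fun i => by rw [Pi.smul_apply, smul_eq_mul, mul_comm]; exact hc i⟩
    · rintro ⟨w, rfl⟩
      funext i
      change π f (f * w i) = 0
      rw [map_mul, π_self, zero_mul]
  · intro v w hvw
    funext i
    have h2 : f • v i = f • w i := congrFun hvw i
    exact hreg h2
  · intro w
    change Fin n → Bq f at w
    choose v hv using fun i => Ideal.Quotient.mk_surjective (I := Ideal.span {f}) (w i)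
    exact ⟨v, funext hv⟩

theorem pd_res_free (hreg : IsSMulRegular A f) (n : ℕ) :
    HasProjectiveDimensionLT ((Res f).obj (ModuleCat.of (Bq f) (Fin n → Bq f))) 2 := by
  have : Projective (ModuleCat.of A (Fin n → A)) :=
    (IsProjective.iff_projective (R := A) (Fin n → A)).mp inferInstance
  exact (hSn f hreg n).hasProjectiveDimensionLT_X₃ 1 inferInstance inferInstance

/-- **Rees' change of rings**: `Ext_B^i(N, B) ≃ Ext_A^{i+1}(N, A)` for finitely generated `N`. -/
theorem Ψ_bijective [IsNoetherianRing A] (hreg : IsSMulRegular A f) :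
    ∀ (i : ℕ) (N : Type u) [AddCommGroup N] [Module (Bq f) N] [Module.Finite (Bq f) N],
      Function.Bijective (Ψ f hreg (ModuleCat.of (Bq f) N) (rfl : i + 1 = i + 1)) := by
  intro i
  induction i with
  | zero =>
    intro N _ _ _
    exact Ψ_zero_bijective f hreg _
  | succ i ih =>
    intro N _ _ _
    obtain ⟨n, p, hp⟩ := Module.Finite.exists_fin' (Bq f) N
    have hT := LinearMap.shortExact_shortComplexKer hp
    have ihK := ih (LinearMap.ker p)
    have ihF := ih (Fin n → Bq f)
    have hA := hT.map_of_exact (Res f)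
    constructor
    · rw [injective_iff_map_eq_zero]
      intro w hw
      have keyP : ∀ e : Ext (ModuleCat.of (Bq f) (Fin n → Bq f)) (BB f) (i + 1), e = 0 := by
        have : Projective (ModuleCat.of (Bq f) (Fin n → Bq f)) :=
          (IsProjective.iff_projective (R := Bq f) (Fin n → Bq f)).mp inferInstance
        exact fun e => Ext.eq_zero_of_projective e
      have h0 : (Ext.mk₀ p.shortComplexKer.g).comp w (zero_add (i + 1)) = 0 := keyP _
      obtain ⟨x, hx⟩ := Ext.contravariant_sequence_exact₃ hT (BB f) w h0 (add_comm 1 i)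
      have hw' : hA.extClass.comp (Ψ f hreg p.shortComplexKer.X₁ rfl x)
          (show 1 + (i + 1) = i + 1 + 1 by omega) = 0 := by
        rw [← Ψ_delta f hreg hT rfl (add_comm 1 i) rfl x, hx]
        exact hw
      obtain ⟨y', hy'⟩ := Ext.contravariant_sequence_exact₁ hA (ModuleCat.of A A)
        (Ψ f hreg p.shortComplexKer.X₁ rfl x) (show 1 + (i + 1) = i + 1 + 1 by omega) hw'
      obtain ⟨y, hy⟩ := ihF.2 y'
      have hxy : (Ext.mk₀ p.shortComplexKer.f).comp y (zero_add i) = x := by
        apply ihK.1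
        refine (Ψ_nat f hreg p.shortComplexKer.f rfl y).trans ?_
        rw [← hy'] 
        congr 1
      rw [← hx, ← hxy, ← Ext.comp_assoc _ _ _ (add_zero 1) (zero_add i) (by omega),
        hT.extClass_comp, Ext.zero_comp]
    · intro z
      have keyF : ∀ e : Ext ((Res f).obj (ModuleCat.of (Bq f) (Fin n → Bq f)))
          (ModuleCat.of A A) (i + 1 + 1), e = 0 := by
        haveI := pd_res_free f hreg n
        exact fun e => e.eq_zero_of_hasProjectiveDimensionLT 2 (by omega)
      have h0 : (Ext.mk₀ (p.shortComplexKer.map (Res f)).g).comp z (zero_add (i + 1 + 1)) = 0 :=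
        keyF _
      obtain ⟨y, hy⟩ := Ext.contravariant_sequence_exact₃ hA (ModuleCat.of A A) z h0
        (add_comm 1 (i + 1))
      obtain ⟨x, hx⟩ := ihK.2 y
      refine ⟨hT.extClass.comp x (add_comm 1 i), ?_⟩
      refine (Ψ_delta f hreg hT rfl (add_comm 1 i) rfl x).trans ?_
      rw [← hy, ← hx]

/-- Vanishing transfers along Rees' isomorphism. -/
theorem subsingleton_iff [IsNoetherianRing A] (hreg : IsSMulRegular A f) (i : ℕ) (N : Type u)
    [AddCommGroup N] [Module (Bq f) N] [Module.Finite (Bq f) N] :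
    Subsingleton (Ext (ModuleCat.of (Bq f) N) (BB f) i) ↔
      Subsingleton (Ext ((Res f).obj (ModuleCat.of (Bq f) N)) (ModuleCat.of A A) (i + 1)) :=
  (Equiv.ofBijective _ (Ψ_bijective f hreg i N)).subsingleton_congr

end Groth.Agent.H60.Rees
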