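import Mathlib
import Groth.Agent.H60.Soc
import Groth.Agent.S0341
import Groth.Agent.S0343
import Groth.Agent.S0395
import Groth.Agent.H29.Depth
import Groth.Agent.H29.CM

/-!
# Gorenstein rings and flat local homomorphisms

For a flat local homomorphism `A → B` of Noetherian local rings with closed fibre `F = B / m_A B`,
`B` is Gorenstein iff `A` and `F` are (`main`).  The proof reduces, using regular elements on `A`
and on `F` (`step1`, `step2`), to the case of depth zero (`base`), where everything is Artinian and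
Gorenstein means that the socle is generated by one element.
-/

set_option autoImplicit false
universe u

namespace Groth.Agent.H60.FlatGor

open IsLocalRing TensorProduct
open Groth.Agent.H60.Soc

section General

lemma map_mem_max {R S : Type u} [CommRing R] [CommRing S] [IsLocalRing R] [IsLocalRing S]
    (f : R →+* S) [IsLocalHom f] {b : R} (hb : b ∈ maximalIdeal R) : f b ∈ maximalIdeal S := by
  rw [mem_maximalIdeal, mem_nonunits_iff] at hb ⊢
  exact fun h => hb (isUnit_of_map_unit f b h)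

lemma exists_lift_mem {R S : Type u} [CommRing R] [CommRing S] [IsLocalRing R] [IsLocalRing S]
    (f : R →+* S) (hf : Function.Surjective f) {c : S} (hc : c ∈ maximalIdeal S) :
    ∃ b ∈ maximalIdeal R, f b = c := by
  obtain ⟨b, rfl⟩ := hf c
  refine ⟨b, ?_, rfl⟩
  rw [mem_maximalIdeal, mem_nonunits_iff] at hc ⊢
  exact fun h => hc (h.map f)

lemma maximalIdeal_eq_map {R S : Type u} [CommRing R] [CommRing S] [IsLocalRing R] [IsLocalRing S]
    (f : R →+* S) (hf : Function.Surjective f) : maximalIdeal S = (maximalIdeal R).map f := by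
  haveI : IsLocalHom f := IsLocalHom.of_surjective f hf
  apply le_antisymm
  · intro c hc
    obtain ⟨b, hb, rfl⟩ := exists_lift_mem f hf hc
    exact Ideal.mem_map_of_mem f hb
  · rw [Ideal.map_le_iff_le_comap]
    intro b hb
    exact map_mem_max f hb

lemma mem_nzd_of_reg {R : Type u} [CommRing R] {r : R} (h : IsSMulRegular R r) :
    r ∈ nonZeroDivisors R := by
  rw [mem_nonZeroDivisors_iff_right]
  intro x hx
  apply h
  show r • x = r • 0
  rw [smul_eq_mul, smul_eq_mul, mul_zero, mul_comm]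
  exact hx

lemma reg_of_mem_nzd {R : Type u} [CommRing R] {r : R} (h : r ∈ nonZeroDivisors R) :
    IsSMulRegular R r := by
  intro x y hxy
  have h' : r * x = r * y := hxy
  have : (x - y) * r = 0 := by rw [sub_mul, mul_comm x, mul_comm y, h', sub_self]
  exact sub_eq_zero.mp ((mem_nonZeroDivisors_iff_right.mp h) _ this)

lemma exists_nat_dim (R : Type u) [CommRing R] [IsLocalRing R] [IsNoetherianRing R] :
    ∃ d : ℕ, ringKrullDim R = ((d : ℕ∞) : WithBot ℕ∞) := by
  obtain ⟨d, hd⟩ := Groth.Agent.H29.CM.exists_nat_supportDim (A := R) (M := R)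
  exact ⟨d, by rw [← Module.supportDim_self_eq_ringKrullDim]; exact hd⟩

lemma exists_inSoc_of_no_regular (R : Type u) [CommRing R] [IsLocalRing R] [IsNoetherianRing R]
    (h : ∀ r ∈ maximalIdeal R, ¬ IsSMulRegular R r) : ∃ s : R, s ≠ 0 ∧ InSoc s := by
  have hass := (Groth.Agent.H29.forall_not_isSMulRegular_iff_mem_associatedPrimes R R).mp h
  obtain ⟨-, x, hx⟩ := (isAssociatedPrime_iff (M := R)).mp hass
  refine ⟨x, ?_, ?_⟩
  · rintro rfl
    have : (1 : R) ∈ maximalIdeal R := by
      rw [hx]; simp [Submodule.mem_colon_singleton]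
    exact (maximalIdeal.isMaximal R).ne_top ((Ideal.eq_top_iff_one _).mpr this)
  · intro a ha
    rw [hx] at ha
    simpa [Submodule.mem_colon_singleton] using ha

lemma isArtinianRing_of_gor_of_inSoc (R : Type u) [CommRing R] [IsLocalRing R]
    [IsNoetherianRing R] (hG : LocCoh.IsGorensteinLocalRing R) {s : R} (hs0 : s ≠ 0)
    (hs : InSoc s) : IsArtinianRing R := by
  have hd : LocCoh.depth R R = 0 := by
    rw [Groth.Agent.H29.depth_eq_zero_iff]
    refine ⟨Groth.Agent.H29.maximalIdeal_smul_top_ne_top R R, fun r hr hreg => hs0 ?_⟩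
    exact hreg.right_eq_zero_of_smul (by rw [smul_eq_mul]; exact hs r hr)
  have hCM : LocCoh.IsCohenMacaulayLocalRing R := @Groth.Agent.S0341.result R _ hG
  have h1 := hCM.supportDim_eq_depth
  rw [hd, Module.supportDim_self_eq_ringKrullDim] at h1
  rw [isArtinianRing_iff_krullDimLE_zero, Ring.krullDimLE_iff, h1]
  simp

lemma gen_of_ne_zero {R : Type u} [CommRing R] [IsLocalRing R] (h : TypeOne R) {σ : R}
    (h0 : σ ≠ 0) (hσ : InSoc σ) {σ' : R} (hσ' : InSoc σ') : ∃ e, σ' = e * σ := by
  obtain ⟨τ, -, hτ, hgen⟩ := h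
  obtain ⟨c, rfl⟩ := hgen σ hσ
  obtain ⟨c', rfl⟩ := hgen σ' hσ'
  have hc : c ∉ maximalIdeal R := fun hc => h0 (hτ c hc)
  obtain ⟨u, rfl⟩ := isUnit_of_notMem hc
  exact ⟨c' * ↑u⁻¹, by rw [mul_assoc, ← mul_assoc (↑u⁻¹ : R), Units.inv_mul, one_mul]⟩

end General

section Flat

variable {A B : Type u} [CommRing A] [CommRing B] [Algebra A B] [Module.Flat A B]

/-- Flatness: if `b ⊗ φ(1) = 0` then `b` lies in `(ker φ) B`. -/
theorem mem_map_ker_of_tmul_eq_zero {P : Type u} [AddCommGroup P] [Module A P] (φ : A →ₗ[A] P)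
    (b : B) (h : b ⊗ₜ[A] φ 1 = 0) :
    b ∈ Ideal.map (algebraMap A B) (LinearMap.ker φ : Ideal A) := by
  have hk : b ⊗ₜ[A] (1 : A) ∈
      LinearMap.ker (TensorProduct.AlgebraTensorModule.lTensor B B φ) := by
    rw [LinearMap.mem_ker, TensorProduct.AlgebraTensorModule.lTensor_tmul]
    exact h
  rw [Module.Flat.ker_lTensor_eq] at hk
  obtain ⟨z, hz⟩ := hk
  have key : ∀ z : B ⊗[A] (LinearMap.ker φ), TensorProduct.rid A B
      (TensorProduct.AlgebraTensorModule.lTensor B B (LinearMap.ker φ).subtype z) ∈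
      Ideal.map (algebraMap A B) (LinearMap.ker φ : Ideal A) := by
    intro z
    induction z using TensorProduct.induction_on with
    | zero => simp
    | tmul b' a =>
      rw [TensorProduct.AlgebraTensorModule.lTensor_tmul, Submodule.subtype_apply,
        TensorProduct.rid_tmul, Algebra.smul_def]
      exact Ideal.mul_mem_right _ _ (Ideal.mem_map_of_mem _ a.2)
    | add x y hx hy =>
      rw [map_add, map_add]
      exact Ideal.add_mem _ hx hy
  have := key z
  rw [hz, TensorProduct.rid_tmul, one_smul] at this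
  exact this

theorem mem_map_of_mul_eq_zero [IsLocalRing A] {s : A} (hs0 : s ≠ 0) {b : B}
    (h : algebraMap A B s * b = 0) : b ∈ (maximalIdeal A).map (algebraMap A B) := by
  have h1 := mem_map_ker_of_tmul_eq_zero (LinearMap.toSpanSingleton A A s) b (by
    rw [LinearMap.toSpanSingleton_apply, one_smul]
    have : b ⊗ₜ[A] s = (s • b) ⊗ₜ[A] (1 : A) := by
      rw [TensorProduct.smul_tmul, smul_eq_mul, mul_one]
    rw [this, Algebra.smul_def, h, TensorProduct.zero_tmul])
  refine Ideal.map_mono ?_ h1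
  intro a ha
  rw [LinearMap.mem_ker, LinearMap.toSpanSingleton_apply, smul_eq_mul] at ha
  exact mem_of_mul_eq_zero hs0 ha

theorem mem_span_of_killed [IsLocalRing A] [IsNoetherianRing A] {s : A}
    (hgen : ∀ x : A, InSoc x → ∃ c, x = c * s) {b : B}
    (h : ∀ a ∈ maximalIdeal A, algebraMap A B a * b = 0) :
    ∃ b' : B, b = algebraMap A B s * b' := by
  obtain ⟨g, x, hx⟩ := Submodule.fg_iff_exists_fin_generating_family.mp
    (IsNoetherian.noetherian (maximalIdeal A))
  let φ : A →ₗ[A] (Fin g → A) := LinearMap.pi (fun i => LinearMap.mulLeft A (x i))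
  have hxm : ∀ i, x i ∈ maximalIdeal A := fun i => by
    rw [← hx]; exact Submodule.subset_span (Set.mem_range_self i)
  have key : b ⊗ₜ[A] φ 1 = 0 := by
    apply (TensorProduct.piScalarRight A A B (Fin g)).injective
    rw [map_zero, TensorProduct.piScalarRight_apply, TensorProduct.piScalarRightHom_tmul]
    funext i
    show (x i * 1) • b = 0
    rw [mul_one, Algebra.smul_def]
    exact h (x i) (hxm i)
  have h1 := mem_map_ker_of_tmul_eq_zero φ b key
  have hle : (LinearMap.ker φ : Ideal A) ≤ Ideal.span {s} := by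
    intro a ha
    have ha' : ∀ i, x i * a = 0 := fun i => by
      have h2 : φ a = 0 := ha
      exact congrFun h2 i
    have hsoc : InSoc a := by
      intro a' ha'm
      rw [← hx] at ha'm
      refine Submodule.span_induction (p := fun z _ => z * a = 0) ?_ ?_ ?_ ?_ ha'm
      · rintro _ ⟨i, rfl⟩
        exact ha' i
      · exact zero_mul a
      · intro z z' _ _ hz hz'
        rw [add_mul, hz, hz', add_zero]
      · intro c z _ hz
        rw [smul_eq_mul, mul_assoc, hz, mul_zero]
    obtain ⟨c, rfl⟩ := hgen a hsoc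
    exact Ideal.mem_span_singleton'.mpr ⟨c, rfl⟩
  have h2 := Ideal.map_mono hle h1
  rw [Ideal.map_span, Set.image_singleton] at h2
  obtain ⟨b', hb'⟩ := Ideal.mem_span_singleton'.mp h2
  exact ⟨b', by rw [← hb', mul_comm]⟩

theorem mul_eq_zero_of_mem_map [IsLocalRing A] {s : A} (hs : InSoc s) {z : B}
    (hz : z ∈ (maximalIdeal A).map (algebraMap A B)) : algebraMap A B s * z = 0 := by
  have hle : (maximalIdeal A).map (algebraMap A B) ≤
      LinearMap.ker (LinearMap.mulLeft B (algebraMap A B s)) := by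
    rw [Ideal.map_le_iff_le_comap]
    intro a ha
    rw [Ideal.mem_comap, LinearMap.mem_ker, LinearMap.mulLeft_apply, ← map_mul, mul_comm,
      hs a ha, map_zero]
  have := hle hz
  rwa [LinearMap.mem_ker, LinearMap.mulLeft_apply] at this

theorem isArtinianRing_left [IsLocalRing A] [IsNoetherianRing A] [IsLocalRing B]
    [IsNoetherianRing B] [IsLocalHom (algebraMap A B)] [IsArtinianRing B] :
    IsArtinianRing A := by
  obtain ⟨N, hN⟩ := (isArtinianRing_iff_isNilpotent_maximalIdeal B).mp inferInstance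
  rw [isArtinianRing_iff_isNilpotent_maximalIdeal]
  refine ⟨N, ?_⟩
  rw [Ideal.zero_eq_bot, eq_bot_iff]
  intro x hx
  haveI := Module.FaithfullyFlat.of_flat_of_isLocalHom (A := A) (B := B)
  have hinj : Function.Injective (algebraMap A B) := FaithfulSMul.algebraMap_injective A B
  have h1 : algebraMap A B x ∈ maximalIdeal B ^ N := by
    have h2 : (maximalIdeal A).map (algebraMap A B) ≤ maximalIdeal B := by
      rw [Ideal.map_le_iff_le_comap]
      intro b hb
      exact map_mem_max (algebraMap A B) hb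
    have h3 : (maximalIdeal A ^ N).map (algebraMap A B) ≤ maximalIdeal B ^ N := by
      rw [Ideal.map_pow]
      exact Ideal.pow_right_mono h2 N
    exact h3 (Ideal.mem_map_of_mem _ hx)
  rw [hN, Ideal.zero_eq_bot, Ideal.mem_bot] at h1
  rw [Ideal.mem_bot]
  exact hinj (by rw [h1, map_zero])

end Flat

section Core

variable {A B F : Type u} [CommRing A] [IsLocalRing A] [IsNoetherianRing A]
  [CommRing B] [IsLocalRing B] [IsNoetherianRing B] [CommRing F] [IsLocalRing F]
  [Algebra A B] [IsLocalHom (algebraMap A B)] [Module.Flat A B]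
  (q : B →+* F) (hq : Function.Surjective q)
  (hker : RingHom.ker q = (maximalIdeal A).map (algebraMap A B))

include hq hker

lemma inSoc_mul {s : A} (hs : InSoc s) {v : B} (hv : InSoc (q v)) :
    InSoc (algebraMap A B s * v) := by
  intro b hb
  haveI : IsLocalHom q := IsLocalHom.of_surjective q hq
  have h1 : b * v ∈ RingHom.ker q := by
    rw [RingHom.mem_ker, map_mul]
    exact hv (q b) (map_mem_max q hb)
  rw [hker] at h1
  have h2 := mul_eq_zero_of_mem_map hs h1
  calc b * (algebraMap A B s * v) = algebraMap A B s * (b * v) := by ring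
    _ = 0 := h2

lemma mul_ne_zero' {s : A} (hs0 : s ≠ 0) {v : B} (hv0 : q v ≠ 0) :
    algebraMap A B s * v ≠ 0 := by
  intro h
  have h1 := mem_map_of_mul_eq_zero hs0 h
  rw [← hker] at h1
  exact hv0 ((RingHom.mem_ker).mp h1)

theorem typeOne_of_typeOne (hA : TypeOne A) (hF : TypeOne F) : TypeOne B := by
  haveI : IsLocalHom q := IsLocalHom.of_surjective q hq
  obtain ⟨s, hs0, hs, hsgen⟩ := hA
  obtain ⟨w, hw0, hw, hwgen⟩ := hF
  obtain ⟨v, rfl⟩ := hq w
  refine ⟨algebraMap A B s * v, mul_ne_zero' q hq hker hs0 hw0, inSoc_mul q hq hker hs hw,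
    fun x hx => ?_⟩
  obtain ⟨b', rfl⟩ := mem_span_of_killed hsgen
    (fun a ha => hx _ (map_mem_max (algebraMap A B) ha))
  have hqb : InSoc (q b') := by
    intro c hc
    obtain ⟨c', hc', rfl⟩ := exists_lift_mem q hq hc
    have h1 : algebraMap A B s * (c' * b') = 0 := by
      have := hx c' hc'
      rw [← this]
      ring
    have h2 := mem_map_of_mul_eq_zero hs0 h1
    rw [← hker, RingHom.mem_ker, map_mul] at h2
    exact h2
  obtain ⟨d, hd⟩ := hwgen (q b') hqb
  obtain ⟨d', rfl⟩ := hq d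
  have h3 : b' - d' * v ∈ RingHom.ker q := by
    rw [RingHom.mem_ker, map_sub, map_mul, hd, sub_self]
  rw [hker] at h3
  have h4 := mul_eq_zero_of_mem_map hs h3
  refine ⟨d', ?_⟩
  have h5 : algebraMap A B s * b' = algebraMap A B s * (d' * v) := by
    rw [mul_sub] at h4
    exact sub_eq_zero.mp h4
  rw [h5]
  ring

theorem typeOne_left (hB : TypeOne B) {s : A} (hs0 : s ≠ 0) (hs : InSoc s) {w : F}
    (hw0 : w ≠ 0) (hw : InSoc w) : TypeOne A := by
  refine ⟨s, hs0, hs, fun s' hs' => ?_⟩
  by_contra hcon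
  obtain ⟨v, rfl⟩ := hq w
  obtain ⟨e, he⟩ := gen_of_ne_zero hB (mul_ne_zero' q hq hker hs0 hw0)
    (inSoc_mul q hq hker hs hw) (inSoc_mul q hq hker hs' hw)
  let φ : A →ₗ[A] (A ⧸ Ideal.span {s}) :=
    (Submodule.mkQ (Ideal.span {s})) ∘ₗ (LinearMap.toSpanSingleton A A s')
  have hφ1 : φ 1 = s' • (Submodule.Quotient.mk (1 : A) : A ⧸ Ideal.span {s}) := by
    show Submodule.Quotient.mk ((1 : A) • s') = _
    rw [← Submodule.Quotient.mk_smul, one_smul, smul_eq_mul, mul_one]
  have hs1 : s • (Submodule.Quotient.mk (1 : A) : A ⧸ Ideal.span {s}) = 0 := by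
    rw [← Submodule.Quotient.mk_smul, smul_eq_mul, mul_one, Submodule.Quotient.mk_eq_zero]
    exact Ideal.mem_span_singleton_self s
  have key : v ⊗ₜ[A] φ 1 = 0 := by
    rw [hφ1, ← TensorProduct.smul_tmul, Algebra.smul_def, he]
    have h2 : e * (algebraMap A B s * v) = s • (e * v) := by
      rw [Algebra.smul_def]
      ring
    rw [h2, TensorProduct.smul_tmul, hs1, TensorProduct.tmul_zero]
  have h1 := mem_map_ker_of_tmul_eq_zero φ v key
  have hle : (LinearMap.ker φ : Ideal A) ≤ maximalIdeal A := by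
    intro a ha
    by_contra hna
    obtain ⟨u, rfl⟩ := isUnit_of_notMem hna
    have h2 : (↑u : A) * s' ∈ Ideal.span {s} := by
      have h3 : φ ↑u = 0 := ha
      have h4 : Submodule.Quotient.mk ((↑u : A) • s') = (0 : A ⧸ Ideal.span {s}) := h3
      rw [Submodule.Quotient.mk_eq_zero, smul_eq_mul] at h4
      exact h4
    obtain ⟨c, hc⟩ := Ideal.mem_span_singleton'.mp h2
    exact hcon ⟨↑u⁻¹ * c, by rw [mul_assoc, hc, ← mul_assoc, Units.inv_mul, one_mul]⟩
  have h5 := Ideal.map_mono hle h1
  rw [← hker] at h5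
  exact hw0 ((RingHom.mem_ker).mp h5)

theorem typeOne_right (hB : TypeOne B) {s : A} (hs0 : s ≠ 0) (hs : InSoc s) {w : F}
    (hw0 : w ≠ 0) (hw : InSoc w) : TypeOne F := by
  refine ⟨w, hw0, hw, fun w' hw' => ?_⟩
  obtain ⟨v, rfl⟩ := hq w
  obtain ⟨v', rfl⟩ := hq w'
  obtain ⟨e, he⟩ := gen_of_ne_zero hB (mul_ne_zero' q hq hker hs0 hw0)
    (inSoc_mul q hq hker hs hw) (inSoc_mul q hq hker hs hw')
  have h1 : algebraMap A B s * (v' - e * v) = 0 := by
    rw [mul_sub, he]
    ring
  have h2 := mem_map_of_mul_eq_zero hs0 h1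
  rw [← hker, RingHom.mem_ker, map_sub, map_mul] at h2
  exact ⟨q e, sub_eq_zero.mp h2⟩

theorem isArtinianRing_mid [IsNoetherianRing F] [IsArtinianRing A] [IsArtinianRing F] :
    IsArtinianRing B := by
  haveI : IsLocalHom q := IsLocalHom.of_surjective q hq
  obtain ⟨a, ha⟩ := (isArtinianRing_iff_isNilpotent_maximalIdeal A).mp inferInstance
  obtain ⟨c, hc⟩ := (isArtinianRing_iff_isNilpotent_maximalIdeal F).mp inferInstance
  rw [isArtinianRing_iff_isNilpotent_maximalIdeal]
  refine ⟨c * a, ?_⟩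
  have h1 : maximalIdeal B ^ c ≤ RingHom.ker q := by
    have h2 : (maximalIdeal B).map q ≤ maximalIdeal F := by
      rw [Ideal.map_le_iff_le_comap]
      intro b hb
      exact map_mem_max q hb
    have h3 : (maximalIdeal B ^ c).map q ≤ ⊥ := by
      rw [Ideal.map_pow]
      calc (maximalIdeal B).map q ^ c ≤ maximalIdeal F ^ c := Ideal.pow_right_mono h2 c
        _ = ⊥ := by rw [hc, Ideal.zero_eq_bot]
    intro x hx
    rw [RingHom.mem_ker]
    exact (Ideal.mem_bot).mp (h3 (Ideal.mem_map_of_mem q hx))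
  rw [hker] at h1
  rw [pow_mul, Ideal.zero_eq_bot, eq_bot_iff]
  calc (maximalIdeal B ^ c) ^ a ≤ ((maximalIdeal A).map (algebraMap A B)) ^ a :=
        Ideal.pow_right_mono h1 a
    _ = (maximalIdeal A ^ a).map (algebraMap A B) := (Ideal.map_pow _ _ _).symm
    _ = ⊥ := by rw [ha, Ideal.zero_eq_bot, Ideal.map_bot]

theorem base [IsNoetherianRing F] (hA : ∀ r ∈ maximalIdeal A, ¬ IsSMulRegular A r)
    (hF : ∀ r ∈ maximalIdeal F, ¬ IsSMulRegular F r) :
    LocCoh.IsGorensteinLocalRing B ↔
      (LocCoh.IsGorensteinLocalRing A ∧ LocCoh.IsGorensteinLocalRing F) := by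
  obtain ⟨s, hs0, hs⟩ := exists_inSoc_of_no_regular A hA
  obtain ⟨w, hw0, hw⟩ := exists_inSoc_of_no_regular F hF
  constructor
  · intro hB
    obtain ⟨v, hv⟩ := hq w
    have hσ0 : algebraMap A B s * v ≠ 0 :=
      mul_ne_zero' q hq hker hs0 (by rw [hv]; exact hw0)
    have hσ : InSoc (algebraMap A B s * v) :=
      inSoc_mul q hq hker hs (by rw [hv]; exact hw)
    haveI : IsArtinianRing B := isArtinianRing_of_gor_of_inSoc B hB hσ0 hσ
    have hTB : TypeOne B := typeOne_of_gor hB.exists_hasInjectiveDimensionLT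
    haveI : IsArtinianRing A := isArtinianRing_left (A := A) (B := B)
    haveI : IsArtinianRing F := hq.isArtinianRing
    exact ⟨{ exists_hasInjectiveDimensionLT :=
              gor_of_typeOne (typeOne_left q hq hker hTB hs0 hs hw0 hw) },
           { exists_hasInjectiveDimensionLT :=
              gor_of_typeOne (typeOne_right q hq hker hTB hs0 hs hw0 hw) }⟩
  · rintro ⟨hGA, hGF⟩
    haveI : IsArtinianRing A := isArtinianRing_of_gor_of_inSoc A hGA hs0 hs
    haveI : IsArtinianRing F := isArtinianRing_of_gor_of_inSoc F hGF hw0 hw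
    haveI : IsArtinianRing B := isArtinianRing_mid q hq hker
    exact { exists_hasInjectiveDimensionLT := gor_of_typeOne (typeOne_of_typeOne q hq hker
      (typeOne_of_gor hGA.exists_hasInjectiveDimensionLT)
      (typeOne_of_gor hGF.exists_hasInjectiveDimensionLT)) }

theorem step1 [IsNoetherianRing F] (f : A) (hf : f ∈ maximalIdeal A) (hreg : IsSMulRegular A f)
    (IH : ∀ (A' B' : Type u) [CommRing A'] [IsLocalRing A'] [IsNoetherianRing A']
      [CommRing B'] [IsLocalRing B'] [IsNoetherianRing B'] [Algebra A' B']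
      [IsLocalHom (algebraMap A' B')] [Module.Flat A' B'] (q' : B' →+* F)
      (_ : Function.Surjective q')
      (_ : RingHom.ker q' = (maximalIdeal A').map (algebraMap A' B')),
      ringKrullDim A' + 1 ≤ ringKrullDim A →
      (LocCoh.IsGorensteinLocalRing B' ↔
        (LocCoh.IsGorensteinLocalRing A' ∧ LocCoh.IsGorensteinLocalRing F))) :
    LocCoh.IsGorensteinLocalRing B ↔
      (LocCoh.IsGorensteinLocalRing A ∧ LocCoh.IsGorensteinLocalRing F) := by
  have hIle : Ideal.span {f} ≤ maximalIdeal A := (Ideal.span_singleton_le_iff_mem _).mpr hf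
  have hfB : algebraMap A B f ∈ maximalIdeal B := map_mem_max (algebraMap A B) hf
  have hJeq : (Ideal.span {f}).map (algebraMap A B) = Ideal.span {algebraMap A B f} := by
    rw [Ideal.map_span, Set.image_singleton]
  have hJle : (Ideal.span {f}).map (algebraMap A B) ≤ maximalIdeal B := by
    rw [hJeq]
    exact (Ideal.span_singleton_le_iff_mem _).mpr hfB
  have hIne : Ideal.span {f} ≠ ⊤ := fun h =>
    (maximalIdeal.isMaximal A).ne_top (top_le_iff.mp (h ▸ hIle))
  have hJne : (Ideal.span {f}).map (algebraMap A B) ≠ ⊤ := fun h =>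
    (maximalIdeal.isMaximal B).ne_top (top_le_iff.mp (h ▸ hJle))
  haveI : Nontrivial (A ⧸ Ideal.span {f}) := Ideal.Quotient.nontrivial_iff.mpr hIne
  haveI : Nontrivial (B ⧸ (Ideal.span {f}).map (algebraMap A B)) :=
    Ideal.Quotient.nontrivial_iff.mpr hJne
  haveI : IsLocalRing (A ⧸ Ideal.span {f}) :=
    IsLocalRing.of_surjective' (Ideal.Quotient.mk _) Ideal.Quotient.mk_surjective
  haveI : IsLocalRing (B ⧸ (Ideal.span {f}).map (algebraMap A B)) :=
    IsLocalRing.of_surjective' (Ideal.Quotient.mk _) Ideal.Quotient.mk_surjective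
  haveI : IsLocalHom (Ideal.Quotient.mk ((Ideal.span {f}).map (algebraMap A B))) :=
    IsLocalHom.of_surjective _ Ideal.Quotient.mk_surjective
  haveI : Module.Flat (A ⧸ Ideal.span {f}) (B ⧸ (Ideal.span {f}).map (algebraMap A B)) :=
    Module.Flat.of_linearEquiv
      (Algebra.TensorProduct.quotIdealMapEquivQuotTensor B (Ideal.span {f})).toLinearEquiv
  haveI : IsLocalHom (algebraMap (A ⧸ Ideal.span {f})
      (B ⧸ (Ideal.span {f}).map (algebraMap A B))) := ⟨fun x hx => by
    obtain ⟨a, rfl⟩ := Ideal.Quotient.mk_surjective x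
    have h1 : IsUnit (Ideal.Quotient.mk ((Ideal.span {f}).map (algebraMap A B))
        (algebraMap A B a)) := hx
    have h2 : IsUnit (algebraMap A B a) := isUnit_of_map_unit (Ideal.Quotient.mk _) _ h1
    have h3 : IsUnit a := isUnit_of_map_unit (algebraMap A B) _ h2
    exact h3.map (Ideal.Quotient.mk _)⟩
  have hle : ∀ b ∈ (Ideal.span {f}).map (algebraMap A B), q b = 0 := fun b hb => by
    have h1 : b ∈ RingHom.ker q := by
      rw [hker]
      exact Ideal.map_mono hIle hb
    exact h1
  have hq' : Function.Surjective (Ideal.Quotient.lift _ q hle) :=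
    Ideal.Quotient.lift_surjective_of_surjective _ hle hq
  have hcomp : (algebraMap (A ⧸ Ideal.span {f})
      (B ⧸ (Ideal.span {f}).map (algebraMap A B))).comp (Ideal.Quotient.mk (Ideal.span {f})) =
      (Ideal.Quotient.mk ((Ideal.span {f}).map (algebraMap A B))).comp (algebraMap A B) :=
    RingHom.ext fun x => rfl
  have hker' : RingHom.ker (Ideal.Quotient.lift _ q hle) =
      (maximalIdeal (A ⧸ Ideal.span {f})).map (algebraMap (A ⧸ Ideal.span {f})
        (B ⧸ (Ideal.span {f}).map (algebraMap A B))) := by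
    rw [Ideal.ker_quotient_lift q hle, hker,
      maximalIdeal_eq_map (Ideal.Quotient.mk (Ideal.span {f})) Ideal.Quotient.mk_surjective,
      Ideal.map_map, Ideal.map_map, hcomp]
  have hdim : ringKrullDim (A ⧸ Ideal.span {f}) + 1 ≤ ringKrullDim A :=
    ringKrullDim_quotient_succ_le_of_nonZeroDivisor (mem_nzd_of_reg hreg)
  have hA43 := Groth.Agent.S0343.result A f hf hreg
  have hB43 : LocCoh.IsGorensteinLocalRing B ↔
      LocCoh.IsGorensteinLocalRing (B ⧸ (Ideal.span {f}).map (algebraMap A B)) := by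
    rw [hJeq]
    exact Groth.Agent.S0343.result B (algebraMap A B f) hfB hreg.of_flat
  exact hB43.trans ((IH (A ⧸ Ideal.span {f}) (B ⧸ (Ideal.span {f}).map (algebraMap A B))
    (Ideal.Quotient.lift _ q hle) hq' hker' hdim).trans (and_congr_left' hA43.symm))

theorem step2 [IsNoetherianRing F] (r : F) (hr : r ∈ maximalIdeal F) (hreg : IsSMulRegular F r)
    (IH : ∀ (B' F' : Type u) [CommRing B'] [IsLocalRing B'] [IsNoetherianRing B']
      [CommRing F'] [IsLocalRing F'] [IsNoetherianRing F'] [Algebra A B']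
      [IsLocalHom (algebraMap A B')] [Module.Flat A B'] (q' : B' →+* F')
      (_ : Function.Surjective q')
      (_ : RingHom.ker q' = (maximalIdeal A).map (algebraMap A B')),
      ringKrullDim F' + 1 ≤ ringKrullDim F →
      (LocCoh.IsGorensteinLocalRing B' ↔
        (LocCoh.IsGorensteinLocalRing A ∧ LocCoh.IsGorensteinLocalRing F'))) :
    LocCoh.IsGorensteinLocalRing B ↔
      (LocCoh.IsGorensteinLocalRing A ∧ LocCoh.IsGorensteinLocalRing F) := by
  haveI : IsLocalHom q := IsLocalHom.of_surjective q hq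
  obtain ⟨y, hyB, rfl⟩ := exists_lift_mem q hq hr
  have hnzd : Ideal.Quotient.mk ((maximalIdeal A).map (algebraMap A B)) y ∈
      nonZeroDivisors (B ⧸ (maximalIdeal A).map (algebraMap A B)) := by
    rw [mem_nonZeroDivisors_iff_right]
    intro z hz
    obtain ⟨b, rfl⟩ := Ideal.Quotient.mk_surjective z
    rw [← map_mul, Ideal.Quotient.eq_zero_iff_mem, ← hker, RingHom.mem_ker, map_mul] at hz
    have h1 : q b = 0 := by
      apply hreg
      show q y • q b = q y • 0
      rw [smul_eq_mul, smul_eq_mul, mul_zero, mul_comm]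
      exact hz
    rw [Ideal.Quotient.eq_zero_iff_mem, ← hker, RingHom.mem_ker]
    exact h1
  obtain ⟨hflat, hynzd⟩ := Groth.Agent.S0395.result (R := A) (S := B) y hnzd
  have hyreg : IsSMulRegular B y := reg_of_mem_nzd hynzd
  have hIle : Ideal.span {y} ≤ maximalIdeal B := (Ideal.span_singleton_le_iff_mem _).mpr hyB
  have hJle : Ideal.span {q y} ≤ maximalIdeal F := (Ideal.span_singleton_le_iff_mem _).mpr hr
  have hIne : Ideal.span {y} ≠ ⊤ := fun h =>
    (maximalIdeal.isMaximal B).ne_top (top_le_iff.mp (h ▸ hIle))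
  have hJne : Ideal.span {q y} ≠ ⊤ := fun h =>
    (maximalIdeal.isMaximal F).ne_top (top_le_iff.mp (h ▸ hJle))
  haveI : Nontrivial (B ⧸ Ideal.span {y}) := Ideal.Quotient.nontrivial_iff.mpr hIne
  haveI : Nontrivial (F ⧸ Ideal.span {q y}) := Ideal.Quotient.nontrivial_iff.mpr hJne
  haveI : IsLocalRing (B ⧸ Ideal.span {y}) :=
    IsLocalRing.of_surjective' (Ideal.Quotient.mk _) Ideal.Quotient.mk_surjective
  haveI : IsLocalRing (F ⧸ Ideal.span {q y}) :=
    IsLocalRing.of_surjective' (Ideal.Quotient.mk _) Ideal.Quotient.mk_surjective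
  haveI : IsLocalHom (Ideal.Quotient.mk (Ideal.span {y})) :=
    IsLocalHom.of_surjective _ Ideal.Quotient.mk_surjective
  haveI : Module.Flat A (B ⧸ Ideal.span {y}) := hflat
  haveI : IsLocalHom (algebraMap A (B ⧸ Ideal.span {y})) := ⟨fun a ha => by
    have h1 : IsUnit (Ideal.Quotient.mk (Ideal.span {y}) (algebraMap A B a)) := ha
    exact isUnit_of_map_unit (algebraMap A B) _ (isUnit_of_map_unit (Ideal.Quotient.mk _) _ h1)⟩
  have hIJ : Ideal.span {y} ≤ (Ideal.span {q y}).comap q :=
    (Ideal.span_singleton_le_iff_mem _).mpr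
      (Ideal.mem_comap.mpr (Ideal.mem_span_singleton_self _))
  have hq' : Function.Surjective (Ideal.quotientMap (Ideal.span {q y}) q hIJ) :=
    Ideal.quotientMap_surjective hq
  have hcomp : algebraMap A (B ⧸ Ideal.span {y}) =
      (Ideal.Quotient.mk (Ideal.span {y})).comp (algebraMap A B) := rfl
  have hker' : RingHom.ker (Ideal.quotientMap (Ideal.span {q y}) q hIJ) =
      (maximalIdeal A).map (algebraMap A (B ⧸ Ideal.span {y})) := by
    rw [hcomp, ← Ideal.map_map, ← hker]
    apply le_antisymm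
    · intro z hz
      obtain ⟨b, rfl⟩ := Ideal.Quotient.mk_surjective z
      rw [RingHom.mem_ker, Ideal.quotientMap_mk, Ideal.Quotient.eq_zero_iff_mem] at hz
      obtain ⟨c, hc⟩ := Ideal.mem_span_singleton'.mp hz
      obtain ⟨c', rfl⟩ := hq c
      have h1 : b - c' * y ∈ RingHom.ker q := by
        rw [RingHom.mem_ker, map_sub, map_mul, hc, sub_self]
      have h2 : Ideal.Quotient.mk (Ideal.span {y}) b =
          Ideal.Quotient.mk (Ideal.span {y}) (b - c' * y) := by
        rw [Ideal.Quotient.eq]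
        have h3 : b - (b - c' * y) = c' * y := by ring
        rw [h3]
        exact Ideal.mul_mem_left _ _ (Ideal.mem_span_singleton_self y)
      rw [h2]
      exact Ideal.mem_map_of_mem _ h1
    · rw [Ideal.map_le_iff_le_comap]
      intro b hb
      rw [Ideal.mem_comap, RingHom.mem_ker, Ideal.quotientMap_mk, (RingHom.mem_ker).mp hb,
        map_zero]
  have hdim : ringKrullDim (F ⧸ Ideal.span {q y}) + 1 ≤ ringKrullDim F :=
    ringKrullDim_quotient_succ_le_of_nonZeroDivisor (mem_nzd_of_reg hreg)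
  have hB43 := Groth.Agent.S0343.result B y hyB hyreg
  have hF43 := Groth.Agent.S0343.result F (q y) hr hreg
  exact hB43.trans ((IH (B ⧸ Ideal.span {y}) (F ⧸ Ideal.span {q y})
    (Ideal.quotientMap (Ideal.span {q y}) q hIJ) hq' hker' hdim).trans
      (and_congr_right' hF43.symm))

end Core

theorem main : ∀ (n : ℕ) (A B F : Type u) [CommRing A] [IsLocalRing A] [IsNoetherianRing A]
    [CommRing B] [IsLocalRing B] [IsNoetherianRing B] [CommRing F] [IsLocalRing F]
    [IsNoetherianRing F] [Algebra A B] [IsLocalHom (algebraMap A B)] [Module.Flat A B]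
    (q : B →+* F) (_ : Function.Surjective q)
    (_ : RingHom.ker q = (maximalIdeal A).map (algebraMap A B))
    (a c : ℕ) (_ : ringKrullDim A = ((a : ℕ∞) : WithBot ℕ∞))
    (_ : ringKrullDim F = ((c : ℕ∞) : WithBot ℕ∞)) (_ : a + c ≤ n),
    LocCoh.IsGorensteinLocalRing B ↔
      (LocCoh.IsGorensteinLocalRing A ∧ LocCoh.IsGorensteinLocalRing F) := by
  intro n
  induction n using Nat.strong_induction_on with
  | _ n ih =>
    intro A B F _ _ _ _ _ _ _ _ _ _ _ _ q hq hker a c ha hc hn
    by_cases hA : ∃ f ∈ maximalIdeal A, IsSMulRegular A f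
    · obtain ⟨f, hf, hreg⟩ := hA
      refine step1 q hq hker f hf hreg ?_
      intro A' B' _ _ _ _ _ _ _ _ _ q' hq' hker' hdim
      obtain ⟨a', ha'⟩ := exists_nat_dim A'
      have hlt : a' + 1 ≤ a := by
        rw [ha', ha] at hdim
        exact_mod_cast hdim
      exact ih (a' + c) (by omega) A' B' F q' hq' hker' a' c ha' hc le_rfl
    · by_cases hF : ∃ r ∈ maximalIdeal F, IsSMulRegular F r
      · obtain ⟨r, hr, hreg⟩ := hF
        refine step2 q hq hker r hr hreg ?_
        intro B' F' _ _ _ _ _ _ _ _ _ q' hq' hker' hdim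
        obtain ⟨c', hc'⟩ := exists_nat_dim F'
        have hlt : c' + 1 ≤ c := by
          rw [hc', hc] at hdim
          exact_mod_cast hdim
        exact ih (a + c') (by omega) A B' F' q' hq' hker' a c' ha hc' le_rfl
      · exact base q hq hker (fun r hr hreg => hA ⟨r, hr, hreg⟩)
          (fun r hr hreg => hF ⟨r, hr, hreg⟩)

end Groth.Agent.H60.FlatGor
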