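import Mathlib
import Groth.Agent.H60.FlatGor
import Groth.Agent.S0342

/-!
# Transfer of the Gorenstein property

* `flat_local_iff` : dimension-free wrapper of `FlatGor.main`: for a flat local homomorphism
  `A → B` of Noetherian local rings and a surjection `q : B → F` with kernel `m_A B`,
  `B` is Gorenstein iff `A` and `F` are.
* `gor_field` : a field is a Gorenstein local ring.
* `gor_of_ringEquiv` : the Gorenstein property is invariant under ring isomorphisms.
-/

set_option autoImplicit false
universe u
open IsLocalRing

namespace Groth.Agent.H60.GorTransfer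

theorem flat_local_iff (A B F : Type u) [CommRing A] [IsLocalRing A] [IsNoetherianRing A]
    [CommRing B] [IsLocalRing B] [IsNoetherianRing B] [CommRing F] [IsLocalRing F]
    [IsNoetherianRing F] [Algebra A B] [IsLocalHom (algebraMap A B)] [Module.Flat A B]
    (q : B →+* F) (hq : Function.Surjective q)
    (hker : RingHom.ker q = (maximalIdeal A).map (algebraMap A B)) :
    LocCoh.IsGorensteinLocalRing B ↔
      (LocCoh.IsGorensteinLocalRing A ∧ LocCoh.IsGorensteinLocalRing F) := by
  obtain ⟨a, ha⟩ := Groth.Agent.H60.FlatGor.exists_nat_dim A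
  obtain ⟨c, hc⟩ := Groth.Agent.H60.FlatGor.exists_nat_dim F
  exact Groth.Agent.H60.FlatGor.main (a + c) A B F q hq hker a c ha hc le_rfl

theorem gor_field (K : Type u) [Field K] : LocCoh.IsGorensteinLocalRing K :=
  Groth.Agent.S0342.result K

theorem gor_of_ringEquiv {R R' : Type u} [CommRing R] [CommRing R'] (e : R ≃+* R')
    (h : LocCoh.IsGorensteinLocalRing R) : LocCoh.IsGorensteinLocalRing R' := by
  haveI : IsNoetherianRing R := h.toIsNoetherian
  haveI : IsLocalRing R := h.toIsLocalRing
  haveI : IsLocalRing R' := e.isLocalRing
  haveI : IsNoetherianRing R' := isNoetherianRing_of_ringEquiv R e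
  letI : Algebra R R' := e.toRingHom.toAlgebra
  have hsurj : Function.Surjective (algebraMap R R') := e.surjective
  haveI : IsLocalHom (algebraMap R R') := IsLocalHom.of_surjective _ hsurj
  haveI : Module.Flat R R' := RingHom.Flat.of_bijective (f := e.toRingHom) e.bijective
  have hker : RingHom.ker (residue R') = (maximalIdeal R).map (algebraMap R R') := by
    rw [IsLocalRing.ker_residue]
    exact Groth.Agent.H60.FlatGor.maximalIdeal_eq_map (algebraMap R R') hsurj
  exact ((flat_local_iff R R' (ResidueField R') (residue R') residue_surjective hker).mpr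
    ⟨h, gor_field _⟩)

end Groth.Agent.H60.GorTransfer
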