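import Mathlib
import Groth.Agent.H60.GorTransfer
import Groth.Agent.H29.FiberStalkAt

/-!
# Gorenstein fibres of composites (local algebra)

* `quot_iff` : for a flat local homomorphism `B → A` of local rings and an ideal `I ≤ m_B` such that
  `B/I` and `A/IA` are Noetherian, `A/IA` is Gorenstein iff `B/I` and `A/m_B A` are.
* `comp_iff` : the local-algebra form of "Gorenstein at a point" for composites `C → B → A`.
-/

set_option autoImplicit false
set_option linter.style.haveILetI false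
universe u
open IsLocalRing

namespace Groth.Agent.H60.GorComp

open Groth.Agent.H60.GorTransfer

theorem quot_iff (B A : Type u) [CommRing B] [IsLocalRing B] [CommRing A] [IsLocalRing A]
    [Algebra B A] [IsLocalHom (algebraMap B A)] [Module.Flat B A] (I : Ideal B)
    (hI : I ≤ maximalIdeal B) [IsNoetherianRing (B ⧸ I)]
    [IsNoetherianRing (A ⧸ I.map (algebraMap B A))] :
    LocCoh.IsGorensteinLocalRing (A ⧸ I.map (algebraMap B A)) ↔
      (LocCoh.IsGorensteinLocalRing (B ⧸ I) ∧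
        LocCoh.IsGorensteinLocalRing (A ⧸ (maximalIdeal B).map (algebraMap B A))) := by
  have hmA : (maximalIdeal B).map (algebraMap B A) ≤ maximalIdeal A := by
    rw [Ideal.map_le_iff_le_comap]
    intro b hb
    exact Groth.Agent.H60.FlatGor.map_mem_max (algebraMap B A) hb
  have hIA : I.map (algebraMap B A) ≤ (maximalIdeal B).map (algebraMap B A) := Ideal.map_mono hI
  have hIne : I ≠ ⊤ := fun h => (maximalIdeal.isMaximal B).ne_top (top_le_iff.mp (h ▸ hI))
  have hJne : I.map (algebraMap B A) ≠ ⊤ := fun h =>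
    (maximalIdeal.isMaximal A).ne_top (top_le_iff.mp (h ▸ hIA.trans hmA))
  have hMne : (maximalIdeal B).map (algebraMap B A) ≠ ⊤ := fun h =>
    (maximalIdeal.isMaximal A).ne_top (top_le_iff.mp (h ▸ hmA))
  haveI : Nontrivial (B ⧸ I) := Ideal.Quotient.nontrivial_iff.mpr hIne
  haveI : Nontrivial (A ⧸ I.map (algebraMap B A)) := Ideal.Quotient.nontrivial_iff.mpr hJne
  haveI : Nontrivial (A ⧸ (maximalIdeal B).map (algebraMap B A)) :=
    Ideal.Quotient.nontrivial_iff.mpr hMne
  haveI : IsLocalRing (B ⧸ I) :=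
    IsLocalRing.of_surjective' (Ideal.Quotient.mk _) Ideal.Quotient.mk_surjective
  haveI : IsLocalRing (A ⧸ I.map (algebraMap B A)) :=
    IsLocalRing.of_surjective' (Ideal.Quotient.mk _) Ideal.Quotient.mk_surjective
  haveI : IsLocalRing (A ⧸ (maximalIdeal B).map (algebraMap B A)) :=
    IsLocalRing.of_surjective' (Ideal.Quotient.mk _) Ideal.Quotient.mk_surjective
  haveI : IsNoetherianRing (A ⧸ (maximalIdeal B).map (algebraMap B A)) :=
    isNoetherianRing_of_surjective (A ⧸ I.map (algebraMap B A)) _ (Ideal.Quotient.factor hIA)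
      (Ideal.Quotient.factor_surjective hIA)
  haveI : Module.Flat (B ⧸ I) (A ⧸ I.map (algebraMap B A)) :=
    Module.Flat.of_linearEquiv
      (Algebra.TensorProduct.quotIdealMapEquivQuotTensor A I).toLinearEquiv
  haveI : IsLocalHom (Ideal.Quotient.mk (I.map (algebraMap B A))) :=
    IsLocalHom.of_surjective _ Ideal.Quotient.mk_surjective
  haveI : IsLocalHom (algebraMap (B ⧸ I) (A ⧸ I.map (algebraMap B A))) := ⟨fun x hx => by
    obtain ⟨a, rfl⟩ := Ideal.Quotient.mk_surjective x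
    have h1 : IsUnit (Ideal.Quotient.mk (I.map (algebraMap B A)) (algebraMap B A a)) := hx
    have h2 : IsUnit (algebraMap B A a) := isUnit_of_map_unit (Ideal.Quotient.mk _) _ h1
    have h3 : IsUnit a := isUnit_of_map_unit (algebraMap B A) _ h2
    exact h3.map (Ideal.Quotient.mk _)⟩
  have hcomp : (algebraMap (B ⧸ I) (A ⧸ I.map (algebraMap B A))).comp (Ideal.Quotient.mk I) =
      (Ideal.Quotient.mk (I.map (algebraMap B A))).comp (algebraMap B A) :=
    RingHom.ext fun x => rfl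
  have hker : RingHom.ker (Ideal.Quotient.factor hIA) =
      (maximalIdeal (B ⧸ I)).map (algebraMap (B ⧸ I) (A ⧸ I.map (algebraMap B A))) := by
    rw [Ideal.Quotient.factor_ker hIA,
      Groth.Agent.H60.FlatGor.maximalIdeal_eq_map (Ideal.Quotient.mk I)
        Ideal.Quotient.mk_surjective,
      Ideal.map_map, Ideal.map_map, hcomp]
  exact flat_local_iff (B ⧸ I) (A ⧸ I.map (algebraMap B A))
    (A ⧸ (maximalIdeal B).map (algebraMap B A)) (Ideal.Quotient.factor hIA)
    (Ideal.Quotient.factor_surjective hIA) hker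

theorem comp_iff (C B A : Type u) [CommRing C] [IsLocalRing C] [CommRing B] [IsLocalRing B]
    [CommRing A] [IsLocalRing A] (φ : C →+* B) (ψ : B →+* A) [IsLocalHom φ] [IsLocalHom ψ]
    (χ : C →+* A) (hχ : χ = ψ.comp φ)
    (Ff Fg Ffg : Type u) [CommRing Ff] [CommRing Fg] [CommRing Ffg]
    (ef : (A ⧸ (maximalIdeal B).map ψ) ≃+* Ff) (eg : (B ⧸ (maximalIdeal C).map φ) ≃+* Fg)
    (efg : (A ⧸ (maximalIdeal C).map χ) ≃+* Ffg)
    [IsNoetherianRing Fg] [IsNoetherianRing Ffg] :
    (ψ.Flat ∧ LocCoh.IsGorensteinLocalRing Ff → φ.Flat ∧ LocCoh.IsGorensteinLocalRing Fg →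
      χ.Flat ∧ LocCoh.IsGorensteinLocalRing Ffg) ∧
    (χ.Flat ∧ LocCoh.IsGorensteinLocalRing Ffg → ψ.Flat →
      (ψ.Flat ∧ LocCoh.IsGorensteinLocalRing Ff) ∧
        (φ.Flat ∧ LocCoh.IsGorensteinLocalRing Fg)) := by
  subst hχ
  letI : Algebra B A := ψ.toAlgebra
  haveI : IsLocalHom (algebraMap B A) := ‹IsLocalHom ψ›
  have hI : (maximalIdeal C).map φ ≤ maximalIdeal B := by
    rw [Ideal.map_le_iff_le_comap]
    intro c hc
    exact Groth.Agent.H60.FlatGor.map_mem_max φ hc
  have hIA : ((maximalIdeal C).map φ).map (algebraMap B A) = (maximalIdeal C).map (ψ.comp φ) :=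
    Ideal.map_map φ ψ
  haveI : IsNoetherianRing (B ⧸ (maximalIdeal C).map φ) := isNoetherianRing_of_ringEquiv Fg eg.symm
  haveI : IsNoetherianRing (A ⧸ ((maximalIdeal C).map φ).map (algebraMap B A)) :=
    isNoetherianRing_of_ringEquiv Ffg (efg.symm.trans (Ideal.quotEquivOfEq hIA.symm))
  have key : ψ.Flat → (LocCoh.IsGorensteinLocalRing Ffg ↔
      LocCoh.IsGorensteinLocalRing Fg ∧ LocCoh.IsGorensteinLocalRing Ff) := by
    intro hψ
    haveI : Module.Flat B A := hψ
    have h := quot_iff B A ((maximalIdeal C).map φ) hI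
    constructor
    · intro hfg
      have h1 := h.mp (gor_of_ringEquiv (efg.symm.trans (Ideal.quotEquivOfEq hIA.symm)) hfg)
      exact ⟨gor_of_ringEquiv eg h1.1, gor_of_ringEquiv ef h1.2⟩
    · rintro ⟨hg, hf⟩
      have h1 := h.mpr ⟨gor_of_ringEquiv eg.symm hg, gor_of_ringEquiv ef.symm hf⟩
      exact gor_of_ringEquiv ((Ideal.quotEquivOfEq hIA).trans efg) h1
  refine ⟨fun hf hg => ⟨RingHom.Flat.comp hg.1 hf.1, (key hf.1).mpr ⟨hg.2, hf.2⟩⟩,
    fun hfg hψ => ?_⟩
  have h2 := (key hψ).mp hfg.2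
  exact ⟨⟨hψ, h2.2⟩, ⟨Groth.Agent.H29.FiberStalkAt.flat_of_comp φ ψ hψ hfg.1, h2.1⟩⟩

end Groth.Agent.H60.GorComp
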