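import Mathlib
import Groth.Agent.H60.GorComp
import Groth.Agent.H15.FibreSk
import Groth.Agent.H15.FlatLoc

/-!
# Gorenstein fibre local rings of a composite

`gor_fib_comp` : for `A → B → C` with `B → C` flat (`B`, `C` Noetherian) and a prime `r` of `C`,
the fibre local ring of `A → C` at `r` is Gorenstein iff the fibre local ring of `A → B` at `r ∩ B`
and the fibre local ring of `B → C` at `r` are Gorenstein.
-/

set_option autoImplicit false
set_option linter.style.haveILetI false
set_option linter.unusedSectionVars false
universe u
open IsLocalRing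

namespace Groth.Agent.H60.GorFib

open Groth.Agent.H60.GorTransfer Groth.Agent.H60.GorComp

theorem gor_fib_comp (A B C : Type u) [CommRing A] [CommRing B] [CommRing C] [Algebra A B]
    [Algebra B C] [Algebra A C] [IsScalarTower A B C] [IsNoetherianRing B] [IsNoetherianRing C]
    [Module.Flat B C] (r : Ideal C) [r.IsPrime] :
    LocCoh.IsGorensteinLocalRing (EGA4.FibLocRing A C r) ↔
      (LocCoh.IsGorensteinLocalRing (EGA4.FibLocRing A B (r.comap (algebraMap B C))) ∧
        LocCoh.IsGorensteinLocalRing (EGA4.FibLocRing B C r)) := by
  haveI hlo : r.LiesOver (r.comap (algebraMap B C)) := ⟨rfl⟩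
  letI alg := Localization.AtPrime.algebraOfLiesOver (r.comap (algebraMap B C)) r
  haveI hloc : IsLocalHom (algebraMap (Localization.AtPrime (r.comap (algebraMap B C)))
      (Localization.AtPrime r)) := Localization.isLocalHom_localRingHom _ _ _ _
  have hIle : ((r.comap (algebraMap B C)).comap (algebraMap A B)).map
      (algebraMap A (Localization.AtPrime (r.comap (algebraMap B C)))) ≤
      maximalIdeal (Localization.AtPrime (r.comap (algebraMap B C))) :=
    Groth.Agent.H15.FlatLoc.map_le_maximalIdeal A B (r.comap (algebraMap B C))
  have hcomap : (r.comap (algebraMap B C)).comap (algebraMap A B) = r.comap (algebraMap A C) := by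
    rw [Ideal.comap_comap, ← IsScalarTower.algebraMap_eq]
  have hJ : (((r.comap (algebraMap B C)).comap (algebraMap A B)).map
        (algebraMap A (Localization.AtPrime (r.comap (algebraMap B C))))).map
        (algebraMap (Localization.AtPrime (r.comap (algebraMap B C)))
          (Localization.AtPrime r)) =
      (r.comap (algebraMap A C)).map (algebraMap A (Localization.AtPrime r)) := by
    rw [Ideal.map_map, ← IsScalarTower.algebraMap_eq A
      (Localization.AtPrime (r.comap (algebraMap B C))) (Localization.AtPrime r), hcomap]
  have hK : (maximalIdeal (Localization.AtPrime (r.comap (algebraMap B C)))).map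
      (algebraMap (Localization.AtPrime (r.comap (algebraMap B C))) (Localization.AtPrime r)) =
      (r.comap (algebraMap B C)).map (algebraMap B (Localization.AtPrime r)) := by
    rw [← Localization.AtPrime.map_eq_maximalIdeal, Ideal.map_map,
      ← IsScalarTower.algebraMap_eq B (Localization.AtPrime (r.comap (algebraMap B C)))
        (Localization.AtPrime r)]
  have h := quot_iff (Localization.AtPrime (r.comap (algebraMap B C))) (Localization.AtPrime r)
    (((r.comap (algebraMap B C)).comap (algebraMap A B)).map
      (algebraMap A (Localization.AtPrime (r.comap (algebraMap B C))))) hIle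
  constructor
  · intro hg
    have h1 := h.mp (gor_of_ringEquiv (Ideal.quotEquivOfEq hJ).symm hg)
    exact ⟨h1.1, gor_of_ringEquiv (Ideal.quotEquivOfEq hK) h1.2⟩
  · rintro ⟨h1, h2⟩
    exact gor_of_ringEquiv (Ideal.quotEquivOfEq hJ)
      (h.mpr ⟨h1, gor_of_ringEquiv (Ideal.quotEquivOfEq hK).symm h2⟩)

end Groth.Agent.H60.GorFib
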