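import Mathlib
import Groth.Prelude.Def_Dual3
import Groth.Agent.H59.Goren3
import Groth.Agent.H60.GorTransfer
import Groth.Agent.H63.StalkBaseChange
import Groth.Agent.H29.FiberStalkAt
import Groth.Agent.H8.FlatBaseChange

/-!
# Gorenstein fibres and base change

* `gor_loc_tensor_iff`: `B` Noetherian local `k`-algebra, `K/k` a field extension, with `K` or `B`
  essentially of finite type over `k`; `Q` a prime of `K ⊗ B` over `m_B`.
  Then `(K ⊗ B)_Q` is Gorenstein iff `B` is.
* `gorFibre_baseChange_iff`: for a cartesian square, the local ring of the fibre of `f'` at `x'` is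
  Gorenstein iff the local ring of the fibre of `f` at `g' x'` is.
-/

set_option autoImplicit false
set_option linter.style.haveILetI false
universe u
open IsLocalRing TensorProduct
open CategoryTheory CategoryTheory.Limits AlgebraicGeometry

namespace Groth.Agent.H60.GorBC

open Groth.Agent.H60.GorTransfer

theorem gor_loc_tensor_iff (k K B : Type u) [Field k] [Field K] [Algebra k K] [CommRing B]
    [IsLocalRing B] [IsNoetherianRing B] [Algebra k B]
    (hE : Algebra.EssFiniteType k K ∨ Algebra.EssFiniteType k B)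
    (Q : Ideal (K ⊗[k] B)) [hQp : Q.IsPrime]
    (hQ : ∀ a ∈ maximalIdeal B, (1 : K) ⊗ₜ[k] a ∈ Q) :
    LocCoh.IsGorensteinLocalRing (Localization.AtPrime Q) ↔ LocCoh.IsGorensteinLocalRing B := by
  haveI hN : IsNoetherianRing (B ⊗[k] K) := by
    rcases hE with h | h
    · haveI := h
      exact Algebra.EssFiniteType.isNoetherianRing B (B ⊗[k] K)
    · haveI := h
      haveI : IsNoetherianRing (K ⊗[k] B) := Algebra.EssFiniteType.isNoetherianRing K (K ⊗[k] B)
      exact isNoetherianRing_of_ringEquiv (K ⊗[k] B) (Algebra.TensorProduct.comm k K B).toRingEquiv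
  let e' : (B ⊗[k] K) ≃+* (K ⊗[k] B) := (Algebra.TensorProduct.comm k B K).toRingEquiv
  have hq : (Q.comap e'.toRingHom).IsPrime := Ideal.comap_isPrime _ _
  have hP : (Q.comap e'.toRingHom).comap (algebraMap B (B ⊗[k] K)) = maximalIdeal B := by
    symm
    apply (IsLocalRing.maximalIdeal.isMaximal B).eq_of_le
    · exact (Ideal.comap_isPrime _ _).ne_top
    · intro a ha
      show e' (algebraMap B (B ⊗[k] K) a) ∈ Q
      have : e' (algebraMap B (B ⊗[k] K) a) = (1 : K) ⊗ₜ[k] a := by
        rw [Algebra.TensorProduct.algebraMap_apply]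
        simp [e']
      rw [this]; exact hQ a ha
  have hG : LocCoh.IsGorensteinRing
      (((Q.comap e'.toRingHom).comap (algebraMap B (B ⊗[k] K))).ResidueField ⊗[k] K) := by
    rcases hE with h | h
    · haveI := h
      obtain ⟨s, hs⟩ := (IntermediateField.fg_top (F := k) (E := K))
      haveI := Groth.Agent.H59.Goren3.gorRing_field
        ((Q.comap e'.toRingHom).comap (algebraMap B (B ⊗[k] K))).ResidueField
      haveI := Groth.Agent.H59.Goren2.gor_fg_tensor K s k hs
        ((Q.comap e'.toRingHom).comap (algebraMap B (B ⊗[k] K))).ResidueField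
      exact Groth.Agent.H59.Goren1.gorRing_of_ringEquiv (Algebra.TensorProduct.comm k K
        ((Q.comap e'.toRingHom).comap (algebraMap B (B ⊗[k] K))).ResidueField).toRingEquiv
    · haveI := h
      haveI : Algebra.EssFiniteType k
          ((Q.comap e'.toRingHom).comap (algebraMap B (B ⊗[k] K))).ResidueField :=
        Algebra.EssFiniteType.comp k B _
      obtain ⟨s, hs⟩ := (IntermediateField.fg_top (F := k)
        (E := ((Q.comap e'.toRingHom).comap (algebraMap B (B ⊗[k] K))).ResidueField))
      haveI := Groth.Agent.H59.Goren3.gorRing_field K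
      exact Groth.Agent.H59.Goren2.gor_fg_tensor _ s k hs K
  have h1 := Groth.Agent.H59.Goren3.gor_tensor_loc_iff k K B (Q.comap e'.toRingHom) hG
  -- `B ≃ B_{m}`
  have hu : ((Q.comap e'.toRingHom).comap (algebraMap B (B ⊗[k] K))).primeCompl ≤
      IsUnit.submonoid B := by
    intro x hx
    have hx' : x ∉ maximalIdeal B := by rw [← hP]; exact hx
    exact IsLocalRing.notMem_maximalIdeal.mp hx'
  let e2 : B ≃+* Localization.AtPrime ((Q.comap e'.toRingHom).comap (algebraMap B (B ⊗[k] K))) :=
    (IsLocalization.atUnits B _ hu).toRingEquiv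
  -- `(B ⊗ K)_q ≃ (K ⊗ B)_Q`
  let e3 : Localization.AtPrime (Q.comap e'.toRingHom) ≃+* Localization.AtPrime Q :=
    IsLocalization.ringEquivOfRingEquiv (M := (Q.comap e'.toRingHom).primeCompl)
      (T := Q.primeCompl) (Localization.AtPrime (Q.comap e'.toRingHom)) (Localization.AtPrime Q) e'
      (Groth.Agent.H63.StalkBaseChange.primeCompl_map_ringEquiv e' Q)
  constructor
  · intro h
    exact gor_of_ringEquiv e2.symm (h1.mpr (gor_of_ringEquiv e3.symm h))
  · intro h
    exact gor_of_ringEquiv e3 (h1.mp (gor_of_ringEquiv e2 h))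


variable {X Y X' Y' : Scheme.{u}}

/-- The local ring of any fibre through `x` is Gorenstein iff the local ring of the fibre
`f.fiber (f x)` at `f.asFiber x` is. -/
theorem gorFibre_iff (f : X ⟶ Y) (x : X) (s : Y) (z : ↥(f.fiber s))
    (hz : (f.fiberι s).base z = x) :
    LocCoh.IsGorensteinLocalRing ((f.fiber s).presheaf.stalk z) ↔
      LocCoh.IsGorensteinLocalRing ((f.fiber (f x)).presheaf.stalk (f.asFiber x)) := by
  obtain ⟨e1⟩ := Groth.Agent.H29.FiberStalkAt.nonempty_fiberStalkEquiv_of_eq f s z x hz
  obtain ⟨e2⟩ := Groth.Agent.H29.FiberStalkAt.nonempty_fiberStalkEquiv f x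
  exact ⟨fun h => gor_of_ringEquiv (e1.symm.trans e2) h,
    fun h => gor_of_ringEquiv (e2.symm.trans e1) h⟩

/-- The residue field extension of a morphism locally of finite type is finitely generated. -/
theorem essFiniteType_residueFieldMap (g : Y' ⟶ Y) [LocallyOfFiniteType g] (y' : Y') :
    (g.residueFieldMap y').hom.EssFiniteType :=
  (LocallyOfFiniteType.stalkMap g y').residueFieldMap

/-- The local rings of a scheme locally of finite type over a field are essentially of finite
type. -/
theorem essFiniteType_stalkAlgebra {k : Type u} [Field k] {F : Scheme.{u}}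
    (h : F ⟶ Spec (CommRingCat.of k)) [LocallyOfFiniteType h] (z : F) :
    letI := Groth.Agent.H63.StalkBaseChange.stalkAlgebra h z
    Algebra.EssFiniteType k (F.presheaf.stalk z) := by
  letI := Groth.Agent.H63.StalkBaseChange.stalkAlgebra h z
  rw [← RingHom.essFiniteType_algebraMap]
  show ((Scheme.ΓSpecIso (CommRingCat.of k)).inv ≫ h.appTop ≫
    F.presheaf.germ ⊤ z trivial).hom.EssFiniteType
  have h1 : h.appTop ≫ F.presheaf.germ ⊤ z trivial =
      (Spec (CommRingCat.of k)).presheaf.germ ⊤ (h z) trivial ≫ h.stalkMap z :=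
    (Scheme.Hom.germ_stalkMap h ⊤ z trivial).symm
  rw [h1, CommRingCat.hom_comp, CommRingCat.hom_comp]
  refine RingHom.EssFiniteType.comp ?_ (RingHom.EssFiniteType.comp ?_
    (LocallyOfFiniteType.stalkMap h z))
  · exact (RingHom.FiniteType.of_surjective _
      (ConcreteCategory.bijective_of_isIso (Scheme.ΓSpecIso (CommRingCat.of k)).inv).2).essFiniteType
  · have hU : IsAffineOpen (⊤ : (Spec (CommRingCat.of k)).Opens) := isAffineOpen_top _
    let w : (⊤ : (Spec (CommRingCat.of k)).Opens) := ⟨h z, trivial⟩
    letI : Algebra Γ(Spec (CommRingCat.of k), ⊤) ((Spec (CommRingCat.of k)).presheaf.stalk (h z)) :=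
      TopCat.Presheaf.algebra_section_stalk (Spec (CommRingCat.of k)).presheaf w
    haveI := hU.isLocalization_stalk w
    have : Algebra.EssFiniteType Γ(Spec (CommRingCat.of k), ⊤)
        ((Spec (CommRingCat.of k)).presheaf.stalk (h z)) :=
      Algebra.EssFiniteType.of_isLocalization _ (hU.primeIdealOf w).asIdeal.primeCompl
    exact RingHom.essFiniteType_algebraMap.mpr this


/-- In a cartesian square, the local ring of the fibre of `f'` at `x'` is Gorenstein iff the local
ring of the fibre of `f` at `g' x'` is, provided the fibre of `f` is locally Noetherian and either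
`g` or `f` is locally of finite type. -/
theorem gorFibre_baseChange_iff {f : X ⟶ Y} {g : Y' ⟶ Y} {f' : X' ⟶ Y'} {g' : X' ⟶ X}
    (hsq : IsPullback g' f' f g) (x' : X')
    (hN : IsLocallyNoetherian (f.fiber (g (f' x'))))
    (hE : LocallyOfFiniteType g ∨ LocallyOfFiniteType f) :
    LocCoh.IsGorensteinLocalRing ((f'.fiber (f' x')).presheaf.stalk (f'.asFiber x')) ↔
      LocCoh.IsGorensteinLocalRing
        ((f.fiber (f (g' x'))).presheaf.stalk (f.asFiber (g' x'))) := by
  haveI := hN
  obtain ⟨π, HP, hπ⟩ : ∃ π : f'.fiber (f' x') ⟶ f.fiber (g (f' x')),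
      IsPullback π (f'.fiberToSpecResidueField (f' x')) (f.fiberToSpecResidueField (g (f' x')))
        (Spec.map (g.residueFieldMap (f' x'))) ∧
      π ≫ f.fiberι (g (f' x')) = f'.fiberι (f' x') ≫ g' :=
    ⟨_, isPullback_fiberToSpecResidueField_of_isPullback hsq (f' x'), pullback.lift_fst _ _ _⟩
  have hz : (f.fiberι (g (f' x'))) (π (f'.asFiber x')) = g' x' := by
    rw [← Scheme.Hom.comp_apply, hπ, Scheme.Hom.comp_apply, f'.fiberι_asFiber]
  letI : Algebra (Y.residueField (g (f' x'))) (Y'.residueField (f' x')) :=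
    (g.residueFieldMap (f' x')).hom.toAlgebra
  letI := Groth.Agent.H63.StalkBaseChange.stalkAlgebra (k := Y.residueField (g (f' x')))
    (f.fiberToSpecResidueField (g (f' x'))) (π (f'.asFiber x'))
  obtain ⟨Q, hQp, hQm, ⟨e⟩⟩ := Groth.Agent.H63.StalkBaseChange.exists_prime_ringEquiv_stalk
    (k := Y.residueField (g (f' x'))) (K := Y'.residueField (f' x'))
    (f.fiberToSpecResidueField (g (f' x'))) π (f'.fiberToSpecResidueField (f' x')) HP
    (f'.asFiber x') (π (f'.asFiber x')) rfl
  haveI := hQp
  haveI : IsNoetherianRing ((f.fiber (g (f' x'))).presheaf.stalk (π (f'.asFiber x'))) :=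
    inferInstance
  have hE' : Algebra.EssFiniteType (Y.residueField (g (f' x'))) (Y'.residueField (f' x')) ∨
      Algebra.EssFiniteType (Y.residueField (g (f' x')))
        ((f.fiber (g (f' x'))).presheaf.stalk (π (f'.asFiber x'))) := by
    rcases hE with h | h
    · left
      haveI := h
      exact essFiniteType_residueFieldMap g (f' x')
    · right
      haveI := h
      haveI : LocallyOfFiniteType (f.fiberToSpecResidueField (g (f' x'))) :=
        MorphismProperty.of_isPullback (P := @LocallyOfFiniteType)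
          (IsPullback.of_hasPullback f (Y.fromSpecResidueField (g (f' x')))) h
      exact essFiniteType_stalkAlgebra (k := Y.residueField (g (f' x')))
        (f.fiberToSpecResidueField (g (f' x'))) _
  have key := gor_loc_tensor_iff _ _ _ hE' Q hQm
  rw [← gorFibre_iff f (g' x') (g (f' x')) (π (f'.asFiber x')) hz]
  exact ⟨fun h => key.mp (gor_of_ringEquiv e.symm h), fun h => gor_of_ringEquiv e (key.mpr h)⟩


/-- Descent of flatness at a point along a base change which is flat at the point. -/
theorem flat_stalkMap_of_baseChange {f : X ⟶ Y} {g : Y' ⟶ Y} {f' : X' ⟶ Y'} {g' : X' ⟶ X}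
    (hsq : IsPullback g' f' f g) (x' : X') (hg : (g.stalkMap (f' x')).hom.Flat)
    (hf' : (f'.stalkMap x').hom.Flat) : (f.stalkMap (g' x')).hom.Flat := by
  have hg' : (g'.stalkMap x').hom.Flat := Groth.Agent.H8.flat_stalkMap_baseChange hsq x' hg
  have h1 : ((f' ≫ g).stalkMap x').hom.Flat := by
    rw [Groth.Agent.H29.FiberStalkAt.stalkMap_comp_hom]
    exact RingHom.Flat.comp hg hf'
  have h2 : ((g' ≫ f).stalkMap x').hom.Flat := by
    have : ∀ (φ ψ : X' ⟶ Y), φ = ψ → (φ.stalkMap x').hom.Flat → (ψ.stalkMap x').hom.Flat := by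
      rintro φ _ rfl h; exact h
    exact this _ _ hsq.w.symm h1
  rw [Groth.Agent.H29.FiberStalkAt.stalkMap_comp_hom] at h2
  exact Groth.Agent.H29.FiberStalkAt.flat_of_comp _ _ hg' h2

/-- The fibres of a morphism locally of finite type are locally Noetherian. -/
theorem isLocallyNoetherian_fiber (f : X ⟶ Y) [LocallyOfFiniteType f] (y : Y) :
    IsLocallyNoetherian (f.fiber y) := by
  haveI : LocallyOfFiniteType (f.fiberToSpecResidueField y) :=
    MorphismProperty.of_isPullback (P := @LocallyOfFiniteType)
      (IsPullback.of_hasPullback f (Y.fromSpecResidueField y)) inferInstance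
  exact LocallyOfFiniteType.isLocallyNoetherian (f.fiberToSpecResidueField y)

end Groth.Agent.H60.GorBC
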