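import Groth.Agent.H60.Key_S2bCore
import Groth.Agent.H96.KeyS2aCore
import Groth.Agent.H84.KeyP1

/-!
# (S2b) for helper34's S1920 squad: the key lemma S1851 on a scheme, for elements of the local ring
-/

set_option autoImplicit false
set_option linter.style.haveILetI false

universe u

open CategoryTheory AlgebraicGeometry TopologicalSpace Opposite

namespace Groth.Agent.H60.Key_S2b

variable {X : Scheme.{u}} [IsIntegral X]

open Classical in
/-- (S2b) the key lemma on a scheme, for elements of the local ring at `x`. -/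
theorem skl_elem [IsLocallyNoetherian X] (x : X) (hx : ringKrullDim (X.presheaf.stalk x) = 2)
    (a b : X.presheaf.stalk x) (ha : a ≠ 0) (hb : b ≠ 0) :
    ∑ᶠ ξ : X, (if h : ξ ⤳ x ∧ ringKrullDim (X.presheaf.stalk ξ) = 1 then
      Cyc.ordAt x ξ h.1 (CycAlg.tameSymbol (X.presheaf.stalk ξ)
        ((X.presheaf.stalkSpecializes h.1).hom a) ((X.presheaf.stalkSpecializes h.1).hom b))
      else 0) = 0 :=
  skl_elem_of_term x hx a b ha hb fun ξ h hξ q _ hq =>
    Groth.Agent.H96.KeyS2aCore.skl_term_core
      (fun hA e a b ha hb => Groth.Agent.H84.KeyP1.tameSymbol_ringEquiv hA e a b ha hb)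
      h hξ a b ha hb q hq

end Groth.Agent.H60.Key_S2b
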