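import Mathlib

/-!
# (R1) for helper8's coherent devissage squad: two finite modules over a local ring killed by the
maximal ideal and of the same length are isomorphic
-/

set_option autoImplicit false
set_option linter.style.haveILetI false
universe u

namespace Groth.Agent.H60.Dev

theorem R1 (R : Type u) [CommRing R] [IsLocalRing R] (M N : Type u) [AddCommGroup M] [Module R M]
    [AddCommGroup N] [Module R N] [Module.Finite R M] [Module.Finite R N]
    (hM : ∀ a ∈ IsLocalRing.maximalIdeal R, ∀ m : M, a • m = 0)
    (hN : ∀ a ∈ IsLocalRing.maximalIdeal R, ∀ n : N, a • n = 0)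
    (h : Module.length R M = Module.length R N) : Nonempty (M ≃ₗ[R] N) := by
  have hM' : Module.IsTorsionBySet R M (IsLocalRing.maximalIdeal R : Set R) :=
    fun x a => hM a.1 a.2 x
  have hN' : Module.IsTorsionBySet R N (IsLocalRing.maximalIdeal R : Set R) :=
    fun x a => hN a.1 a.2 x
  letI : Module (R ⧸ IsLocalRing.maximalIdeal R) M := hM'.module
  letI : Module (R ⧸ IsLocalRing.maximalIdeal R) N := hN'.module
  haveI : IsScalarTower R (R ⧸ IsLocalRing.maximalIdeal R) M := hM'.isScalarTower
  haveI : IsScalarTower R (R ⧸ IsLocalRing.maximalIdeal R) N := hN'.isScalarTower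
  letI : Field (R ⧸ IsLocalRing.maximalIdeal R) :=
    Ideal.Quotient.field (IsLocalRing.maximalIdeal R)
  haveI : Module.Finite (R ⧸ IsLocalRing.maximalIdeal R) M :=
    Module.Finite.of_restrictScalars_finite R (R ⧸ IsLocalRing.maximalIdeal R) M
  haveI : Module.Finite (R ⧸ IsLocalRing.maximalIdeal R) N :=
    Module.Finite.of_restrictScalars_finite R (R ⧸ IsLocalRing.maximalIdeal R) N
  have hs : Function.Surjective (algebraMap R (R ⧸ IsLocalRing.maximalIdeal R)) :=
    Ideal.Quotient.mk_surjective
  have h1 : Module.length (R ⧸ IsLocalRing.maximalIdeal R) M =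
      Module.length (R ⧸ IsLocalRing.maximalIdeal R) N := by
    rw [← Module.length_eq_of_surjective hs, ← Module.length_eq_of_surjective hs, h]
  rw [Module.length_eq_finrank, Module.length_eq_finrank] at h1
  have h2 : Module.finrank (R ⧸ IsLocalRing.maximalIdeal R) M =
      Module.finrank (R ⧸ IsLocalRing.maximalIdeal R) N := by exact_mod_cast h1
  obtain ⟨e⟩ := FiniteDimensional.nonempty_linearEquiv_of_finrank_eq h2
  exact ⟨e.restrictScalars R⟩

end Groth.Agent.H60.Dev
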