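import Mathlib
import Groth.Prelude.Def_Coh
import Groth.Prelude.Def_CohB1
import Groth.Prelude.Def_ClSub2
import Groth.Prelude.Def_FlatMod2
import Groth.Agent.H17.StalkSeq

/-!
# (S1) for helper8's coherent devissage squad: a module killed by the reduced ideal of an
irreducible closed set has stalk at the generic point killed by the maximal ideal
-/

set_option autoImplicit false
set_option linter.style.haveILetI false
universe u
open CategoryTheory CategoryTheory.Limits AlgebraicGeometry TopologicalSpace Opposite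

namespace Groth.Agent.H60.Dev

variable {X : Scheme.{u}}

/-- a section over an affine open which is a non-unit at the generic point `y` of `T` lies in the
vanishing ideal of `T` -/
theorem mem_vanishingIdeal_of_notMem_basicOpen (T : Set X) (hT : IsClosed T) (y : X)
    (hy : closure {y} = T) (V : X.affineOpens) (f : Γ(X, V.1)) (hf : y ∉ X.basicOpen f) :
    f ∈ (Scheme.IdealSheafData.vanishingIdeal ⟨T, hT⟩).ideal V := by
  rw [Scheme.IdealSheafData.vanishingIdeal_ideal, PrimeSpectrum.mem_vanishingIdeal]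
  intro p hp
  by_contra hfp
  have h1 : p ∈ V.2.fromSpec ⁻¹ᵁ X.basicOpen f := by
    rw [V.2.fromSpec_preimage_basicOpen]
    exact hfp
  have h2 : V.2.fromSpec p ∈ closure ({y} : Set X) := by
    rw [hy]
    exact hp
  obtain ⟨z, hz1, hz2⟩ := mem_closure_iff.mp h2 _ (X.basicOpen f).2 h1
  rw [Set.mem_singleton_iff] at hz2
  subst hz2
  exact hf hz1

theorem S1 (T : Set X) (hT : IsClosed T) (y : X) (hy : closure {y} = T)
    (M : X.Modules) (hM : ClSub.KilledByIdeal (Scheme.IdealSheafData.vanishingIdeal ⟨T, hT⟩) M) :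
    ∀ a ∈ IsLocalRing.maximalIdeal (X.presheaf.stalk y), ∀ t : ↑(M.presheaf.stalk y),
      a • t = 0 := by
  intro a ha t
  obtain ⟨V₁, h₁, s₁, rfl⟩ := TopCat.Presheaf.exists_germ_eq M.presheaf t
  obtain ⟨V₂, h₂, f₂, rfl⟩ := TopCat.Presheaf.exists_germ_eq X.presheaf a
  obtain ⟨_, ⟨V, hV, rfl⟩, hyV, hVle⟩ :=
    X.isBasis_affineOpens.exists_subset_of_mem_open (show y ∈ ((V₁ ⊓ V₂ : X.Opens) : Set X) from
      ⟨h₁, h₂⟩) (V₁ ⊓ V₂).2
  have hle₁ : V ≤ V₁ := fun z hz => (hVle hz).1
  have hle₂ : V ≤ V₂ := fun z hz => (hVle hz).2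
  have e₁ : M.presheaf.germ V₁ y h₁ s₁ =
      M.presheaf.germ V y hyV (M.presheaf.map (homOfLE hle₁).op s₁) :=
    (TopCat.Presheaf.germ_res_apply M.presheaf (homOfLE hle₁) y hyV s₁).symm
  have e₂ : X.presheaf.germ V₂ y h₂ f₂ =
      X.presheaf.germ V y hyV (X.presheaf.map (homOfLE hle₂).op f₂) :=
    (TopCat.Presheaf.germ_res_apply X.presheaf (homOfLE hle₂) y hyV f₂).symm
  rw [e₂] at ha
  rw [e₁, e₂]
  set s := M.presheaf.map (homOfLE hle₁).op s₁
  set f := X.presheaf.map (homOfLE hle₂).op f₂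
  have hf : y ∉ X.basicOpen f := by
    rw [Scheme.mem_basicOpen _ _ _ hyV]
    exact (IsLocalRing.mem_maximalIdeal _).mp ha
  have hfI := mem_vanishingIdeal_of_notMem_basicOpen T hT y hy ⟨V, hV⟩ f hf
  have h0 : f • s = 0 := hM ⟨V, hV⟩ f hfI s
  rw [← Groth.Agent.H8.germ_smul M y hyV f s, h0, map_zero]

end Groth.Agent.H60.Dev
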