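import Mathlib
import Groth.Agent.H60.GorBC

/-!
# Base change of a property of the local rings of the fibres (generic form)

`fibreProp_baseChange_iff`: let `P` be a property of rings, invariant under ring isomorphisms, such
that for a Noetherian local `k`-algebra `B`, a field extension `K/k` (with `K` or `B` essentially of
finite type over `k`) and a prime `Q` of `K ⊗ B` over `m_B` one has `P ((K ⊗ B)_Q) ↔ P B`.
Then in a cartesian square the local ring of the fibre of `f'` at `x'` has `P` iff the local ring
of the fibre of `f` at `g' x'` has `P`.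
-/

set_option autoImplicit false
set_option linter.style.haveILetI false
universe u
open IsLocalRing TensorProduct
open CategoryTheory CategoryTheory.Limits AlgebraicGeometry

namespace Groth.Agent.H60.FibreBC

open Groth.Agent.H60.GorBC

variable {X Y X' Y' : Scheme.{u}}

theorem fibreProp_baseChange_iff (P : ∀ (R : Type u) [CommRing R], Prop)
    (hPe : ∀ {R R' : Type u} [CommRing R] [CommRing R'], (R ≃+* R') → P R → P R')
    (hPt : ∀ (k K B : Type u) [Field k] [Field K] [Algebra k K] [CommRing B] [IsLocalRing B]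
      [IsNoetherianRing B] [Algebra k B],
      (Algebra.EssFiniteType k K ∨ Algebra.EssFiniteType k B) →
      ∀ (Q : Ideal (K ⊗[k] B)) [Q.IsPrime], (∀ a ∈ maximalIdeal B, (1 : K) ⊗ₜ[k] a ∈ Q) →
      (P (Localization.AtPrime Q) ↔ P B))
    {f : X ⟶ Y} {g : Y' ⟶ Y} {f' : X' ⟶ Y'} {g' : X' ⟶ X}
    (hsq : IsPullback g' f' f g) (x' : X')
    (hN : IsLocallyNoetherian (f.fiber (g (f' x'))))
    (hE : LocallyOfFiniteType g ∨ LocallyOfFiniteType f) :
    P ((f'.fiber (f' x')).presheaf.stalk (f'.asFiber x')) ↔
      P ((f.fiber (f (g' x'))).presheaf.stalk (f.asFiber (g' x'))) := by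
  haveI := hN
  obtain ⟨π, HP, hπ⟩ : ∃ π : f'.fiber (f' x') ⟶ f.fiber (g (f' x')),
      IsPullback π (f'.fiberToSpecResidueField (f' x')) (f.fiberToSpecResidueField (g (f' x')))
        (Spec.map (g.residueFieldMap (f' x'))) ∧
      π ≫ f.fiberι (g (f' x')) = f'.fiberι (f' x') ≫ g' :=
    ⟨_, isPullback_fiberToSpecResidueField_of_isPullback hsq (f' x'), pullback.lift_fst _ _ _⟩
  have hz : (f.fiberι (g (f' x'))) (π (f'.asFiber x')) = g' x' := by
    rw [← Scheme.Hom.comp_apply, hπ, Scheme.Hom.comp_apply, f'.fiberι_asFiber]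
  letI : Algebra (Y.residueField (g (f' x'))) (Y'.residueField (f' x')) :=
    (g.residueFieldMap (f' x')).hom.toAlgebra
  letI := Groth.Agent.H63.StalkBaseChange.stalkAlgebra (k := Y.residueField (g (f' x')))
    (f.fiberToSpecResidueField (g (f' x'))) (π (f'.asFiber x'))
  obtain ⟨Q, hQp, hQm, ⟨e⟩⟩ := Groth.Agent.H63.StalkBaseChange.exists_prime_ringEquiv_stalk
    (k := Y.residueField (g (f' x'))) (K := Y'.residueField (f' x'))
    (f.fiberToSpecResidueField (g (f' x'))) π (f'.fiberToSpecResidueField (f' x')) HP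
    (f'.asFiber x') (π (f'.asFiber x')) rfl
  haveI := hQp
  haveI : IsNoetherianRing ((f.fiber (g (f' x'))).presheaf.stalk (π (f'.asFiber x'))) :=
    inferInstance
  have hE' : Algebra.EssFiniteType (Y.residueField (g (f' x'))) (Y'.residueField (f' x')) ∨
      Algebra.EssFiniteType (Y.residueField (g (f' x')))
        ((f.fiber (g (f' x'))).presheaf.stalk (π (f'.asFiber x'))) := by
    rcases hE with h | h
    · left
      haveI := h
      exact essFiniteType_residueFieldMap g (f' x')
    · right
      haveI := h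
      haveI : LocallyOfFiniteType (f.fiberToSpecResidueField (g (f' x'))) :=
        MorphismProperty.of_isPullback (P := @LocallyOfFiniteType)
          (IsPullback.of_hasPullback f (Y.fromSpecResidueField (g (f' x')))) h
      exact essFiniteType_stalkAlgebra (k := Y.residueField (g (f' x')))
        (f.fiberToSpecResidueField (g (f' x'))) _
  have key := hPt _ _ _ hE' Q hQm
  obtain ⟨e1⟩ := Groth.Agent.H29.FiberStalkAt.nonempty_fiberStalkEquiv_of_eq f (g (f' x'))
    (π (f'.asFiber x')) (g' x') hz
  obtain ⟨e2⟩ := Groth.Agent.H29.FiberStalkAt.nonempty_fiberStalkEquiv f (g' x')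
  constructor
  · intro h
    exact hPe (e1.symm.trans e2) (key.mp (hPe e.symm h))
  · intro h
    exact hPe e (key.mpr (hPe (e2.symm.trans e1) h))

end Groth.Agent.H60.FibreBC
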