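import Mathlib
import Groth.Prelude.Def_MoreMor
import Groth.Agent.H60.FibreBC
import Groth.Agent.H71.CMFormal
import Groth.Agent.H71.CMField
import Groth.Agent.H29.FlatCM
import Groth.Agent.S4744

/-!
# Cohen–Macaulay fibres and base change
-/

set_option autoImplicit false
set_option linter.style.haveILetI false
universe u
open IsLocalRing TensorProduct
open CategoryTheory CategoryTheory.Limits AlgebraicGeometry

namespace Groth.Agent.H60.CMBC

theorem cm_loc_tensor_iff (k K B : Type u) [Field k] [Field K] [Algebra k K] [CommRing B]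
    [IsLocalRing B] [IsNoetherianRing B] [Algebra k B]
    (hE : Algebra.EssFiniteType k K ∨ Algebra.EssFiniteType k B)
    (Q : Ideal (K ⊗[k] B)) [hQp : Q.IsPrime]
    (hQ : ∀ a ∈ maximalIdeal B, (1 : K) ⊗ₜ[k] a ∈ Q) :
    LocCoh.IsCohenMacaulayLocalRing (Localization.AtPrime Q) ↔
      LocCoh.IsCohenMacaulayLocalRing B := by
  haveI hN : IsNoetherianRing (B ⊗[k] K) := by
    rcases hE with h | h
    · haveI := h
      exact Algebra.EssFiniteType.isNoetherianRing B (B ⊗[k] K)
    · haveI := h
      haveI : IsNoetherianRing (K ⊗[k] B) := Algebra.EssFiniteType.isNoetherianRing K (K ⊗[k] B)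
      exact isNoetherianRing_of_ringEquiv (K ⊗[k] B) (Algebra.TensorProduct.comm k K B).toRingEquiv
  let e' : (B ⊗[k] K) ≃+* (K ⊗[k] B) := (Algebra.TensorProduct.comm k B K).toRingEquiv
  haveI hq : (Q.comap e'.toRingHom).IsPrime := Ideal.comap_isPrime _ _
  have hP : (Q.comap e'.toRingHom).comap (algebraMap B (B ⊗[k] K)) = maximalIdeal B := by
    symm
    apply (IsLocalRing.maximalIdeal.isMaximal B).eq_of_le
    · exact (Ideal.comap_isPrime _ _).ne_top
    · intro a ha
      show e' (algebraMap B (B ⊗[k] K) a) ∈ Q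
      have : e' (algebraMap B (B ⊗[k] K) a) = (1 : K) ⊗ₜ[k] a := by
        rw [Algebra.TensorProduct.algebraMap_apply]
        simp [e']
      rw [this]; exact hQ a ha
  have hfib : ∀ (p : Ideal B) [p.IsPrime], LocCoh.IsCohenMacaulayRing (p.Fiber (B ⊗[k] K)) := by
    intro p _
    have h : LocCoh.IsCohenMacaulayRing (p.ResidueField ⊗[k] K) := by
      rcases hE with h | h
      · haveI := h
        exact Groth.Agent.S4744.isCMRing_of_ringEquiv
          (Algebra.TensorProduct.comm k K p.ResidueField).toRingEquiv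
          (Groth.Agent.H71.CMField.isCMRing_tensor_of_essFiniteType k K p.ResidueField
            (Groth.Agent.H71.CMField.isCMRing_of_field _))
      · haveI := h
        haveI : Algebra.EssFiniteType k p.ResidueField := Algebra.EssFiniteType.comp k B _
        exact Groth.Agent.H71.CMField.isCMRing_tensor_of_essFiniteType k p.ResidueField K
          (Groth.Agent.H71.CMField.isCMRing_of_field K)
    exact Groth.Agent.S4744.isCMRing_of_ringEquiv
      (Algebra.TensorProduct.cancelBaseChange k B p.ResidueField p.ResidueField K).symm.toRingEquiv h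
  have h1 := Groth.Agent.H71.CMFormal.cmAt_comap_iff B (B ⊗[k] K) hfib (Q.comap e'.toRingHom)
  have hu : ((Q.comap e'.toRingHom).comap (algebraMap B (B ⊗[k] K))).primeCompl ≤
      IsUnit.submonoid B := by
    intro x hx
    have hx' : x ∉ maximalIdeal B := by rw [← hP]; exact hx
    exact IsLocalRing.notMem_maximalIdeal.mp hx'
  let e2 : B ≃+* Localization.AtPrime ((Q.comap e'.toRingHom).comap (algebraMap B (B ⊗[k] K))) :=
    (IsLocalization.atUnits B _ hu).toRingEquiv
  let e3 : Localization.AtPrime (Q.comap e'.toRingHom) ≃+* Localization.AtPrime Q :=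
    IsLocalization.ringEquivOfRingEquiv (M := (Q.comap e'.toRingHom).primeCompl)
      (T := Q.primeCompl) (Localization.AtPrime (Q.comap e'.toRingHom)) (Localization.AtPrime Q) e'
      (Groth.Agent.H63.StalkBaseChange.primeCompl_map_ringEquiv e' Q)
  constructor
  · intro h
    exact Groth.Agent.H29.FlatCM.isCM_ringEquiv e2.symm
      (h1.mp (Groth.Agent.H29.FlatCM.isCM_ringEquiv e3.symm h))
  · intro h
    exact Groth.Agent.H29.FlatCM.isCM_ringEquiv e3
      (h1.mpr (Groth.Agent.H29.FlatCM.isCM_ringEquiv e2 h))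

variable {X Y X' Y' : Scheme.{u}}

/-- In a cartesian square, the local ring of the fibre of `f'` at `x'` is Cohen–Macaulay iff the
local ring of the fibre of `f` at `g' x'` is. -/
theorem cmFibre_baseChange_iff {f : X ⟶ Y} {g : Y' ⟶ Y} {f' : X' ⟶ Y'} {g' : X' ⟶ X}
    (hsq : IsPullback g' f' f g) (x' : X')
    (hN : IsLocallyNoetherian (f.fiber (g (f' x'))))
    (hE : LocallyOfFiniteType g ∨ LocallyOfFiniteType f) :
    LocCoh.IsCohenMacaulayLocalRing ((f'.fiber (f' x')).presheaf.stalk (f'.asFiber x')) ↔
      LocCoh.IsCohenMacaulayLocalRing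
        ((f.fiber (f (g' x'))).presheaf.stalk (f.asFiber (g' x'))) := by
  refine Groth.Agent.H60.FibreBC.fibreProp_baseChange_iff
    (fun R _ => LocCoh.IsCohenMacaulayLocalRing R) ?_ ?_ hsq x' hN hE
  · intro R R' _ _ e h
    haveI : IsLocalRing R := h.toIsLocalRing
    haveI : IsLocalRing R' := e.isLocalRing
    exact Groth.Agent.H29.FlatCM.isCM_ringEquiv e h
  · intro k K B _ _ _ _ _ _ _ hE Q _ hQ
    exact cm_loc_tensor_iff k K B hE Q hQ

end Groth.Agent.H60.CMBC
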