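import Mathlib
import Groth.Agent.H38.CM_Defs

/-!
# Pullback of adapted strata along a morphism of schemes (piece (G) for helper38)
-/

set_option autoImplicit false
set_option linter.style.haveILetI false
universe u
open CategoryTheory CategoryTheory.Limits AlgebraicGeometry Opposite
open Groth.Agent.H38.CMDefs

namespace Groth.Agent.H60.CM_G

/-- A locally closed subset of a scheme is the range of an immersion. -/
theorem exists_immersion_range {W : Scheme.{u}} (A : Set W) (hA : IsLocallyClosed A) :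
    ∃ (𝒜 : Scheme.{u}) (j : 𝒜 ⟶ W), IsImmersion j ∧ Set.range j.base = A := by
  let Zc : TopologicalSpace.Closeds W := ⟨closure A, isClosed_closure⟩
  let I := Scheme.IdealSheafData.vanishingIdeal Zc
  let U : W.Opens := ⟨coborder A, hA.isOpen_coborder⟩
  let V : I.subscheme.Opens := I.subschemeι ⁻¹ᵁ U
  refine ⟨V.toScheme, V.ι ≫ I.subschemeι, inferInstance, ?_⟩
  rw [Scheme.Hom.comp_base, TopCat.coe_comp, Set.range_comp, Scheme.Opens.range_ι]
  change I.subschemeι.base '' (I.subschemeι.base ⁻¹' (coborder A)) = A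
  rw [Set.image_preimage_eq_inter_range, Scheme.IdealSheafData.range_subschemeι,
    Scheme.IdealSheafData.coe_support_vanishingIdeal]
  exact coborder_inter_closure

/-- The stratum `A ∩ f⁻¹(range g)` as an immersed scheme factoring through `g`. -/
theorem exists_stratum {X Y T : Scheme.{u}} (f : X ⟶ Y) (g : T ⟶ Y) (hg : IsImmersion g)
    (A : Set X) (hA : IsLocallyClosed A) :
    ∃ (Z : Scheme.{u}) (e : Z ⟶ X) (t : Z ⟶ T), IsImmersion e ∧
      Set.range e.base = A ∩ f.base ⁻¹' (Set.range g.base) ∧ e ≫ f = t ≫ g := by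
  obtain ⟨𝒜, j, hj, hjr⟩ := exists_immersion_range A hA
  haveI := hj
  haveI := hg
  refine ⟨pullback (j ≫ f) g, pullback.fst (j ≫ f) g ≫ j, pullback.snd (j ≫ f) g,
    inferInstance, ?_, ?_⟩
  · rw [Scheme.Hom.comp_base, TopCat.coe_comp, Set.range_comp]
    have h1 := Scheme.Pullback.range_fst (j ≫ f) g
    rw [h1, Scheme.Hom.comp_base, TopCat.coe_comp, Set.preimage_comp,
      Set.image_preimage_eq_inter_range, hjr, Set.inter_comm]
  · rw [Category.assoc, pullback.condition]

/-- A finite cover of an affine open `U` by affine opens mapping into affine opens of `Y`. -/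
theorem exists_cover {X Y : Scheme.{u}} (f : X ⟶ Y) (U : X.Opens) (hU : IsAffineOpen U) :
    ∃ (m : ℕ) (W : Fin m → X.Opens) (V : Fin m → Y.Opens), (∀ β, IsAffineOpen (W β)) ∧
      (∀ β, IsAffineOpen (V β)) ∧ (∀ β, W β ≤ U) ∧ (∀ β, W β ≤ f ⁻¹ᵁ V β) ∧
      (⋃ β, (W β : Set X)) = U := by
  have hpt : ∀ x : X, x ∈ U → ∃ (W : X.Opens) (V : Y.Opens), IsAffineOpen W ∧ IsAffineOpen V ∧
      x ∈ W ∧ W ≤ U ∧ W ≤ f ⁻¹ᵁ V := by
    intro x hx
    obtain ⟨V, hV, hxV, -⟩ := exists_isAffineOpen_mem_and_subset (x := f.base x)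
      (U := (⊤ : Y.Opens)) trivial
    have hx' : x ∈ U ⊓ f ⁻¹ᵁ V := ⟨hx, hxV⟩
    obtain ⟨W, hW, hxW, hWle⟩ := exists_isAffineOpen_mem_and_subset hx'
    exact ⟨W, V, hW, hV, hxW, fun y hy => (hWle hy).1, fun y hy => (hWle hy).2⟩
  choose! W V hW hV hxW hWU hWV using hpt
  obtain ⟨t, htU, htcov⟩ := hU.isCompact.elim_nhds_subcover (fun x => (W x : Set X))
    (fun x hx => (W x).2.mem_nhds (hxW x hx))
  let σ := t.equivFin
  refine ⟨t.card, fun β => W (σ.symm β).1, fun β => V (σ.symm β).1, fun β => hW _ (htU _ (σ.symm β).2),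
    fun β => hV _ (htU _ (σ.symm β).2), fun β => hWU _ (htU _ (σ.symm β).2),
    fun β => hWV _ (htU _ (σ.symm β).2), ?_⟩
  apply Set.Subset.antisymm
  · refine Set.iUnion_subset fun β => ?_
    exact hWU _ (htU _ (σ.symm β).2)
  · intro x hx
    obtain ⟨y, hyt, hxy⟩ := Set.mem_iUnion₂.1 (htcov hx)
    refine Set.mem_iUnion.2 ⟨σ ⟨y, hyt⟩, ?_⟩
    simpa using hxy

/-- Constructibility in an affine open `U` of `W ∩ f⁻¹ R`. -/
theorem isConstructible_preimage_inter {X Y : Scheme.{u}} (f : X ⟶ Y) (U : X.Opens)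
    (hU : IsAffineOpen U) (W : X.Opens) (hW : IsAffineOpen W) (hWU : W ≤ U) (V : Y.Opens)
    (hWV : W ≤ f ⁻¹ᵁ V) (R : Set Y)
    (hR : Topology.IsConstructible ((Subtype.val : ↥(V : Set Y) → Y) ⁻¹' R)) :
    Topology.IsConstructible
      ((Subtype.val : ↥(U : Set X) → X) ⁻¹' ((W : Set X) ∩ f.base ⁻¹' R)) := by
  let φ : W.toScheme ⟶ V.toScheme := f.resLE V W hWV
  let ι : W.toScheme ⟶ U.toScheme := X.homOfLE hWU
  have h1 : Topology.IsConstructible (φ.base ⁻¹' ((Subtype.val : ↥(V : Set Y) → Y) ⁻¹' R)) :=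
    φ.isConstructible_preimage hR
  haveI : IsAffine W.toScheme := hW
  haveI : IsAffine U.toScheme := hU
  have hretro : IsRetrocompact (Set.range ι.base) :=
    (isCompact_range ι.continuous).isRetrocompact ι.isOpenEmbedding.isOpen_range
  have h2 := h1.image_of_isOpenEmbedding ι.isOpenEmbedding hretro
  have key1 : ∀ w : W.toScheme, (φ.base w : ↥(V : Set Y)).1 = f.base w.1 := fun w =>
    congr($(f.resLE_comp_ι hWV).base w)
  have key2 : ∀ w : W.toScheme, (ι.base w : ↥(U : Set X)).1 = w.1 := fun w =>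
    X.homOfLE_apply hWU w
  have hset : (ι.base '' (φ.base ⁻¹' ((Subtype.val : ↥(V : Set Y) → Y) ⁻¹' R)) : Set U.toScheme) =
      ((Subtype.val : ↥(U : Set X) → X) ⁻¹' ((W : Set X) ∩ f.base ⁻¹' R)) := by
    ext y
    constructor
    · rintro ⟨w, hw, rfl⟩
      refine ⟨?_, ?_⟩
      · exact Set.mem_of_eq_of_mem (key2 w) w.2
      · have h3 : f.base (ι.base w : ↥(U : Set X)).1 = (φ.base w : ↥(V : Set Y)).1 := by
          rw [key1 w]
          exact congrArg f.base (key2 w)
        change f.base (ι.base w : ↥(U : Set X)).1 ∈ R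
        exact Set.mem_of_eq_of_mem h3 hw
    · rintro ⟨hyW, hyR⟩
      refine ⟨⟨y.1, hyW⟩, ?_, ?_⟩
      · change (φ.base ⟨y.1, hyW⟩ : ↥(V : Set Y)).1 ∈ R
        exact Set.mem_of_eq_of_mem (key1 (⟨y.1, hyW⟩ : W.toScheme)) hyR
      · exact Subtype.ext (key2 _)
  rw [hset] at h2
  exact h2

/-- (G) Adapted strata pull back along a morphism of schemes. -/
theorem adaptedP_pull {X Y : Scheme.{u}} (f : X ⟶ Y) (P : ∀ {T : Scheme.{u}}, (T ⟶ Y) → Prop)
    (hP : ∀ {T T' : Scheme.{u}} (g : T ⟶ Y) (h : T' ⟶ T), P g → P (h ≫ g))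
    (hY : ∀ V : Y.Opens, IsAffineOpen V → AdaptedP P (V : Set Y)) (U : X.Opens)
    (hU : IsAffineOpen U) :
    AdaptedP (fun {T : Scheme.{u}} (g' : T ⟶ X) => P (g' ≫ f)) (U : Set X) := by
  classical
  obtain ⟨m, W, V, hWaff, hVaff, hWU, hWV, hcov⟩ := exists_cover f U hU
  have hstr := fun β => hY (V β) (hVaff β)
  choose n T g hgimm hgcons hgdisj hgunion hgP using hstr
  let Ws : Fin m → Set X := fun β => (W β : Set X)
  let A : Fin m → Set X := disjointed Ws
  have hA_sub : ∀ β, A β ⊆ Ws β := fun β => disjointed_le Ws β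
  have hA_eq : ∀ β, A β = Ws β \ ⋃ β' ∈ Finset.Iio β, Ws β' := by
    intro β
    change disjointed Ws β = _
    rw [disjointed_apply, Finset.sup_set_eq_biUnion]
  have hA_lc : ∀ β, IsLocallyClosed (A β) := by
    intro β
    rw [hA_eq, Set.sdiff_eq]
    refine (W β).2.isLocallyClosed.inter (IsClosed.isLocallyClosed ?_)
    rw [isClosed_compl_iff]
    exact isOpen_biUnion fun β' _ => (W β').2
  have hA_disj : Pairwise (fun β β' => Disjoint (A β) (A β')) := disjoint_disjointed Ws
  have hA_union : (⋃ β, A β) = (U : Set X) := by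
    rw [← hcov]
    exact iUnion_disjointed
  -- constructibility of the pieces
  have hWc : ∀ β, Topology.IsConstructible ((Subtype.val : ↥(U : Set X) → X) ⁻¹' Ws β) := by
    intro β
    have := isConstructible_preimage_inter f U hU (W β) (hWaff β) (hWU β) (V β) (hWV β) Set.univ
      (by rw [Set.preimage_univ]; exact Topology.IsConstructible.univ)
    rwa [Set.preimage_univ, Set.inter_univ] at this
  have hAc : ∀ β, Topology.IsConstructible ((Subtype.val : ↥(U : Set X) → X) ⁻¹' A β) := by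
    intro β
    rw [hA_eq, Set.preimage_sdiff, Set.preimage_iUnion₂]
    exact (hWc β).sdiff (Topology.IsConstructible.biUnion (Finset.finite_toSet _)
      fun β' _ => hWc β')
  -- the strata
  have hstratum := fun (p : Σ β : Fin m, Fin (n β)) =>
    exists_stratum f (g p.1 p.2) (hgimm p.1 p.2) (A p.1) (hA_lc p.1)
  choose Z e t heimm herange hefac using hstratum
  let N := Fintype.card (Σ β : Fin m, Fin (n β))
  let σ : Fin N ≃ Σ β : Fin m, Fin (n β) := (Fintype.equivFin _).symm
  refine ⟨N, fun k => Z (σ k), fun k => e (σ k), fun k => heimm _, ?_, ?_, ?_, ?_⟩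
  · -- constructible
    intro k
    rw [herange]
    have h1 := isConstructible_preimage_inter f U hU (W (σ k).1) (hWaff _) (hWU _) (V (σ k).1)
      (hWV _) (Set.range (g (σ k).1 (σ k).2).base) (hgcons _ _)
    have h2 := (hAc (σ k).1).inter h1
    have hset : A (σ k).1 ∩ f.base ⁻¹' Set.range (g (σ k).1 (σ k).2).base =
        A (σ k).1 ∩ (Ws (σ k).1 ∩ f.base ⁻¹' Set.range (g (σ k).1 (σ k).2).base) := by
      ext x
      constructor
      · rintro ⟨h1, h2⟩
        exact ⟨h1, hA_sub _ h1, h2⟩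
      · rintro ⟨h1, -, h2⟩
        exact ⟨h1, h2⟩
    rw [hset, Set.preimage_inter]
    exact h2
  · -- pairwise disjoint
    intro k k' hkk'
    change Disjoint (Set.range (e (σ k)).base) (Set.range (e (σ k')).base)
    rw [herange, herange]
    have hne : σ k ≠ σ k' := fun h => hkk' (σ.injective h)
    generalize σ k = p at hne ⊢
    generalize σ k' = p' at hne ⊢
    obtain ⟨β, i⟩ := p
    obtain ⟨β', i'⟩ := p'
    by_cases hβ : β = β'
    · subst hβ
      have hii' : i ≠ i' := fun h => hne (by rw [h])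
      rw [Set.disjoint_iff]
      rintro x ⟨⟨-, hx1⟩, ⟨-, hx2⟩⟩
      exact Set.disjoint_iff.1 (hgdisj β hii') ⟨hx1, hx2⟩
    · exact ((hA_disj hβ).mono Set.inter_subset_left Set.inter_subset_left)
  · -- union
    apply Set.Subset.antisymm
    · refine Set.iUnion_subset fun k => ?_
      rw [herange, ← hA_union]
      exact Set.inter_subset_left.trans (Set.subset_iUnion A _)
    · intro x hx
      rw [← hA_union] at hx
      obtain ⟨β, hxβ⟩ := Set.mem_iUnion.1 hx
      have hxV : f.base x ∈ (V β : Set Y) := hWV β (hA_sub β hxβ)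
      rw [← hgunion β] at hxV
      obtain ⟨i, hxi⟩ := Set.mem_iUnion.1 hxV
      refine Set.mem_iUnion.2 ⟨σ.symm ⟨β, i⟩, ?_⟩
      rw [herange, Equiv.apply_symm_apply]
      exact ⟨hxβ, hxi⟩
  · -- the predicate
    intro k
    change P (e (σ k) ≫ f)
    rw [hefac]
    exact hP _ _ (hgP _ _)

end Groth.Agent.H60.CM_G
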