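import Mathlib

/-!
# Primes of coheight one avoiding an element (Noetherian local rings)
-/

set_option autoImplicit false
set_option linter.style.haveILetI false

namespace Groth.Agent.H60.CoheightOne

/-- A Noetherian domain in which every nonzero prime contains a fixed nonzero element `c`, and
with a prime `M` containing `c`: every nonzero prime below `M` equals `M`. -/
theorem eq_of_forall_mem {D : Type*} [CommRing D] [IsDomain D] [IsNoetherianRing D]
    (c : D) (hc0 : c ≠ 0) (hD : ∀ Q : Ideal D, Q.IsPrime → Q ≠ ⊥ → c ∈ Q)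
    (M : Ideal D) [hM : M.IsPrime] (hcM : c ∈ M)
    (P : Ideal D) [hP : P.IsPrime] (hP0 : P ≠ ⊥) (hPM : P ≤ M) : P = M := by
  classical
  by_contra hne
  have hlt : P < M := lt_of_le_of_ne hPM hne
  have hbotP : (⊥ : Ideal D) < P := bot_lt_iff_ne_bot.mpr hP0
  haveI : (⊥ : Ideal D).IsPrime := Ideal.isPrime_bot
  have h1 : (⊥ : Ideal D).height < P.height := Ideal.height_strict_mono_of_isPrime hbotP
  have h2 : P.height < M.height := Ideal.height_strict_mono_of_isPrime hlt
  have hM2 : ¬ M.height ≤ 1 := by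
    intro h
    have h3 : P.height < 1 := lt_of_lt_of_le h2 h
    have h4 : P.height = 0 := Order.lt_one_iff.mp h3
    rw [h4] at h1
    exact absurd h1 (not_lt.mpr (zero_le))
  -- the minimal primes over `c`
  have hfin : ((Ideal.span {c} : Ideal D).minimalPrimes).Finite :=
    Ideal.finite_minimalPrimes_of_isNoetherianRing D _
  have hspanM : Ideal.span {c} ≤ M := (Ideal.span_singleton_le_iff_mem _).mpr hcM
  obtain ⟨Q₀, hQ₀, -⟩ := Ideal.exists_minimalPrimes_le hspanM
  have havoid : ¬ ((M : Set D) ⊆ ⋃ Q ∈ ((hfin.toFinset : Finset (Ideal D)) : Set (Ideal D)),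
      ((fun Q : Ideal D => Q) Q : Set D)) := by
    rw [Ideal.subset_union_prime (f := fun Q : Ideal D => Q) Q₀ Q₀]
    · rintro ⟨Q, hQ, hMQ⟩
      have hQ' : Q ∈ (Ideal.span {c} : Ideal D).minimalPrimes := hfin.mem_toFinset.mp hQ
      have h5 : Q.height ≤ 1 :=
        Ideal.height_le_one_of_isPrincipal_of_mem_minimalPrimes (Ideal.span {c}) Q hQ'
      exact hM2 ((Ideal.height_mono hMQ).trans h5)
    · intro Q hQ _ _
      exact (hfin.mem_toFinset.mp hQ).1.1
  obtain ⟨b, hbM, hb⟩ := Set.not_subset.mp havoid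
  have hb' : ∀ Q ∈ (Ideal.span {c} : Ideal D).minimalPrimes, b ∉ Q := by
    intro Q hQ hbQ
    apply hb
    simp only [Set.mem_iUnion]
    exact ⟨Q, by simpa using hQ, hbQ⟩
  have hb0 : b ≠ 0 := by
    intro h0
    exact hb' Q₀ hQ₀ (h0 ▸ Q₀.zero_mem)
  have hspanb : Ideal.span {b} ≤ M := (Ideal.span_singleton_le_iff_mem _).mpr hbM
  obtain ⟨Q', hQ', -⟩ := Ideal.exists_minimalPrimes_le hspanb
  haveI hQ'p : Q'.IsPrime := hQ'.1.1
  have hbQ' : b ∈ Q' := hQ'.1.2 (Ideal.mem_span_singleton_self b)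
  have hQ'0 : Q' ≠ ⊥ := by
    intro h0
    rw [h0] at hbQ'
    exact hb0 ((Ideal.mem_bot).mp hbQ')
  have hcQ' : c ∈ Q' := hD Q' hQ'p hQ'0
  obtain ⟨Q, hQ, hQQ'⟩ := Ideal.exists_minimalPrimes_le
    ((Ideal.span_singleton_le_iff_mem _).mpr hcQ' : Ideal.span {c} ≤ Q')
  haveI hQp : Q.IsPrime := hQ.1.1
  have hcQ : c ∈ Q := hQ.1.2 (Ideal.mem_span_singleton_self c)
  have hQ0 : Q ≠ ⊥ := by
    intro h0
    rw [h0] at hcQ
    exact hc0 ((Ideal.mem_bot).mp hcQ)
  have hQ'h : Q'.height ≤ 1 :=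
    Ideal.height_le_one_of_isPrincipal_of_mem_minimalPrimes (Ideal.span {b}) Q' hQ'
  rcases eq_or_lt_of_le hQQ' with heq | hlt'
  · exact hb' Q hQ (heq ▸ hbQ')
  · have h6 : (⊥ : Ideal D).height < Q.height :=
      Ideal.height_strict_mono_of_isPrime (bot_lt_iff_ne_bot.mpr hQ0)
    have h7 : Q.height < Q'.height := Ideal.height_strict_mono_of_isPrime hlt'
    have h8 : Q.height < 1 := lt_of_lt_of_le h7 hQ'h
    have h9 : Q.height = 0 := Order.lt_one_iff.mp h8
    rw [h9] at h6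
    exact absurd h6 (not_lt.mpr (zero_le))

/-- In a Noetherian local ring, an element outside a non-maximal prime is avoided by a prime of
coheight one. -/
theorem exists_prime_coheight_one {A : Type*} [CommRing A] [IsNoetherianRing A] [IsLocalRing A]
    (a : A) (p₀ : Ideal A) [hp₀ : p₀.IsPrime] (ha : a ∉ p₀)
    (hne : p₀ ≠ IsLocalRing.maximalIdeal A) :
    ∃ p' : Ideal A, p'.IsPrime ∧ a ∉ p' ∧ p' ≠ IsLocalRing.maximalIdeal A ∧
      ∀ P : Ideal A, P.IsPrime → p' < P → P = IsLocalRing.maximalIdeal A := by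
  classical
  obtain ⟨b, hbm, hbp⟩ : ∃ b ∈ IsLocalRing.maximalIdeal A, b ∉ p₀ := by
    by_contra h
    simp only [not_exists, not_and, not_not] at h
    exact hne (le_antisymm (IsLocalRing.le_maximalIdeal hp₀.ne_top) (fun x hx => h x hx))
  obtain ⟨c, hc⟩ : ∃ c : A, c = a * b := ⟨_, rfl⟩
  have hcm : c ∈ IsLocalRing.maximalIdeal A := hc ▸ Ideal.mul_mem_left _ _ hbm
  have hcp : c ∉ p₀ := fun h => (hp₀.mem_or_mem (hc ▸ h)).elim ha hbp
  obtain ⟨p', ⟨hp'prime, hcp'⟩, hmax⟩ :=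
    (set_has_maximal_iff_noetherian.mpr (inferInstance : IsNoetherian A A))
      {p : Ideal A | p.IsPrime ∧ c ∉ p} ⟨p₀, hp₀, hcp⟩
  haveI := hp'prime
  have hp'ne : p' ≠ IsLocalRing.maximalIdeal A := fun h => hcp' (h ▸ hcm)
  refine ⟨p', hp'prime, fun h => hcp' (hc ▸ Ideal.mul_mem_right _ _ h), hp'ne, ?_⟩
  intro P hP hlt
  haveI := hP
  have habove : ∀ Q : Ideal A, Q.IsPrime → p' < Q → c ∈ Q := fun Q hQ hlt' => by
    by_contra h
    exact hmax Q ⟨hQ, h⟩ hlt'
  -- pass to the quotient domain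
  let π := Ideal.Quotient.mk p'
  have hπ : Function.Surjective π := Ideal.Quotient.mk_surjective
  have hker : RingHom.ker π = p' := Ideal.mk_ker
  haveI : IsDomain (A ⧸ p') := Ideal.Quotient.isDomain p'
  have hc0 : π c ≠ 0 := fun h => hcp' (Ideal.Quotient.eq_zero_iff_mem.mp h)
  have hD : ∀ Q : Ideal (A ⧸ p'), Q.IsPrime → Q ≠ ⊥ → π c ∈ Q := by
    intro Q hQ hQ0
    haveI := hQ
    have hle : p' ≤ Q.comap π := by
      intro x hx
      show π x ∈ Q
      rw [Ideal.Quotient.eq_zero_iff_mem.mpr hx]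
      exact Q.zero_mem
    have hlt' : p' < Q.comap π := by
      refine lt_of_le_of_ne hle ?_
      intro heq
      apply hQ0
      rw [eq_bot_iff]
      intro x hx
      obtain ⟨x₀, rfl⟩ := hπ x
      have : x₀ ∈ Q.comap π := hx
      rw [← heq] at this
      exact (Ideal.mem_bot).mpr (Ideal.Quotient.eq_zero_iff_mem.mpr this)
    exact habove (Q.comap π) (Ideal.comap_isPrime π Q) hlt'
  haveI hMprime : ((IsLocalRing.maximalIdeal A).map π).IsPrime :=
    Ideal.map_isPrime_of_surjective hπ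
      (hker.le.trans (IsLocalRing.le_maximalIdeal hp'prime.ne_top))
  haveI hPprime : (P.map π).IsPrime :=
    Ideal.map_isPrime_of_surjective hπ (hker.le.trans hlt.le)
  have hcM : π c ∈ (IsLocalRing.maximalIdeal A).map π := Ideal.mem_map_of_mem π hcm
  have hP0 : P.map π ≠ ⊥ := by
    obtain ⟨x, hxP, hxp'⟩ := SetLike.exists_of_lt hlt
    intro h0
    have : π x ∈ P.map π := Ideal.mem_map_of_mem π hxP
    rw [h0] at this
    exact hxp' (Ideal.Quotient.eq_zero_iff_mem.mp ((Ideal.mem_bot).mp this))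
  have hPM : P.map π ≤ (IsLocalRing.maximalIdeal A).map π :=
    Ideal.map_mono (IsLocalRing.le_maximalIdeal hP.ne_top)
  have heq := eq_of_forall_mem (π c) hc0 hD ((IsLocalRing.maximalIdeal A).map π) hcM
    (P.map π) hP0 hPM
  have h1 := congrArg (Ideal.comap π) heq
  rw [Ideal.comap_map_of_surjective π hπ, Ideal.comap_map_of_surjective π hπ] at h1
  have hbot : Ideal.comap π ⊥ = p' := by rw [← RingHom.ker_eq_comap_bot, hker]
  rw [hbot, sup_eq_left.mpr hlt.le,
    sup_eq_left.mpr (IsLocalRing.le_maximalIdeal hp'prime.ne_top)] at h1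
  exact h1

end Groth.Agent.H60.CoheightOne
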