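import Mathlib
import Groth.Agent.H9.DimFormulaGen

/-!
# The relative dimension formula for a specialization, and induced dimension functions
-/

set_option autoImplicit false
set_option linter.style.haveILetI false
universe u

open AlgebraicGeometry CategoryTheory

namespace Groth.Agent.H60.DimFunX

open Groth.Agent.H9.DimFormulaRing Groth.Agent.H9.DimFormulaScheme Groth.Agent.H9.DimFormulaLoc
  Groth.Agent.H9.DimFormulaEq Groth.Agent.H71.DimFun Groth.Agent.H9.DimFormulaGen

set_option backward.isDefEq.respectTransparency.types false in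
/-- **Relative dimension formula for a specialization** `ξ ⤳ x` in `X`, for `f : X ⟶ Y` locally of
finite type with `O_{Y, f x}` universally catenary:
`dim O_{X,x}/p_ξ + trdeg κ(x)/κ(f x) = dim O_{Y,f x}/p_{f ξ} + trdeg κ(ξ)/κ(f ξ)`. -/
theorem rel_eq {X Y : Scheme.{u}} [IsLocallyNoetherian Y] (f : X ⟶ Y) [LocallyOfFiniteType f]
    (x ξ : X) (hsp : ξ ⤳ x)
    (hcat : CAlg.IsUniversallyCatenary (Y.presheaf.stalk (f.base x))) (n E : ℕ)
    (hn : @Algebra.trdeg (Y.residueField (f.base x)) (X.residueField x) _ _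
        (f.residueFieldMap x).hom.toAlgebra = (n : Cardinal.{u}))
    (hE : @Algebra.trdeg (Y.residueField (f.base ξ)) (X.residueField ξ) _ _
        (f.residueFieldMap ξ).hom.toAlgebra = (E : Cardinal.{u}))
    (v : PrimeSpectrum (X.presheaf.stalk x)) (hv : X.fromSpecStalk x v = ξ)
    (w : PrimeSpectrum (Y.presheaf.stalk (f.base x)))
    (hw : Y.fromSpecStalk (f.base x) w = f.base ξ) :
    ((Order.coheight v : ℕ∞) : WithBot ℕ∞) + n = ((Order.coheight w : ℕ∞) : WithBot ℕ∞) + E := by
  obtain ⟨V, hV, hsV, -⟩ :=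
    exists_isAffineOpen_mem_and_subset (X := Y) (x := f x) (U := ⊤) trivial
  obtain ⟨U, hU, hxU, e⟩ :=
    exists_isAffineOpen_mem_and_subset (X := X) (x := x) (U := f ⁻¹ᵁ V) hsV
  have hξU : ξ ∈ U := hsp.mem_open U.2 hxU
  obtain ⟨q, rfl⟩ : ∃ q : Spec Γ(X, U), hU.fromSpec q = x :=
    ⟨hU.primeIdealOf ⟨x, hxU⟩, hU.fromSpec_primeIdealOf ⟨x, hxU⟩⟩
  obtain ⟨Q, rfl⟩ : ∃ Q : Spec Γ(X, U), hU.fromSpec Q = ξ :=
    ⟨hU.primeIdealOf ⟨ξ, hξU⟩, hU.fromSpec_primeIdealOf ⟨ξ, hξU⟩⟩
  letI := (f.appLE V U e).hom.toAlgebra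
  haveI : Algebra.FiniteType Γ(Y, V) Γ(X, U) := f.finiteType_appLE hV hU e
  haveI : IsNoetherianRing Γ(Y, V) := IsLocallyNoetherian.component_noetherian ⟨V, hV⟩
  haveI : IsNoetherianRing Γ(X, U) := Algebra.FiniteType.isNoetherianRing Γ(Y, V) Γ(X, U)
  have hQq : Q.asIdeal ≤ q.asIdeal := by
    have h1 : Q ⤳ q := hU.fromSpec.isOpenEmbedding.isInducing.specializes_iff.mp hsp
    exact (PrimeSpectrum.le_iff_specializes Q q).mpr h1
  -- universally catenary localization
  have huc : CAlg.IsUniversallyCatenary (Localization.AtPrime (q.asIdeal.under Γ(Y, V))) := by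
    rw [map_fromSpec f hU hV e q] at hcat
    have hy : hV.fromSpec (Spec.map (f.appLE V U e) q) ∈ V := by
      have : hV.fromSpec (Spec.map (f.appLE V U e) q) ∈ Set.range hV.fromSpec := ⟨_, rfl⟩
      rwa [hV.range_fromSpec] at this
    letI := TopCat.Presheaf.algebra_section_stalk Y.presheaf
      ⟨hV.fromSpec (Spec.map (f.appLE V U e) q), hy⟩
    haveI hloc : IsLocalization (q.asIdeal.under Γ(Y, V)).primeCompl
        (Y.presheaf.stalk (hV.fromSpec (Spec.map (f.appLE V U e) q))) :=
      hV.isLocalization_stalk' (Spec.map (f.appLE V U e) q) hy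
    exact isUniversallyCatenary_of_ringEquiv
      (IsLocalization.algEquiv (q.asIdeal.under Γ(Y, V)).primeCompl
        (Y.presheaf.stalk (hV.fromSpec (Spec.map (f.appLE V U e) q)))
        (Localization.AtPrime (q.asIdeal.under Γ(Y, V)))).toRingEquiv hcat
  have key := quot_eq_local (A := Γ(Y, V)) Q.asIdeal q.asIdeal hQq huc
  have h1 : (((q.asIdeal.map (Ideal.Quotient.mk Q.asIdeal)).height : ℕ∞) : WithBot ℕ∞) =
      ((Order.coheight v : ℕ∞) : WithBot ℕ∞) :=
    height_map_mk_eq_coheight hU q Q hQq _ rfl v hv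
  have h2 : (((q.asIdeal.under Γ(Y, V)).map
      (Ideal.Quotient.mk (Q.asIdeal.under Γ(Y, V)))).height : WithBot ℕ∞) =
      ((Order.coheight w : ℕ∞) : WithBot ℕ∞) := by
    refine height_map_mk_eq_coheight hV (Spec.map (f.appLE V U e) q)
      (Spec.map (f.appLE V U e) Q) (Ideal.comap_mono hQq) _ (map_fromSpec f hU hV e q) w ?_
    rw [hw, map_fromSpec f hU hV e]
  have hn' : td Γ(Y, V) q.asIdeal = n := by
    have h3 := trdeg_residueFieldMap_eq_td f hU hV e q
    have h4 : (td Γ(Y, V) q.asIdeal : Cardinal.{u}) = (n : Cardinal.{u}) := h3.symm.trans hn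
    exact_mod_cast h4
  have hE' : td Γ(Y, V) Q.asIdeal = E := by
    have h3 := trdeg_residueFieldMap_eq_td f hU hV e Q
    have h4 : (td Γ(Y, V) Q.asIdeal : Cardinal.{u}) = (E : Cardinal.{u}) := h3.symm.trans hE
    exact_mod_cast h4
  rw [hn', hE'] at key
  rw [← h1, ← h2]
  exact_mod_cast key

/-- The function induced from a dimension function on a universally catenary locally Noetherian
base along a morphism locally of finite type is a dimension function. -/
theorem isDimFun_induced {X S : Scheme.{u}} (f : X ⟶ S) [LocallyOfFiniteType f] (δ : ↥S → ℤ)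
    (hS : Cyc.IsSetup S δ) (δX : ↥X → ℤ) (hδ : Cyc.DeltaCompat f δX δ) : Cyc.IsDimFun X δX := by
  obtain ⟨hN, hcat, hdim⟩ := hS
  haveI := hN
  intro x y hxy hne
  obtain ⟨v, hv⟩ := exists_of_specializes X hxy
  have hfxy : f.base x ⤳ f.base y := hxy.map f.continuous
  obtain ⟨w, hw⟩ := exists_of_specializes S hfxy
  obtain ⟨n, hn1, hn2⟩ := hδ y
  obtain ⟨E, hE1, hE2⟩ := hδ x
  obtain ⟨d, hd1, hd2⟩ := delta_eq_add_coheight S δ hdim (f.base y) w
  rw [hw] at hd2
  have hrel := rel_eq f y x hxy (hcat _) n E hn1 hE1 v hv w hw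
  rw [hd1] at hrel
  obtain ⟨c, hc⟩ : ∃ c : ℕ, Order.coheight v = c := by
    have hfin : Order.coheight v ≠ ⊤ := by
      intro h
      rw [h] at hrel
      have h1 : (((⊤ : ℕ∞) : WithBot ℕ∞) + (n : WithBot ℕ∞)) = ((⊤ : ℕ∞) : WithBot ℕ∞) := by
        rw [← WithBot.coe_natCast, ← WithBot.coe_add, top_add]
      rw [h1] at hrel
      have h2 : (((d : ℕ∞) : WithBot ℕ∞) + (E : WithBot ℕ∞)) = (((d + E : ℕ) : ℕ∞) : WithBot ℕ∞) := by
        push_cast; rfl
      rw [h2] at hrel
      have h3 : (⊤ : ℕ∞) = ((d + E : ℕ) : ℕ∞) := WithBot.coe_injective hrel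
      exact ENat.coe_ne_top _ h3.symm
    exact ⟨_, (ENat.natCast_toNat hfin).symm⟩
  rw [hc] at hrel
  have hcn : c + n = d + E := by exact_mod_cast hrel
  have hδdiff : δX x = δX y + c := by
    rw [hE2, hn2]
    have : f x = f.base x := rfl
    have hd2' : δ (f x) = δ (f y) + d := hd2
    rw [hd2']
    have : (c : ℤ) + n = d + E := by exact_mod_cast hcn
    omega
  set m : PrimeSpectrum (X.presheaf.stalk y) := IsLocalRing.closedPoint _ with hm
  have hmy : X.fromSpecStalk y m = y := Scheme.fromSpecStalk_closedPoint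
  have hle_m : ∀ r : PrimeSpectrum (X.presheaf.stalk y), r ≤ m := fun r =>
    IsLocalRing.le_maximalIdeal r.2.ne_top
  have hvne : v ≠ m := by
    intro h
    apply hne
    rw [← hv, h, hmy]
  have hvm : v < m := lt_of_le_of_ne (hle_m v) hvne
  have hc1 : 1 ≤ c := by
    have h0 : Order.coheight v ≠ 0 := by
      rw [Ne, Order.coheight_eq_zero]
      intro hmax
      exact hvm.not_ge (hmax hvm.le)
    rw [hc] at h0
    have : c ≠ 0 := by exact_mod_cast h0
    omega
  refine ⟨by omega, fun himm => ?_⟩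
  have hc_le : Order.coheight v ≤ 1 := by
    rw [Order.coheight_eq_iSup_gt_coheight]
    refine iSup₂_le fun r hr => ?_
    have hz1 : x ⤳ X.fromSpecStalk y r := by
      rw [← hv]
      exact (fromSpecStalk_specializes_iff X y v r).mpr hr.le
    have hz2 : X.fromSpecStalk y r ⤳ y := fromSpecStalk_specializes X y r
    have hrm : r = m := by
      rcases himm _ hz1 hz2 with h | h
      · exfalso
        have : r = v := fromSpecStalk_injective X y (h.trans hv.symm)
        exact hr.ne this.symm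
      · exact fromSpecStalk_injective X y (h.trans hmy.symm)
    have hmax : Order.coheight r = 0 := by
      rw [Order.coheight_eq_zero, hrm]
      intro r' _
      exact hle_m r'
    rw [hmax, zero_add]
  rw [hc] at hc_le
  have : c ≤ 1 := by exact_mod_cast hc_le
  rw [hδdiff]
  have : c = 1 := by omega
  rw [this]
  rfl

end Groth.Agent.H60.DimFunX
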