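import Mathlib
import Groth.Agent.H54.FibreDimTdeg
import Groth.Agent.H54.DimClosure
import Groth.Agent.H29.FiberStalkAt
import Groth.Agent.S2599

/-!
# Scheme-level miracle flatness over a field

`tdeg_add_coheight_eq`: on an equidimensional scheme locally of finite type over a field,
`trdeg κ(x) + dim O_{X,x} = dim X` at every point.
`flat_stalkMap_of_dim`: pointwise miracle flatness from the dimension identities.
-/

set_option autoImplicit false
universe u

open CategoryTheory CategoryTheory.Limits AlgebraicGeometry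

namespace Groth.Agent.H60.Miracle

open Groth.Agent.H54

/-- On an equidimensional scheme of dimension `e`, locally of finite type over a field,
`trdeg κ(x) + dim O_{X,x} = e` at every point. -/
theorem tdeg_add_coheight_eq {k : Type u} [Field k] {X : Scheme.{u}}
    (s : X ⟶ Spec (CommRingCat.of k)) [LocallyOfFiniteType s] (e : ℕ)
    (hX : ∀ Z ∈ irreducibleComponents (X : Type u), topologicalKrullDim Z = e) (x : X) :
    (tdeg s x : ℕ∞) + Order.coheight x = e := by
  have hgen : ∀ ξ : X, closure ({ξ} : Set X) ∈ irreducibleComponents (X : Type u) →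
      tdeg s ξ = e := by
    intro ξ hξ
    have h1 := topologicalKrullDim_closure_singleton s ξ
    rw [hX _ hξ] at h1
    exact_mod_cast h1.symm
  have hle : ∀ y : X, tdeg s y ≤ e := by
    intro y
    obtain ⟨ξ, hξy, hξ⟩ := exists_generic_specializes y
    have h := tdeg_le_of_specializes s hξy
    rw [hgen ξ hξ] at h
    exact h
  apply le_antisymm
  · obtain ⟨b, hb⟩ : ∃ b : ℕ, Order.coheight x = b :=
      ⟨_, (ENat.coe_toNat (coheight_ne_top s x)).symm⟩
    have h1 := localDim_eq s x b hb
    have h2 : FlatMor.localDim X x ≤ topologicalKrullDim X :=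
      Groth.Agent.H9.FibDim.localDim_le_dim X x
    have h3 : topologicalKrullDim X ≤ e := topologicalKrullDim_le_of_forall_tdeg_le s e hle
    rw [hb]
    have h4 : ((tdeg s x + b : ℕ) : WithBot ℕ∞) ≤ (e : WithBot ℕ∞) := by
      rw [← h1]; exact h2.trans h3
    have h5 : tdeg s x + b ≤ e := by exact_mod_cast h4
    exact_mod_cast h5
  · obtain ⟨ξ, hξx, hξ⟩ := exists_generic_specializes x
    have h := tdeg_le_tdeg_add_coheight s hξx
    rw [hgen ξ hξ] at h
    exact h

/-- Transport of the equidimensionality hypothesis along a homeomorphism. -/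
theorem equidim_of_homeomorph {A B : Type u} [TopologicalSpace A] [TopologicalSpace B]
    (h : A ≃ₜ B) (n : WithBot ℕ∞)
    (hB : ∀ Z ∈ irreducibleComponents B, topologicalKrullDim Z = n) :
    ∀ Z ∈ irreducibleComponents A, topologicalKrullDim Z = n := by
  intro Z hZ
  have h1 : h '' Z ∈ irreducibleComponents B :=
    image_mem_irreducibleComponents_of_isPreirreducible_fiber h h.continuous h.isOpenMap
      (fun _ => (Set.subsingleton_singleton.preimage h.injective).isPreirreducible)
      h.surjective hZ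
  rw [← hB _ h1]
  exact IsHomeomorph.topologicalKrullDim_eq _ (h.image Z).isHomeomorph

/-- Pointwise miracle flatness: `O_{Y,y}` regular, `O_{X,x}` Cohen–Macaulay and
`dim O_{X,x} = dim O_{Y,y} + dim O_{X_y,x}` imply that `f` is flat at `x`. -/
theorem flat_stalkMap_of_dim_eq {X Y : Scheme.{u}} (f : X ⟶ Y) (x : X)
    [IsNoetherianRing (X.presheaf.stalk x)]
    (hY : IsRegularLocalRing (Y.presheaf.stalk (f.base x)))
    (hX : LocCoh.IsCohenMacaulayLocalRing (X.presheaf.stalk x))
    (hdim : ringKrullDim (X.presheaf.stalk x) = ringKrullDim (Y.presheaf.stalk (f.base x)) +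
      ringKrullDim ((f.fiber (f.base x)).presheaf.stalk (f.asFiber x))) :
    (f.stalkMap x).hom.Flat := by
  letI : Algebra (Y.presheaf.stalk (f.base x)) (X.presheaf.stalk x) := (f.stalkMap x).hom.toAlgebra
  haveI : IsLocalHom (algebraMap (Y.presheaf.stalk (f.base x)) (X.presheaf.stalk x)) :=
    inferInstanceAs (IsLocalHom (f.stalkMap x).hom)
  obtain ⟨eq⟩ := Groth.Agent.H29.FiberStalkAt.nonempty_fiberStalkEquiv f x
  have hfib : Module.supportDim (X.presheaf.stalk x)
      (EGA4.FibMod (Y.presheaf.stalk (f.base x)) (X.presheaf.stalk x) (X.presheaf.stalk x)) =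
      ringKrullDim ((f.fiber (f.base x)).presheaf.stalk (f.asFiber x)) := by
    have hI : EGA4.mB (Y.presheaf.stalk (f.base x)) (X.presheaf.stalk x) •
        (⊤ : Submodule (X.presheaf.stalk x) (X.presheaf.stalk x)) =
        EGA4.mB (Y.presheaf.stalk (f.base x)) (X.presheaf.stalk x) := by
      rw [smul_eq_mul, Ideal.mul_top]
    rw [Module.supportDim_eq_of_equiv (Submodule.quotEquivOfEq _ _ hI),
      Module.supportDim_quotient_eq_ringKrullDim]
    exact ringKrullDim_eq_of_ringEquiv eq
  exact Groth.Agent.S2599.result (Y.presheaf.stalk (f.base x)) (X.presheaf.stalk x)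
    (X.presheaf.stalk x) hX.supportDim_eq_depth
    (by rw [Module.supportDim_self_eq_ringKrullDim, hfib]; exact hdim)

/-- Miracle flatness at a point from the numerical identities. -/
theorem flat_stalkMap_of_tdeg {k : Type u} [Field k] {X Y : Scheme.{u}}
    (p : X ⟶ Spec (CommRingCat.of k)) (q : Y ⟶ Spec (CommRingCat.of k))
    [LocallyOfFiniteType p] [LocallyOfFiniteType q] (f : X ⟶ Y) [LocallyOfFiniteType f]
    (hf : f ≫ q = p) (x : X) [IsNoetherianRing (X.presheaf.stalk x)]
    (hY : IsRegularLocalRing (Y.presheaf.stalk (f.base x)))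
    (hX : LocCoh.IsCohenMacaulayLocalRing (X.presheaf.stalk x))
    (e d : ℕ) (hde : d ≤ e)
    (hx : (tdeg p x : ℕ∞) + Order.coheight x = e)
    (hy : (tdeg q (f.base x) : ℕ∞) + Order.coheight (f.base x) = d)
    (hz : (tdeg (fiberQ f (f.base x)) (f.asFiber x) : ℕ∞) + Order.coheight (f.asFiber x) =
      (e - d : ℕ)) :
    (f.stalkMap x).hom.Flat := by
  apply flat_stalkMap_of_dim_eq f x hY hX
  rw [ringKrullDim_stalk_eq_coheight, ringKrullDim_stalk_eq_coheight,
    ringKrullDim_stalk_eq_coheight]
  have hadd := tdeg_fibre_add p q f hf (f.base x) (f.asFiber x)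
  rw [f.fiberι_asFiber x] at hadd
  obtain ⟨cx, hcx⟩ : ∃ c : ℕ, Order.coheight x = c :=
    ⟨_, (ENat.coe_toNat (coheight_ne_top p x)).symm⟩
  obtain ⟨cy, hcy⟩ : ∃ c : ℕ, Order.coheight (f.base x) = c :=
    ⟨_, (ENat.coe_toNat (coheight_ne_top q (f.base x))).symm⟩
  obtain ⟨cz, hcz⟩ : ∃ c : ℕ, Order.coheight (f.asFiber x) = c :=
    ⟨_, (ENat.coe_toNat (coheight_ne_top (fiberQ f (f.base x)) (f.asFiber x))).symm⟩
  rw [hcx] at hx ⊢
  rw [hcy] at hy ⊢
  rw [hcz] at hz ⊢
  have hx' : tdeg p x + cx = e := by exact_mod_cast hx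
  have hy' : tdeg q (f.base x) + cy = d := by exact_mod_cast hy
  have hz' : tdeg (fiberQ f (f.base x)) (f.asFiber x) + cz = e - d := by exact_mod_cast hz
  have : cx = cy + cz := by omega
  rw [this]
  norm_cast

end Groth.Agent.H60.Miracle
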