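import Mathlib
import Groth.Agent.H60.Miracle
import Groth.Agent.H25.DimLocal

/-!
# Dimension of fibres of flat morphisms between schemes of finite type over a field
-/

set_option autoImplicit false
universe u

open CategoryTheory CategoryTheory.Limits AlgebraicGeometry

namespace Groth.Agent.H60.FlatDim

open Groth.Agent.H54 Groth.Agent.H60.Miracle

/-- Dimension formula for a flat morphism at a point of a fibre:
`dim O_{X,x} = dim O_{Y,f x} + dim O_{X_s,z}`. -/
theorem coheight_eq_add_of_flat {X Y : Scheme.{u}} [IsLocallyNoetherian X] [IsLocallyNoetherian Y]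
    (f : X ⟶ Y) [Flat f] (s : Y) (z : f.fiber s) :
    ((Order.coheight (f.fiberι s z) : ℕ∞) : WithBot ℕ∞) =
      ((Order.coheight (f.base (f.fiberι s z)) : ℕ∞) : WithBot ℕ∞) +
        ((Order.coheight z : ℕ∞) : WithBot ℕ∞) := by
  obtain ⟨eq⟩ := Groth.Agent.H29.FiberStalkAt.nonempty_fiberStalkEquiv_of_eq f s z
    (f.fiberι s z) rfl
  have h := Groth.Agent.H25.DimLocal.ringKrullDim_eq_add_of_flat (f.stalkMap (f.fiberι s z)).hom
    (Flat.stalkMap f (f.fiberι s z))
  rw [ringKrullDim_eq_of_ringEquiv eq, ringKrullDim_stalk_eq_coheight,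
    ringKrullDim_stalk_eq_coheight, ringKrullDim_stalk_eq_coheight] at h
  exact h

/-- For an irreducible scheme locally of finite type over a field, the dimension is a natural
number `D` and `trdeg κ(y) + dim O_{Y,y} = D` everywhere. -/
theorem exists_dim_irreducible {k : Type u} [Field k] {Y : Scheme.{u}}
    (q : Y ⟶ Spec (CommRingCat.of k)) [LocallyOfFiniteType q] [IrreducibleSpace ↥Y] :
    ∃ D : ℕ, topologicalKrullDim ↥Y = (D : WithBot ℕ∞) ∧
      ∀ y : Y, (tdeg q y : ℕ∞) + Order.coheight y = D := by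
  have h1 := topologicalKrullDim_closure_singleton q (genericPoint Y)
  have h2 : closure ({genericPoint Y} : Set Y) = Set.univ := (genericPoint_spec Y)
  have huniv : topologicalKrullDim ↥(Set.univ : Set Y) = topologicalKrullDim ↥Y :=
    IsHomeomorph.topologicalKrullDim_eq _ (Homeomorph.Set.univ Y).isHomeomorph
  rw [h2, huniv] at h1
  refine ⟨tdeg q (genericPoint Y), h1, ?_⟩
  apply tdeg_add_coheight_eq q
  intro Z hZ
  rw [irreducibleComponents_eq_singleton, Set.mem_singleton_iff] at hZ
  subst hZ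
  rw [huniv, h1]

/-- A generic point of an irreducible component of a scheme. -/
theorem exists_generic_of_mem_irreducibleComponents {X : Scheme.{u}} (Z : Set X)
    (hZ : Z ∈ irreducibleComponents (X : Type u)) :
    ∃ ξ : X, closure ({ξ} : Set X) = Z := by
  have hirr : IsIrreducible Z := hZ.1
  have hcl : IsClosed Z := isClosed_of_mem_irreducibleComponents Z hZ
  exact ⟨hirr.genericPoint, hirr.closure_genericPoint hcl⟩

/-- For a flat morphism between schemes locally of finite type over a field whose target satisfies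
`trdeg κ(y) + dim O_{Y,y} = D` everywhere (e.g. equidimensional of dimension `D`),
equidimensionality of the source of dimension `D + n` is equivalent to
equidimensionality of all fibres of dimension `n`. -/
theorem equidim_iff_fibres_of_tdeg {k : Type u} [Field k] {X Y : Scheme.{u}}
    (qX : X ⟶ Spec (CommRingCat.of k)) (qY : Y ⟶ Spec (CommRingCat.of k))
    [LocallyOfFiniteType qX] [LocallyOfFiniteType qY]
    (f : X ⟶ Y) (hf : f ≫ qY = qX) [Flat f] (D n : ℕ)
    (hY : ∀ y : Y, (tdeg qY y : ℕ∞) + Order.coheight y = D) :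
    (∀ Z : Set ↥X, Z ∈ irreducibleComponents ↥X →
        topologicalKrullDim ↥Z = (D : WithBot ℕ∞) + (n : WithBot ℕ∞)) ↔
      ∀ (y : Y) (Z : Set ↥(f.fiber y)), Z ∈ irreducibleComponents ↥(f.fiber y) →
        topologicalKrullDim ↥Z = (n : WithBot ℕ∞) := by
  haveI : LocallyOfFiniteType f := by
    haveI : LocallyOfFiniteType (f ≫ qY) := by rw [hf]; infer_instance
    exact locallyOfFiniteType_of_comp f qY
  haveI : IsLocallyNoetherian Y := LocallyOfFiniteType.isLocallyNoetherian qY
  haveI : IsLocallyNoetherian X := LocallyOfFiniteType.isLocallyNoetherian qX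
  constructor
  · intro hX y Z hZ
    obtain ⟨z, hz⟩ := exists_generic_of_mem_irreducibleComponents Z hZ
    have hzc : closure ({z} : Set (f.fiber y)) ∈ irreducibleComponents ↥(f.fiber y) := by
      rw [hz]; exact hZ
    rw [← hz, topologicalKrullDim_closure_singleton (fiberQ f y) z]
    have hmax : Order.coheight z = 0 := Order.coheight_eq_zero.mpr (isMax_of_generic hzc)
    have hflat := coheight_eq_add_of_flat f y z
    have hadd := tdeg_fibre_add qX qY f hf y z
    have hx := tdeg_add_coheight_eq qX (D + n) (fun Z hZ => by rw [hX Z hZ]; norm_cast)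
      (f.fiberι y z)
    have hy := hY (f.base (f.fiberι y z))
    obtain ⟨cx, hcx⟩ : ∃ c : ℕ, Order.coheight (f.fiberι y z) = c :=
      ⟨_, (ENat.natCast_toNat (coheight_ne_top qX _)).symm⟩
    obtain ⟨cy, hcy⟩ : ∃ c : ℕ, Order.coheight (f.base (f.fiberι y z)) = c :=
      ⟨_, (ENat.natCast_toNat (coheight_ne_top qY _)).symm⟩
    rw [hcx, hcy, hmax] at hflat
    rw [hcx] at hx
    rw [hcy] at hy
    have h1 : cx = cy := by
      have h' : ((cx : ℕ∞) : WithBot ℕ∞) = ((cy : ℕ∞) : WithBot ℕ∞) := by
        rw [hflat]; simp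
      exact_mod_cast h'
    have hx' : tdeg qX (f.fiberι y z) + cx = D + n := by exact_mod_cast hx
    have hy' : tdeg qY (f.base (f.fiberι y z)) + cy = D := by exact_mod_cast hy
    have : tdeg (fiberQ f y) z = n := by omega
    rw [this]
  · intro hF Z hZ
    obtain ⟨ξ, hξ⟩ := exists_generic_of_mem_irreducibleComponents Z hZ
    have hξc : closure ({ξ} : Set X) ∈ irreducibleComponents ↥X := by
      rw [hξ]; exact hZ
    rw [← hξ, topologicalKrullDim_closure_singleton qX ξ]
    have hmax : Order.coheight ξ = 0 := Order.coheight_eq_zero.mpr (isMax_of_generic hξc)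
    -- the point of the fibre
    obtain ⟨w, hwz, hw⟩ := exists_generic_specializes (f.asFiber ξ)
    have hι : (f.fiberι (f.base ξ)).base (f.asFiber ξ) = ξ := f.fiberι_asFiber ξ
    have hwξ : (f.fiberι (f.base ξ)).base w = ξ := by
      have h1 : (f.fiberι (f.base ξ)).base w ⤳ (f.fiberι (f.base ξ)).base (f.asFiber ξ) :=
        hwz.map (f.fiberι (f.base ξ)).continuous
      rw [hι] at h1
      exact eq_of_specializes_generic hξc h1
    have hwz' : w = f.asFiber ξ :=
      (f.fiberι (f.base ξ)).isEmbedding.injective (hwξ.trans hι.symm)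
    subst hwz'
    have hdimF := hF (f.base ξ) _ hw
    rw [topologicalKrullDim_closure_singleton (fiberQ f (f.base ξ)) (f.asFiber ξ)] at hdimF
    have hn : tdeg (fiberQ f (f.base ξ)) (f.asFiber ξ) = n := by exact_mod_cast hdimF
    have hflat := coheight_eq_add_of_flat f (f.base ξ) (f.asFiber ξ)
    have hadd := tdeg_fibre_add qX qY f hf (f.base ξ) (f.asFiber ξ)
    rw [hι] at hflat hadd
    have hy := hY (f.base ξ)
    obtain ⟨cy, hcy⟩ : ∃ c : ℕ, Order.coheight (f.base ξ) = c :=
      ⟨_, (ENat.natCast_toNat (coheight_ne_top qY _)).symm⟩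
    obtain ⟨cz, hcz⟩ : ∃ c : ℕ, Order.coheight (f.asFiber ξ) = c :=
      ⟨_, (ENat.natCast_toNat (coheight_ne_top (fiberQ f (f.base ξ)) _)).symm⟩
    rw [hmax, hcy, hcz] at hflat
    rw [hcy] at hy
    have h1 : 0 = cy + cz := by
      have h' : (((0 : ℕ) : ℕ∞) : WithBot ℕ∞) = (((cy + cz : ℕ) : ℕ∞) : WithBot ℕ∞) := by
        push_cast; exact hflat
      exact_mod_cast h'
    have hy' : tdeg qY (f.base ξ) + cy = D := by exact_mod_cast hy
    have : tdeg qX ξ = D + n := by omega
    rw [this]
    norm_cast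

/-- For a flat morphism between schemes locally of finite type over a field with irreducible
target, equidimensionality of the source of dimension `dim Y + n` is equivalent to
equidimensionality of all fibres of dimension `n`. -/
theorem equidim_iff_fibres {k : Type u} [Field k] {X Y : Scheme.{u}}
    (qX : X ⟶ Spec (CommRingCat.of k)) (qY : Y ⟶ Spec (CommRingCat.of k))
    [LocallyOfFiniteType qX] [LocallyOfFiniteType qY] [IrreducibleSpace ↥Y]
    (f : X ⟶ Y) (hf : f ≫ qY = qX) [Flat f] (n : ℕ) :
    (∀ Z : Set ↥X, Z ∈ irreducibleComponents ↥X →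
        topologicalKrullDim ↥Z = topologicalKrullDim ↥Y + (n : WithBot ℕ∞)) ↔
      ∀ (y : Y) (Z : Set ↥(f.fiber y)), Z ∈ irreducibleComponents ↥(f.fiber y) →
        topologicalKrullDim ↥Z = (n : WithBot ℕ∞) := by
  obtain ⟨D, hD, hY⟩ := exists_dim_irreducible qY
  rw [hD]
  exact equidim_iff_fibres_of_tdeg qX qY f hf D n hY

/-- Equidimensional target version. -/
theorem equidim_iff_fibres_of_equidim {k : Type u} [Field k] {X Y : Scheme.{u}}
    (qX : X ⟶ Spec (CommRingCat.of k)) (qY : Y ⟶ Spec (CommRingCat.of k))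
    [LocallyOfFiniteType qX] [LocallyOfFiniteType qY]
    (f : X ⟶ Y) (hf : f ≫ qY = qX) [Flat f] (d n : ℕ)
    (hY : ∀ Z ∈ irreducibleComponents (Y : Type u), topologicalKrullDim Z = (d : WithBot ℕ∞)) :
    (∀ Z ∈ irreducibleComponents (X : Type u),
        topologicalKrullDim Z = ((d + n : ℕ) : WithBot ℕ∞)) ↔
      ∀ (y : Y), ∀ Z ∈ irreducibleComponents (f.fiber y : Type u),
        topologicalKrullDim Z = (n : WithBot ℕ∞) := by
  have h := equidim_iff_fibres_of_tdeg qX qY f hf d n (tdeg_add_coheight_eq qY d hY)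
  rw [← h]
  push_cast
  rfl

/-- Irreducible source and target: `dim Y ≤ dim X` and all fibre components have dimension
`dim X - dim Y`. -/
theorem dim_le_and_fibres_equidim {k : Type u} [Field k] {X Y : Scheme.{u}}
    (qX : X ⟶ Spec (CommRingCat.of k)) (qY : Y ⟶ Spec (CommRingCat.of k))
    [LocallyOfFiniteType qX] [LocallyOfFiniteType qY]
    [IrreducibleSpace X] [IrreducibleSpace Y] (f : X ⟶ Y) (hf : f ≫ qY = qX) [Flat f] :
    topologicalKrullDim Y ≤ topologicalKrullDim X ∧
      ∀ (y : Y), ∀ Z ∈ irreducibleComponents (f.fiber y : Type u),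
        topologicalKrullDim Z + topologicalKrullDim Y = topologicalKrullDim X := by
  haveI : LocallyOfFiniteType f := by
    haveI : LocallyOfFiniteType (f ≫ qY) := by rw [hf]; infer_instance
    exact locallyOfFiniteType_of_comp f qY
  haveI : IsLocallyNoetherian Y := LocallyOfFiniteType.isLocallyNoetherian qY
  haveI : IsLocallyNoetherian X := LocallyOfFiniteType.isLocallyNoetherian qX
  obtain ⟨DY, hDY, hY⟩ := exists_dim_irreducible qY
  obtain ⟨DX, hDX, hX⟩ := exists_dim_irreducible qX
  -- compare at the generic point of `X`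
  set ξ := genericPoint X with hξdef
  have hι : (f.fiberι (f.base ξ)).base (f.asFiber ξ) = ξ := f.fiberι_asFiber ξ
  have hmax : Order.coheight ξ = 0 := by
    rw [Order.coheight_eq_zero]
    intro y hy
    have h1 : y ⤳ ξ := hy
    have h2 : ξ ⤳ y := (genericPoint_spec X).specializes (Set.mem_univ y)
    exact (h1.antisymm h2).eq.le
  have hflat := coheight_eq_add_of_flat f (f.base ξ) (f.asFiber ξ)
  have hadd := tdeg_fibre_add qX qY f hf (f.base ξ) (f.asFiber ξ)
  rw [hι] at hflat hadd
  have hy := hY (f.base ξ)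
  have hx := hX ξ
  obtain ⟨cy, hcy⟩ : ∃ c : ℕ, Order.coheight (f.base ξ) = c :=
    ⟨_, (ENat.natCast_toNat (coheight_ne_top qY _)).symm⟩
  obtain ⟨cz, hcz⟩ : ∃ c : ℕ, Order.coheight (f.asFiber ξ) = c :=
    ⟨_, (ENat.natCast_toNat (coheight_ne_top (fiberQ f (f.base ξ)) _)).symm⟩
  rw [hmax, hcy, hcz] at hflat
  rw [hcy] at hy
  rw [hmax] at hx
  have h1 : 0 = cy + cz := by
    have h' : (((0 : ℕ) : ℕ∞) : WithBot ℕ∞) = (((cy + cz : ℕ) : ℕ∞) : WithBot ℕ∞) := by
      push_cast; exact hflat
    exact_mod_cast h'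
  have hy' : tdeg qY (f.base ξ) + cy = DY := by exact_mod_cast hy
  have hx' : tdeg qX ξ + 0 = DX := by exact_mod_cast hx
  have hle : DY ≤ DX := by omega
  obtain ⟨n, hn⟩ : ∃ n : ℕ, DX = DY + n := ⟨DX - DY, by omega⟩
  refine ⟨by rw [hDY, hDX]; exact_mod_cast hle, ?_⟩
  have hiff := equidim_iff_fibres_of_tdeg qX qY f hf DY n hY
  have hfib := hiff.mp (by
    intro Z hZ
    rw [irreducibleComponents_eq_singleton, Set.mem_singleton_iff] at hZ
    subst hZ
    have huniv : topologicalKrullDim ↥(Set.univ : Set X) = topologicalKrullDim ↥X :=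
      IsHomeomorph.topologicalKrullDim_eq _ (Homeomorph.Set.univ X).isHomeomorph
    rw [huniv, hDX, hn]
    push_cast
    rfl)
  intro y Z hZ
  rw [hfib y Z hZ, hDY, hDX, hn]
  push_cast
  rw [add_comm]

end Groth.Agent.H60.FlatDim
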