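import Mathlib
import Groth.Agent.H60.FlatDim
import Groth.Agent.H9.DimBaseField
import Groth.Agent.H9.FibDimRing
import Groth.Agent.H24.DimLift

/-!
# Equidimensionality is preserved by extension of the base field
-/

set_option autoImplicit false
universe u

open CategoryTheory CategoryTheory.Limits AlgebraicGeometry TopologicalSpace

namespace Groth.Agent.H60.EquidimBC

open Groth.Agent.H54 Groth.Agent.H60.Miracle Groth.Agent.H60.FlatDim

/-- A continuous, open-restricted generalizing map does not raise dimension of images of opens. -/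
theorem dim_image_le_of_generalizingMap {A B : Type u} [TopologicalSpace A] [TopologicalSpace B]
    (π : A → B) (hc : Continuous π) (hg : GeneralizingMap π) (U' : Set A) (hU' : IsOpen U')
    [QuasiSober ↥(π '' U')] :
    topologicalKrullDim ↥(π '' U') ≤ topologicalKrullDim ↥U' := by
  let r : ↥U' → ↥(π '' U') := fun a => ⟨π a.1, Set.mem_image_of_mem π a.2⟩
  have hrc : Continuous r := (hc.comp continuous_subtype_val).subtype_mk _
  have hrs : Function.Surjective r := by
    rintro ⟨y, a, ha, rfl⟩
    exact ⟨⟨a, ha⟩, rfl⟩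
  have hrg : GeneralizingMap r := by
    intro a y hy
    have h1 : y.1 ⤳ π a.1 := by
      have := (Topology.IsInducing.subtypeVal.specializes_iff (x := y) (y := r a)).mpr hy
      exact this
    obtain ⟨x', hx'a, hx'y⟩ := hg h1
    have hx'U : x' ∈ U' := hx'a.mem_open hU' a.2
    refine ⟨⟨x', hx'U⟩, ?_, Subtype.ext hx'y⟩
    exact (Topology.IsInducing.subtypeVal.specializes_iff (x := (⟨x', hx'U⟩ : ↥U')) (y := a)).mp hx'a
  exact Groth.Agent.H24.topologicalKrullDim_le_of_generalizingMap r hrc hrg hrs

/-- **Equidimensionality is preserved by base field extension.** -/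
theorem equidim_of_isPullback_field {T T' : Scheme.{u}} {K L : Type u} [Field K] [Field L]
    (p : T ⟶ Spec (CommRingCat.of K)) [LocallyOfFiniteType p]
    (φ : CommRingCat.of K ⟶ CommRingCat.of L)
    (π : T' ⟶ T) (q' : T' ⟶ Spec (CommRingCat.of L)) (sq : IsPullback π q' p (Spec.map φ))
    (n : ℕ) (hT : ∀ Z ∈ irreducibleComponents (T : Type u), topologicalKrullDim Z = (n : WithBot ℕ∞)) :
    ∀ Z ∈ irreducibleComponents (T' : Type u), topologicalKrullDim Z = (n : WithBot ℕ∞) := by
  haveI : LocallyOfFiniteType q' :=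
    MorphismProperty.of_isPullback (P := @LocallyOfFiniteType) sq inferInstance
  haveI : IsIntegral (Spec (CommRingCat.of K)) := inferInstance
  haveI : Subsingleton ↥(Spec (CommRingCat.of K)) :=
    inferInstanceAs (Subsingleton (PrimeSpectrum K))
  haveI hflatφ : Flat (Spec.map φ) := by
    rw [HasRingHomProperty.Spec_iff (P := @Flat)]
    letI := φ.hom.toAlgebra
    exact (inferInstance : Module.Flat K L)
  haveI : Flat π := MorphismProperty.of_isPullback (P := @Flat) sq.flip hflatφ
  haveI : UniversallyOpen π :=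
    MorphismProperty.of_isPullback (P := @UniversallyOpen) sq.flip inferInstance
  have hgen : GeneralizingMap π.base := Flat.generalizingMap π
  have hopen : IsOpenMap π.base := π.isOpenMap
  have hsum := tdeg_add_coheight_eq p n hT
  intro C' hC'
  obtain ⟨w, hw⟩ := exists_generic_of_mem_irreducibleComponents C' hC'
  have hwc : closure ({w} : Set T') ∈ irreducibleComponents (T' : Type u) := by rw [hw]; exact hC'
  apply le_antisymm
  · -- `dim C' ≤ dim T' = dim T ≤ n`
    have h1 : topologicalKrullDim ↥C' ≤ topologicalKrullDim ↥T' := topologicalKrullDim_subspace_le _ _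
    have h2 := Groth.Agent.H9.DimBaseField.topologicalKrullDim_eq_of_isPullback_field p φ π q' sq
    have h3 : topologicalKrullDim ↥T ≤ (n : WithBot ℕ∞) := by
      apply topologicalKrullDim_le_of_forall_tdeg_le p n
      intro y
      have := hsum y
      have h4 : (tdeg p y : ℕ∞) ≤ (n : ℕ∞) := by rw [← this]; exact le_self_add
      exact_mod_cast h4
    exact h1.trans (h2 ▸ h3)
  · -- `n = localDim_t T ≤ dim π(U') ≤ dim U' ≤ dim C'`
    obtain ⟨U', hwU', hU'⟩ := exists_open_generic q' w
    have hsub : ((U' : Set T')) ⊆ C' := by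
      intro y hy
      obtain ⟨ξ, hξy, hξw⟩ := hU' y hy
      have : ξ = w := eq_of_specializes_generic hwc hξw
      rw [this] at hξy
      rw [← hw]
      exact specializes_iff_mem_closure.mp hξy
    set t := π.base w with ht
    obtain ⟨b, hb⟩ : ∃ b : ℕ, Order.coheight t = b :=
      ⟨_, (ENat.natCast_toNat (coheight_ne_top p t)).symm⟩
    have hloc := localDim_eq p t b hb
    have hs := hsum t
    rw [hb] at hs
    have hnb : tdeg p t + b = n := by exact_mod_cast hs
    rw [hnb] at hloc
    let U : Opens T := ⟨π.base '' (U' : Set T'), hopen _ U'.2⟩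
    have htU : t ∈ U := ⟨w, hwU', rfl⟩
    have h1 : FlatMor.localDim T t ≤ topologicalKrullDim ↥(U : Set T) :=
      Groth.Agent.H9.FibDim.localDim_le_of_mem T t U htU
    haveI : QuasiSober ↥(π.base '' (U' : Set T')) := U.isOpenEmbedding'.quasiSober
    have h2 : topologicalKrullDim ↥(π.base '' (U' : Set T')) ≤ topologicalKrullDim ↥(U' : Set T') :=
      dim_image_le_of_generalizingMap π.base π.continuous hgen (U' : Set T') U'.2
    have h3 : topologicalKrullDim ↥(U' : Set T') ≤ topologicalKrullDim ↥C' :=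
      Groth.Agent.H9.FibDim.dim_mono_subset hsub
    rw [← hloc]
    exact h1.trans (h2.trans h3)

/-- The fibres of a base change of `f` are equidimensional of dimension `n` if those of `f` are. -/
theorem fibres_equidim_baseChange {X Y Y' : Scheme.{u}} (f : X ⟶ Y) [LocallyOfFiniteType f]
    (g : Y' ⟶ Y) (n : ℕ)
    (hF : ∀ (y : Y) (Z : Set ↥(f.fiber y)), Z ∈ irreducibleComponents ↥(f.fiber y) →
      topologicalKrullDim ↥Z = (n : WithBot ℕ∞)) (y' : Y') :
    ∀ Z ∈ irreducibleComponents ↥((pullback.snd f g).fiber y'),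
      topologicalKrullDim ↥Z = (n : WithBot ℕ∞) := by
  have sq := isPullback_fiberToSpecResidueField_of_isPullback (IsPullback.of_hasPullback f g) y'
  exact equidim_of_isPullback_field (fiberQ f (g.base y')) (g.residueFieldMap y') _ _ sq n
    (fun Z hZ => hF _ Z hZ)

/-- **Dimension of components of preimages under a base change of a flat equidimensional
morphism** (S10941 without quasi-compactness). -/
theorem dim_component_preimage {k : Type u} [Field k] {X Y Y' : Scheme.{u}}
    (qX : X ⟶ Spec (CommRingCat.of k)) (qY : Y ⟶ Spec (CommRingCat.of k))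
    (qY' : Y' ⟶ Spec (CommRingCat.of k))
    [LocallyOfFiniteType qX] [LocallyOfFiniteType qY] [LocallyOfFiniteType qY']
    [IrreducibleSpace ↥Y] (f : X ⟶ Y) (hf : f ≫ qY = qX) [Flat f] (n : ℕ)
    (hX : ∀ Z : Set ↥X, Z ∈ irreducibleComponents ↥X →
      topologicalKrullDim ↥Z = topologicalKrullDim ↥Y + (n : WithBot ℕ∞))
    (g : Y' ⟶ Y)
    (V : Set ↥Y') (hV : IsClosed V) (hVirr : IsIrreducible V)
    (W : Set ↥((pullback.snd f g).base ⁻¹' V))
    (hW : W ∈ irreducibleComponents ↥((pullback.snd f g).base ⁻¹' V)) :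
    topologicalKrullDim ↥W = topologicalKrullDim ↥V + (n : WithBot ℕ∞) := by
  haveI : LocallyOfFiniteType f := by
    haveI : LocallyOfFiniteType (f ≫ qY) := by rw [hf]; infer_instance
    exact locallyOfFiniteType_of_comp f qY
  have hF := (equidim_iff_fibres qX qY f hf n).mp hX
  have hF' := fun y' => fibres_equidim_baseChange f g n hF y'
  revert W
  obtain ⟨f', hf'⟩ : ∃ f' : pullback f g ⟶ Y', f' = pullback.snd f g := ⟨_, rfl⟩
  rw [← hf'] at hF' ⊢
  intro W hW
  haveI : Flat f' := by rw [hf']; infer_instance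
  haveI : LocallyOfFiniteType f' := by rw [hf']; infer_instance
  have hWirr : IsIrreducible W := hW.1
  have hWcl : IsClosed W := isClosed_of_mem_irreducibleComponents W hW
  have hcemb : Topology.IsClosedEmbedding (Subtype.val : ↥(f'.base ⁻¹' V) → ↥(pullback f g)) :=
    (hV.preimage f'.continuous).isClosedEmbedding_subtypeVal
  haveI : QuasiSober ↥(f'.base ⁻¹' V) := hcemb.quasiSober
  obtain ⟨b, hb⟩ : ∃ b : ↥(f'.base ⁻¹' V), closure {b} = W :=
    ⟨hWirr.genericPoint, hWirr.closure_genericPoint hWcl⟩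
  obtain ⟨w0, hw0⟩ : ∃ w0 : ↥(pullback f g), w0 = b.1 := ⟨_, rfl⟩
  have hstar : ∀ x' : ↥(pullback f g), f'.base x' ∈ V → x' ⤳ w0 → x' = w0 := by
    intro x' hx'V hsp
    have hab : (⟨x', hx'V⟩ : ↥(f'.base ⁻¹' V)) ⤳ b := by
      apply (Topology.IsInducing.subtypeVal.specializes_iff).mp
      rw [← hw0]; exact hsp
    have h1 : W ⊆ closure {(⟨x', hx'V⟩ : ↥(f'.base ⁻¹' V))} := by
      rw [← hb]; exact specializes_iff_closure_subset.mp hab
    have h2 : closure {(⟨x', hx'V⟩ : ↥(f'.base ⁻¹' V))} ⊆ W :=
      hW.2 isIrreducible_singleton.closure h1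
    have h3 : (⟨x', hx'V⟩ : ↥(f'.base ⁻¹' V)) ∈ closure {b} := by
      rw [hb]; exact h2 (subset_closure rfl)
    have hba : b ⤳ (⟨x', hx'V⟩ : ↥(f'.base ⁻¹' V)) := specializes_iff_mem_closure.mpr h3
    have h4 : w0 ⤳ x' := by
      have := (Topology.IsInducing.subtypeVal.specializes_iff).mpr hba
      rw [hw0]; exact this
    exact (hsp.antisymm h4).eq
  obtain ⟨v, hv⟩ : ∃ v : ↥Y', closure {v} = V :=
    ⟨hVirr.genericPoint, hVirr.closure_genericPoint hV⟩
  have hw0V : f'.base w0 ∈ V := by rw [hw0]; exact b.2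
  have hfw : f'.base w0 = v := by
    have hsp : v ⤳ f'.base w0 := by rw [specializes_iff_mem_closure, hv]; exact hw0V
    obtain ⟨x', hx'w, hx'v⟩ := (Flat.generalizingMap f') hsp
    have hx'V : f'.base x' ∈ V := by
      rw [show f'.base x' = v from hx'v, ← hv]; exact subset_closure rfl
    have := hstar x' hx'V hx'w
    rw [← this]; exact hx'v
  -- the point of the fibre
  obtain ⟨z1, hz1z, hz1⟩ := exists_generic_specializes (f'.asFiber w0)
  have hι : (f'.fiberι (f'.base w0)).base (f'.asFiber w0) = w0 := f'.fiberι_asFiber w0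
  have hz1w : (f'.fiberι (f'.base w0)).base z1 = w0 := by
    apply hstar
    · rw [fiberι_mem f' (f'.base w0) z1]; exact hw0V
    · have h2 := hz1z.map (f'.fiberι (f'.base w0)).continuous
      rwa [hι] at h2
  have hz1eq : z1 = f'.asFiber w0 :=
    (f'.fiberι (f'.base w0)).isEmbedding.injective (hz1w.trans hι.symm)
  subst hz1eq
  have hdimF := hF' (f'.base w0) _ hz1
  rw [topologicalKrullDim_closure_singleton (fiberQ f' (f'.base w0)) (f'.asFiber w0)] at hdimF
  have hn : tdeg (fiberQ f' (f'.base w0)) (f'.asFiber w0) = n := by exact_mod_cast hdimF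
  have hadd := tdeg_fibre_add (f' ≫ qY') qY' f' rfl (f'.base w0) (f'.asFiber w0)
  rw [hι, hn, hfw] at hadd
  have hdimV : topologicalKrullDim ↥V = (tdeg qY' v : WithBot ℕ∞) := by
    rw [← hv]; exact topologicalKrullDim_closure_singleton qY' v
  have hdimW : topologicalKrullDim ↥W = (tdeg (f' ≫ qY') w0 : WithBot ℕ∞) := by
    have hemb : Topology.IsEmbedding (fun a : ↥W => (a.1.1 : ↥(pullback f g))) :=
      hcemb.isEmbedding.comp Topology.IsEmbedding.subtypeVal
    have hrange : Set.range (fun a : ↥W => (a.1.1 : ↥(pullback f g))) = closure {w0} := by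
      have h1 : Set.range (fun a : ↥W => (a.1.1 : ↥(pullback f g))) = Subtype.val '' W := by
        ext x
        constructor
        · rintro ⟨a, rfl⟩; exact ⟨a.1, a.2, rfl⟩
        · rintro ⟨a, ha, rfl⟩; exact ⟨⟨a, ha⟩, rfl⟩
      rw [h1, ← hb, ← hcemb.closure_image_eq, Set.image_singleton, hw0]
    have h2 := IsHomeomorph.topologicalKrullDim_eq _ hemb.toHomeomorph.isHomeomorph
    rw [h2, hrange]
    exact topologicalKrullDim_closure_singleton (f' ≫ qY') w0
  rw [hdimW, hdimV, hadd]
  push_cast
  rfl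

end Groth.Agent.H60.EquidimBC
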