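import Mathlib
import Groth.Agent.H60.EquidimBC
import Groth.Agent.H9.FibDimTarget

/-!
# The local dimension of fibres is invariant under base change
-/

set_option autoImplicit false
universe u

open CategoryTheory CategoryTheory.Limits AlgebraicGeometry TopologicalSpace

namespace Groth.Agent.H60.FibreDimBC

open Groth.Agent.H54 Groth.Agent.H60.EquidimBC

/-- The local dimension of a scheme locally of finite type over a field is invariant under
extension of the base field. -/
theorem localDim_eq_of_isPullback_field {T T' : Scheme.{u}} {K L : Type u} [Field K] [Field L]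
    (p : T ⟶ Spec (CommRingCat.of K)) [LocallyOfFiniteType p]
    (φ : CommRingCat.of K ⟶ CommRingCat.of L)
    (π : T' ⟶ T) (q' : T' ⟶ Spec (CommRingCat.of L)) (sq : IsPullback π q' p (Spec.map φ))
    (t' : T') : FlatMor.localDim T' t' = FlatMor.localDim T (π.base t') := by
  have : IsIntegral (Spec (CommRingCat.of K)) := inferInstance
  have : Subsingleton ↥(Spec (CommRingCat.of K)) :=
    inferInstanceAs (Subsingleton (PrimeSpectrum K))
  have hflatφ : Flat (Spec.map φ) := by
    rw [HasRingHomProperty.Spec_iff (P := @Flat)]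
    let _ := φ.hom.toAlgebra
    exact (inferInstance : Module.Flat K L)
  have : Flat π := MorphismProperty.of_isPullback (P := @Flat) sq.flip hflatφ
  have : UniversallyOpen π :=
    MorphismProperty.of_isPullback (P := @UniversallyOpen) sq.flip inferInstance
  have hgen : GeneralizingMap π.base := Flat.generalizingMap π
  have hopen : IsOpenMap π.base := π.isOpenMap
  apply le_antisymm
  · -- `localDim T' t' ≤ dim π⁻¹ V = dim V`
    refine le_iInf fun V => ?_
    obtain ⟨V₀, hV₀⟩ : ∃ V₀ : T.Opens, V₀ = V.1 := ⟨V.1, rfl⟩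
    have hmem : t' ∈ π ⁻¹ᵁ V₀ := by rw [hV₀]; exact V.2
    rw [← hV₀]
    refine (Groth.Agent.H9.FibDim.localDim_le_of_mem T' t' (π ⁻¹ᵁ V₀) hmem).trans ?_
    have sq1 := isPullback_morphismRestrict π V₀
    have sq2 := sq1.paste_vert sq
    have h := Groth.Agent.H9.DimBaseField.topologicalKrullDim_eq_of_isPullback_field
      (V₀.ι ≫ p) φ (π ∣_ V₀) ((π ⁻¹ᵁ V₀).ι ≫ q') sq2
    exact h.le
  · -- `localDim T (π t') ≤ dim π(V') ≤ dim V'`
    refine le_iInf fun V' => ?_
    let U : Opens T := ⟨π.base '' (V'.1 : Set T'), hopen _ V'.1.2⟩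
    have htU : π.base t' ∈ U := ⟨t', V'.2, rfl⟩
    have h1 : FlatMor.localDim T (π.base t') ≤ topologicalKrullDim ↥(U : Set T) :=
      Groth.Agent.H9.FibDim.localDim_le_of_mem T _ U htU
    have : QuasiSober ↥(π.base '' (V'.1 : Set T')) := U.isOpenEmbedding'.quasiSober
    have h2 : topologicalKrullDim ↥(π.base '' (V'.1 : Set T')) ≤
        topologicalKrullDim ↥(V'.1 : Set T') :=
      dim_image_le_of_generalizingMap π.base π.continuous hgen (V'.1 : Set T') V'.1.2
    exact h1.trans h2

theorem localDim_fiber_baseChange {X Y Y' : Scheme.{u}} (f : X ⟶ Y) [LocallyOfFiniteType f]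
    (g : Y' ⟶ Y) (y' : Y') (z : ↥((pullback.snd f g).fiber y')) :
    FlatMor.localDim ↥((pullback.snd f g).fiber y') z =
      FlatMor.fibreDimAt f ((pullback.fst f g).base (((pullback.snd f g).fiberι y').base z)) := by
  have sq := isPullback_fiberToSpecResidueField_of_isPullback (IsPullback.of_hasPullback f g) y'
  have h1 := localDim_eq_of_isPullback_field (fiberQ f (g.base y'))
    (g.residueFieldMap y') _ _ sq z
  rw [Groth.Agent.H9.FibDim.localDim_fiber] at h1
  refine h1.trans ?_
  congr 1
  have hcomm : pullback.map _ _ _ _ (pullback.fst f g) (Spec.map (g.residueFieldMap y')) g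
      (IsPullback.of_hasPullback f g).w.symm (by simp) ≫ f.fiberι (g.base y') =
      (pullback.snd f g).fiberι y' ≫ pullback.fst f g := pullback.lift_fst _ _ _
  have := congrArg (fun h : (pullback.snd f g).fiber y' ⟶ X => h.base z) hcomm
  exact this

/-- **The local dimension of the fibre at a point is invariant under base change.** -/
theorem fibreDimAt_baseChange {X Y Y' : Scheme.{u}} (f : X ⟶ Y) [LocallyOfFiniteType f]
    (g : Y' ⟶ Y) (x' : ↥(pullback f g)) :
    FlatMor.fibreDimAt (pullback.snd f g) x' =
      FlatMor.fibreDimAt f ((pullback.fst f g).base x') := by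
  have h := localDim_fiber_baseChange f g ((pullback.snd f g).base x')
    ((pullback.snd f g).asFiber x')
  rw [(pullback.snd f g).fiberι_asFiber x'] at h
  exact h

end Groth.Agent.H60.FibreDimBC
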