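import Mathlib
import Groth.Agent.H60.FibreDimBC
import Groth.Agent.H9.Equidim
import Groth.Prelude.Def_EGA43

/-!
# Equidimensionality at a point is preserved by flat base change
-/

set_option autoImplicit false
set_option linter.style.haveILetI false
universe u

open CategoryTheory CategoryTheory.Limits AlgebraicGeometry TopologicalSpace

namespace Groth.Agent.H60.EquidimAtFlat

open Groth.Agent.H54 Groth.Agent.H9.FibDim Groth.Agent.H9.Equidim Groth.Agent.H60.FibreDimBC

/-- In a locally Noetherian scheme every point has an open neighbourhood all of whose points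
have a common generization with it. -/
theorem exists_open_generic_of_isLocallyNoetherian {X : Scheme.{u}} [IsLocallyNoetherian X]
    (x : X) : ∃ U : X.Opens, x ∈ U ∧ ∀ y ∈ U, ∃ ξ : X, ξ ⤳ y ∧ ξ ⤳ x := by
  obtain ⟨W, hW, hxW, -⟩ :=
    exists_isAffineOpen_mem_and_subset (x := x) (U := (⊤ : X.Opens)) trivial
  haveI : IsNoetherianRing Γ(X, W) := IsLocallyNoetherian.component_noetherian ⟨W, hW⟩
  obtain ⟨P, hP⟩ : x ∈ Set.range hW.fromSpec.base := by rw [hW.range_fromSpec]; exact hxW
  set j := hW.fromSpec with hj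
  have hfin : (irreducibleComponents (Spec Γ(X, W))).Finite :=
    TopologicalSpace.NoetherianSpace.finite_irreducibleComponents
  let T : Set (Set (Spec Γ(X, W))) := {Z | Z ∈ irreducibleComponents (Spec Γ(X, W)) ∧ P ∉ Z}
  have hTfin : T.Finite := hfin.subset (fun Z hZ => hZ.1)
  let C : Set (Spec Γ(X, W)) := ⋃ Z ∈ T, Z
  have hC : IsClosed C :=
    hTfin.isClosed_biUnion (fun Z hZ => isClosed_of_mem_irreducibleComponents Z hZ.1)
  have hPC : P ∉ C := by
    intro h
    obtain ⟨Z, hZ, hPZ⟩ := Set.mem_iUnion₂.mp h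
    exact hZ.2 hPZ
  refine ⟨⟨j.base '' Cᶜ, j.isOpenEmbedding.isOpenMap _ hC.isOpen_compl⟩, ⟨P, hPC, hP⟩, ?_⟩
  rintro _ ⟨Q, hQ, rfl⟩
  have hZ := irreducibleComponent_mem_irreducibleComponents Q
  have hPZ : P ∈ irreducibleComponent Q := by
    by_contra hP'
    exact hQ (Set.mem_iUnion₂.mpr ⟨irreducibleComponent Q, ⟨hZ, hP'⟩, mem_irreducibleComponent⟩)
  have hirr : IsIrreducible (irreducibleComponent Q) := isIrreducible_irreducibleComponent
  have hcl : IsClosed (irreducibleComponent Q) := isClosed_irreducibleComponent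
  have hgen := hirr.closure_genericPoint hcl
  rw [← hP]
  refine ⟨j.base hirr.genericPoint, Specializes.map ?_ j.continuous,
    Specializes.map ?_ j.continuous⟩
  · exact specializes_iff_mem_closure.mpr (hgen.symm.subset mem_irreducibleComponent)
  · exact specializes_iff_mem_closure.mpr (hgen.symm.subset hPZ)

/-- A generalizing map sends points without proper generizations to such points. -/
theorem map_maximal_of_generalizingMap {A B : Type*} [TopologicalSpace A] [TopologicalSpace B]
    {π : A → B} (hπ : GeneralizingMap π) {a : A} (ha : ∀ t, t ⤳ a → t = a) :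
    ∀ s, s ⤳ π a → s = π a := by
  intro s hs
  obtain ⟨t, ht, rfl⟩ := hπ hs
  rw [ha t ht]

/-- If `ξ'` is a maximal point of `X ×_Y Y'` whose image in `Y` is a maximal point, then its image
in `Y'` is a maximal point. -/
theorem maximal_snd_of_maximal {X Y Y' : Scheme.{u}} (f : X ⟶ Y) (g : Y' ⟶ Y)
    (ξ' : ↥(pullback f g)) (hξ' : ∀ t, t ⤳ ξ' → t = ξ')
    (hη : ∀ s : Y, s ⤳ g.base ((pullback.snd f g).base ξ') →
      s = g.base ((pullback.snd f g).base ξ')) :
    ∀ s : Y', s ⤳ (pullback.snd f g).base ξ' → s = (pullback.snd f g).base ξ' := by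
  intro η'' hsp
  have hgη'' : g.base η'' = g.base ((pullback.snd f g).base ξ') := hη _ (hsp.map g.continuous)
  generalize hηdef : g.base ((pullback.snd f g).base ξ') = η at hgη''
  obtain ⟨a', ha'⟩ : (pullback.snd f g).base ξ' ∈ Set.range (g.fiberι η).base := by
    rw [g.range_fiberι]; exact hηdef
  obtain ⟨a'', ha''⟩ : η'' ∈ Set.range (g.fiberι η).base := by
    rw [g.range_fiberι]; exact hgη''
  have hsp' : a'' ⤳ a' := by
    rw [← (g.fiberι η).isEmbedding.isInducing.specializes_iff, ha', ha'']; exact hsp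
  have sqA := IsPullback.of_hasPullback (pullback.snd f g) (g.fiberι η)
  have sqB := IsPullback.of_hasPullback f g
  have sqAB := sqA.paste_horiz sqB
  have hfac : g.fiberι η ≫ g = g.fiberToSpecResidueField η ≫ Y.fromSpecResidueField η :=
    g.fiber_fac η
  rw [hfac] at sqAB
  let l : pullback (pullback.snd f g) (g.fiberι η) ⟶ f.fiber η :=
    pullback.lift (pullback.fst (pullback.snd f g) (g.fiberι η) ≫ pullback.fst f g)
      (pullback.snd (pullback.snd f g) (g.fiberι η) ≫ g.fiberToSpecResidueField η)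
      (by rw [Category.assoc]; exact sqAB.w)
  have hl : l ≫ f.fiberι η = pullback.fst (pullback.snd f g) (g.fiberι η) ≫ pullback.fst f g :=
    pullback.lift_fst _ _ _
  have hl2 : l ≫ f.fiberToSpecResidueField η =
      pullback.snd (pullback.snd f g) (g.fiberι η) ≫ g.fiberToSpecResidueField η :=
    pullback.lift_snd _ _ _
  have sqL : IsPullback l (pullback.snd (pullback.snd f g) (g.fiberι η))
      (f.fiberToSpecResidueField η) (g.fiberToSpecResidueField η) := by
    refine IsPullback.of_right (h₁₂ := f.fiberι η) ?_ hl2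
      (IsPullback.of_hasPullback f (Y.fromSpecResidueField η))
    rw [hl]; exact sqAB
  haveI : Flat (f.fiberToSpecResidueField η) := inferInstance
  haveI : Flat (pullback.snd (pullback.snd f g) (g.fiberι η)) :=
    MorphismProperty.of_isPullback (P := @Flat) sqL inferInstance
  have hgen := Flat.generalizingMap (pullback.snd (pullback.snd f g) (g.fiberι η))
  obtain ⟨p, hp1, hp2⟩ := Scheme.Pullback.exists_preimage_pullback
    (f := pullback.snd f g) (g := g.fiberι η) ξ' a' ha'.symm
  have hsp'' : a'' ⤳ (pullback.snd (pullback.snd f g) (g.fiberι η)).base p := by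
    rw [hp2]; exact hsp'
  obtain ⟨p'', hp''sp, hp''⟩ := hgen hsp''
  have h1 : (pullback.fst (pullback.snd f g) (g.fiberι η)).base p'' ⤳ ξ' := by
    rw [← hp1]; exact hp''sp.map (pullback.fst (pullback.snd f g) (g.fiberι η)).continuous
  have h2 := hξ' _ h1
  have h3 : (pullback.snd f g).base ((pullback.fst (pullback.snd f g) (g.fiberι η)).base p'') =
      (g.fiberι η).base ((pullback.snd (pullback.snd f g) (g.fiberι η)).base p'') := by
    rw [← Scheme.Hom.comp_apply, ← Scheme.Hom.comp_apply, pullback.condition]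
  rw [h2, hp'', ha''] at h3
  exact h3.symm

/-- Unpacking equidimensionality at a point: constant local fibre dimension near `x`, and maximal
points near `x` map to maximal points of the base which specialize to `f x`.
(Adapted from `Groth.Agent.H9.Equidim.exists_of_isEquidimAt`, which assumes an irreducible base.) -/
theorem exists_of_isEquidimAt' {X Y : Scheme.{u}} (f : X ⟶ Y)
    [LocallyOfFiniteType f] (x : X) (hf : EGA43.IsEquidimAt f x) :
    ∃ (e₀ : ℕ) (U : X.Opens), x ∈ U ∧
      (∀ x₁ : X, x₁ ∈ U → FlatMor.fibreDimAt f x₁ = (e₀ : WithBot ℕ∞)) ∧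
      (∀ ξ : X, ξ ∈ U → (∀ t : X, t ⤳ ξ → t = ξ) →
        closure ({f.base ξ} : Set Y) ∈ irreducibleComponents (Y : Type u) ∧
          f.base ξ ⤳ f.base x) := by
  obtain ⟨e₀, U, hxU, h1, h2⟩ := hf
  refine ⟨e₀, U, hxU, ?_, ?_⟩
  · intro x₁ hx₁
    have h3 := fibreDimAt_comp_of_isOpenImmersion U.ι f ⟨x₁, hx₁⟩
    have h4 : U.ι.base ⟨x₁, hx₁⟩ = x₁ := rfl
    rw [h4] at h3
    rw [← h3]
    exact localDim_eq_of_components (fiberQ (U.ι ≫ f) _) e₀ (h2 ⟨x₁, hx₁⟩) _
  · intro ξ hξU hξmax
    have hmaxU : ∀ t : (↥U : Type u), t ⤳ (⟨ξ, hξU⟩ : (↥U : Type u)) → t = ⟨ξ, hξU⟩ := by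
      intro t ht
      have h3 : U.ι.base t ⤳ U.ι.base ⟨ξ, hξU⟩ := ht.map U.ι.continuous
      have h4 : U.ι.base t = ξ := hξmax _ h3
      exact U.ι.isOpenEmbedding.injective h4
    haveI : QuasiSober (↥U : Type u) := inferInstanceAs (QuasiSober (U : Scheme.{u}))
    have hZ := closure_mem_irreducibleComponents_of_forall hmaxU
    obtain ⟨W, hW, hxW, hcl⟩ := h1 _ hZ
    have hsub : (U.ι ≫ f).base '' closure ({(⟨ξ, hξU⟩ : (↥U : Type u))} : Set (↥U : Type u)) ⊆
        closure ({f.base ξ} : Set Y) := by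
      rintro _ ⟨t, ht, rfl⟩
      have h3 : (⟨ξ, hξU⟩ : (↥U : Type u)) ⤳ t := specializes_iff_mem_closure.mpr ht
      exact (h3.map (U.ι ≫ f).continuous).mem_closure
    have hWeq : closure ({f.base ξ} : Set Y) = W := by
      apply subset_antisymm
      · rw [← hcl]
        apply closure_mono
        rw [Set.singleton_subset_iff]
        exact ⟨⟨ξ, hξU⟩, subset_closure rfl, rfl⟩
      · rw [← hcl]; exact closure_minimal hsub isClosed_closure
    refine ⟨hWeq ▸ hW, ?_⟩
    rw [specializes_iff_mem_closure, hWeq]; exact hxW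

/-- Criterion for equidimensionality at a point.
(Adapted from `Groth.Agent.H9.Equidim.isEquidimAt_of_forall`, which assumes an irreducible
base.) -/
theorem isEquidimAt_of_forall' {Z Y : Scheme.{u}} (g : Z ⟶ Y)
    [LocallyOfFiniteType g] (w : Z) (e₁ : ℕ) (U' : Z.Opens) (hw : w ∈ U')
    (ha : ∀ ξ : Z, ξ ∈ U' → (∀ t : Z, t ⤳ ξ → t = ξ) →
      closure ({g.base ξ} : Set Y) ∈ irreducibleComponents (Y : Type u) ∧ g.base ξ ⤳ g.base w)
    (hb : ∀ z : Z, z ∈ U' → FlatMor.fibreDimAt g z = (e₁ : WithBot ℕ∞)) :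
    EGA43.IsEquidimAt g w := by
  refine ⟨e₁, U', hw, ?_, ?_⟩
  · intro Z₁ hZ₁
    haveI : QuasiSober (↥U' : Type u) := inferInstanceAs (QuasiSober (U' : Scheme.{u}))
    have hcl : IsClosed Z₁ := isClosed_of_mem_irreducibleComponents Z₁ hZ₁
    obtain ⟨u, hu⟩ : ∃ u : (↥U' : Type u), closure {u} = Z₁ :=
      ⟨hZ₁.1.genericPoint, hZ₁.1.closure_genericPoint hcl⟩
    have humax : ∀ t : Z, t ⤳ U'.ι.base u → t = U'.ι.base u := by
      intro t ht
      have htU : t ∈ U' := ht.mem_open U'.2 u.2
      have h1 : (⟨t, htU⟩ : (↥U' : Type u)) ⤳ u :=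
        U'.ι.isOpenEmbedding.isInducing.specializes_iff.mp ht
      have h2 : closure ({(⟨t, htU⟩ : (↥U' : Type u))} : Set (↥U' : Type u)) ≤ Z₁ := by
        apply hZ₁.2 isIrreducible_singleton.closure
        rw [← hu]
        exact specializes_iff_closure_subset.mp h1
      have h3 : u ⤳ (⟨t, htU⟩ : (↥U' : Type u)) := by
        rw [specializes_iff_mem_closure, hu]
        exact h2 (subset_closure rfl)
      have h4 : (⟨t, htU⟩ : (↥U' : Type u)) = u := (h1.antisymm h3).eq
      rw [← h4]
      rfl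
    obtain ⟨hcomp, hspec⟩ := ha _ u.2 humax
    refine ⟨closure {g.base (U'.ι.base u)}, hcomp, hspec.mem_closure, ?_⟩
    apply subset_antisymm
    · apply closure_minimal _ isClosed_closure
      rintro _ ⟨t, ht, rfl⟩
      rw [← hu] at ht
      have h3 : u ⤳ t := specializes_iff_mem_closure.mpr ht
      exact (h3.map (U'.ι ≫ g).continuous).mem_closure
    · apply closure_mono
      rw [Set.singleton_subset_iff]
      exact ⟨u, hu ▸ subset_closure rfl, rfl⟩
  · intro x₁ T hT
    apply dim_component_eq_of_localDim (fiberQ (U'.ι ≫ g) _) e₁ _ T hT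
    intro a
    rw [localDim_fiber, fibreDimAt_comp_of_isOpenImmersion]
    exact hb _ (((U'.ι ≫ g).fiberι _).base a).2

/-- **Equidimensionality at a point is preserved by flat base change with locally Noetherian
source.** -/
theorem isEquidimAt_baseChange_flat {X Y Y' : Scheme.{u}} (f : X ⟶ Y) [LocallyOfFiniteType f]
    (g : Y' ⟶ Y) [Flat g] [IsLocallyNoetherian Y']
    (x : X) (h : EGA43.IsEquidimAt f x) (x' : ↥(pullback f g))
    (hx' : (pullback.fst f g).base x' = x) :
    EGA43.IsEquidimAt (pullback.snd f g) x' := by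
  obtain ⟨e₀, U, hxU, hB, hA⟩ := exists_of_isEquidimAt' f x h
  obtain ⟨V', hyV', hV'⟩ :=
    exists_open_generic_of_isLocallyNoetherian ((pullback.snd f g).base x')
  let U' : (pullback f g).Opens := (pullback.fst f g) ⁻¹ᵁ U ⊓ (pullback.snd f g) ⁻¹ᵁ V'
  have hx'U' : x' ∈ U' := by
    refine ⟨?_, hyV'⟩
    show (pullback.fst f g).base x' ∈ U
    rw [hx']; exact hxU
  apply isEquidimAt_of_forall' (pullback.snd f g) x' e₀ U' hx'U'
  · intro ξ' hξ'U' hξ'max
    have hgen1 : GeneralizingMap (pullback.fst f g).base := Flat.generalizingMap _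
    have hξmax := map_maximal_of_generalizingMap hgen1 hξ'max
    obtain ⟨hcomp, hspec⟩ := hA _ hξ'U'.1 hξmax
    have hcond : f.base ((pullback.fst f g).base ξ') = g.base ((pullback.snd f g).base ξ') := by
      rw [← Scheme.Hom.comp_apply, ← Scheme.Hom.comp_apply, pullback.condition]
    have hηmax : ∀ s : Y, s ⤳ g.base ((pullback.snd f g).base ξ') →
        s = g.base ((pullback.snd f g).base ξ') := by
      intro s hs
      rw [← hcond] at hs ⊢
      exact eq_of_specializes_generic hcomp hs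
    have hη'max := maximal_snd_of_maximal f g ξ' hξ'max hηmax
    refine ⟨closure_mem_irreducibleComponents_of_forall hη'max, ?_⟩
    obtain ⟨ζ, hζ1, hζ2⟩ := hV' _ hξ'U'.2
    rw [hη'max ζ hζ1] at hζ2
    exact hζ2
  · intro z hz
    rw [fibreDimAt_baseChange]
    exact hB _ hz.1

end Groth.Agent.H60.EquidimAtFlat
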