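import Mathlib
import Groth.Agent.H60.EquidimAtFlat
import Groth.Agent.H60.DimFunX
import Groth.Agent.H9.FibreFormula
import Groth.Prelude.Def_EGA4b

/-!
# The dimension formula at a point with equidimensional local ring implies equidimensionality
-/

set_option autoImplicit false
set_option linter.style.haveILetI false
universe u

open AlgebraicGeometry CategoryTheory

namespace Groth.Agent.H60.EquidimAtConv

open Groth.Agent.H9.DimFormulaRing Groth.Agent.H9.DimFormulaScheme Groth.Agent.H9.DimFormulaLoc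
  Groth.Agent.H9.DimFormulaEq Groth.Agent.H71.DimFun Groth.Agent.H9.DimFormulaGen
  Groth.Agent.H9.FibreFormula Groth.Agent.H9.FibDim Groth.Agent.H60.EquidimAtFlat

set_option backward.isDefEq.respectTransparency.types false in
/-- **Relative dimension inequality for a specialization** `ξ ⤳ x` in `X`, for `f : X ⟶ Y` locally
of finite type with `Y` locally Noetherian:
`dim O_{X,x}/p_ξ + trdeg κ(x)/κ(f x) ≤ dim O_{Y,f x}/p_{f ξ} + trdeg κ(ξ)/κ(f ξ)`. -/
theorem rel_le {X Y : Scheme.{u}} [IsLocallyNoetherian Y] (f : X ⟶ Y) [LocallyOfFiniteType f]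
    (x ξ : X) (hsp : ξ ⤳ x) (n E : ℕ)
    (hn : @Algebra.trdeg (Y.residueField (f.base x)) (X.residueField x) _ _
        (f.residueFieldMap x).hom.toAlgebra = (n : Cardinal.{u}))
    (hE : @Algebra.trdeg (Y.residueField (f.base ξ)) (X.residueField ξ) _ _
        (f.residueFieldMap ξ).hom.toAlgebra = (E : Cardinal.{u}))
    (v : PrimeSpectrum (X.presheaf.stalk x)) (hv : X.fromSpecStalk x v = ξ)
    (w : PrimeSpectrum (Y.presheaf.stalk (f.base x)))
    (hw : Y.fromSpecStalk (f.base x) w = f.base ξ) :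
    ((Order.coheight v : ℕ∞) : WithBot ℕ∞) + n ≤ ((Order.coheight w : ℕ∞) : WithBot ℕ∞) + E := by
  obtain ⟨V, hV, hsV, -⟩ :=
    exists_isAffineOpen_mem_and_subset (X := Y) (x := f x) (U := ⊤) trivial
  obtain ⟨U, hU, hxU, e⟩ :=
    exists_isAffineOpen_mem_and_subset (X := X) (x := x) (U := f ⁻¹ᵁ V) hsV
  have hξU : ξ ∈ U := hsp.mem_open U.2 hxU
  obtain ⟨q, rfl⟩ : ∃ q : Spec Γ(X, U), hU.fromSpec q = x :=
    ⟨hU.primeIdealOf ⟨x, hxU⟩, hU.fromSpec_primeIdealOf ⟨x, hxU⟩⟩
  obtain ⟨Q, rfl⟩ : ∃ Q : Spec Γ(X, U), hU.fromSpec Q = ξ :=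
    ⟨hU.primeIdealOf ⟨ξ, hξU⟩, hU.fromSpec_primeIdealOf ⟨ξ, hξU⟩⟩
  letI := (f.appLE V U e).hom.toAlgebra
  haveI : Algebra.FiniteType Γ(Y, V) Γ(X, U) := f.finiteType_appLE hV hU e
  haveI : IsNoetherianRing Γ(Y, V) := IsLocallyNoetherian.component_noetherian ⟨V, hV⟩
  haveI : IsNoetherianRing Γ(X, U) := Algebra.FiniteType.isNoetherianRing Γ(Y, V) Γ(X, U)
  have hQq : Q.asIdeal ≤ q.asIdeal := by
    have h1 : Q ⤳ q := hU.fromSpec.isOpenEmbedding.isInducing.specializes_iff.mp hsp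
    exact (PrimeSpectrum.le_iff_specializes Q q).mpr h1
  have key := quot_le (A := Γ(Y, V)) Q.asIdeal q.asIdeal hQq
  have h1 : (((q.asIdeal.map (Ideal.Quotient.mk Q.asIdeal)).height : ℕ∞) : WithBot ℕ∞) =
      ((Order.coheight v : ℕ∞) : WithBot ℕ∞) :=
    height_map_mk_eq_coheight hU q Q hQq _ rfl v hv
  have h2 : (((q.asIdeal.under Γ(Y, V)).map
      (Ideal.Quotient.mk (Q.asIdeal.under Γ(Y, V)))).height : WithBot ℕ∞) =
      ((Order.coheight w : ℕ∞) : WithBot ℕ∞) := by
    refine height_map_mk_eq_coheight hV (Spec.map (f.appLE V U e) q)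
      (Spec.map (f.appLE V U e) Q) (Ideal.comap_mono hQq) _ (map_fromSpec f hU hV e q) w ?_
    rw [hw, map_fromSpec f hU hV e]
  have hn' : td Γ(Y, V) q.asIdeal = n := by
    have h3 := trdeg_residueFieldMap_eq_td f hU hV e q
    have h4 : (td Γ(Y, V) q.asIdeal : Cardinal.{u}) = (n : Cardinal.{u}) := h3.symm.trans hn
    exact_mod_cast h4
  have hE' : td Γ(Y, V) Q.asIdeal = E := by
    have h3 := trdeg_residueFieldMap_eq_td f hU hV e Q
    have h4 : (td Γ(Y, V) Q.asIdeal : Cardinal.{u}) = (E : Cardinal.{u}) := h3.symm.trans hE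
    exact_mod_cast h4
  rw [hn', hE'] at key
  rw [← h1, ← h2]
  exact_mod_cast key

/-- A point of a fibre which is maximal in the ambient scheme has fibre local ring of dimension
zero. -/
theorem coheight_asFiber_of_maximal {X Y : Scheme.{u}} (f : X ⟶ Y) (ξ : X)
    (hmax : ∀ t : X, t ⤳ ξ → t = ξ) : Order.coheight (f.asFiber ξ) = 0 := by
  rw [Order.coheight_eq_zero]
  intro z hz
  have h1 : z ⤳ f.asFiber ξ := Scheme.le_iff_specializes.mp hz
  have h2 : (f.fiberι (f.base ξ)).base z ⤳ (f.fiberι (f.base ξ)).base (f.asFiber ξ) :=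
    h1.map (f.fiberι (f.base ξ)).continuous
  rw [f.fiberι_asFiber] at h2
  have h3 : (f.fiberι (f.base ξ)).base z = (f.fiberι (f.base ξ)).base (f.asFiber ξ) := by
    rw [f.fiberι_asFiber]; exact hmax _ h2
  have h4 : z = f.asFiber ξ := (f.fiberι (f.base ξ)).isEmbedding.injective h3
  rw [h4]

/-- **EGA IV 13.3.6, converse direction**: if `O_{X,x}` is equidimensional and
`dim O_{X,x} = dim O_{Y,y} + dim O_{X_y,x}`, then `f` is equidimensional at `x`. -/
theorem isEquidimAt_of_dim_formula {X Y : Scheme.{u}} [IsLocallyNoetherian Y] (f : X ⟶ Y)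
    [LocallyOfFiniteType f] (x : X)
    (hX : EGA4.IsEquidim (X.presheaf.stalk x))
    (h : ringKrullDim (X.presheaf.stalk x) =
        ringKrullDim (Y.presheaf.stalk (f.base x)) +
          ringKrullDim ((f.fiber (f.base x)).presheaf.stalk (f.asFiber x))) :
    EGA43.IsEquidimAt f x := by
  haveI : IsLocallyNoetherian X := LocallyOfFiniteType.isLocallyNoetherian f
  obtain ⟨n, b, hn, hb, hform⟩ := fibre_formula f x
  obtain ⟨c, hc⟩ := exists_ringKrullDim_eq_nat (Y.presheaf.stalk (f.base x))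
  have hd : ringKrullDim (X.presheaf.stalk x) = ((c + b : ℕ) : WithBot ℕ∞) := by
    rw [h, hc, hb]; push_cast; rfl
  have key : ∀ ξ : X, ξ ⤳ x → (∀ t : X, t ⤳ ξ → t = ξ) →
      FlatMor.fibreDimAt f ξ = ((n + b : ℕ) : WithBot ℕ∞) ∧
        closure ({f.base ξ} : Set Y) ∈ irreducibleComponents (Y : Type u) := by
    intro ξ hsp hmax
    obtain ⟨v, hv⟩ := exists_of_specializes X hsp
    have hvmin : IsMin v := isMin_of_generic X x v (by rw [hv]; exact hmax)
    have hvmem : v.asIdeal ∈ minimalPrimes (X.presheaf.stalk x) := by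
      refine ⟨⟨v.2, bot_le⟩, ?_⟩
      intro q hq hqv
      exact hvmin (show (⟨q, hq.1⟩ : PrimeSpectrum (X.presheaf.stalk x)) ≤ v from hqv)
    have hcv : ((Order.coheight v : ℕ∞) : WithBot ℕ∞) = ((c + b : ℕ) : WithBot ℕ∞) := by
      rw [coheight_eq_ringKrullDim_quotient, hX v.asIdeal hvmem, hd]
    obtain ⟨w, hw⟩ := exists_of_specializes Y (hsp.map f.continuous)
    obtain ⟨E, b', hE, hb', hformξ⟩ := fibre_formula f ξ
    have hb0 : b' = 0 := by
      rw [ringKrullDim_stalk_eq_coheight, coheight_asFiber_of_maximal f ξ hmax] at hb'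
      exact_mod_cast hb'.symm
    have husc : FlatMor.fibreDimAt f ξ ≤ ((n + b : ℕ) : WithBot ℕ∞) := by
      have hopen := isOpen_setOf_fibreDimAt_le f (n + b)
      exact hsp.mem_open hopen (by show FlatMor.fibreDimAt f x ≤ _; rw [hform])
    have hEle : E ≤ n + b := by
      rw [hformξ, hb0] at husc; exact_mod_cast husc
    have hrel := rel_le f x ξ hsp n E hn hE v hv w hw
    have hcw : ((Order.coheight w : ℕ∞) : WithBot ℕ∞) ≤ (c : WithBot ℕ∞) := by
      rw [← hc]; exact Order.coheight_le_krullDim w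
    obtain ⟨c', hc'⟩ : ∃ c' : ℕ, Order.coheight w = (c' : ℕ∞) := by
      have hne : Order.coheight w ≠ ⊤ := by
        intro htop
        rw [htop] at hcw
        have : (⊤ : ℕ∞) ≤ (c : ℕ∞) := by exact_mod_cast hcw
        simp at this
      exact ⟨_, (ENat.natCast_toNat hne).symm⟩
    rw [hc'] at hcw hrel
    rw [hcv] at hrel
    have hcw' : c' ≤ c := by exact_mod_cast hcw
    have hrel' : c + b + n ≤ c' + E := by exact_mod_cast hrel
    have hcc : c' = c := by omega
    have hEE : E = n + b := by omega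
    refine ⟨by rw [hformξ, hb0, hEE]; rfl, ?_⟩
    have hwmin : IsMin w := by
      intro r hr
      by_contra hne
      have hlt : r < w := lt_of_le_not_ge hr hne
      have h1 : Order.coheight w + 1 ≤ Order.coheight r := Order.coheight_add_one_le hlt
      have h2 : ((Order.coheight r : ℕ∞) : WithBot ℕ∞) ≤ (c : WithBot ℕ∞) := by
        rw [← hc]; exact Order.coheight_le_krullDim r
      have h3 : Order.coheight r ≤ (c : ℕ∞) := by exact_mod_cast h2
      rw [hc', hcc] at h1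
      have h4 : ((c + 1 : ℕ) : ℕ∞) ≤ (c : ℕ∞) := by
        push_cast
        exact h1.trans h3
      have h5 : c + 1 ≤ c := by exact_mod_cast h4
      omega
    have hgen := generic_of_isMin Y (f.base x) w hwmin
    rw [hw] at hgen
    exact Groth.Agent.H54.closure_mem_irreducibleComponents_of_forall hgen
  obtain ⟨U₂, hxU₂, hU₂⟩ := exists_open_generic_of_isLocallyNoetherian x
  let U₁ : X.Opens := ⟨{x' | FlatMor.fibreDimAt f x' ≤ ((n + b : ℕ) : WithBot ℕ∞)},
    isOpen_setOf_fibreDimAt_le f (n + b)⟩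
  have hxU₁ : x ∈ U₁ := by
    show FlatMor.fibreDimAt f x ≤ _
    rw [hform]
  apply isEquidimAt_of_forall' f x (n + b) (U₁ ⊓ U₂) ⟨hxU₁, hxU₂⟩
  · intro ξ hξU hξmax
    obtain ⟨ζ, hζ1, hζ2⟩ := hU₂ ξ hξU.2
    have hζξ : ζ = ξ := hξmax ζ hζ1
    rw [hζξ] at hζ2
    exact ⟨(key ξ hζ2 hξmax).2, hζ2.map f.continuous⟩
  · intro z hz
    apply le_antisymm hz.1
    obtain ⟨ζ, hζ1, hζ2⟩ := hU₂ z hz.2
    obtain ⟨ξ, hξζ, hξmax⟩ := Groth.Agent.H71.DimFun.exists_generic_specializes X ζ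
    have hξ := (key ξ (hξζ.trans hζ2) hξmax).1
    have hclosed := isClosed_setOf_natCast_le_fibreDimAt f (n + b)
    have hmem : ξ ∈ {x' : X | ((n + b : ℕ) : WithBot ℕ∞) ≤ FlatMor.fibreDimAt f x'} := by
      show ((n + b : ℕ) : WithBot ℕ∞) ≤ FlatMor.fibreDimAt f ξ
      rw [hξ]
    have hsub : closure ({ξ} : Set X) ⊆
        {x' : X | ((n + b : ℕ) : WithBot ℕ∞) ≤ FlatMor.fibreDimAt f x'} :=
      hclosed.closure_subset_iff.mpr (Set.singleton_subset_iff.mpr hmem)
    exact hsub (hξζ.trans hζ1).mem_closure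

end Groth.Agent.H60.EquidimAtConv
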