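import Mathlib
import Groth.Agent.H60.EquidimAtConv

/-!
# Equidimensionality at a point passes to irreducible components
-/

set_option autoImplicit false
set_option linter.style.haveILetI false
universe u

open AlgebraicGeometry CategoryTheory

namespace Groth.Agent.H60.EquidimComp

open Groth.Agent.H9.DimFormulaEq Groth.Agent.H71.DimFun
  Groth.Agent.H9.FibreFormula Groth.Agent.H9.FibDim Groth.Agent.H9.Equidim
  Groth.Agent.H60.EquidimAtFlat Groth.Agent.H60.EquidimAtConv

/-- The local dimension does not increase along an inducing map. -/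
theorem localDim_le_of_isInducing {A B : Type*} [TopologicalSpace A] [TopologicalSpace B]
    {j : A → B} (hj : Topology.IsInducing j) (a : A) :
    FlatMor.localDim A a ≤ FlatMor.localDim B (j a) := by
  refine le_iInf fun V => ?_
  let W : TopologicalSpace.Opens A := ⟨j ⁻¹' (V.1 : Set B), V.1.2.preimage hj.continuous⟩
  have haW : a ∈ W := V.2
  refine (localDim_le_of_mem A a W haW).trans ?_
  let r : ↥(W : Set A) → ↥(V.1 : Set B) := fun t => ⟨j t.1, t.2⟩
  have hr : Topology.IsInducing r := by
    have h1 : Topology.IsInducing ((Subtype.val : ↥(V.1 : Set B) → B) ∘ r) :=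
      hj.comp Topology.IsInducing.subtypeVal
    exact (Topology.IsInducing.of_comp_iff Topology.IsInducing.subtypeVal).mp h1
  exact hr.topologicalKrullDim_le

/-- If `f` is equidimensional at every point of an open neighbourhood... in fact at `x`, then for
every irreducible component `W` of `X` through `x`, the restriction of `f` to `W` (reduced
structure) is equidimensional at `x`. -/
theorem isEquidimAt_component {X S : Scheme.{u}} (f : X ⟶ S) [LocallyOfFiniteType f] (x : X)
    (h : EGA43.IsEquidimAt f x) (ξ : X) (hξx : ξ ⤳ x) (hξmax : ∀ t : X, t ⤳ ξ → t = ξ)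
    (W : TopologicalSpace.Closeds X) (hW : (W : Set X) = closure {ξ})
    (w : ↥((Scheme.IdealSheafData.vanishingIdeal W).subscheme))
    (hw : (Scheme.IdealSheafData.vanishingIdeal W).subschemeι.base w = x) :
    EGA43.IsEquidimAt ((Scheme.IdealSheafData.vanishingIdeal W).subschemeι ≫ f) w := by
  obtain ⟨e₀, U, hxU, hB, hA⟩ := exists_of_isEquidimAt' f x h
  set ι := (Scheme.IdealSheafData.vanishingIdeal W).subschemeι with hι
  have hrange : Set.range ι.base = (W : Set X) := by
    rw [hι, Scheme.IdealSheafData.range_subschemeι,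
      Scheme.IdealSheafData.coe_support_vanishingIdeal]
  have hemb : Topology.IsEmbedding ι.base := ι.isClosedEmbedding.isEmbedding
  have hξU : ξ ∈ U := hξx.mem_open U.2 hxU
  -- the generic point of the component
  obtain ⟨ξZ, hξZ⟩ : ξ ∈ Set.range ι.base := by
    rw [hrange, hW]; exact subset_closure rfl
  have hgen : ∀ z, ξZ ⤳ z := by
    intro z
    rw [← hemb.isInducing.specializes_iff, hξZ, specializes_iff_mem_closure, ← hW, ← hrange]
    exact ⟨z, rfl⟩
  apply isEquidimAt_of_forall' (ι ≫ f) w e₀ (ι ⁻¹ᵁ U)
    (by show ι.base w ∈ U; rw [hw]; exact hxU)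
  · intro ζ hζU hζmax
    have hζ : ξZ = ζ := hζmax ξZ (hgen ζ)
    subst hζ
    have h1 : (ι ≫ f).base ξZ = f.base ξ := by
      rw [Scheme.Hom.comp_apply, hξZ]
    have h2 : (ι ≫ f).base w = f.base x := by
      rw [Scheme.Hom.comp_apply, hw]
    rw [h1, h2]
    exact hA ξ hξU hξmax
  · intro z hz
    have hzU : ι.base z ∈ U := hz
    apply le_antisymm
    · -- the fibre of the component is a subspace of the fibre
      have hmem : ι.base z ∈ (W : Set X) := by rw [← hrange]; exact ⟨z, rfl⟩
      have h1 := localDim_inter_fibre_eq ι hemb (W : Set X) hrange f z (ι.base z) rfl hmem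
      rw [← h1, ← hB _ hzU, fibreDimAt_eq_tfd]
      exact localDim_le_of_isInducing
        (Topology.IsEmbedding.inclusion (Set.inter_subset_right)).isInducing
        (⟨ι.base z, ⟨hmem, rfl⟩⟩ : ↥((W : Set X) ∩ f.base ⁻¹' {f.base (ι.base z)}))
    · have hclosed := isClosed_setOf_natCast_le_fibreDimAt (ι ≫ f) e₀
      have hmemξ : ξZ ∈ {z' | (e₀ : WithBot ℕ∞) ≤ FlatMor.fibreDimAt (ι ≫ f) z'} := by
        show (e₀ : WithBot ℕ∞) ≤ FlatMor.fibreDimAt (ι ≫ f) ξZ
        obtain ⟨n', b', hn', -, hform'⟩ := fibre_formula (ι ≫ f) ξZ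
        obtain ⟨n, b, hn, hb, hform⟩ := fibre_formula f ξ
        have hb0 : b = 0 := by
          rw [ringKrullDim_stalk_eq_coheight, coheight_asFiber_of_maximal f ξ hξmax] at hb
          exact_mod_cast hb.symm
        have hnn : n' = n := by
          have h3 := trdeg_comp_of_surjectiveOnStalks ι f ξZ
          have h4 := trdeg_congr_point f hξZ
          have h5 : (n' : Cardinal.{u}) = (n : Cardinal.{u}) := by
            rw [← hn', h3, h4, hn]
          exact_mod_cast h5
        rw [hform', ← hB ξ hξU, hform, hb0, hnn]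
        exact_mod_cast Nat.le_add_right n b'
      have hsub : closure ({ξZ} : Set _) ⊆
          {z' | (e₀ : WithBot ℕ∞) ≤ FlatMor.fibreDimAt (ι ≫ f) z'} :=
        hclosed.closure_subset_iff.mpr (Set.singleton_subset_iff.mpr hmemξ)
      exact hsub (hgen z).mem_closure

/-- **S14076**: if `f` is equidimensional at every point, every point lies on an irreducible
component `W` with `W ⟶ S` equidimensional at the point. -/
theorem main {X S : Scheme.{u}} (f : X ⟶ S) [LocallyOfFiniteType f]
    (h : ∀ x : X, EGA43.IsEquidimAt f x) (x : X) :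
    ∃ W : TopologicalSpace.Closeds X, (W : Set X) ∈ irreducibleComponents (X : Type u) ∧
      ∃ w : ↥((Scheme.IdealSheafData.vanishingIdeal W).subscheme),
        (Scheme.IdealSheafData.vanishingIdeal W).subschemeι.base w = x ∧
        EGA43.IsEquidimAt ((Scheme.IdealSheafData.vanishingIdeal W).subschemeι ≫ f) w := by
  obtain ⟨ξ, hξx, hξmax⟩ := Groth.Agent.H71.DimFun.exists_generic_specializes X x
  let W : TopologicalSpace.Closeds X := ⟨closure {ξ}, isClosed_closure⟩
  have hWc : (W : Set X) ∈ irreducibleComponents (X : Type u) :=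
    Groth.Agent.H54.closure_mem_irreducibleComponents_of_forall hξmax
  have hrange : Set.range (Scheme.IdealSheafData.vanishingIdeal W).subschemeι.base =
      (W : Set X) := by
    rw [Scheme.IdealSheafData.range_subschemeι,
      Scheme.IdealSheafData.coe_support_vanishingIdeal]
  obtain ⟨w, hw⟩ : x ∈ Set.range (Scheme.IdealSheafData.vanishingIdeal W).subschemeι.base := by
    rw [hrange]; exact hξx.mem_closure
  exact ⟨W, hWc, w, hw, isEquidimAt_component f x (h x) ξ hξx hξmax W rfl w hw⟩

end Groth.Agent.H60.EquidimComp
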