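import Mathlib
import Groth.Agent.H60.EquidimComp

/-!
# Equidimensionality of a component at a point from equidimensionality at a maximal point of the fibre
-/

set_option autoImplicit false
set_option linter.style.haveILetI false
universe u

open AlgebraicGeometry CategoryTheory

namespace Groth.Agent.H60.EquidimFibMax

open Groth.Agent.H54 Groth.Agent.H9.DimFormulaEq
  Groth.Agent.H9.FibreFormula Groth.Agent.H9.FibDim Groth.Agent.H9.Equidim
  Groth.Agent.H60.EquidimAtFlat Groth.Agent.H60.EquidimAtConv Groth.Agent.H60.EquidimComp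

/-- On a scheme locally of finite type over a field, every point `a` has a maximal generization
whose residue field has transcendence degree `trdeg κ(a) + dim O_a` (the local dimension at `a`). -/
theorem exists_generic_tdeg_eq {k : Type u} [Field k] {F : Scheme.{u}}
    (s : F ⟶ Spec (CommRingCat.of k)) [LocallyOfFiniteType s] (a : F) (b : ℕ)
    (hb : Order.coheight a = b) :
    ∃ ξ : F, ξ ⤳ a ∧ (∀ t : F, t ⤳ ξ → t = ξ) ∧ tdeg s ξ = tdeg s a + b := by
  by_contra hcon
  simp only [not_exists, not_and] at hcon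
  have hle : ∀ ξ : F, ξ ⤳ a → tdeg s ξ ≤ tdeg s a + b := by
    intro ξ hξ
    have h1 := tdeg_le_tdeg_add_coheight s hξ
    rw [hb] at h1
    exact_mod_cast h1
  have hlt : ∀ ξ : F, ξ ⤳ a → (∀ t : F, t ⤳ ξ → t = ξ) → tdeg s ξ + 1 ≤ tdeg s a + b := by
    intro ξ hξ hmax
    have h1 := hle ξ hξ
    have h2 := hcon ξ hξ hmax
    omega
  obtain ⟨U, haU, hU⟩ := exists_open_generic s a
  have hloc := localDim_eq s a b hb
  have hdimU : topologicalKrullDim U ≤ ((tdeg s a + b - 1 : ℕ) : WithBot ℕ∞) := by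
    apply topologicalKrullDim_opens_le_of_forall_tdeg_le s U
    intro y hy
    obtain ⟨ζ, hζy, hζa⟩ := hU y hy
    obtain ⟨ξ, hξζ, hξmax⟩ := Groth.Agent.H71.DimFun.exists_generic_specializes F ζ
    have h1 := hlt ξ (hξζ.trans hζa) hξmax
    have h2 := tdeg_le_of_specializes s (hξζ.trans hζy)
    omega
  have h3 := localDim_le_of_mem F a U haU
  rw [hloc] at h3
  have h4 := h3.trans hdimU
  have h5 : tdeg s a + b ≤ tdeg s a + b - 1 := by exact_mod_cast h4
  obtain ⟨ξ, hξa, hξmax⟩ := Groth.Agent.H71.DimFun.exists_generic_specializes F a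
  have h6 := hlt ξ hξa hξmax
  omega

/-- **S14079**. -/
theorem main {X S : Scheme.{u}} (f : X ⟶ S) [LocallyOfFiniteType f]
    (h : ∀ x : X, (∀ x' : X, f.base x' = f.base x → x ∈ closure ({x'} : Set X) → x' = x) →
      ∃ W : TopologicalSpace.Closeds X, (W : Set X) ∈ irreducibleComponents (X : Type u) ∧
      ∃ w : ↥((Scheme.IdealSheafData.vanishingIdeal W).subscheme),
        (Scheme.IdealSheafData.vanishingIdeal W).subschemeι.base w = x ∧
        EGA43.IsEquidimAt ((Scheme.IdealSheafData.vanishingIdeal W).subschemeι ≫ f) w)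
    (x : X) :
    ∃ W : TopologicalSpace.Closeds X, (W : Set X) ∈ irreducibleComponents (X : Type u) ∧
      ∃ w : ↥((Scheme.IdealSheafData.vanishingIdeal W).subscheme),
        (Scheme.IdealSheafData.vanishingIdeal W).subschemeι.base w = x ∧
        EGA43.IsEquidimAt ((Scheme.IdealSheafData.vanishingIdeal W).subschemeι ≫ f) w := by
  -- a maximal point of the fibre through `x` of maximal dimension
  obtain ⟨b, hb⟩ : ∃ b : ℕ, Order.coheight (f.asFiber x) = b :=
    ⟨_, (ENat.natCast_toNat (coheight_ne_top (fiberQ f (f.base x)) _)).symm⟩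
  obtain ⟨ζ, hζx, hζmax, hζdeg⟩ := exists_generic_tdeg_eq (fiberQ f (f.base x)) (f.asFiber x) b hb
  have hfx := fibreDimAt_eq f x b hb
  set z := (f.fiberι (f.base x)).base ζ with hz
  have hfz : f.base z = f.base x := fiberι_mem f (f.base x) ζ
  have hzx : z ⤳ x := by
    have := hζx.map (f.fiberι (f.base x)).continuous
    rwa [f.fiberι_asFiber] at this
  have hzmax : ∀ x' : X, f.base x' = f.base z → z ∈ closure ({x'} : Set X) → x' = z := by
    intro x' hx' hcl
    obtain ⟨ζ', hζ'⟩ : x' ∈ Set.range (f.fiberι (f.base x)).base := by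
      rw [f.range_fiberι]; exact hx'.trans hfz
    have h1 : x' ⤳ z := specializes_iff_mem_closure.mpr hcl
    rw [← hζ', hz] at h1
    have h2 : ζ' ⤳ ζ := (f.fiberι (f.base x)).isEmbedding.isInducing.specializes_iff.mp h1
    rw [← hζ', hζmax ζ' h2]
  obtain ⟨W, hWc, zW, hzW, heq⟩ := h z hzmax
  set ι := (Scheme.IdealSheafData.vanishingIdeal W).subschemeι with hι
  have hrange : Set.range ι.base = (W : Set X) := by
    rw [hι, Scheme.IdealSheafData.range_subschemeι,
      Scheme.IdealSheafData.coe_support_vanishingIdeal]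
  have hemb : Topology.IsEmbedding ι.base := ι.isClosedEmbedding.isEmbedding
  have hzWmem : z ∈ (W : Set X) := by rw [← hrange]; exact ⟨zW, hzW⟩
  have hxW : x ∈ (W : Set X) := W.isClosed.closure_subset_iff.mpr
    (Set.singleton_subset_iff.mpr hzWmem) hzx.mem_closure
  obtain ⟨w, hw⟩ : x ∈ Set.range ι.base := by rw [hrange]; exact hxW
  refine ⟨W, hWc, w, hw, ?_⟩
  -- the generic point of `W`
  obtain ⟨ξ, hξ⟩ : ∃ ξ : X, closure {ξ} = (W : Set X) :=
    ⟨hWc.1.genericPoint, hWc.1.closure_genericPoint W.isClosed⟩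
  obtain ⟨ξZ, hξZ⟩ : ξ ∈ Set.range ι.base := by
    rw [hrange, ← hξ]; exact subset_closure rfl
  have hgen : ∀ t, ξZ ⤳ t := by
    intro t
    rw [← hemb.isInducing.specializes_iff, hξZ, specializes_iff_mem_closure, hξ, ← hrange]
    exact ⟨t, rfl⟩
  obtain ⟨e, U, hzU, hB, hA⟩ := exists_of_isEquidimAt' (ι ≫ f) zW heq
  have hξU : ξZ ∈ U := (hgen zW).mem_open U.2 hzU
  have hξmax : ∀ t, t ⤳ ξZ → t = ξZ := fun t ht => ((hgen t).antisymm ht).eq.symm
  -- `e ≥ trdeg κ(z)/κ(s) = n + b = fibreDimAt f x ≥ fibreDimAt (ι ≫ f) w`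
  have hle : FlatMor.fibreDimAt (ι ≫ f) w ≤ (e : WithBot ℕ∞) := by
    have h1 := localDim_inter_fibre_eq ι hemb (W : Set X) hrange f w x hw hxW
    have h2 : FlatMor.fibreDimAt (ι ≫ f) w ≤ FlatMor.fibreDimAt f x := by
      rw [← h1, fibreDimAt_eq_tfd]
      exact localDim_le_of_isInducing
        (Topology.IsEmbedding.inclusion (Set.inter_subset_right)).isInducing
        (⟨x, ⟨hxW, rfl⟩⟩ : ↥((W : Set X) ∩ f.base ⁻¹' {f.base x}))
    refine h2.trans ?_
    rw [hfx, ← hζdeg]
    obtain ⟨n', b', hn', -, hform'⟩ := fibre_formula (ι ≫ f) zW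
    have h3 := trdeg_comp_of_surjectiveOnStalks ι f zW
    have h4 := trdeg_congr_point f hzW
    have h5 := trdeg_fiber_eq f (f.base x) ζ
    have h6 : (n' : Cardinal.{u}) = (tdeg (fiberQ f (f.base x)) ζ : Cardinal.{u}) := by
      rw [← hn', h3, h4, ← h5]
    have h7 : n' = tdeg (fiberQ f (f.base x)) ζ := by exact_mod_cast h6
    have h8 := hB zW hzU
    rw [hform'] at h8
    have h9 : n' + b' = e := by exact_mod_cast h8
    have h10 : tdeg (fiberQ f (f.base x)) ζ ≤ e := by omega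
    exact_mod_cast h10
  let U₁ : (Scheme.IdealSheafData.vanishingIdeal W).subscheme.Opens :=
    ⟨{t | FlatMor.fibreDimAt (ι ≫ f) t ≤ (e : WithBot ℕ∞)}, isOpen_setOf_fibreDimAt_le (ι ≫ f) e⟩
  apply isEquidimAt_of_forall' (ι ≫ f) w e U₁ hle
  · intro t _ htmax
    have ht : ξZ = t := htmax ξZ (hgen t)
    subst ht
    obtain ⟨hc, hs⟩ := hA ξZ hξU hξmax
    refine ⟨hc, ?_⟩
    have h1 : (ι ≫ f).base zW = (ι ≫ f).base w := by
      rw [Scheme.Hom.comp_apply, Scheme.Hom.comp_apply, hzW, hw, hfz]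
    rw [← h1]; exact hs
  · intro t ht
    apply le_antisymm ht
    have hclosed := isClosed_setOf_natCast_le_fibreDimAt (ι ≫ f) e
    have hmemξ : ξZ ∈ {z' | (e : WithBot ℕ∞) ≤ FlatMor.fibreDimAt (ι ≫ f) z'} := by
      show (e : WithBot ℕ∞) ≤ FlatMor.fibreDimAt (ι ≫ f) ξZ
      rw [hB ξZ hξU]
    have hsub : closure ({ξZ} : Set _) ⊆
        {z' | (e : WithBot ℕ∞) ≤ FlatMor.fibreDimAt (ι ≫ f) z'} :=
      hclosed.closure_subset_iff.mpr (Set.singleton_subset_iff.mpr hmemξ)
    exact hsub (hgen t).mem_closure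

end Groth.Agent.H60.EquidimFibMax
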