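import Mathlib
import Groth.Agent.H60.EquidimFibMax

/-!
# Equidimensionality at a point in terms of the irreducible components through the point
-/

set_option autoImplicit false
set_option linter.style.haveILetI false
universe u

open AlgebraicGeometry CategoryTheory

namespace Groth.Agent.H60.EquidimCrit

open Groth.Agent.H54 Groth.Agent.H9.DimFormulaEq
  Groth.Agent.H9.FibreFormula Groth.Agent.H9.FibDim Groth.Agent.H9.Equidim
  Groth.Agent.H60.EquidimAtFlat Groth.Agent.H60.EquidimAtConv Groth.Agent.H60.EquidimComp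
  Groth.Agent.H60.EquidimFibMax

/-- The closure of a point in its fibre (as a subspace of `X`) has dimension the transcendence
degree of the residue field extension. -/
theorem dim_closure_inter_fibre {X Y : Scheme.{u}} (f : X ⟶ Y) [LocallyOfFiniteType f] (ξ : X) :
    topologicalKrullDim ↥(closure ({ξ} : Set X) ∩ f.base ⁻¹' {f.base ξ}) =
      (tdeg (fiberQ f (f.base ξ)) (f.asFiber ξ) : WithBot ℕ∞) := by
  rw [← topologicalKrullDim_closure_singleton (fiberQ f (f.base ξ)) (f.asFiber ξ)]
  have hmem : ∀ t : ↥(closure ({f.asFiber ξ} : Set ↥(f.fiber (f.base ξ)))),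
      (f.fiberι (f.base ξ)).base t.1 ∈ closure ({ξ} : Set X) ∩ f.base ⁻¹' {f.base ξ} := by
    intro t
    refine ⟨?_, fiberι_mem f (f.base ξ) t.1⟩
    have h1 : f.asFiber ξ ⤳ t.1 := specializes_iff_mem_closure.mpr t.2
    have h2 := h1.map (f.fiberι (f.base ξ)).continuous
    rw [f.fiberι_asFiber] at h2
    exact h2.mem_closure
  let r : ↥(closure ({f.asFiber ξ} : Set ↥(f.fiber (f.base ξ)))) →
      ↥(closure ({ξ} : Set X) ∩ f.base ⁻¹' {f.base ξ}) := fun t => ⟨_, hmem t⟩
  have hemb : Topology.IsEmbedding r := by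
    have h1 : Topology.IsEmbedding
        (fun t : ↥(closure ({f.asFiber ξ} : Set ↥(f.fiber (f.base ξ)))) =>
          (f.fiberι (f.base ξ)).base t.1) :=
      (f.fiberι (f.base ξ)).isEmbedding.comp Topology.IsEmbedding.subtypeVal
    exact h1.codRestrict _ hmem
  have hsurj : Function.Surjective r := by
    rintro ⟨p, hp1, hp2⟩
    obtain ⟨t, ht⟩ : p ∈ Set.range (f.fiberι (f.base ξ)).base := by
      rw [f.range_fiberι]; exact hp2
    have h1 : ξ ⤳ p := specializes_iff_mem_closure.mpr hp1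
    rw [← ht] at h1
    have h1' : (f.fiberι (f.base ξ)).base (f.asFiber ξ) ⤳ (f.fiberι (f.base ξ)).base t := by
      rw [f.fiberι_asFiber]; exact h1
    have h2 : f.asFiber ξ ⤳ t :=
      (f.fiberι (f.base ξ)).isEmbedding.isInducing.specializes_iff.mp h1'
    exact ⟨⟨t, h2.mem_closure⟩, Subtype.ext ht⟩
  exact ((hemb.toHomeomorphOfSurjective hsurj).isHomeomorph.topologicalKrullDim_eq r).symm

/-- At a maximal point of `X`, the local fibre dimension is the dimension of the closure of the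
point in its fibre. -/
theorem fibreDimAt_of_maximal {X Y : Scheme.{u}} (f : X ⟶ Y) [LocallyOfFiniteType f] (ξ : X)
    (hmax : ∀ t : X, t ⤳ ξ → t = ξ) :
    FlatMor.fibreDimAt f ξ =
      topologicalKrullDim ↥(closure ({ξ} : Set X) ∩ f.base ⁻¹' {f.base ξ}) := by
  rw [dim_closure_inter_fibre, fibreDimAt_eq f ξ 0 (by
    rw [coheight_asFiber_of_maximal f ξ hmax]; rfl)]
  rfl

/-- The transcendence degree of the residue field of a generization in the same fibre bounds the
local fibre dimension from below. -/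
theorem natCast_trdeg_le_fibreDimAt {Z Y : Scheme.{u}} (g : Z ⟶ Y) [LocallyOfFiniteType g]
    (z x : Z) (hsp : z ⤳ x) (hg : g.base z = g.base x) (m : ℕ)
    (hm : @Algebra.trdeg (Y.residueField (g.base z)) (Z.residueField z) _ _
        (g.residueFieldMap z).hom.toAlgebra = (m : Cardinal.{u})) :
    (m : WithBot ℕ∞) ≤ FlatMor.fibreDimAt g x := by
  obtain ⟨ζ, hζ⟩ : z ∈ Set.range (g.fiberι (g.base x)).base := by
    rw [g.range_fiberι]; exact hg
  have h1 : ζ ⤳ g.asFiber x := by
    rw [← (g.fiberι (g.base x)).isEmbedding.isInducing.specializes_iff, hζ, g.fiberι_asFiber]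
    exact hsp
  obtain ⟨b, hb⟩ : ∃ b : ℕ, Order.coheight (g.asFiber x) = b :=
    ⟨_, (ENat.natCast_toNat (coheight_ne_top (fiberQ g (g.base x)) _)).symm⟩
  rw [fibreDimAt_eq g x b hb]
  have h2 := tdeg_le_tdeg_add_coheight (fiberQ g (g.base x)) h1
  rw [hb] at h2
  have h3 : tdeg (fiberQ g (g.base x)) ζ ≤ tdeg (fiberQ g (g.base x)) (g.asFiber x) + b := by
    exact_mod_cast h2
  have h4 := trdeg_fiber_eq g (g.base x) ζ
  have h5 := trdeg_congr_point g hζ
  have h6 : (m : Cardinal.{u}) = (tdeg (fiberQ g (g.base x)) ζ : Cardinal.{u}) := by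
    rw [← hm, ← h5, h4]
  have h7 : m = tdeg (fiberQ g (g.base x)) ζ := by exact_mod_cast h6
  rw [h7]
  exact_mod_cast h3

/-- If `f` has constant local fibre dimension `e₀` on an open `U` containing the maximal point `ξ`,
then the restriction of `f` to the reduced component `closure {ξ}` has local fibre dimension `e₀` at
all points over `U`. -/
theorem fibreDimAt_component_eq {X S : Scheme.{u}} (f : X ⟶ S) [LocallyOfFiniteType f]
    (e₀ : ℕ) (U : X.Opens) (hB : ∀ x₁ : X, x₁ ∈ U → FlatMor.fibreDimAt f x₁ = (e₀ : WithBot ℕ∞))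
    (ξ : X) (hξU : ξ ∈ U) (hξmax : ∀ t : X, t ⤳ ξ → t = ξ)
    (W : TopologicalSpace.Closeds X) (hW : (W : Set X) = closure {ξ})
    (z : ↥((Scheme.IdealSheafData.vanishingIdeal W).subscheme))
    (hzU : (Scheme.IdealSheafData.vanishingIdeal W).subschemeι.base z ∈ U) :
    FlatMor.fibreDimAt ((Scheme.IdealSheafData.vanishingIdeal W).subschemeι ≫ f) z =
      (e₀ : WithBot ℕ∞) := by
  set ι := (Scheme.IdealSheafData.vanishingIdeal W).subschemeι with hι
  have hrange : Set.range ι.base = (W : Set X) := by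
    rw [hι, Scheme.IdealSheafData.range_subschemeι,
      Scheme.IdealSheafData.coe_support_vanishingIdeal]
  have hemb : Topology.IsEmbedding ι.base := ι.isClosedEmbedding.isEmbedding
  obtain ⟨ξZ, hξZ⟩ : ξ ∈ Set.range ι.base := by
    rw [hrange, hW]; exact subset_closure rfl
  have hgen : ∀ z, ξZ ⤳ z := by
    intro z
    rw [← hemb.isInducing.specializes_iff, hξZ, specializes_iff_mem_closure, ← hW, ← hrange]
    exact ⟨z, rfl⟩
  apply le_antisymm
  · have hmem : ι.base z ∈ (W : Set X) := by rw [← hrange]; exact ⟨z, rfl⟩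
    have h1 := localDim_inter_fibre_eq ι hemb (W : Set X) hrange f z (ι.base z) rfl hmem
    rw [← h1, ← hB _ hzU, fibreDimAt_eq_tfd]
    exact localDim_le_of_isInducing
      (Topology.IsEmbedding.inclusion (Set.inter_subset_right)).isInducing
      (⟨ι.base z, ⟨hmem, rfl⟩⟩ : ↥((W : Set X) ∩ f.base ⁻¹' {f.base (ι.base z)}))
  · have hclosed := isClosed_setOf_natCast_le_fibreDimAt (ι ≫ f) e₀
    have hmemξ : ξZ ∈ {z' | (e₀ : WithBot ℕ∞) ≤ FlatMor.fibreDimAt (ι ≫ f) z'} := by
      show (e₀ : WithBot ℕ∞) ≤ FlatMor.fibreDimAt (ι ≫ f) ξZ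
      obtain ⟨n', b', hn', -, hform'⟩ := fibre_formula (ι ≫ f) ξZ
      obtain ⟨n, b, hn, hb, hform⟩ := fibre_formula f ξ
      have hb0 : b = 0 := by
        rw [ringKrullDim_stalk_eq_coheight, coheight_asFiber_of_maximal f ξ hξmax] at hb
        exact_mod_cast hb.symm
      have hnn : n' = n := by
        have h3 := trdeg_comp_of_surjectiveOnStalks ι f ξZ
        have h4 := trdeg_congr_point f hξZ
        have h5 : (n' : Cardinal.{u}) = (n : Cardinal.{u}) := by
          rw [← hn', h3, h4, hn]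
        exact_mod_cast h5
      rw [hform', ← hB ξ hξU, hform, hb0, hnn]
      exact_mod_cast Nat.le_add_right n b'
    have hsub : closure ({ξZ} : Set _) ⊆
        {z' | (e₀ : WithBot ℕ∞) ≤ FlatMor.fibreDimAt (ι ≫ f) z'} :=
      hclosed.closure_subset_iff.mpr (Set.singleton_subset_iff.mpr hmemξ)
    exact hsub (hgen z).mem_closure

theorem closure_image_closure {X Y : Scheme.{u}} (f : X ⟶ Y) (ξ : X) :
    closure (f.base '' closure ({ξ} : Set X)) = closure ({f.base ξ} : Set Y) := by
  apply subset_antisymm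
  · apply closure_minimal _ isClosed_closure
    rintro _ ⟨t, ht, rfl⟩
    exact ((specializes_iff_mem_closure.mpr ht).map f.continuous).mem_closure
  · apply closure_mono
    rw [Set.singleton_subset_iff]
    exact ⟨ξ, subset_closure rfl, rfl⟩

/-- **S3456, forward direction.** -/
theorem forward {X Y : Scheme.{u}} (f : X ⟶ Y) [LocallyOfFiniteType f] (x : X)
    (h : EGA43.IsEquidimAt f x) :
    ∃ e : ℕ, ∀ Xj ∈ irreducibleComponents (X : Type u), ∀ hx : x ∈ Xj,
      closure (f.base '' Xj) ∈ irreducibleComponents (Y : Type u) ∧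
      (∀ η : Y, closure ({η} : Set Y) = closure (f.base '' Xj) →
        topologicalKrullDim ↥(Xj ∩ f.base ⁻¹' {η}) = e) ∧
      FlatMor.localDim ↥(Xj ∩ f.base ⁻¹' {f.base x})
        ⟨x, ⟨hx, Set.mem_singleton (f.base x)⟩⟩ = e := by
  obtain ⟨e₀, U, hxU, hB, hA⟩ := exists_of_isEquidimAt' f x h
  refine ⟨e₀, ?_⟩
  intro Xj hXj hx
  have hcl : IsClosed Xj := isClosed_of_mem_irreducibleComponents Xj hXj
  obtain ⟨ξ, hξ⟩ : ∃ ξ : X, closure {ξ} = Xj :=
    ⟨hXj.1.genericPoint, hXj.1.closure_genericPoint hcl⟩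
  subst hξ
  have hξx : ξ ⤳ x := specializes_iff_mem_closure.mpr hx
  have hξmax : ∀ t : X, t ⤳ ξ → t = ξ := fun t ht => eq_of_specializes_generic hXj ht
  have hξU := hξx.mem_open U.2 hxU
  obtain ⟨hcomp, hspec⟩ := hA ξ hξU hξmax
  have himg := closure_image_closure f ξ
  refine ⟨himg ▸ hcomp, ?_, ?_⟩
  · intro η hη
    rw [himg] at hη
    have hηξ : η = f.base ξ :=
      ((specializes_iff_closure_subset.mpr hη.ge).antisymm
        (specializes_iff_closure_subset.mpr hη.le)).eq
    subst hηξ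
    rw [← fibreDimAt_of_maximal f ξ hξmax, hB ξ hξU]
  · let W : TopologicalSpace.Closeds X := ⟨closure {ξ}, isClosed_closure⟩
    have hrange : Set.range (Scheme.IdealSheafData.vanishingIdeal W).subschemeι.base =
        (W : Set X) := by
      rw [Scheme.IdealSheafData.range_subschemeι,
        Scheme.IdealSheafData.coe_support_vanishingIdeal]
    have hemb : Topology.IsEmbedding (Scheme.IdealSheafData.vanishingIdeal W).subschemeι.base :=
      (Scheme.IdealSheafData.vanishingIdeal W).subschemeι.isClosedEmbedding.isEmbedding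
    obtain ⟨w, hw⟩ : x ∈ Set.range (Scheme.IdealSheafData.vanishingIdeal W).subschemeι.base := by
      rw [hrange]; exact hx
    have h1 := localDim_inter_fibre_eq _ hemb (W : Set X) hrange f w x hw hx
    refine Eq.trans ?_ (fibreDimAt_component_eq f e₀ U hB ξ hξU hξmax W rfl w (hw ▸ hxU))
    exact h1

/-- **S3456, backward direction.** -/
theorem backward {X Y : Scheme.{u}} [IsLocallyNoetherian Y] (f : X ⟶ Y) [LocallyOfFiniteType f]
    (x : X) (e : ℕ)
    (hcrit : ∀ Xj ∈ irreducibleComponents (X : Type u), ∀ hx : x ∈ Xj,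
      closure (f.base '' Xj) ∈ irreducibleComponents (Y : Type u) ∧
      (∀ η : Y, closure ({η} : Set Y) = closure (f.base '' Xj) →
        topologicalKrullDim ↥(Xj ∩ f.base ⁻¹' {η}) = e) ∧
      FlatMor.localDim ↥(Xj ∩ f.base ⁻¹' {f.base x})
        ⟨x, ⟨hx, Set.mem_singleton (f.base x)⟩⟩ = e) :
    EGA43.IsEquidimAt f x := by
  haveI : IsLocallyNoetherian X := LocallyOfFiniteType.isLocallyNoetherian f
  have key : ∀ ξ : X, ξ ⤳ x → (∀ t : X, t ⤳ ξ → t = ξ) →
      closure ({f.base ξ} : Set Y) ∈ irreducibleComponents (Y : Type u) ∧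
        FlatMor.fibreDimAt f ξ = (e : WithBot ℕ∞) := by
    intro ξ hξx hξmax
    have hXj : closure ({ξ} : Set X) ∈ irreducibleComponents (X : Type u) :=
      closure_mem_irreducibleComponents_of_forall hξmax
    obtain ⟨h1, h2, -⟩ := hcrit _ hXj hξx.mem_closure
    have himg := closure_image_closure f ξ
    refine ⟨himg ▸ h1, ?_⟩
    rw [fibreDimAt_of_maximal f ξ hξmax]
    exact h2 (f.base ξ) himg.symm
  -- the local fibre dimension at `x` is at most `e`
  have hle : FlatMor.fibreDimAt f x ≤ (e : WithBot ℕ∞) := by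
    obtain ⟨b, hb⟩ : ∃ b : ℕ, Order.coheight (f.asFiber x) = b :=
      ⟨_, (ENat.natCast_toNat (coheight_ne_top (fiberQ f (f.base x)) _)).symm⟩
    obtain ⟨ζ, hζx, hζmax, hζdeg⟩ :=
      exists_generic_tdeg_eq (fiberQ f (f.base x)) (f.asFiber x) b hb
    rw [fibreDimAt_eq f x b hb, ← hζdeg]
    set z := (f.fiberι (f.base x)).base ζ with hz
    have hfz : f.base z = f.base x := fiberι_mem f (f.base x) ζ
    have hzx : z ⤳ x := by
      have := hζx.map (f.fiberι (f.base x)).continuous
      rwa [f.fiberι_asFiber] at this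
    obtain ⟨ξ, hξz, hξmax⟩ := Groth.Agent.H71.DimFun.exists_generic_specializes X z
    have hξx := hξz.trans hzx
    have hXj : closure ({ξ} : Set X) ∈ irreducibleComponents (X : Type u) :=
      closure_mem_irreducibleComponents_of_forall hξmax
    let W : TopologicalSpace.Closeds X := ⟨closure {ξ}, isClosed_closure⟩
    have hrange : Set.range (Scheme.IdealSheafData.vanishingIdeal W).subschemeι.base =
        (W : Set X) := by
      rw [Scheme.IdealSheafData.range_subschemeι,
        Scheme.IdealSheafData.coe_support_vanishingIdeal]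
    have hemb : Topology.IsEmbedding (Scheme.IdealSheafData.vanishingIdeal W).subschemeι.base :=
      (Scheme.IdealSheafData.vanishingIdeal W).subschemeι.isClosedEmbedding.isEmbedding
    obtain ⟨zW, hzW⟩ : z ∈ Set.range (Scheme.IdealSheafData.vanishingIdeal W).subschemeι.base := by
      rw [hrange]; exact hξz.mem_closure
    obtain ⟨w, hw⟩ : x ∈ Set.range (Scheme.IdealSheafData.vanishingIdeal W).subschemeι.base := by
      rw [hrange]; exact hξx.mem_closure
    have hsp : zW ⤳ w := by
      rw [← hemb.isInducing.specializes_iff, hzW, hw]; exact hzx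
    have hg : ((Scheme.IdealSheafData.vanishingIdeal W).subschemeι ≫ f).base zW =
        ((Scheme.IdealSheafData.vanishingIdeal W).subschemeι ≫ f).base w := by
      rw [Scheme.Hom.comp_apply, Scheme.Hom.comp_apply, hzW, hw, hfz]
    have h3 := trdeg_comp_of_surjectiveOnStalks
      (Scheme.IdealSheafData.vanishingIdeal W).subschemeι f zW
    have h4 := trdeg_congr_point f hzW
    have h5 := trdeg_fiber_eq f (f.base x) ζ
    have h6 := natCast_trdeg_le_fibreDimAt
      ((Scheme.IdealSheafData.vanishingIdeal W).subschemeι ≫ f) zW w hsp hg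
      (tdeg (fiberQ f (f.base x)) ζ) (by rw [h3, h4, ← h5])
    have h7 := localDim_inter_fibre_eq _ hemb (W : Set X) hrange f w x hw hξx.mem_closure
    obtain ⟨-, -, h8⟩ := hcrit _ hXj hξx.mem_closure
    have h8' : FlatMor.localDim ↥((W : Set X) ∩ f.base ⁻¹' {f.base x})
        ⟨x, ⟨hξx.mem_closure, rfl⟩⟩ = (e : WithBot ℕ∞) := h8
    rw [← h7, h8'] at h6
    exact h6
  obtain ⟨U₂, hxU₂, hU₂⟩ := exists_open_generic_of_isLocallyNoetherian x
  let U₁ : X.Opens := ⟨{x' | FlatMor.fibreDimAt f x' ≤ (e : WithBot ℕ∞)},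
    isOpen_setOf_fibreDimAt_le f e⟩
  apply isEquidimAt_of_forall' f x e (U₁ ⊓ U₂) ⟨hle, hxU₂⟩
  · intro ξ hξU hξmax
    obtain ⟨ζ, hζ1, hζ2⟩ := hU₂ ξ hξU.2
    have hζξ : ζ = ξ := hξmax ζ hζ1
    rw [hζξ] at hζ2
    exact ⟨(key ξ hζ2 hξmax).1, hζ2.map f.continuous⟩
  · intro z hz
    apply le_antisymm hz.1
    obtain ⟨ζ, hζ1, hζ2⟩ := hU₂ z hz.2
    obtain ⟨ξ, hξζ, hξmax⟩ := Groth.Agent.H71.DimFun.exists_generic_specializes X ζ
    have hξ := (key ξ (hξζ.trans hζ2) hξmax).2
    have hclosed := isClosed_setOf_natCast_le_fibreDimAt f e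
    have hmem : ξ ∈ {x' : X | (e : WithBot ℕ∞) ≤ FlatMor.fibreDimAt f x'} := by
      show (e : WithBot ℕ∞) ≤ FlatMor.fibreDimAt f ξ
      rw [hξ]
    have hsub : closure ({ξ} : Set X) ⊆
        {x' : X | (e : WithBot ℕ∞) ≤ FlatMor.fibreDimAt f x'} :=
      hclosed.closure_subset_iff.mpr (Set.singleton_subset_iff.mpr hmem)
    exact hsub (hξζ.trans hζ1).mem_closure

end Groth.Agent.H60.EquidimCrit
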