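import Mathlib
import Groth.Agent.H60.EquidimCrit
import Groth.Agent.S3447

/-!
# The dimension formula at a point in terms of a generic point of a fibre component (EGA IV 13.3.?)
-/

set_option autoImplicit false
set_option linter.style.haveILetI false
universe u

open AlgebraicGeometry CategoryTheory

namespace Groth.Agent.H60.DimFormulaIff

open Groth.Agent.H54 Groth.Agent.H9.DimFormulaEq Groth.Agent.H71.DimFun
  Groth.Agent.H9.FibreFormula Groth.Agent.H9.FibDim Groth.Agent.H9.Equidim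
  Groth.Agent.H60.EquidimAtFlat Groth.Agent.H60.EquidimAtConv Groth.Agent.H60.EquidimComp
  Groth.Agent.H60.EquidimFibMax Groth.Agent.H60.EquidimCrit

set_option backward.isDefEq.respectTransparency.types false in
/-- `dim O_{X,z} + dim O_{X,x}/p_z ≤ dim O_{X,x}` for a generization `z` of `x`. -/
theorem coheight_add_coheight_le {X : Scheme.{u}} (x : X)
    (v : PrimeSpectrum (X.presheaf.stalk x)) :
    ((Order.coheight (X.fromSpecStalk x v) : ℕ∞) : WithBot ℕ∞) +
        ((Order.coheight v : ℕ∞) : WithBot ℕ∞) ≤ ringKrullDim (X.presheaf.stalk x) := by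
  obtain ⟨v', hv'⟩ : ∃ v' : Spec (X.presheaf.stalk x), v' = v := ⟨v, rfl⟩
  have hemb : Topology.IsEmbedding (X.fromSpecStalk x).base := (X.fromSpecStalk x).isEmbedding
  have hA : Order.coheight v' = Order.coheight ((X.fromSpecStalk x).base v') := by
    apply Order.coheight_eq_of_strictMono (X.fromSpecStalk x).base
    · intro a b hab
      rw [lt_iff_le_not_ge] at hab ⊢
      refine ⟨?_, fun h => hab.2 ?_⟩
      · exact Scheme.le_iff_specializes.mpr
          ((Scheme.le_iff_specializes.mp hab.1).map (X.fromSpecStalk x).continuous)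
      · exact Scheme.le_iff_specializes.mpr
          (hemb.isInducing.specializes_iff.mp (Scheme.le_iff_specializes.mp h))
    · intro a b hab
      have h1 : b ⤳ (X.fromSpecStalk x).base a := Scheme.le_iff_specializes.mp hab.le
      obtain ⟨a', ha'⟩ := exists_of_specializes X (h1.trans (fromSpecStalk_specializes X x a))
      refine ⟨a', ?_, ha'⟩
      rw [lt_iff_le_not_ge] at hab ⊢
      rw [← ha'] at hab h1
      refine ⟨Scheme.le_iff_specializes.mpr (hemb.isInducing.specializes_iff.mp h1), fun h => hab.2 ?_⟩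
      exact Scheme.le_iff_specializes.mpr
        ((Scheme.le_iff_specializes.mp h).map (X.fromSpecStalk x).continuous)
  have hB : Order.coheight v' = Order.height v := by
    rw [← idealHeight_eq_coheight, PrimeSpectrum.height_eq_orderHeight, hv']
  have hC : ((Order.height v + Order.coheight v : ℕ∞) : WithBot ℕ∞) ≤
      ringKrullDim (X.presheaf.stalk x) := by
    haveI : Nonempty (PrimeSpectrum (X.presheaf.stalk x)) := ⟨v⟩
    unfold ringKrullDim
    rw [Order.krullDim_eq_iSup_height_add_coheight_of_nonempty]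
    exact WithBot.coe_le_coe.mpr
      (le_iSup (fun a : PrimeSpectrum (X.presheaf.stalk x) => Order.height a + Order.coheight a) v)
  have hz : X.fromSpecStalk x v = (X.fromSpecStalk x).base v' := by rw [hv']
  rw [hz, ← hA, hB]
  exact_mod_cast hC

theorem ringKrullDim_stalk_congr {Y : Scheme.{u}} {y y' : Y} (h : y = y') :
    ringKrullDim (Y.presheaf.stalk y) = ringKrullDim (Y.presheaf.stalk y') := by
  subst h; rfl

theorem coheight_congr_fromSpecStalk {Y : Scheme.{u}} {y y' : Y} (h : y = y')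
    (w : PrimeSpectrum (Y.presheaf.stalk y)) (w' : PrimeSpectrum (Y.presheaf.stalk y'))
    (hw : Y.fromSpecStalk y w = Y.fromSpecStalk y' w') :
    Order.coheight w = Order.coheight w' := by
  subst h
  rw [fromSpecStalk_injective Y y hw]

theorem isUniversallyCatenary_stalk_congr {Y : Scheme.{u}} {y y' : Y} (h : y = y')
    (hcat : CAlg.IsUniversallyCatenary (Y.presheaf.stalk y)) :
    CAlg.IsUniversallyCatenary (Y.presheaf.stalk y') := by
  subst h; exact hcat

/-- A point which is maximal in its fibre has fibre local ring of dimension zero. -/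
theorem coheight_asFiber_of_fibre_maximal {X Y : Scheme.{u}} (f : X ⟶ Y) (z : X)
    (hmax : ∀ z' : X, f.base z' = f.base z → z' ⤳ z → z' = z) :
    Order.coheight (f.asFiber z) = 0 := by
  rw [Order.coheight_eq_zero]
  intro t ht
  have h1 : t ⤳ f.asFiber z := Scheme.le_iff_specializes.mp ht
  have h2 : (f.fiberι (f.base z)).base t ⤳ (f.fiberι (f.base z)).base (f.asFiber z) :=
    h1.map (f.fiberι (f.base z)).continuous
  rw [f.fiberι_asFiber] at h2
  have h3 : (f.fiberι (f.base z)).base t = (f.fiberι (f.base z)).base (f.asFiber z) := by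
    rw [f.fiberι_asFiber]; exact hmax _ (fiberι_mem f (f.base z) t) h2
  have h4 : t = f.asFiber z := (f.fiberι (f.base z)).isEmbedding.injective h3
  rw [h4]

theorem isMax_closedPoint (R : Type*) [CommRing R] [IsLocalRing R] :
    IsMax (IsLocalRing.closedPoint R) := by
  intro q _
  exact IsLocalRing.le_maximalIdeal q.2.ne_top

/-- **S3448, backward direction.** -/
theorem backward {X Y : Scheme.{u}} [IsLocallyNoetherian Y] (f : X ⟶ Y) [LocallyOfFiniteType f]
    (x : X) (hcat : CAlg.IsUniversallyCatenary (Y.presheaf.stalk (f.base x)))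
    (z : X) (hfz : f.base z = f.base x) (hzx : z ⤳ x)
    (hzmax : ∀ z' : X, f.base z' = f.base x → z' ⤳ z → z' = z)
    (hfd : FlatMor.fibreDimAt f z = FlatMor.fibreDimAt f x)
    (hdz : ringKrullDim (X.presheaf.stalk z) = ringKrullDim (Y.presheaf.stalk (f.base z))) :
    ringKrullDim (X.presheaf.stalk x) =
      ringKrullDim (Y.presheaf.stalk (f.base x)) +
        ringKrullDim ((f.fiber (f.base x)).presheaf.stalk (f.asFiber x)) := by
  obtain ⟨n, b, hn, hb, hform⟩ := fibre_formula f x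
  obtain ⟨E, b', hE, hb', hformz⟩ := fibre_formula f z
  have hb0 : b' = 0 := by
    rw [ringKrullDim_stalk_eq_coheight, coheight_asFiber_of_fibre_maximal f z
      (fun z' hz' => hzmax z' (hz'.trans hfz))] at hb'
    exact_mod_cast hb'.symm
  have hE' : E = n + b := by
    rw [hformz, hform, hb0] at hfd; exact_mod_cast hfd
  obtain ⟨c, hc⟩ := exists_ringKrullDim_eq_nat (Y.presheaf.stalk (f.base x))
  have hdz' : ringKrullDim (X.presheaf.stalk z) = (c : WithBot ℕ∞) := by
    rw [hdz, ringKrullDim_stalk_congr hfz, hc]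
  obtain ⟨v, hv⟩ := exists_of_specializes X hzx
  have hw : Y.fromSpecStalk (f.base x) (IsLocalRing.closedPoint _) = f.base z := by
    rw [Scheme.fromSpecStalk_closedPoint, hfz]
  have hrel := Groth.Agent.H60.DimFunX.rel_eq f x z hzx hcat n E hn hE v hv
    (IsLocalRing.closedPoint _) hw
  have hcw : Order.coheight (IsLocalRing.closedPoint (Y.presheaf.stalk (f.base x))) = 0 :=
    Order.coheight_eq_zero.mpr (isMax_closedPoint _)
  rw [hcw, hE'] at hrel
  have hCH := coheight_add_coheight_le x v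
  rw [hv, ← ringKrullDim_stalk_eq_coheight, hdz'] at hCH
  obtain ⟨bv, hbv⟩ : ∃ bv : ℕ, Order.coheight v = (bv : ℕ∞) := by
    have hne : Order.coheight v ≠ ⊤ := by
      intro htop
      rw [htop] at hrel
      have h1 : (⊤ : ℕ∞) + (n : ℕ∞) = ((0 : ℕ∞) + ((n + b : ℕ) : ℕ∞)) := by exact_mod_cast hrel
      rw [top_add, zero_add] at h1
      exact ENat.natCast_ne_top _ h1.symm
    exact ⟨_, (ENat.natCast_toNat hne).symm⟩
  rw [hbv] at hrel hCH
  have hbvb : bv + n = 0 + (n + b) := by exact_mod_cast hrel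
  have hbv' : bv = b := by omega
  rw [hbv'] at hCH
  have hle := Groth.Agent.S3447.main f (f.base x) (f.asFiber x)
  rw [f.fiberι_asFiber] at hle
  apply le_antisymm hle
  rw [hc, hb]
  exact hCH

theorem exists_nat_coheight_of_le {α : Type*} [Preorder α] (a : α) (c : ℕ)
    (h : ((Order.coheight a : ℕ∞) : WithBot ℕ∞) ≤ (c : WithBot ℕ∞)) :
    ∃ c' : ℕ, Order.coheight a = (c' : ℕ∞) ∧ c' ≤ c := by
  have hne : Order.coheight a ≠ ⊤ := by
    intro htop
    rw [htop] at h
    have : (⊤ : ℕ∞) ≤ (c : ℕ∞) := by exact_mod_cast h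
    simp at this
  obtain ⟨c', hc'⟩ : ∃ c' : ℕ, Order.coheight a = (c' : ℕ∞) :=
    ⟨_, (ENat.natCast_toNat hne).symm⟩
  refine ⟨c', hc', ?_⟩
  rw [hc'] at h
  exact_mod_cast h

/-- **S3448, forward direction.** -/
theorem forward {X Y : Scheme.{u}} [IsLocallyNoetherian Y] (f : X ⟶ Y) [LocallyOfFiniteType f]
    (x : X) (hcat : CAlg.IsUniversallyCatenary (Y.presheaf.stalk (f.base x)))
    (h : ringKrullDim (X.presheaf.stalk x) =
      ringKrullDim (Y.presheaf.stalk (f.base x)) +
        ringKrullDim ((f.fiber (f.base x)).presheaf.stalk (f.asFiber x))) :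
    ∃ z : X, f.base z = f.base x ∧ z ⤳ x ∧
      (∀ z' : X, f.base z' = f.base x → z' ⤳ z → z' = z) ∧
      FlatMor.fibreDimAt f z = FlatMor.fibreDimAt f x ∧
      ringKrullDim (X.presheaf.stalk z) = ringKrullDim (Y.presheaf.stalk (f.base z)) := by
  haveI : IsLocallyNoetherian X := LocallyOfFiniteType.isLocallyNoetherian f
  obtain ⟨n, b, hn, hb, hform⟩ := fibre_formula f x
  obtain ⟨c, hc⟩ := exists_ringKrullDim_eq_nat (Y.presheaf.stalk (f.base x))
  have hd : ringKrullDim (X.presheaf.stalk x) = ((c + b : ℕ) : WithBot ℕ∞) := by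
    rw [h, hc, hb]; push_cast; rfl
  -- a minimal prime of full coheight
  obtain ⟨Q, hQmin, hQle, hht⟩ := Groth.Agent.S2141.exists_minimalPrime_height_le
    (IsLocalRing.maximalIdeal (X.presheaf.stalk x))
  have hQne : Q ≠ ⊤ := fun hQ => (IsLocalRing.maximalIdeal.isMaximal _).ne_top
    (top_le_iff.mp (hQ ▸ hQle))
  have hQdim : ringKrullDim (X.presheaf.stalk x ⧸ Q) = ringKrullDim (X.presheaf.stalk x) := by
    have h1 := Groth.Agent.H9.DimFormulaGen.height_map_mk_maximalIdeal Q hQne
    have h2 : ringKrullDim (X.presheaf.stalk x) ≤ ringKrullDim (X.presheaf.stalk x ⧸ Q) := by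
      rw [← h1, ← IsLocalRing.maximalIdeal_height_eq_ringKrullDim]
      exact_mod_cast hht
    exact le_antisymm (ringKrullDim_quotient_le Q) h2
  haveI hQp : Q.IsPrime := hQmin.1.1
  obtain ⟨v₀, hv₀⟩ : ∃ v₀ : PrimeSpectrum (X.presheaf.stalk x), v₀ = ⟨Q, hQp⟩ := ⟨_, rfl⟩
  have hcv : ((Order.coheight v₀ : ℕ∞) : WithBot ℕ∞) = ((c + b : ℕ) : WithBot ℕ∞) := by
    rw [coheight_eq_ringKrullDim_quotient, hv₀, hQdim, hd]
  have hv₀min : IsMin v₀ := by
    intro r hr
    rw [hv₀] at hr ⊢
    exact hQmin.2 ⟨r.2, bot_le⟩ hr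
  obtain ⟨ξ, hξ⟩ : ∃ ξ : X, X.fromSpecStalk x v₀ = ξ := ⟨_, rfl⟩
  have hξx : ξ ⤳ x := by rw [← hξ]; exact fromSpecStalk_specializes X x v₀
  have hξmax : ∀ t : X, t ⤳ ξ → t = ξ := by
    rw [← hξ]; exact generic_of_isMin X x v₀ hv₀min
  obtain ⟨w₀, hw₀⟩ := exists_of_specializes Y (hξx.map f.continuous)
  obtain ⟨E₀, b₀, hE₀, hb₀, hformξ⟩ := fibre_formula f ξ
  have hb00 : b₀ = 0 := by
    rw [ringKrullDim_stalk_eq_coheight, coheight_asFiber_of_maximal f ξ hξmax] at hb₀
    exact_mod_cast hb₀.symm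
  have husc : ∀ t : X, t ⤳ x → FlatMor.fibreDimAt f t ≤ ((n + b : ℕ) : WithBot ℕ∞) := by
    intro t ht
    have hopen := isOpen_setOf_fibreDimAt_le f (n + b)
    exact ht.mem_open hopen (by show FlatMor.fibreDimAt f x ≤ _; rw [hform])
  have hEle : E₀ ≤ n + b := by
    have := husc ξ hξx
    rw [hformξ, hb00] at this; exact_mod_cast this
  have hrel := Groth.Agent.H60.DimFunX.rel_eq f x ξ hξx hcat n E₀ hn hE₀ v₀ hξ w₀ hw₀
  have hcw : ((Order.coheight w₀ : ℕ∞) : WithBot ℕ∞) ≤ (c : WithBot ℕ∞) := by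
    rw [← hc]; exact Order.coheight_le_krullDim w₀
  obtain ⟨c₀, hc₀, hc₀le⟩ := exists_nat_coheight_of_le w₀ c hcw
  rw [hc₀, hcv] at hrel
  have hrel' : c + b + n = c₀ + E₀ := by exact_mod_cast hrel
  have hcc : c₀ = c := by omega
  have hEE : E₀ = n + b := by omega
  -- the component through `ξ`
  let W : TopologicalSpace.Closeds X := ⟨closure {ξ}, isClosed_closure⟩
  have hrange : Set.range (Scheme.IdealSheafData.vanishingIdeal W).subschemeι.base =
      (W : Set X) := by
    rw [Scheme.IdealSheafData.range_subschemeι,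
      Scheme.IdealSheafData.coe_support_vanishingIdeal]
  have hemb : Topology.IsEmbedding (Scheme.IdealSheafData.vanishingIdeal W).subschemeι.base :=
    (Scheme.IdealSheafData.vanishingIdeal W).subschemeι.isClosedEmbedding.isEmbedding
  set ι := (Scheme.IdealSheafData.vanishingIdeal W).subschemeι with hι
  obtain ⟨w, hw⟩ : x ∈ Set.range ι.base := by rw [hrange]; exact hξx.mem_closure
  obtain ⟨ξZ, hξZ⟩ : ξ ∈ Set.range ι.base := by rw [hrange]; exact subset_closure rfl
  have hgen : ∀ t, ξZ ⤳ t := by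
    intro t
    rw [← hemb.isInducing.specializes_iff, hξZ, specializes_iff_mem_closure]
    have : ι.base t ∈ Set.range ι.base := ⟨t, rfl⟩
    rw [hrange] at this
    exact this
  -- Chevalley on the component
  have hlow : ((n + b : ℕ) : WithBot ℕ∞) ≤ FlatMor.fibreDimAt (ι ≫ f) w := by
    have hclosed := isClosed_setOf_natCast_le_fibreDimAt (ι ≫ f) (n + b)
    have hmemξ : ξZ ∈ {z' | ((n + b : ℕ) : WithBot ℕ∞) ≤ FlatMor.fibreDimAt (ι ≫ f) z'} := by
      show ((n + b : ℕ) : WithBot ℕ∞) ≤ FlatMor.fibreDimAt (ι ≫ f) ξZ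
      obtain ⟨n', b', hn', -, hform'⟩ := fibre_formula (ι ≫ f) ξZ
      have h3 := trdeg_comp_of_surjectiveOnStalks ι f ξZ
      have h4 := trdeg_congr_point f hξZ
      have h5 : (n' : Cardinal.{u}) = (E₀ : Cardinal.{u}) := by
        rw [← hn', h3, h4, hE₀]
      have h6 : n' = E₀ := by exact_mod_cast h5
      rw [hform', h6, hEE]
      exact_mod_cast Nat.le_add_right (n + b) b'
    have hsub : closure ({ξZ} : Set _) ⊆
        {z' | ((n + b : ℕ) : WithBot ℕ∞) ≤ FlatMor.fibreDimAt (ι ≫ f) z'} :=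
      hclosed.closure_subset_iff.mpr (Set.singleton_subset_iff.mpr hmemξ)
    exact hsub (hgen w).mem_closure
  -- a maximal point of the fibre of the component through `w` of maximal dimension
  obtain ⟨bW, hbW⟩ : ∃ bW : ℕ, Order.coheight ((ι ≫ f).asFiber w) = bW :=
    ⟨_, (ENat.natCast_toNat (coheight_ne_top (fiberQ (ι ≫ f) ((ι ≫ f).base w)) _)).symm⟩
  obtain ⟨ζ, hζw, -, hζdeg⟩ := exists_generic_tdeg_eq (fiberQ (ι ≫ f) ((ι ≫ f).base w))
    ((ι ≫ f).asFiber w) bW hbW
  have hfw := fibreDimAt_eq (ι ≫ f) w bW hbW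
  rw [← hζdeg] at hfw
  rw [hfw] at hlow
  have hlow' : n + b ≤ tdeg (fiberQ (ι ≫ f) ((ι ≫ f).base w)) ζ := by exact_mod_cast hlow
  obtain ⟨zW, hzW⟩ : ∃ zW, zW = ((ι ≫ f).fiberι ((ι ≫ f).base w)).base ζ := ⟨_, rfl⟩
  have hzWw : zW ⤳ w := by
    have := hζw.map ((ι ≫ f).fiberι ((ι ≫ f).base w)).continuous
    rwa [(ι ≫ f).fiberι_asFiber, ← hzW] at this
  have hfzW : (ι ≫ f).base zW = (ι ≫ f).base w := by
    rw [hzW]; exact fiberι_mem (ι ≫ f) _ ζ
  obtain ⟨z, hz⟩ : ∃ z : X, z = ι.base zW := ⟨_, rfl⟩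
  have hzx : z ⤳ x := by
    rw [hz, ← hw]; exact hzWw.map ι.continuous
  have hfz : f.base z = f.base x := by
    have := hfzW
    rw [Scheme.Hom.comp_apply, Scheme.Hom.comp_apply, hw, ← hz] at this
    exact this
  have hξz : ξ ⤳ z := by
    rw [specializes_iff_mem_closure]
    have : ι.base zW ∈ Set.range ι.base := ⟨zW, rfl⟩
    rw [hrange, ← hz] at this
    exact this
  -- the residue field of `z`
  obtain ⟨m', bz, hm', hbz, hformz⟩ := fibre_formula f z
  have hm'eq : m' = tdeg (fiberQ (ι ≫ f) ((ι ≫ f).base w)) ζ := by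
    have h5 := trdeg_fiber_eq (ι ≫ f) ((ι ≫ f).base w) ζ
    have h5' := trdeg_congr_point (ι ≫ f) hzW
    have h3 := trdeg_comp_of_surjectiveOnStalks ι f zW
    have h4 := trdeg_congr_point f hz
    have h6 : (m' : Cardinal.{u}) =
        (tdeg (fiberQ (ι ≫ f) ((ι ≫ f).base w)) ζ : Cardinal.{u}) := by
      rw [← hm', h4, ← h3, h5', h5]
    exact_mod_cast h6
  have huscz := husc z hzx
  rw [hformz] at huscz
  have huscz' : m' + bz ≤ n + b := by exact_mod_cast huscz
  have hm'nb : m' = n + b := by omega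
  have hbz0 : bz = 0 := by omega
  have hcoh : Order.coheight (f.asFiber z) = 0 := by
    rw [ringKrullDim_stalk_eq_coheight, hbz0] at hbz
    exact_mod_cast hbz
  refine ⟨z, hfz, hzx, ?_, ?_, ?_⟩
  · intro z' hz' hsp
    obtain ⟨t, ht⟩ : z' ∈ Set.range (f.fiberι (f.base z)).base := by
      rw [f.range_fiberι]; exact hz'.trans hfz.symm
    have h1 : t ⤳ f.asFiber z := by
      rw [← (f.fiberι (f.base z)).isEmbedding.isInducing.specializes_iff, ht, f.fiberι_asFiber]
      exact hsp
    have h2 : IsMax (f.asFiber z) := Order.coheight_eq_zero.mp hcoh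
    have h3 : f.asFiber z ≤ t := Scheme.le_iff_specializes.mpr h1
    have h4 : t ≤ f.asFiber z := h2 h3
    have h5 : f.asFiber z ⤳ t := Scheme.le_iff_specializes.mp h4
    have h6 : t = f.asFiber z := (h1.antisymm h5).eq
    rw [← ht, h6, f.fiberι_asFiber]
  · rw [hformz, hform, hm'nb, hbz0]
    rfl
  · -- `dim O_{X,z} = dim O_{Y,f z}`
    have hcz : ringKrullDim (Y.presheaf.stalk (f.base z)) = (c : WithBot ℕ∞) := by
      rw [ringKrullDim_stalk_congr hfz, hc]
    apply le_antisymm
    · have hle := Groth.Agent.S3447.main f (f.base z) (f.asFiber z)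
      rw [f.fiberι_asFiber, hbz, hbz0] at hle
      simpa using hle
    · obtain ⟨v', hv'⟩ := exists_of_specializes X hξz
      obtain ⟨w', hw'⟩ := exists_of_specializes Y (hξz.map f.continuous)
      have hcat' := isUniversallyCatenary_stalk_congr hfz.symm hcat
      have hrelz := Groth.Agent.H60.DimFunX.rel_eq f z ξ hξz hcat' m' E₀ hm' hE₀ v' hv' w' hw'
      have hww : Order.coheight w' = Order.coheight w₀ :=
        coheight_congr_fromSpecStalk hfz w' w₀ (hw'.trans hw₀.symm)
      rw [hww, hc₀, hcc, hm'nb, hEE] at hrelz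
      have hcv' : ((Order.coheight v' : ℕ∞) : WithBot ℕ∞) ≤ ringKrullDim (X.presheaf.stalk z) :=
        Order.coheight_le_krullDim v'
      rw [hcz]
      refine le_trans ?_ hcv'
      obtain ⟨cv, hcv''⟩ : ∃ cv : ℕ, Order.coheight v' = (cv : ℕ∞) := by
        have hne : Order.coheight v' ≠ ⊤ := by
          intro htop
          rw [htop] at hrelz
          have h1 : (⊤ : ℕ∞) + ((n + b : ℕ) : ℕ∞) = ((c : ℕ∞) + ((n + b : ℕ) : ℕ∞)) := by
            exact_mod_cast hrelz
          rw [top_add] at h1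
          have h2 : ((c : ℕ∞) + ((n + b : ℕ) : ℕ∞)) = ((c + (n + b) : ℕ) : ℕ∞) := by push_cast; rfl
          rw [h2] at h1
          exact ENat.natCast_ne_top _ h1.symm
        exact ⟨_, (ENat.natCast_toNat hne).symm⟩
      rw [hcv''] at hrelz ⊢
      have h1 : cv + (n + b) = c + (n + b) := by exact_mod_cast hrelz
      have h2 : c ≤ cv := by omega
      exact_mod_cast h2

end Groth.Agent.H60.DimFormulaIff
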