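import Mathlib
import Groth.Agent.H60.DimFormulaIff
import Groth.Agent.S10831

/-!
# Dimensions of fibre components versus the generic fibre (EGA IV 14.2.?)
-/

set_option autoImplicit false
set_option linter.style.haveILetI false
universe u

open AlgebraicGeometry CategoryTheory

namespace Groth.Agent.H60.FibreDimsGeneric

open Groth.Agent.H54 Groth.Agent.H9.DimFormulaEq Groth.Agent.H71.DimFun
  Groth.Agent.H9.FibreFormula Groth.Agent.H9.FibDim Groth.Agent.H9.Equidim
  Groth.Agent.H60.EquidimAtFlat Groth.Agent.H60.EquidimAtConv Groth.Agent.H60.EquidimComp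
  Groth.Agent.H60.EquidimFibMax Groth.Agent.H60.EquidimCrit Groth.Agent.H60.DimFormulaIff

/-- A point of a preorder whose coheight equals the (finite) Krull dimension is minimal. -/
theorem isMin_of_coheight_eq_krullDim {α : Type*} [Preorder α] (a : α) (c : ℕ)
    (hc : Order.krullDim α = (c : WithBot ℕ∞)) (ha : Order.coheight a = (c : ℕ∞)) : IsMin a := by
  haveI : Nonempty α := ⟨a⟩
  rw [← Order.height_eq_zero]
  have h1 := Order.krullDim_eq_iSup_height_add_coheight_of_nonempty (α := α)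
  have h2 : Order.height a + Order.coheight a ≤ ⨆ b : α, Order.height b + Order.coheight b :=
    le_iSup (fun b : α => Order.height b + Order.coheight b) a
  have h3 : ((Order.height a + Order.coheight a : ℕ∞) : WithBot ℕ∞) ≤ (c : WithBot ℕ∞) := by
    rw [← hc, h1]; exact_mod_cast h2
  rw [ha] at h3
  have h4 : Order.height a + (c : ℕ∞) ≤ (c : ℕ∞) := by exact_mod_cast h3
  have hne : Order.height a ≠ ⊤ := by
    intro htop; rw [htop, top_add] at h4
    exact ENat.natCast_ne_top _ (top_le_iff.mp h4)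
  obtain ⟨m, hm⟩ : ∃ m : ℕ, Order.height a = (m : ℕ∞) := ⟨_, (ENat.natCast_toNat hne).symm⟩
  rw [hm] at h4 ⊢
  have h5 : m + c ≤ c := by exact_mod_cast h4
  have : m = 0 := by omega
  rw [this]; rfl

set_option backward.isDefEq.respectTransparency.types false in
/-- A maximal point `z` of a fibre with `dim O_{X,z} = dim O_{Y,f z}` (universally catenary) is the
specialization of a maximal point of `X` over the generic point of `Y`, with the same relative
transcendence degree. -/
theorem exists_generic_of_maximal {X Y : Scheme.{u}} [IrreducibleSpace Y] [IsLocallyNoetherian Y]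
    (f : X ⟶ Y) [LocallyOfFiniteType f] (z : X)
    (hcat : CAlg.IsUniversallyCatenary (Y.presheaf.stalk (f.base z)))
    (hzmax : ∀ z' : X, f.base z' = f.base z → z' ⤳ z → z' = z)
    (hdz : ringKrullDim (X.presheaf.stalk z) = ringKrullDim (Y.presheaf.stalk (f.base z))) :
    ∃ (ξ : X) (n : ℕ), ξ ⤳ z ∧ (∀ t : X, t ⤳ ξ → t = ξ) ∧ f.base ξ = genericPoint Y ∧
      @Algebra.trdeg (Y.residueField (f.base z)) (X.residueField z) _ _
        (f.residueFieldMap z).hom.toAlgebra = (n : Cardinal.{u}) ∧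
      @Algebra.trdeg (Y.residueField (f.base ξ)) (X.residueField ξ) _ _
        (f.residueFieldMap ξ).hom.toAlgebra = (n : Cardinal.{u}) := by
  haveI : IsLocallyNoetherian X := LocallyOfFiniteType.isLocallyNoetherian f
  obtain ⟨n, b, hn, hb, hform⟩ := fibre_formula f z
  have hb0 : b = 0 := by
    rw [ringKrullDim_stalk_eq_coheight, coheight_asFiber_of_fibre_maximal f z hzmax] at hb
    exact_mod_cast hb.symm
  subst hb0
  obtain ⟨c, hc⟩ := exists_ringKrullDim_eq_nat (Y.presheaf.stalk (f.base z))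
  have hd : ringKrullDim (X.presheaf.stalk z) = (c : WithBot ℕ∞) := by rw [hdz, hc]
  -- a minimal prime of full coheight
  obtain ⟨Q, hQmin, hQle, hht⟩ := Groth.Agent.S2141.exists_minimalPrime_height_le
    (IsLocalRing.maximalIdeal (X.presheaf.stalk z))
  have hQne : Q ≠ ⊤ := fun hQ => (IsLocalRing.maximalIdeal.isMaximal _).ne_top
    (top_le_iff.mp (hQ ▸ hQle))
  have hQdim : ringKrullDim (X.presheaf.stalk z ⧸ Q) = ringKrullDim (X.presheaf.stalk z) := by
    have h1 := Groth.Agent.H9.DimFormulaGen.height_map_mk_maximalIdeal Q hQne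
    have h2 : ringKrullDim (X.presheaf.stalk z) ≤ ringKrullDim (X.presheaf.stalk z ⧸ Q) := by
      rw [← h1, ← IsLocalRing.maximalIdeal_height_eq_ringKrullDim]
      exact_mod_cast hht
    exact le_antisymm (ringKrullDim_quotient_le Q) h2
  haveI hQp : Q.IsPrime := hQmin.1.1
  obtain ⟨v₀, hv₀⟩ : ∃ v₀ : PrimeSpectrum (X.presheaf.stalk z), v₀ = ⟨Q, hQp⟩ := ⟨_, rfl⟩
  have hcv : ((Order.coheight v₀ : ℕ∞) : WithBot ℕ∞) = (c : WithBot ℕ∞) := by
    rw [coheight_eq_ringKrullDim_quotient, hv₀, hQdim, hd]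
  have hv₀min : IsMin v₀ := by
    intro r hr
    rw [hv₀] at hr ⊢
    exact hQmin.2 ⟨r.2, bot_le⟩ hr
  obtain ⟨ξ, hξ⟩ : ∃ ξ : X, X.fromSpecStalk z v₀ = ξ := ⟨_, rfl⟩
  have hξz : ξ ⤳ z := by rw [← hξ]; exact fromSpecStalk_specializes X z v₀
  have hξmax : ∀ t : X, t ⤳ ξ → t = ξ := by
    rw [← hξ]; exact generic_of_isMin X z v₀ hv₀min
  obtain ⟨w₀, hw₀⟩ := exists_of_specializes Y (hξz.map f.continuous)
  obtain ⟨E₀, b₀, hE₀, hb₀, hformξ⟩ := fibre_formula f ξ
  have hb00 : b₀ = 0 := by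
    rw [ringKrullDim_stalk_eq_coheight, coheight_asFiber_of_maximal f ξ hξmax] at hb₀
    exact_mod_cast hb₀.symm
  subst hb00
  have hEle : E₀ ≤ n := by
    have hopen := isOpen_setOf_fibreDimAt_le f (n + 0)
    have := hξz.mem_open hopen (by show FlatMor.fibreDimAt f z ≤ _; rw [hform])
    have h' : FlatMor.fibreDimAt f ξ ≤ ((n + 0 : ℕ) : WithBot ℕ∞) := this
    rw [hformξ] at h'; exact_mod_cast h'
  have hrel := Groth.Agent.H60.DimFunX.rel_eq f z ξ hξz hcat n E₀ hn hE₀ v₀ hξ w₀ hw₀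
  have hcw : ((Order.coheight w₀ : ℕ∞) : WithBot ℕ∞) ≤ (c : WithBot ℕ∞) := by
    rw [← hc]; exact Order.coheight_le_krullDim w₀
  obtain ⟨c₀, hc₀, hc₀le⟩ := exists_nat_coheight_of_le w₀ c hcw
  rw [hc₀, hcv] at hrel
  have hrel' : c + n = c₀ + E₀ := by exact_mod_cast hrel
  have hcc : c₀ = c := by omega
  have hEE : E₀ = n := by omega
  subst hcc
  subst hEE
  have hw₀min : IsMin w₀ := isMin_of_coheight_eq_krullDim w₀ c₀ hc hc₀
  have hgen : ∀ t : Y, t ⤳ f.base ξ → t = f.base ξ := by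
    rw [← hw₀]; exact generic_of_isMin Y (f.base z) w₀ hw₀min
  have hη : f.base ξ = genericPoint Y :=
    (hgen _ (genericPoint_specializes (f.base ξ))).symm
  exact ⟨ξ, E₀, hξz, hξmax, hη, hn, hE₀⟩

/-- The generic point of an irreducible component of a fibre. -/
theorem exists_generic_of_component {A : Type*} [TopologicalSpace A] [QuasiSober A] [T0Space A]
    (Z : Set A) (hZ : Z ∈ irreducibleComponents A) :
    ∃ z₀ : A, closure {z₀} = Z ∧ (∀ t : A, t ⤳ z₀ → t = z₀) := by
  have hirr : IsIrreducible Z := hZ.1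
  have hcl : IsClosed Z := isClosed_of_mem_irreducibleComponents Z hZ
  obtain ⟨z₀, hz₀⟩ := QuasiSober.sober hirr hcl
  refine ⟨z₀, hz₀.def, ?_⟩
  intro t ht
  have h1 : closure {z₀} ⊆ closure {t} := specializes_iff_closure_subset.mp ht
  have h1' : Z ⊆ closure {t} := hz₀.def ▸ h1
  have h2 : closure {t} ⊆ Z := hZ.2 (isIrreducible_singleton.closure) h1'
  have h3 : z₀ ⤳ t := specializes_iff_closure_subset.mpr (by rw [hz₀.def]; exact h2)
  exact (ht.antisymm h3).eq

set_option backward.isDefEq.respectTransparency.types false in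
/-- **Key step of S4958.** -/
theorem sub {X Y : Scheme.{u}} [IrreducibleSpace Y] [IsLocallyNoetherian Y] (f : X ⟶ Y)
    [LocallyOfFiniteType f] (y : Y)
    (hcat : CAlg.IsUniversallyCatenary (Y.presheaf.stalk y))
    (hb : ∀ z : X, f.base z = y → (∀ z' : X, f.base z' = y → z ∈ closure {z'} → z' = z) →
      ringKrullDim (X.presheaf.stalk z) = ringKrullDim (Y.presheaf.stalk y))
    (Z : Set ↥(f.fiber y)) (hZ : Z ∈ irreducibleComponents ↥(f.fiber y)) :
    ∃ Z' ∈ irreducibleComponents ↥(f.fiber (genericPoint Y)),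
      topologicalKrullDim ↥Z' = topologicalKrullDim ↥Z := by
  obtain ⟨z₀, hz₀Z, hz₀max⟩ := exists_generic_of_component Z hZ
  obtain ⟨z, hz⟩ : ∃ z : X, z = (f.fiberι y).base z₀ := ⟨_, rfl⟩
  have hfz : f.base z = y := by rw [hz]; exact fiberι_mem f y z₀
  have hzmax : ∀ z' : X, f.base z' = y → z' ⤳ z → z' = z := by
    intro z' hz' hsp
    obtain ⟨t, ht⟩ : z' ∈ Set.range (f.fiberι y).base := by rw [f.range_fiberι]; exact hz'
    have h1 : t ⤳ z₀ := by
      rw [← (f.fiberι y).isEmbedding.isInducing.specializes_iff, ht, ← hz]; exact hsp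
    rw [← ht, hz₀max t h1, hz]
  have hdz := hb z hfz (fun z' hz' hmem => hzmax z' hz' (specializes_iff_mem_closure.mpr hmem))
  have hcat' : CAlg.IsUniversallyCatenary (Y.presheaf.stalk (f.base z)) :=
    isUniversallyCatenary_stalk_congr hfz.symm hcat
  have hdz' : ringKrullDim (X.presheaf.stalk z) = ringKrullDim (Y.presheaf.stalk (f.base z)) := by
    rw [hdz, ringKrullDim_stalk_congr hfz.symm]
  obtain ⟨ξ, n, hξz, hξmax, hη, hn, hE⟩ := exists_generic_of_maximal f z hcat'
    (fun z' hz' => hzmax z' (hz'.trans hfz)) hdz'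
  have hdimZ : topologicalKrullDim ↥Z = (n : WithBot ℕ∞) := by
    rw [← hz₀Z, topologicalKrullDim_closure_singleton (fiberQ f y) z₀]
    have h1 := trdeg_fiber_eq f y z₀
    have h2 := trdeg_congr_point f hz
    have h3 : (tdeg (fiberQ f y) z₀ : Cardinal.{u}) = (n : Cardinal.{u}) := by
      rw [← h1, ← h2, hn]
    have : tdeg (fiberQ f y) z₀ = n := by exact_mod_cast h3
    rw [this]
  have key : ∀ η : Y, f.base ξ = η → ∃ Z' ∈ irreducibleComponents ↥(f.fiber η),
      topologicalKrullDim ↥Z' = (n : WithBot ℕ∞) := by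
    rintro _ rfl
    refine ⟨closure {f.asFiber ξ}, closure_mem_irreducibleComponents_of_forall ?_, ?_⟩
    · intro t ht
      have h2 : (f.fiberι (f.base ξ)).base t ⤳ (f.fiberι (f.base ξ)).base (f.asFiber ξ) :=
        ht.map (f.fiberι (f.base ξ)).continuous
      rw [f.fiberι_asFiber] at h2
      have h3 : (f.fiberι (f.base ξ)).base t = (f.fiberι (f.base ξ)).base (f.asFiber ξ) := by
        rw [f.fiberι_asFiber]; exact hξmax _ h2
      exact (f.fiberι (f.base ξ)).isEmbedding.injective h3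
    · rw [topologicalKrullDim_closure_singleton (fiberQ f (f.base ξ)) (f.asFiber ξ)]
      have h1 := trdeg_fiber_eq f (f.base ξ) (f.asFiber ξ)
      have h2 := trdeg_congr_point f (f.fiberι_asFiber ξ)
      have h3 : (tdeg (fiberQ f (f.base ξ)) (f.asFiber ξ) : Cardinal.{u}) =
          (n : Cardinal.{u}) := by
        rw [← h1, h2, hE]
      have : tdeg (fiberQ f (f.base ξ)) (f.asFiber ξ) = n := by exact_mod_cast h3
      rw [this]
  obtain ⟨Z', hZ', hdimZ'⟩ := key _ hη
  exact ⟨Z', hZ', by rw [hdimZ', hdimZ]⟩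

/-- **S4958.** -/
theorem main {X Y : Scheme.{u}} [IrreducibleSpace Y] [IsLocallyNoetherian Y] (f : X ⟶ Y)
    [LocallyOfFiniteType f] (y : Y)
    (hcat : CAlg.IsUniversallyCatenary (Y.presheaf.stalk y))
    (hb : ∀ z : X, f.base z = y → (∀ z' : X, f.base z' = y → z ∈ closure {z'} → z' = z) →
      ringKrullDim (X.presheaf.stalk z) = ringKrullDim (Y.presheaf.stalk y)) :
    letI E : Y → Set (WithBot ℕ∞) := fun z =>
      (fun Z : Set ↥(f.fiber z) => topologicalKrullDim ↥Z) '' irreducibleComponents ↥(f.fiber z)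
    E y ⊆ E (genericPoint Y) ∧
      topologicalKrullDim ↥(f.fiber y) ≤ topologicalKrullDim ↥(f.fiber (genericPoint Y)) := by
  refine ⟨?_, ?_⟩
  · rintro _ ⟨Z, hZ, rfl⟩
    obtain ⟨Z', hZ', h⟩ := sub f y hcat hb Z hZ
    exact ⟨Z', hZ', h⟩
  · rw [Groth.Agent.S10831.result ↥(f.fiber y),
      Groth.Agent.S10831.result ↥(f.fiber (genericPoint Y))]
    apply iSup₂_le
    intro Z hZ
    obtain ⟨Z', hZ', h⟩ := sub f y hcat hb Z hZ
    rw [← h]
    exact le_iSup₂ (f := fun (Z' : Set ↥(f.fiber (genericPoint Y)))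
      (_ : Z' ∈ irreducibleComponents ↥(f.fiber (genericPoint Y))) => topologicalKrullDim ↥Z') Z' hZ'

end Groth.Agent.H60.FibreDimsGeneric
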