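import Mathlib
import Groth.Agent.H60.FibreDimsGeneric
import Groth.Agent.H60.CoheightOne
import Groth.Agent.S3404

/-!
# EGA IV 14.2.1: a maximal point of a fibre at which generizations lift is dominated by a maximal
point of the source lying over a given maximal point of the base, with the same relative
transcendence degree.
-/

set_option autoImplicit false
set_option linter.style.haveILetI false
universe u

open AlgebraicGeometry CategoryTheory

namespace Groth.Agent.H60.GenOpen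

open Groth.Agent.H54 Groth.Agent.H9.DimFormulaEq Groth.Agent.H71.DimFun
  Groth.Agent.H9.FibreFormula Groth.Agent.H9.FibDim Groth.Agent.H9.Equidim
  Groth.Agent.H60.EquidimAtFlat Groth.Agent.H60.EquidimAtConv Groth.Agent.H60.EquidimComp
  Groth.Agent.H60.EquidimFibMax Groth.Agent.H60.EquidimCrit Groth.Agent.H60.DimFormulaIff
  Groth.Agent.H60.FibreDimsGeneric Groth.Agent.H60.CoheightOne

/-- The image of a point of the local scheme at `z`. -/
theorem map_fromSpecStalk {X Y : Scheme.{u}} (f : X ⟶ Y) (z : X)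
    (t : PrimeSpectrum (X.presheaf.stalk z)) :
    f.base (X.fromSpecStalk z t) =
      Y.fromSpecStalk (f.base z) (PrimeSpectrum.comap (f.stalkMap z).hom t) := by
  have hcomm := congrArg (fun ψ : Spec (X.presheaf.stalk z) ⟶ Y => ψ.base t)
    (Scheme.SpecMap_stalkMap_fromSpecStalk (f := f) (x := z))
  exact hcomm.symm

set_option backward.isDefEq.respectTransparency.types false in
/-- A point over a maximal point of the base, with fibre dimension at least `d`, is dominated by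
a maximal point of the source of relative transcendence degree at least `d`. -/
theorem exists_max_over {X Y : Scheme.{u}} (f : X ⟶ Y) [LocallyOfFiniteType f] (x : X) (d : ℕ)
    (hηmax : ∀ t : Y, t ⤳ f.base x → t = f.base x)
    (hd : (d : WithBot ℕ∞) ≤ FlatMor.fibreDimAt f x) :
    ∃ (ξ : X) (E : ℕ), ξ ⤳ x ∧ (∀ t : X, t ⤳ ξ → t = ξ) ∧ f.base ξ = f.base x ∧ d ≤ E ∧
      @Algebra.trdeg (Y.residueField (f.base ξ)) (X.residueField ξ) _ _
        (f.residueFieldMap ξ).hom.toAlgebra = (E : Cardinal.{u}) := by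
  obtain ⟨bx, hbx⟩ : ∃ bx : ℕ, Order.coheight (f.asFiber x) = bx :=
    ⟨_, (ENat.natCast_toNat (coheight_ne_top (fiberQ f (f.base x)) _)).symm⟩
  obtain ⟨ζ, hζx, hζmax, hζdeg⟩ :=
    exists_generic_tdeg_eq (fiberQ f (f.base x)) (f.asFiber x) bx hbx
  have hfx := fibreDimAt_eq f x bx hbx
  rw [← hζdeg] at hfx
  obtain ⟨ξ, hξ⟩ : ∃ ξ : X, ξ = (f.fiberι (f.base x)).base ζ := ⟨_, rfl⟩
  have hξx : ξ ⤳ x := by
    have := hζx.map (f.fiberι (f.base x)).continuous
    rwa [f.fiberι_asFiber, ← hξ] at this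
  have hfξ : f.base ξ = f.base x := by rw [hξ]; exact fiberι_mem f _ ζ
  have hξmax : ∀ t : X, t ⤳ ξ → t = ξ := by
    intro t ht
    have h0 : f.base t ⤳ f.base x := hfξ ▸ ht.map f.continuous
    have h1 : f.base t = f.base x := hηmax _ h0
    obtain ⟨t₀, ht₀⟩ : t ∈ Set.range (f.fiberι (f.base x)).base := by
      rw [f.range_fiberι]; exact h1
    have h2 : t₀ ⤳ ζ := by
      rw [← (f.fiberι (f.base x)).isEmbedding.isInducing.specializes_iff, ht₀, ← hξ]; exact ht
    rw [← ht₀, hζmax t₀ h2, hξ]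
  refine ⟨ξ, tdeg (fiberQ f (f.base x)) ζ, hξx, hξmax, hfξ, ?_, ?_⟩
  · rw [hfx] at hd; exact_mod_cast hd
  · have h1 := trdeg_fiber_eq f (f.base x) ζ
    have h2 := trdeg_congr_point f hξ
    rw [h2, h1]

set_option backward.isDefEq.respectTransparency.types false in
/-- **EGA IV 14.2.1 (core).** -/
theorem exists_generic_of_lifting {X Y : Scheme.{u}} [IsLocallyNoetherian Y] (f : X ⟶ Y)
    [LocallyOfFiniteType f] (z : X)
    (hzmax : ∀ z' : X, f.base z' = f.base z → z' ⤳ z → z' = z)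
    (hgen : ∀ y' : Y, y' ⤳ f.base z → ∃ x' : X, x' ⤳ z ∧ f.base x' = y')
    (η : Y) (hη : η ⤳ f.base z) (hηmax : ∀ t : Y, t ⤳ η → t = η) :
    ∃ (ξ : X) (n : ℕ), ξ ⤳ z ∧ (∀ t : X, t ⤳ ξ → t = ξ) ∧ f.base ξ = η ∧
      @Algebra.trdeg (Y.residueField (f.base z)) (X.residueField z) _ _
        (f.residueFieldMap z).hom.toAlgebra = (n : Cardinal.{u}) ∧
      @Algebra.trdeg (Y.residueField (f.base ξ)) (X.residueField ξ) _ _
        (f.residueFieldMap ξ).hom.toAlgebra = (n : Cardinal.{u}) := by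
  haveI : IsLocallyNoetherian X := LocallyOfFiniteType.isLocallyNoetherian f
  obtain ⟨d, b, hd, hb, hform⟩ := fibre_formula f z
  have hb0 : b = 0 := by
    rw [ringKrullDim_stalk_eq_coheight, coheight_asFiber_of_fibre_maximal f z hzmax] at hb
    exact_mod_cast hb.symm
  subst hb0
  have husc : ∀ t : X, t ⤳ z → FlatMor.fibreDimAt f t ≤ ((d + 0 : ℕ) : WithBot ℕ∞) := by
    intro t ht
    exact ht.mem_open (isOpen_setOf_fibreDimAt_le f (d + 0))
      (by show FlatMor.fibreDimAt f z ≤ _; rw [hform])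
  suffices hsuff : ∃ x : X, x ⤳ z ∧ f.base x = η ∧ (d : WithBot ℕ∞) ≤ FlatMor.fibreDimAt f x by
    obtain ⟨x, hxz, hfx, hdx⟩ := hsuff
    obtain ⟨ξ, E, hξx, hξmax, hfξ, hdE, hE⟩ :=
      exists_max_over f x d (by rw [hfx]; exact hηmax) hdx
    have hξz := hξx.trans hxz
    obtain ⟨E', b', hE', hb', hformξ⟩ := fibre_formula f ξ
    have hEE' : E' = E := by exact_mod_cast (hE'.symm.trans hE)
    have h1 := husc ξ hξz
    rw [hformξ] at h1
    have h2 : E' + b' ≤ d + 0 := by exact_mod_cast h1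
    have hEd : E = d := by omega
    exact ⟨ξ, d, hξz, hξmax, hfξ.trans hfx, hd, by rw [hE, hEd]⟩
  by_contra hcon
  simp only [not_exists, not_and] at hcon
  by_cases hyη : f.base z = η
  · exact hcon z specializes_rfl hyη (by rw [hform]; exact_mod_cast le_rfl)
  obtain ⟨p₀, hp₀⟩ := exists_of_specializes Y hη
  have hp₀min : IsMin p₀ := isMin_of_generic Y (f.base z) p₀ (by rw [hp₀]; exact hηmax)
  have hp₀ne : p₀.asIdeal ≠ IsLocalRing.maximalIdeal _ := by
    intro h
    apply hyη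
    have h1 : p₀ = IsLocalRing.closedPoint _ := PrimeSpectrum.ext h
    rw [← hp₀, h1, Scheme.fromSpecStalk_closedPoint]
  have hT : IsClosed {x : X | (d : WithBot ℕ∞) ≤ FlatMor.fibreDimAt f x} :=
    isClosed_setOf_natCast_le_fibreDimAt f d
  obtain ⟨T', hT'def⟩ : ∃ T' : Set (PrimeSpectrum (X.presheaf.stalk z)),
      T' = (X.fromSpecStalk z).base ⁻¹' {x : X | (d : WithBot ℕ∞) ≤ FlatMor.fibreDimAt f x} :=
    ⟨_, rfl⟩
  have hT' : IsClosed T' := by
    rw [hT'def]; exact hT.preimage (X.fromSpecStalk z).continuous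
  have hJ : PrimeSpectrum.zeroLocus (PrimeSpectrum.vanishingIdeal T' : Set _) = T' := by
    rw [PrimeSpectrum.zeroLocus_vanishingIdeal_eq_closure, hT'.closure_eq]
  obtain ⟨φ, hφ⟩ : ∃ φ : Y.presheaf.stalk (f.base z) →+* X.presheaf.stalk z,
      φ = (f.stalkMap z).hom := ⟨_, rfl⟩
  have hnot : ¬ ((PrimeSpectrum.vanishingIdeal T').comap φ ≤ p₀.asIdeal) := by
    intro hle
    have hmin : p₀.asIdeal ∈ ((PrimeSpectrum.vanishingIdeal T').comap φ).minimalPrimes := by
      refine ⟨⟨p₀.isPrime, hle⟩, ?_⟩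
      rintro q ⟨hq, -⟩ hqp
      exact hp₀min (show (⟨q, hq⟩ : PrimeSpectrum _) ≤ p₀ from hqp)
    obtain ⟨t, htp, hJt, htc⟩ := Ideal.exists_comap_eq_of_mem_minimalPrimes φ _ hmin
    obtain ⟨tp, htpdef⟩ : ∃ tp : PrimeSpectrum (X.presheaf.stalk z), tp = ⟨t, htp⟩ := ⟨_, rfl⟩
    have htT : tp ∈ T' := by
      rw [← hJ, PrimeSpectrum.mem_zeroLocus, htpdef]; exact hJt
    have hx := fromSpecStalk_specializes X z tp
    have hfx : f.base (X.fromSpecStalk z tp) = η := by
      rw [map_fromSpecStalk f z tp, ← hp₀]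
      congr 1
      apply PrimeSpectrum.ext
      rw [htpdef, ← hφ]
      exact htc
    rw [hT'def] at htT
    exact hcon _ hx hfx htT
  obtain ⟨a, haJ, hap₀⟩ := SetLike.not_le_iff_exists.mp hnot
  haveI := p₀.isPrime
  obtain ⟨p', hp'prime, hap', hp'ne, hp'cov⟩ :=
    exists_prime_coheight_one a p₀.asIdeal hap₀ hp₀ne
  obtain ⟨pp, hppdef⟩ : ∃ pp : PrimeSpectrum (Y.presheaf.stalk (f.base z)), pp = ⟨p', hp'prime⟩ :=
    ⟨_, rfl⟩
  obtain ⟨y', hy'⟩ : ∃ y' : Y, Y.fromSpecStalk (f.base z) pp = y' := ⟨_, rfl⟩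
  have hy'z : y' ⤳ f.base z := by rw [← hy']; exact fromSpecStalk_specializes Y _ pp
  obtain ⟨x', hx'z, hfx'⟩ := hgen y' hy'z
  obtain ⟨q', hq'⟩ := exists_of_specializes X hx'z
  have hcomap : PrimeSpectrum.comap φ q' = pp := by
    apply fromSpecStalk_injective Y (f.base z)
    show Y.fromSpecStalk (f.base z) (PrimeSpectrum.comap φ q') = Y.fromSpecStalk (f.base z) pp
    rw [hy', ← hfx', ← hq', hφ]
    exact (map_fromSpecStalk f z q').symm
  have hx'T : ¬ (d : WithBot ℕ∞) ≤ FlatMor.fibreDimAt f x' := by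
    intro hmem
    have hq'T : q' ∈ T' := by
      rw [hT'def]
      show (d : WithBot ℕ∞) ≤ FlatMor.fibreDimAt f (X.fromSpecStalk z q')
      rw [hq']; exact hmem
    rw [← hJ, PrimeSpectrum.mem_zeroLocus] at hq'T
    have haq' : φ a ∈ q'.asIdeal := hq'T haJ
    have h2 : a ∈ (PrimeSpectrum.comap φ q').asIdeal := haq'
    rw [hcomap, hppdef] at h2
    exact hap' h2
  obtain ⟨e', b', he', hb', hformx'⟩ := fibre_formula f x'
  have he'd : e' + b' < d := by
    rw [hformx'] at hx'T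
    have : ¬ d ≤ e' + b' := by exact_mod_cast hx'T
    omega
  have hrel := rel_le f z x' hx'z d e' hd he' q' hq' pp (hy'.trans hfx'.symm)
  have hcpp : Order.coheight pp ≤ ((1 : ℕ) : ℕ∞) := by
    rw [Order.coheight_le_coe_iff]
    intro P hP
    have hPeq : P.asIdeal = IsLocalRing.maximalIdeal _ := by
      apply hp'cov P.asIdeal P.isPrime
      rw [hppdef] at hP
      exact hP
    have hPcl : P = IsLocalRing.closedPoint _ := PrimeSpectrum.ext hPeq
    rw [hPcl, Order.coheight_eq_zero.mpr (isMax_closedPoint _)]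
    exact_mod_cast Nat.zero_lt_one
  have hq'ne : q' ≠ IsLocalRing.closedPoint _ := by
    intro h
    have h1 : x' = z := by rw [← hq', h, Scheme.fromSpecStalk_closedPoint]
    have h2 : y' = f.base z := by rw [← hfx', h1]
    have h3 : pp = IsLocalRing.closedPoint _ := by
      apply fromSpecStalk_injective Y (f.base z)
      show Y.fromSpecStalk (f.base z) pp = Y.fromSpecStalk (f.base z) (IsLocalRing.closedPoint _)
      rw [hy', h2, Scheme.fromSpecStalk_closedPoint]
    apply hp'ne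
    have h4 := congrArg PrimeSpectrum.asIdeal h3
    rw [hppdef] at h4
    exact h4
  have hcq' : (1 : ℕ∞) ≤ Order.coheight q' := by
    rw [Order.one_le_iff_ne_zero, Ne, Order.coheight_eq_zero]
    intro hmax
    apply hq'ne
    have hle : q' ≤ IsLocalRing.closedPoint _ := IsLocalRing.le_maximalIdeal q'.2.ne_top
    exact le_antisymm hle (hmax hle)
  have hrel' : Order.coheight q' + (d : ℕ∞) ≤ Order.coheight pp + (e' : ℕ∞) := by
    exact_mod_cast hrel
  have h3 : (1 : ℕ∞) + (d : ℕ∞) ≤ ((1 : ℕ) : ℕ∞) + (e' : ℕ∞) :=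
    (add_le_add_left hcq' _).trans (hrel'.trans (add_le_add_left hcpp _))
  have h4 : 1 + d ≤ 1 + e' := by exact_mod_cast h3
  omega

end Groth.Agent.H60.GenOpen
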