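import Mathlib
import Groth.Agent.H60.GenOpen

/-!
# Applications of EGA IV 14.2.1 (S4919, S4920, S4921)
-/

set_option autoImplicit false
set_option linter.style.haveILetI false
universe u

open AlgebraicGeometry CategoryTheory

namespace Groth.Agent.H60.GenOpenApps

open Groth.Agent.H54 Groth.Agent.H9.DimFormulaEq Groth.Agent.H71.DimFun
  Groth.Agent.H9.FibreFormula Groth.Agent.H9.FibDim Groth.Agent.H9.Equidim
  Groth.Agent.H60.EquidimAtFlat Groth.Agent.H60.EquidimAtConv Groth.Agent.H60.EquidimComp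
  Groth.Agent.H60.EquidimFibMax Groth.Agent.H60.EquidimCrit Groth.Agent.H60.DimFormulaIff
  Groth.Agent.H60.FibreDimsGeneric Groth.Agent.H60.GenOpen

/-- EGA IV 14.2.1 for a point at which `f` is open. -/
theorem exists_generic_of_isOpenAt {X Y : Scheme.{u}} [IsLocallyNoetherian Y] (f : X ⟶ Y)
    [LocallyOfFiniteType f] (z : X)
    (hzmax : ∀ z' : X, f.base z' = f.base z → z' ⤳ z → z' = z)
    (hopen : EGA43.IsOpenAt f.base z)
    (η : Y) (hη : η ⤳ f.base z) (hηmax : ∀ t : Y, t ⤳ η → t = η) :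
    ∃ (ξ : X) (n : ℕ), ξ ⤳ z ∧ (∀ t : X, t ⤳ ξ → t = ξ) ∧ f.base ξ = η ∧
      @Algebra.trdeg (Y.residueField (f.base z)) (X.residueField z) _ _
        (f.residueFieldMap z).hom.toAlgebra = (n : Cardinal.{u}) ∧
      @Algebra.trdeg (Y.residueField (f.base ξ)) (X.residueField ξ) _ _
        (f.residueFieldMap ξ).hom.toAlgebra = (n : Cardinal.{u}) :=
  exists_generic_of_lifting f z hzmax
    (fun y' hy' => Groth.Agent.S3404.lift_of_isOpenAt f z hopen y' hy') η hη hηmax

theorem genericPoint_max (Y : Scheme.{u}) [IrreducibleSpace Y] :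
    ∀ t : Y, t ⤳ genericPoint Y → t = genericPoint Y :=
  fun t ht => (ht.antisymm (genericPoint_specializes t)).eq

set_option backward.isDefEq.respectTransparency.types false in
/-- Dimensions of fibre components appear in the generic fibre, given the key lifting property. -/
theorem sub_of {X Y : Scheme.{u}} [IrreducibleSpace Y] (f : X ⟶ Y)
    [LocallyOfFiniteType f] (y : Y)
    (hkey : ∀ z : X, f.base z = y → (∀ z' : X, f.base z' = f.base z → z' ⤳ z → z' = z) →
      ∃ (ξ : X) (n : ℕ), ξ ⤳ z ∧ (∀ t : X, t ⤳ ξ → t = ξ) ∧ f.base ξ = genericPoint Y ∧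
        @Algebra.trdeg (Y.residueField (f.base z)) (X.residueField z) _ _
          (f.residueFieldMap z).hom.toAlgebra = (n : Cardinal.{u}) ∧
        @Algebra.trdeg (Y.residueField (f.base ξ)) (X.residueField ξ) _ _
          (f.residueFieldMap ξ).hom.toAlgebra = (n : Cardinal.{u}))
    (Z : Set ↥(f.fiber y)) (hZ : Z ∈ irreducibleComponents ↥(f.fiber y)) :
    ∃ Z' ∈ irreducibleComponents ↥(f.fiber (genericPoint Y)),
      topologicalKrullDim ↥Z' = topologicalKrullDim ↥Z := by
  obtain ⟨z₀, hz₀Z, hz₀max⟩ := exists_generic_of_component Z hZ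
  obtain ⟨z, hz⟩ : ∃ z : X, z = (f.fiberι y).base z₀ := ⟨_, rfl⟩
  have hfz : f.base z = y := by rw [hz]; exact fiberι_mem f y z₀
  have hzmax : ∀ z' : X, f.base z' = y → z' ⤳ z → z' = z := by
    intro z' hz' hsp
    obtain ⟨t, ht⟩ : z' ∈ Set.range (f.fiberι y).base := by rw [f.range_fiberι]; exact hz'
    have h1 : t ⤳ z₀ := by
      rw [← (f.fiberι y).isEmbedding.isInducing.specializes_iff, ht, ← hz]; exact hsp
    rw [← ht, hz₀max t h1, hz]
  obtain ⟨ξ, n, hξz, hξmax, hη, hn, hE⟩ := hkey z hfz (fun z' hz' => hzmax z' (hz'.trans hfz))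
  have hdimZ : topologicalKrullDim ↥Z = (n : WithBot ℕ∞) := by
    rw [← hz₀Z, topologicalKrullDim_closure_singleton (fiberQ f y) z₀]
    have h1 := trdeg_fiber_eq f y z₀
    have h2 := trdeg_congr_point f hz
    have h3 : (tdeg (fiberQ f y) z₀ : Cardinal.{u}) = (n : Cardinal.{u}) := by
      rw [← h1, ← h2, hn]
    have : tdeg (fiberQ f y) z₀ = n := by exact_mod_cast h3
    rw [this]
  have key : ∀ η : Y, f.base ξ = η → ∃ Z' ∈ irreducibleComponents ↥(f.fiber η),
      topologicalKrullDim ↥Z' = (n : WithBot ℕ∞) := by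
    rintro _ rfl
    refine ⟨closure {f.asFiber ξ}, closure_mem_irreducibleComponents_of_forall ?_, ?_⟩
    · intro t ht
      have h2 : (f.fiberι (f.base ξ)).base t ⤳ (f.fiberι (f.base ξ)).base (f.asFiber ξ) :=
        ht.map (f.fiberι (f.base ξ)).continuous
      rw [f.fiberι_asFiber] at h2
      have h3 : (f.fiberι (f.base ξ)).base t = (f.fiberι (f.base ξ)).base (f.asFiber ξ) := by
        rw [f.fiberι_asFiber]; exact hξmax _ h2
      exact (f.fiberι (f.base ξ)).isEmbedding.injective h3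
    · rw [topologicalKrullDim_closure_singleton (fiberQ f (f.base ξ)) (f.asFiber ξ)]
      have h1 := trdeg_fiber_eq f (f.base ξ) (f.asFiber ξ)
      have h2 := trdeg_congr_point f (f.fiberι_asFiber ξ)
      have h3 : (tdeg (fiberQ f (f.base ξ)) (f.asFiber ξ) : Cardinal.{u}) =
          (n : Cardinal.{u}) := by
        rw [← h1, h2, hE]
      have : tdeg (fiberQ f (f.base ξ)) (f.asFiber ξ) = n := by exact_mod_cast h3
      rw [this]
  obtain ⟨Z', hZ', hdimZ'⟩ := key _ hη
  exact ⟨Z', hZ', by rw [hdimZ', hdimZ]⟩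

/-- **S4920.** -/
theorem main_S4920 {X Y : Scheme.{u}} [IrreducibleSpace Y] [IsLocallyNoetherian Y]
    (f : X ⟶ Y) [LocallyOfFiniteType f] (y : Y)
    (h : ∀ x : X, f.base x = y → EGA43.IsOpenAt f.base x) :
    letI E : Y → Set (WithBot ℕ∞) := fun z =>
      (fun Z : Set ↥(f.fiber z) => topologicalKrullDim ↥Z) '' irreducibleComponents ↥(f.fiber z)
    E y ⊆ E (genericPoint Y) ∧
      topologicalKrullDim ↥(f.fiber y) ≤ topologicalKrullDim ↥(f.fiber (genericPoint Y)) := by
  have hkey : ∀ z : X, f.base z = y → (∀ z' : X, f.base z' = f.base z → z' ⤳ z → z' = z) →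
      ∃ (ξ : X) (n : ℕ), ξ ⤳ z ∧ (∀ t : X, t ⤳ ξ → t = ξ) ∧ f.base ξ = genericPoint Y ∧
        @Algebra.trdeg (Y.residueField (f.base z)) (X.residueField z) _ _
          (f.residueFieldMap z).hom.toAlgebra = (n : Cardinal.{u}) ∧
        @Algebra.trdeg (Y.residueField (f.base ξ)) (X.residueField ξ) _ _
          (f.residueFieldMap ξ).hom.toAlgebra = (n : Cardinal.{u}) :=
    fun z hfz hzmax => exists_generic_of_isOpenAt f z hzmax (h z hfz) (genericPoint Y)
      (genericPoint_specializes _) (genericPoint_max Y)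
  refine ⟨?_, ?_⟩
  · rintro _ ⟨Z, hZ, rfl⟩
    obtain ⟨Z', hZ', h'⟩ := sub_of f y hkey Z hZ
    exact ⟨Z', hZ', h'⟩
  · rw [Groth.Agent.S10831.result ↥(f.fiber y),
      Groth.Agent.S10831.result ↥(f.fiber (genericPoint Y))]
    apply iSup₂_le
    intro Z hZ
    obtain ⟨Z', hZ', h'⟩ := sub_of f y hkey Z hZ
    rw [← h']
    exact le_iSup₂ (f := fun (Z' : Set ↥(f.fiber (genericPoint Y)))
      (_ : Z' ∈ irreducibleComponents ↥(f.fiber (genericPoint Y))) => topologicalKrullDim ↥Z') Z' hZ'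

end Groth.Agent.H60.GenOpenApps
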