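import Mathlib
import Groth.Agent.H60.GenOpenApps

/-!
# S4919: the dominating component through a fibre component at whose generic point `f` is open
-/

set_option autoImplicit false
set_option linter.style.haveILetI false
universe u

open AlgebraicGeometry CategoryTheory

namespace Groth.Agent.H60.GenOpenComp

open Groth.Agent.H54 Groth.Agent.H9.DimFormulaEq Groth.Agent.H71.DimFun
  Groth.Agent.H9.FibreFormula Groth.Agent.H9.FibDim Groth.Agent.H9.Equidim
  Groth.Agent.H60.EquidimAtFlat Groth.Agent.H60.EquidimAtConv Groth.Agent.H60.EquidimComp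
  Groth.Agent.H60.EquidimFibMax Groth.Agent.H60.EquidimCrit Groth.Agent.H60.DimFormulaIff
  Groth.Agent.H60.FibreDimsGeneric Groth.Agent.H60.GenOpen Groth.Agent.H60.GenOpenApps

/-- A set between a point and its closure is irreducible. -/
theorem isIrreducible_of_mem_of_subset_closure {A : Type*} [TopologicalSpace A] {a : A} {S : Set A}
    (ha : a ∈ S) (hS : S ⊆ closure {a}) : IsIrreducible S := by
  have hcl : closure S = closure {a} :=
    subset_antisymm (closure_minimal hS isClosed_closure)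
      (closure_mono (Set.singleton_subset_iff.mpr ha))
  exact isIrreducible_iff_closure.mp (hcl ▸ isIrreducible_singleton.closure)

/-- The generic point of a maximal irreducible subset of a fibre. -/
theorem exists_generic_of_maximal_irreducible {X Y : Scheme.{u}} (f : X ⟶ Y) (y : Y) (Z : Set X)
    (hZy : Z ⊆ f.base ⁻¹' {y}) (hZ : IsIrreducible Z)
    (hZmax : ∀ Z' : Set X, IsIrreducible Z' → Z' ⊆ f.base ⁻¹' {y} → Z ⊆ Z' → Z' = Z) :
    ∃ ζ₀ : X, f.base ζ₀ = y ∧ closure {ζ₀} ∩ f.base ⁻¹' {y} = Z ∧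
      (∀ z' : X, f.base z' = f.base ζ₀ → z' ⤳ ζ₀ → z' = ζ₀) := by
  obtain ⟨ζ₀, hζ₀⟩ := QuasiSober.sober hZ.closure isClosed_closure
  have hζ₀cl : closure {ζ₀} = closure Z := hζ₀.def
  obtain ⟨z₁, hz₁⟩ := hZ.1
  have hfz₁ : f.base z₁ = y := hZy hz₁
  have hfζ₀ : f.base ζ₀ = y := by
    have h1 : f.base ζ₀ ∈ closure ({y} : Set Y) := by
      have hmem : ζ₀ ∈ closure Z := hζ₀cl ▸ subset_closure rfl
      have h2 : f.base '' closure Z ⊆ closure (f.base '' Z) :=
        image_closure_subset_closure_image f.continuous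
      have h3 : f.base '' Z ⊆ {y} := by rintro _ ⟨t, ht, rfl⟩; exact hZy ht
      exact closure_mono h3 (h2 ⟨ζ₀, hmem, rfl⟩)
    have h4 : f.base ζ₀ ⤳ y := by
      have h5 : ζ₀ ⤳ z₁ := specializes_iff_mem_closure.mpr (hζ₀cl ▸ subset_closure hz₁)
      have h6 := h5.map f.continuous
      rwa [hfz₁] at h6
    exact (h4.antisymm (specializes_iff_mem_closure.mpr h1)).eq
  have hZsub : Z ⊆ closure {ζ₀} := hζ₀cl ▸ subset_closure
  have hZeq : closure {ζ₀} ∩ f.base ⁻¹' {y} = Z := by
    apply hZmax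
    · exact isIrreducible_of_mem_of_subset_closure (a := ζ₀) ⟨subset_closure rfl, hfζ₀⟩
        Set.inter_subset_left
    · exact Set.inter_subset_right
    · intro t ht; exact ⟨hZsub ht, hZy ht⟩
  refine ⟨ζ₀, hfζ₀, hZeq, ?_⟩
  intro z' hz' hsp
  have hcl : closure ({ζ₀} : Set X) ⊆ closure {z'} := specializes_iff_closure_subset.mp hsp
  have hS : closure {z'} ∩ f.base ⁻¹' {y} = Z := by
    apply hZmax
    · exact isIrreducible_of_mem_of_subset_closure (a := z')
        ⟨subset_closure rfl, hz'.trans hfζ₀⟩ Set.inter_subset_left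
    · exact Set.inter_subset_right
    · intro t ht; exact ⟨hcl (hZsub ht), hZy ht⟩
  have hz'Z : z' ∈ Z := hS ▸ ⟨subset_closure rfl, hz'.trans hfζ₀⟩
  have h7 : ζ₀ ⤳ z' := specializes_iff_mem_closure.mpr (hZsub hz'Z)
  exact (hsp.antisymm h7).eq

set_option backward.isDefEq.respectTransparency.types false in
/-- **S4919.** -/
theorem main_S4919 {X Y : Scheme.{u}} [IrreducibleSpace Y] [IsLocallyNoetherian Y] (f : X ⟶ Y)
    [LocallyOfFiniteType f] (y : Y) (Z : Set X)
    (hZy : Z ⊆ f.base ⁻¹' {y}) (hZ : IsIrreducible Z)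
    (hZmax : ∀ Z' : Set X, IsIrreducible Z' → Z' ⊆ f.base ⁻¹' {y} → Z ⊆ Z' → Z' = Z)
    (hopen : ∀ ζ ∈ Z, Z ⊆ closure {ζ} → EGA43.IsOpenAt f.base ζ) :
    ∃ X' ∈ irreducibleComponents (X : Type u), Z ⊆ X' ∧ Dense (f.base '' X') ∧
      (∀ ζ ∈ Z, Z ⊆ closure {ζ} → ∀ hζ : ζ ∈ X' ∩ f.base ⁻¹' {y},
        FlatMor.localDim ↥(X' ∩ f.base ⁻¹' {y}) ⟨ζ, hζ⟩ = topologicalKrullDim ↥Z) ∧
      topologicalKrullDim ↥Z = topologicalKrullDim ↥(X' ∩ f.base ⁻¹' {genericPoint Y}) := by
  obtain ⟨ζ₀, hfζ₀, hZeq, hζ₀max⟩ := exists_generic_of_maximal_irreducible f y Z hZy hZ hZmax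
  subst hfζ₀
  have hζ₀Z : ζ₀ ∈ Z := hZeq ▸ ⟨subset_closure rfl, rfl⟩
  have hZsub : Z ⊆ closure {ζ₀} := hZeq ▸ Set.inter_subset_left
  obtain ⟨ξ, n, hξζ₀, hξmax, hfξ, hn, hE⟩ :=
    exists_generic_of_isOpenAt f ζ₀ hζ₀max (hopen ζ₀ hζ₀Z hZsub) (genericPoint Y)
      (genericPoint_specializes _) (genericPoint_max Y)
  have hdimZ : topologicalKrullDim ↥Z = (n : WithBot ℕ∞) := by
    rw [← hZeq, dim_closure_inter_fibre f ζ₀]
    have h1 := trdeg_fiber_eq f (f.base ζ₀) (f.asFiber ζ₀)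
    have h2 := trdeg_congr_point f (f.fiberι_asFiber ζ₀)
    have h3 : (tdeg (fiberQ f (f.base ζ₀)) (f.asFiber ζ₀) : Cardinal.{u}) =
        (n : Cardinal.{u}) := by
      rw [← h1, h2, hn]
    have : tdeg (fiberQ f (f.base ζ₀)) (f.asFiber ζ₀) = n := by exact_mod_cast h3
    rw [this]
  have hdimξ : topologicalKrullDim ↥(closure ({ξ} : Set X) ∩ f.base ⁻¹' {f.base ξ}) =
      (n : WithBot ℕ∞) := by
    rw [dim_closure_inter_fibre f ξ]
    have h1 := trdeg_fiber_eq f (f.base ξ) (f.asFiber ξ)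
    have h2 := trdeg_congr_point f (f.fiberι_asFiber ξ)
    have h3 : (tdeg (fiberQ f (f.base ξ)) (f.asFiber ξ) : Cardinal.{u}) =
        (n : Cardinal.{u}) := by
      rw [← h1, h2, hE]
    have : tdeg (fiberQ f (f.base ξ)) (f.asFiber ξ) = n := by exact_mod_cast h3
    rw [this]
  refine ⟨closure {ξ}, closure_mem_irreducibleComponents_of_forall hξmax, ?_, ?_, ?_, ?_⟩
  · exact hZsub.trans (specializes_iff_closure_subset.mp hξζ₀)
  · rw [dense_iff_closure_eq, closure_image_closure f ξ, hfξ]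
    exact (genericPoint_spec Y).def
  · intro ζ hζZ hZζ hζ
    have hζeq : ζ = ζ₀ :=
      ((specializes_iff_mem_closure.mpr (hZζ hζ₀Z)).antisymm
        (specializes_iff_mem_closure.mpr (hZsub hζZ))).eq
    subst hζeq
    rw [hdimZ]
    -- the component through `ξ` as a scheme
    let W : TopologicalSpace.Closeds X := ⟨closure {ξ}, isClosed_closure⟩
    have hrange : Set.range (Scheme.IdealSheafData.vanishingIdeal W).subschemeι.base =
        (closure {ξ} : Set X) := by
      rw [Scheme.IdealSheafData.range_subschemeι,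
        Scheme.IdealSheafData.coe_support_vanishingIdeal]
      rfl
    have hemb : Topology.IsEmbedding (Scheme.IdealSheafData.vanishingIdeal W).subschemeι.base :=
      (Scheme.IdealSheafData.vanishingIdeal W).subschemeι.isClosedEmbedding.isEmbedding
    set ι := (Scheme.IdealSheafData.vanishingIdeal W).subschemeι with hι
    obtain ⟨w, hw⟩ : ζ ∈ Set.range ι.base := by rw [hrange]; exact hζ.1
    have hkey := localDim_inter_fibre_eq ι hemb (closure {ξ}) hrange f w ζ hw hζ.1
    rw [hkey]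
    obtain ⟨n', b', hn', hb', hform'⟩ := fibre_formula (ι ≫ f) w
    have hwmax : ∀ w' : _, (ι ≫ f).base w' = (ι ≫ f).base w → w' ⤳ w → w' = w := by
      intro w' hw' hsp
      apply hemb.injective
      rw [hw]
      apply hζ₀max
      · have := hw'
        rw [Scheme.Hom.comp_apply, Scheme.Hom.comp_apply, hw] at this
        exact this
      · have := hsp.map ι.continuous
        rwa [hw] at this
    have hb0 : b' = 0 := by
      rw [ringKrullDim_stalk_eq_coheight, coheight_asFiber_of_fibre_maximal (ι ≫ f) w hwmax] at hb'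
      exact_mod_cast hb'.symm
    have h3 := trdeg_comp_of_surjectiveOnStalks ι f w
    have h4 := trdeg_congr_point f hw
    have h5 : (n' : Cardinal.{u}) = (n : Cardinal.{u}) := by
      rw [← hn', h3, h4, hn]
    have h6 : n' = n := by exact_mod_cast h5
    rw [hform', h6, hb0]
    rfl
  · rw [hdimZ, ← hfξ, hdimξ]

end Groth.Agent.H60.GenOpenComp
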