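import Mathlib
import Groth.Agent.H60.GenOpenApps
import Groth.Agent.H60.FibreDimBC

/-!
# EGA IV 14.2.1 over an arbitrary generization of the image point
-/

set_option autoImplicit false
set_option linter.style.haveILetI false
universe u

open AlgebraicGeometry CategoryTheory CategoryTheory.Limits

namespace Groth.Agent.H60.GenOpenGen

open Groth.Agent.H54 Groth.Agent.H9.DimFormulaEq Groth.Agent.H71.DimFun
  Groth.Agent.H9.FibreFormula Groth.Agent.H9.FibDim Groth.Agent.H9.Equidim
  Groth.Agent.H60.EquidimAtFlat Groth.Agent.H60.EquidimAtConv Groth.Agent.H60.EquidimComp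
  Groth.Agent.H60.EquidimFibMax Groth.Agent.H60.EquidimCrit Groth.Agent.H60.DimFormulaIff
  Groth.Agent.H60.FibreDimsGeneric Groth.Agent.H60.GenOpen Groth.Agent.H60.GenOpenApps
  Groth.Agent.H60.FibreDimBC

/-- The fibre dimension at a maximal point of a fibre is its relative transcendence degree. -/
theorem fibreDimAt_of_fibre_maximal {X Y : Scheme.{u}} (f : X ⟶ Y) [LocallyOfFiniteType f] (z : X)
    (hzmax : ∀ z' : X, f.base z' = f.base z → z' ⤳ z → z' = z) :
    ∃ n : ℕ, @Algebra.trdeg (Y.residueField (f.base z)) (X.residueField z) _ _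
        (f.residueFieldMap z).hom.toAlgebra = (n : Cardinal.{u}) ∧
      FlatMor.fibreDimAt f z = (n : WithBot ℕ∞) := by
  obtain ⟨n, b, hn, hb, hform⟩ := fibre_formula f z
  have hb0 : b = 0 := by
    rw [ringKrullDim_stalk_eq_coheight, coheight_asFiber_of_fibre_maximal f z hzmax] at hb
    exact_mod_cast hb.symm
  subst hb0
  exact ⟨n, hn, by rw [hform]; rfl⟩

set_option backward.isDefEq.respectTransparency.types false in
/-- **EGA IV 14.2.1 over an arbitrary generization.** If `z` is maximal in its fibre and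
generizations of `f z` lift to generizations of `z`, then over every generization `y'` of `f z`
there is a generization `ξ` of `z` with fibre dimension at least that at `z`. -/
theorem exists_of_lifting_generization {X Y : Scheme.{u}} [IsLocallyNoetherian Y] (f : X ⟶ Y)
    [LocallyOfFiniteType f] (z : X)
    (hzmax : ∀ z' : X, f.base z' = f.base z → z' ⤳ z → z' = z)
    (hgen : ∀ y' : Y, y' ⤳ f.base z → ∃ x' : X, x' ⤳ z ∧ f.base x' = y')
    (y' : Y) (hy' : y' ⤳ f.base z) :
    ∃ ξ : X, ξ ⤳ z ∧ f.base ξ = y' ∧ FlatMor.fibreDimAt f z ≤ FlatMor.fibreDimAt f ξ := by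
  let W : TopologicalSpace.Closeds Y := ⟨closure {y'}, isClosed_closure⟩
  have hrange : Set.range (Scheme.IdealSheafData.vanishingIdeal W).subschemeι.base =
      (closure {y'} : Set Y) := by
    rw [Scheme.IdealSheafData.range_subschemeι,
      Scheme.IdealSheafData.coe_support_vanishingIdeal]
    rfl
  set g := (Scheme.IdealSheafData.vanishingIdeal W).subschemeι with hg
  have hgemb : Topology.IsEmbedding g.base := g.isClosedEmbedding.isEmbedding
  haveI : IsLocallyNoetherian (Scheme.IdealSheafData.vanishingIdeal W).subscheme :=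
    LocallyOfFiniteType.isLocallyNoetherian g
  have hjemb : Topology.IsEmbedding (pullback.fst f g).base :=
    (pullback.fst f g).isClosedEmbedding.isEmbedding
  have hcond : ∀ t : ↥(pullback f g),
      f.base ((pullback.fst f g).base t) = g.base ((pullback.snd f g).base t) := by
    intro t
    have := congrArg (fun ψ : pullback f g ⟶ Y => ψ.base t) (pullback.condition (f := f) (g := g))
    simpa only [Scheme.Hom.comp_apply] using this
  obtain ⟨w, hw⟩ : f.base z ∈ Set.range g.base := by rw [hrange]; exact hy'.mem_closure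
  obtain ⟨η', hη'⟩ : y' ∈ Set.range g.base := by rw [hrange]; exact subset_closure rfl
  obtain ⟨z', hz'1, hz'2⟩ := Scheme.Pullback.exists_preimage_pullback (f := f) (g := g) z w hw.symm
  have hz'max : ∀ t : ↥(pullback f g), (pullback.snd f g).base t = (pullback.snd f g).base z' →
      t ⤳ z' → t = z' := by
    intro t ht hsp
    apply hjemb.injective
    rw [hz'1]
    apply hzmax
    · rw [hcond t, ht, ← hcond z', hz'1]
    · have := hsp.map (pullback.fst f g).continuous
      rwa [hz'1] at this
  have hgen' : ∀ w' : ↥(Scheme.IdealSheafData.vanishingIdeal W).subscheme,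
      w' ⤳ (pullback.snd f g).base z' →
      ∃ x'' : ↥(pullback f g), x'' ⤳ z' ∧ (pullback.snd f g).base x'' = w' := by
    intro w' hw'
    have h1 : g.base w' ⤳ f.base z := by
      have := hw'.map g.continuous
      rwa [← hcond z', hz'1] at this
    obtain ⟨x₁, hx₁z, hfx₁⟩ := hgen _ h1
    obtain ⟨x'', hx''1, hx''2⟩ :=
      Scheme.Pullback.exists_preimage_pullback (f := f) (g := g) x₁ w' hfx₁
    refine ⟨x'', ?_, hx''2⟩
    rw [← hjemb.isInducing.specializes_iff, hx''1, hz'1]
    exact hx₁z
  have hη'z : η' ⤳ (pullback.snd f g).base z' := by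
    rw [← hgemb.isInducing.specializes_iff, hη', ← hcond z', hz'1]
    exact hy'
  have hη'max : ∀ t : ↥(Scheme.IdealSheafData.vanishingIdeal W).subscheme, t ⤳ η' → t = η' := by
    intro t ht
    apply hgemb.injective
    have h1 : g.base t ⤳ y' := by
      have := ht.map g.continuous
      rwa [hη'] at this
    have h2 : g.base t ∈ closure ({y'} : Set Y) := by rw [← hrange]; exact ⟨t, rfl⟩
    rw [hη']
    exact (h1.antisymm (specializes_iff_mem_closure.mpr h2)).eq
  obtain ⟨ξ', n, hξ'z', hξ'max, hfξ', hn1, hn2⟩ :=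
    exists_generic_of_lifting (pullback.snd f g) z' hz'max hgen' η' hη'z hη'max
  obtain ⟨n₀, hn₀, hfd₀⟩ := fibreDimAt_of_fibre_maximal (pullback.snd f g) z' hz'max
  have hnn₀ : n₀ = n := by exact_mod_cast (hn₀.symm.trans hn1)
  have h1 : FlatMor.fibreDimAt f z = (n : WithBot ℕ∞) := by
    rw [← hz'1, ← fibreDimAt_baseChange f g z', hfd₀, hnn₀]
  have h2 : (n : WithBot ℕ∞) ≤ FlatMor.fibreDimAt (pullback.snd f g) ξ' :=
    natCast_trdeg_le_fibreDimAt (pullback.snd f g) ξ' ξ' specializes_rfl rfl n hn2
  rw [fibreDimAt_baseChange f g ξ'] at h2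
  refine ⟨(pullback.fst f g).base ξ', ?_, ?_, ?_⟩
  · have := hξ'z'.map (pullback.fst f g).continuous
    rwa [hz'1] at this
  · rw [hcond ξ', hfξ', hη']
  · rw [h1]; exact h2

/-- Version for a point at which `f` is open. -/
theorem exists_of_isOpenAt_generization {X Y : Scheme.{u}} [IsLocallyNoetherian Y] (f : X ⟶ Y)
    [LocallyOfFiniteType f] (z : X)
    (hzmax : ∀ z' : X, f.base z' = f.base z → z' ⤳ z → z' = z)
    (hopen : EGA43.IsOpenAt f.base z) (y' : Y) (hy' : y' ⤳ f.base z) :
    ∃ ξ : X, ξ ⤳ z ∧ f.base ξ = y' ∧ FlatMor.fibreDimAt f z ≤ FlatMor.fibreDimAt f ξ :=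
  exists_of_lifting_generization f z hzmax
    (fun y'' hy'' => Groth.Agent.S3404.lift_of_isOpenAt f z hopen y'' hy'') y' hy'

end Groth.Agent.H60.GenOpenGen
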