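import Mathlib

/-!
# A locally constructible set containing all generizations of a point is a neighbourhood of it;
closed and open subsets of a locally Noetherian scheme are locally constructible.
-/

set_option autoImplicit false
set_option linter.style.haveILetI false
universe u

open AlgebraicGeometry CategoryTheory Topology

namespace Groth.Agent.H60.ConstrNhd

/-- Every point of the closure of a constructible subset of a prime spectrum is a specialization
of a point of the set. -/
theorem exists_specializes_of_mem_closure {R : Type u} [CommRing R] (C : Set (PrimeSpectrum R))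
    (hC : IsConstructible C) (y : PrimeSpectrum R) (hy : y ∈ closure C) :
    ∃ c ∈ C, c ⤳ y := by
  obtain ⟨S, _, φ, rfl⟩ := PrimeSpectrum.exists_range_eq_of_isConstructible hC
  rw [PrimeSpectrum.closure_range_comap, PrimeSpectrum.mem_zeroLocus] at hy
  have hle : RingHom.ker φ ≤ y.asIdeal := hy
  obtain ⟨p, hp, hpy⟩ := Ideal.exists_minimalPrimes_le hle
  have hp' : p ∈ ((⊥ : Ideal S).comap φ).minimalPrimes := by
    rw [← RingHom.ker_eq_comap_bot]; exact hp
  obtain ⟨q, hq, -, hqp⟩ := Ideal.exists_comap_eq_of_mem_minimalPrimes φ p hp'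
  refine ⟨PrimeSpectrum.comap φ ⟨q, hq⟩, ⟨⟨q, hq⟩, rfl⟩, ?_⟩
  rw [← PrimeSpectrum.le_iff_specializes]
  show (PrimeSpectrum.comap φ ⟨q, hq⟩).asIdeal ≤ y.asIdeal
  rw [show (PrimeSpectrum.comap φ ⟨q, hq⟩).asIdeal = q.comap φ from rfl, hqp]
  exact hpy

/-- A constructible subset of a prime spectrum containing all generizations of a point is a
neighbourhood of that point. -/
theorem mem_nhds_of_isConstructible {R : Type u} [CommRing R] (E : Set (PrimeSpectrum R))
    (hE : IsConstructible E) (y : PrimeSpectrum R) (hy : ∀ t : PrimeSpectrum R, t ⤳ y → t ∈ E) :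
    E ∈ nhds y := by
  rw [← mem_interior_iff_mem_nhds]
  by_contra h
  have h1 : y ∈ closure Eᶜ := by rw [closure_compl]; exact h
  obtain ⟨c, hc, hcy⟩ := exists_specializes_of_mem_closure Eᶜ hE.compl y h1
  exact hc (hy c hcy)

/-- A locally constructible subset of a scheme containing all generizations of a point is a
neighbourhood of that point. -/
theorem mem_nhds_of_isLocallyConstructible {Y : Scheme.{u}} (E : Set Y)
    (hE : IsLocallyConstructible E) (y : Y) (hy : ∀ t : Y, t ⤳ y → t ∈ E) : E ∈ nhds y := by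
  obtain ⟨V, hV, hyV, -⟩ :=
    exists_isAffineOpen_mem_and_subset (x := y) (U := (⊤ : Y.Opens)) trivial
  obtain ⟨P, hP⟩ : y ∈ Set.range hV.fromSpec.base := by rw [hV.range_fromSpec]; exact hyV
  have hj : IsOpenEmbedding hV.fromSpec.base := hV.fromSpec.isOpenEmbedding
  have hE' : IsConstructible (hV.fromSpec.base ⁻¹' E) :=
    (hE.preimage_of_isOpenEmbedding hj).isConstructible
  have h1 : hV.fromSpec.base ⁻¹' E ∈ nhds P :=
    mem_nhds_of_isConstructible (R := Γ(Y, V)) (hV.fromSpec.base ⁻¹' E) hE' P
      (fun t ht => hy _ (hP ▸ ht.map hV.fromSpec.continuous))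
  have h2 : hV.fromSpec.base '' (hV.fromSpec.base ⁻¹' E) ∈ nhds (hV.fromSpec.base P) :=
    hj.isOpenMap.image_mem_nhds h1
  rw [hP] at h2
  exact Filter.mem_of_superset h2 (Set.image_preimage_subset _ _)

/-- Open subsets of a locally Noetherian scheme are locally constructible. -/
theorem isLocallyConstructible_of_isOpen {X : Scheme.{u}} [IsLocallyNoetherian X] {U : Set X}
    (hU : IsOpen U) : IsLocallyConstructible U := by
  intro x
  obtain ⟨W, hW, hxW, -⟩ :=
    exists_isAffineOpen_mem_and_subset (x := x) (U := (⊤ : X.Opens)) trivial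
  haveI : IsNoetherianRing Γ(X, W) := IsLocallyNoetherian.component_noetherian ⟨W, hW⟩
  haveI : TopologicalSpace.NoetherianSpace ↥(W : Set X) := noetherianSpace_of_isAffineOpen W hW
  refine ⟨W, W.2.mem_nhds hxW, W.2, ?_⟩
  have hopen : IsOpen ((Subtype.val : ↥(W : Set X) → X) ⁻¹' U) :=
    hU.preimage continuous_subtype_val
  have hretro : IsRetrocompact ((Subtype.val : ↥(W : Set X) → X) ⁻¹' U) :=
    fun V _ _ => TopologicalSpace.NoetherianSpace.isCompact _
  exact hretro.isConstructible hopen

/-- Closed subsets of a locally Noetherian scheme are locally constructible. -/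
theorem isLocallyConstructible_of_isClosed {X : Scheme.{u}} [IsLocallyNoetherian X] {F : Set X}
    (hF : IsClosed F) : IsLocallyConstructible F := by
  intro x
  obtain ⟨W, hW, hxW, -⟩ :=
    exists_isAffineOpen_mem_and_subset (x := x) (U := (⊤ : X.Opens)) trivial
  haveI : IsNoetherianRing Γ(X, W) := IsLocallyNoetherian.component_noetherian ⟨W, hW⟩
  haveI : TopologicalSpace.NoetherianSpace ↥(W : Set X) := noetherianSpace_of_isAffineOpen W hW
  refine ⟨W, W.2.mem_nhds hxW, W.2, ?_⟩
  have hopen : IsOpen ((Subtype.val : ↥(W : Set X) → X) ⁻¹' Fᶜ) :=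
    hF.isOpen_compl.preimage continuous_subtype_val
  have hretro : IsRetrocompact ((Subtype.val : ↥(W : Set X) → X) ⁻¹' Fᶜ) :=
    fun V _ _ => TopologicalSpace.NoetherianSpace.isCompact _
  have h1 : IsConstructible ((Subtype.val : ↥(W : Set X) → X) ⁻¹' Fᶜ) :=
    hretro.isConstructible hopen
  have h2 : ((Subtype.val : ↥(W : Set X) → X) ⁻¹' F) =
      ((Subtype.val : ↥(W : Set X) → X) ⁻¹' Fᶜ)ᶜ := by
    ext t; simp
  rw [h2]
  exact h1.compl

end Groth.Agent.H60.ConstrNhd
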