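import Mathlib
import Groth.Agent.H60.GenOpenApps

/-!
# S4921: fibre dimension of a proper morphism open along a fibre is locally constant
-/

set_option autoImplicit false
set_option linter.style.haveILetI false
universe u

open AlgebraicGeometry CategoryTheory

namespace Groth.Agent.H60.GenOpenProper

open Groth.Agent.H54 Groth.Agent.H9.DimFormulaEq Groth.Agent.H71.DimFun
  Groth.Agent.H9.FibreFormula Groth.Agent.H9.FibDim Groth.Agent.H9.Equidim
  Groth.Agent.H60.EquidimAtFlat Groth.Agent.H60.EquidimAtConv Groth.Agent.H60.EquidimComp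
  Groth.Agent.H60.EquidimFibMax Groth.Agent.H60.EquidimCrit Groth.Agent.H60.DimFormulaIff
  Groth.Agent.H60.FibreDimsGeneric Groth.Agent.H60.GenOpen Groth.Agent.H60.GenOpenApps

theorem le_of_forall_natCast_le (c e : WithBot ℕ∞)
    (h : ∀ n : ℕ, (n : WithBot ℕ∞) ≤ c → (n : WithBot ℕ∞) ≤ e) : c ≤ e := by
  induction c using WithBot.recBotCoe with
  | bot => exact bot_le
  | coe c' =>
    have h0 : ((0 : ℕ) : WithBot ℕ∞) ≤ e :=
      h 0 (by exact_mod_cast (zero_le : (0 : ℕ∞) ≤ c'))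
    induction e using WithBot.recBotCoe with
    | bot => simp at h0
    | coe e' =>
      rw [WithBot.coe_le_coe, ← ENat.forall_natCast_le_iff_le]
      intro n hn
      have := h n (by exact_mod_cast hn)
      exact_mod_cast this

set_option backward.isDefEq.respectTransparency.types false in
/-- A point of a fibre with fibre dimension `≥ n` is dominated by a maximal point of that fibre of
relative transcendence degree `≥ n`. -/
theorem exists_fibre_max {X Y : Scheme.{u}} (f : X ⟶ Y) [LocallyOfFiniteType f] (x : X) (n : ℕ)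
    (hn : (n : WithBot ℕ∞) ≤ FlatMor.fibreDimAt f x) :
    ∃ (z₀ : X) (m : ℕ), z₀ ⤳ x ∧ f.base z₀ = f.base x ∧
      (∀ z' : X, f.base z' = f.base z₀ → z' ⤳ z₀ → z' = z₀) ∧ n ≤ m ∧
      @Algebra.trdeg (Y.residueField (f.base z₀)) (X.residueField z₀) _ _
        (f.residueFieldMap z₀).hom.toAlgebra = (m : Cardinal.{u}) := by
  obtain ⟨bx, hbx⟩ : ∃ bx : ℕ, Order.coheight (f.asFiber x) = bx :=
    ⟨_, (ENat.natCast_toNat (coheight_ne_top (fiberQ f (f.base x)) _)).symm⟩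
  obtain ⟨ζ, hζx, hζmax, hζdeg⟩ :=
    exists_generic_tdeg_eq (fiberQ f (f.base x)) (f.asFiber x) bx hbx
  have hfx := fibreDimAt_eq f x bx hbx
  rw [← hζdeg] at hfx
  obtain ⟨z₀, hz₀⟩ : ∃ z₀ : X, z₀ = (f.fiberι (f.base x)).base ζ := ⟨_, rfl⟩
  have hz₀x : z₀ ⤳ x := by
    have := hζx.map (f.fiberι (f.base x)).continuous
    rwa [f.fiberι_asFiber, ← hz₀] at this
  have hfz₀ : f.base z₀ = f.base x := by rw [hz₀]; exact fiberι_mem f _ ζ
  refine ⟨z₀, tdeg (fiberQ f (f.base x)) ζ, hz₀x, hfz₀, ?_, ?_, ?_⟩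
  · intro t h1 ht
    obtain ⟨t₀, ht₀⟩ : t ∈ Set.range (f.fiberι (f.base x)).base := by
      rw [f.range_fiberι]; exact h1.trans hfz₀
    have h2 : t₀ ⤳ ζ := by
      rw [← (f.fiberι (f.base x)).isEmbedding.isInducing.specializes_iff, ht₀, ← hz₀]; exact ht
    rw [← ht₀, hζmax t₀ h2, hz₀]
  · rw [hfx] at hn; exact_mod_cast hn
  · have h1 := trdeg_fiber_eq f (f.base x) ζ
    have h2 := trdeg_congr_point f hz₀
    rw [h2, h1]

set_option backward.isDefEq.respectTransparency.types false in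
/-- **S4921.** -/
theorem main_S4921 {X Y : Scheme.{u}} [IsLocallyNoetherian Y] (f : X ⟶ Y) [IsProper f] (y : Y)
    (h : ∀ x : X, f.base x = y → EGA43.IsOpenAt f.base x) :
    ∃ V ∈ nhds y, ∀ z ∈ V,
      topologicalKrullDim ↥(f.fiber z) = topologicalKrullDim ↥(f.fiber y) := by
  have hcl : IsClosedMap f.base := f.isClosedMap
  obtain ⟨U, hyU, hU⟩ := exists_open_generic_of_isLocallyNoetherian y
  refine ⟨{s | topologicalKrullDim ↥(f.fiber s) ≤ topologicalKrullDim ↥(f.fiber y)} ∩ (U : Set Y),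
    ?_, ?_⟩
  · have hy0 : y ∈ {s | topologicalKrullDim ↥(f.fiber s) ≤ topologicalKrullDim ↥(f.fiber y)} :=
      le_refl (topologicalKrullDim ↥(f.fiber y))
    exact Filter.inter_mem ((isOpen_setOf_dim_fiber_le f hcl _).mem_nhds hy0)
      (U.2.mem_nhds hyU)
  · rintro z ⟨hz1, hz2⟩
    apply le_antisymm hz1
    apply le_of_forall_natCast_le
    intro n hn
    obtain ⟨x, hfx, hnx⟩ := (natCast_le_dim_fiber_iff f y n).mp hn
    obtain ⟨z₀, m, -, hfz₀, hz₀max, hnm, hm⟩ := exists_fibre_max f x n hnx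
    have hfz₀y : f.base z₀ = y := hfz₀.trans hfx
    obtain ⟨ξ₀, hξ₀z, hξ₀y⟩ := hU z hz2
    obtain ⟨η, hηξ₀, hηmax⟩ := Groth.Agent.H71.DimFun.exists_generic_specializes Y ξ₀
    have hηy : η ⤳ f.base z₀ := by rw [hfz₀y]; exact hηξ₀.trans hξ₀y
    have hηz : η ⤳ z := hηξ₀.trans hξ₀z
    obtain ⟨ξ, m', hξz₀, hξmax, hfξ, hm1, hm2⟩ :=
      exists_generic_of_isOpenAt f z₀ hz₀max (h z₀ hfz₀y) η hηy hηmax
    have hmm' : m' = m := by exact_mod_cast (hm1.symm.trans hm)
    have h1 : (m' : WithBot ℕ∞) ≤ FlatMor.fibreDimAt f ξ :=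
      natCast_trdeg_le_fibreDimAt f ξ ξ specializes_rfl rfl m' hm2
    have h2 : (n : WithBot ℕ∞) ≤ FlatMor.fibreDimAt f ξ :=
      le_trans (by exact_mod_cast (hmm' ▸ hnm)) h1
    have hηC : (n : WithBot ℕ∞) ≤ topologicalKrullDim ↥(f.fiber η) :=
      (natCast_le_dim_fiber_iff f η n).mpr ⟨ξ, hfξ, h2⟩
    have hclosed := isClosed_setOf_natCast_le_dim_fiber f hcl n
    exact hclosed.closure_subset_iff.mpr (Set.singleton_subset_iff.mpr hηC) hηz.mem_closure

end Groth.Agent.H60.GenOpenProper
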