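import Mathlib
import Groth.Agent.H60.GenOpenGen
import Groth.Agent.H60.GenOpenProper
import Groth.Agent.H60.ConstrNhd

/-!
# Open morphisms of finite type: local constancy of fibre dimensions (S4922)
-/

set_option autoImplicit false
set_option linter.style.haveILetI false
universe u

open AlgebraicGeometry CategoryTheory CategoryTheory.Limits Topology

namespace Groth.Agent.H60.GenOpenMap

open Groth.Agent.H54 Groth.Agent.H9.DimFormulaEq Groth.Agent.H71.DimFun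
  Groth.Agent.H9.FibreFormula Groth.Agent.H9.FibDim Groth.Agent.H9.Equidim
  Groth.Agent.H60.EquidimAtFlat Groth.Agent.H60.EquidimAtConv Groth.Agent.H60.EquidimComp
  Groth.Agent.H60.EquidimFibMax Groth.Agent.H60.EquidimCrit Groth.Agent.H60.DimFormulaIff
  Groth.Agent.H60.FibreDimsGeneric Groth.Agent.H60.GenOpen Groth.Agent.H60.GenOpenApps
  Groth.Agent.H60.GenOpenGen Groth.Agent.H60.GenOpenProper Groth.Agent.H60.ConstrNhd

theorem isOpenAt_of_isOpenMap {α β : Type*} [TopologicalSpace α] [TopologicalSpace β] {f : α → β}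
    (hf : IsOpenMap f) (x : α) : EGA43.IsOpenAt f x := fun _ hU => hf.image_mem_nhds hU

/-- The fibre dimensions along a fibre of a quasi-compact morphism locally of finite type are
bounded. -/
theorem exists_nat_fibreDimAt_le {X Y : Scheme.{u}} (f : X ⟶ Y) [LocallyOfFiniteType f]
    [QuasiCompact f] (y : Y) :
    ∃ N : ℕ, ∀ x : X, f.base x = y → FlatMor.fibreDimAt f x ≤ (N : WithBot ℕ∞) := by
  have hc := f.isCompact_preimage_singleton y
  have hopen : ∀ n : ℕ, IsOpen {x : X | FlatMor.fibreDimAt f x ≤ (n : WithBot ℕ∞)} :=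
    fun n => isOpen_setOf_fibreDimAt_le f n
  have hcover : f.base ⁻¹' {y} ⊆ ⋃ n : ℕ, {x : X | FlatMor.fibreDimAt f x ≤ (n : WithBot ℕ∞)} := by
    intro x _
    obtain ⟨n, b, -, -, hform⟩ := fibre_formula f x
    refine Set.mem_iUnion.mpr ⟨n + b, ?_⟩
    show FlatMor.fibreDimAt f x ≤ ((n + b : ℕ) : WithBot ℕ∞)
    rw [hform]
  have hdir : Directed (· ⊆ ·)
      (fun n : ℕ => {x : X | FlatMor.fibreDimAt f x ≤ (n : WithBot ℕ∞)}) :=
    directed_of_isDirected_le (fun a b hab x hx => by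
      have hx' : FlatMor.fibreDimAt f x ≤ (a : WithBot ℕ∞) := hx
      show FlatMor.fibreDimAt f x ≤ (b : WithBot ℕ∞)
      exact le_trans hx' (by exact_mod_cast hab))
  obtain ⟨N, hN⟩ := hc.elim_directed_cover _ hopen hcover hdir
  exact ⟨N, fun x hx => hN hx⟩

/-- The fibre dimension is bounded by a natural number. -/
theorem exists_nat_dim_fiber_le {X Y : Scheme.{u}} (f : X ⟶ Y) [LocallyOfFiniteType f]
    [QuasiCompact f] (y : Y) :
    ∃ N : ℕ, topologicalKrullDim ↥(f.fiber y) ≤ (N : WithBot ℕ∞) := by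
  obtain ⟨N, hN⟩ := exists_nat_fibreDimAt_le f y
  exact ⟨N, (dim_fiber_le_iff f y N).mpr hN⟩

/-- If `z₀` is maximal in its fibre and generizations lift at `z₀`, the image of the points of an
open neighbourhood of `z₀` with fibre dimension `≥ d` is a neighbourhood of `f z₀`. -/
theorem image_mem_nhds {X Y : Scheme.{u}} [IsLocallyNoetherian Y] (f : X ⟶ Y)
    [LocallyOfFiniteType f] [QuasiCompact f] (z₀ : X)
    (hz₀max : ∀ z' : X, f.base z' = f.base z₀ → z' ⤳ z₀ → z' = z₀)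
    (hlift : ∀ y' : Y, y' ⤳ f.base z₀ → ∃ x' : X, x' ⤳ z₀ ∧ f.base x' = y')
    (U : Set X) (hU : IsOpen U) (hz₀U : z₀ ∈ U) (d : ℕ)
    (hd : (d : WithBot ℕ∞) ≤ FlatMor.fibreDimAt f z₀) :
    f.base '' ({x : X | (d : WithBot ℕ∞) ≤ FlatMor.fibreDimAt f x} ∩ U) ∈ nhds (f.base z₀) := by
  haveI : IsLocallyNoetherian X := LocallyOfFiniteType.isLocallyNoetherian f
  haveI : LocallyOfFinitePresentation f :=
    (LocallyOfFinitePresentation.iff_locallyOfFiniteType).mpr inferInstance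
  have hF : IsClosed {x : X | (d : WithBot ℕ∞) ≤ FlatMor.fibreDimAt f x} :=
    isClosed_setOf_natCast_le_fibreDimAt f d
  have hs : IsLocallyConstructible
      ({x : X | (d : WithBot ℕ∞) ≤ FlatMor.fibreDimAt f x} ∩ U) :=
    (isLocallyConstructible_of_isClosed hF).inter (isLocallyConstructible_of_isOpen hU)
  have hE := f.isLocallyConstructible_image hs
  apply mem_nhds_of_isLocallyConstructible _ hE
  intro y' hy'
  obtain ⟨ξ, hξz₀, hfξ, hle⟩ := exists_of_lifting_generization f z₀ hz₀max hlift y' hy'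
  exact ⟨ξ, ⟨hd.trans hle, hξz₀.mem_open hU hz₀U⟩, hfξ⟩

set_option backward.isDefEq.respectTransparency.types false in
/-- For `z` near `y`, every fibre-dimension value `≤ dim X_z` is `≤ dim X_η` for a maximal point
`η` of `Y` specializing to both `y` and `z` (for `f` open at all points). -/
theorem exists_nhds_le_generic {X Y : Scheme.{u}} [IsLocallyNoetherian Y] (f : X ⟶ Y)
    [LocallyOfFiniteType f] (hopen : ∀ x : X, EGA43.IsOpenAt f.base x) (y : Y) :
    ∃ V : Y.Opens, y ∈ V ∧ ∀ z ∈ V, ∀ n : ℕ,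
      (n : WithBot ℕ∞) ≤ topologicalKrullDim ↥(f.fiber z) →
      ∃ η : Y, η ⤳ y ∧ (∀ t : Y, t ⤳ η → t = η) ∧
        (n : WithBot ℕ∞) ≤ topologicalKrullDim ↥(f.fiber η) := by
  obtain ⟨U, hyU, hU⟩ := exists_open_generic_of_isLocallyNoetherian y
  refine ⟨U, hyU, ?_⟩
  intro z hz n hn
  obtain ⟨x, hfx, hnx⟩ := (natCast_le_dim_fiber_iff f z n).mp hn
  obtain ⟨z₀, m, -, hfz₀, hz₀max, hnm, hm⟩ := exists_fibre_max f x n hnx
  have hfz₀z : f.base z₀ = z := hfz₀.trans hfx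
  obtain ⟨ξ₀, hξ₀z, hξ₀y⟩ := hU z hz
  obtain ⟨η, hηξ₀, hηmax⟩ := Groth.Agent.H71.DimFun.exists_generic_specializes Y ξ₀
  have hηz : η ⤳ f.base z₀ := by rw [hfz₀z]; exact hηξ₀.trans hξ₀z
  obtain ⟨ξ, m', hξz₀, hξmax, hfξ, hm1, hm2⟩ :=
    exists_generic_of_isOpenAt f z₀ hz₀max (hopen z₀) η hηz hηmax
  have hmm' : m' = m := by exact_mod_cast (hm1.symm.trans hm)
  have h1 : (m' : WithBot ℕ∞) ≤ FlatMor.fibreDimAt f ξ :=
    natCast_trdeg_le_fibreDimAt f ξ ξ specializes_rfl rfl m' hm2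
  have h2 : (n : WithBot ℕ∞) ≤ FlatMor.fibreDimAt f ξ :=
    le_trans (by exact_mod_cast (hmm' ▸ hnm)) h1
  exact ⟨η, hηξ₀.trans hξ₀y, hηmax, (natCast_le_dim_fiber_iff f η n).mpr ⟨ξ, hfξ, h2⟩⟩

set_option backward.isDefEq.respectTransparency.types false in
/-- Lower bound: `dim X_z ≥ dim X_y` near `y` for an open morphism of finite type. -/
theorem exists_nhds_dim_ge {X Y : Scheme.{u}} [IsLocallyNoetherian Y] (f : X ⟶ Y)
    [LocallyOfFiniteType f] [QuasiCompact f] (hopen : ∀ x : X, EGA43.IsOpenAt f.base x) (y : Y) :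
    ∃ V ∈ nhds y, ∀ z ∈ V,
      topologicalKrullDim ↥(f.fiber y) ≤ topologicalKrullDim ↥(f.fiber z) := by
  obtain ⟨N, hN⟩ := exists_nat_dim_fiber_le f y
  induction hc : topologicalKrullDim ↥(f.fiber y) using WithBot.recBotCoe with
  | bot => exact ⟨Set.univ, Filter.univ_mem, fun z _ => bot_le⟩
  | coe c' =>
    rw [hc] at hN
    have hc'N : c' ≤ (N : ℕ∞) := by exact_mod_cast hN
    have hne : c' ≠ ⊤ := fun h => by rw [h] at hc'N; simp at hc'N
    obtain ⟨d, hd⟩ : ∃ d : ℕ, c' = (d : ℕ∞) := ⟨_, (ENat.natCast_toNat hne).symm⟩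
    subst hd
    have hdy : ((d : ℕ) : WithBot ℕ∞) ≤ topologicalKrullDim ↥(f.fiber y) := by rw [hc]; rfl
    obtain ⟨x, hfx, hdx⟩ := (natCast_le_dim_fiber_iff f y d).mp hdy
    obtain ⟨z₀, m, -, hfz₀, hz₀max, hdm, hm⟩ := exists_fibre_max f x d hdx
    have hfz₀y : f.base z₀ = y := hfz₀.trans hfx
    have hdz₀ : ((d : ℕ) : WithBot ℕ∞) ≤ FlatMor.fibreDimAt f z₀ :=
      le_trans (by exact_mod_cast hdm)
        (natCast_trdeg_le_fibreDimAt f z₀ z₀ specializes_rfl rfl m hm)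
    have hnhds := image_mem_nhds f z₀ hz₀max
      (fun y' hy' => Groth.Agent.S3404.lift_of_isOpenAt f z₀ (hopen z₀) y' hy')
      Set.univ isOpen_univ trivial d hdz₀
    rw [hfz₀y] at hnhds
    refine ⟨_, hnhds, ?_⟩
    rintro z ⟨x', ⟨hx'd, -⟩, rfl⟩
    exact (natCast_le_dim_fiber_iff f _ d).mpr ⟨x', rfl, hx'd⟩

/-- **S4922.** -/
theorem main_S4922 {X Y : Scheme.{u}} [IsLocallyNoetherian Y] (f : X ⟶ Y) [LocallyOfFiniteType f]
    [QuasiCompact f] (hf : IsOpenMap f.base) (y : Y)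
    (h : ∀ η : Y, y ∈ closure {η} → closure {η} ∈ irreducibleComponents (Y : Type u) →
      topologicalKrullDim ↥(f.fiber y) = topologicalKrullDim ↥(f.fiber η)) :
    ∃ V ∈ nhds y, ∀ z ∈ V,
      topologicalKrullDim ↥(f.fiber z) = topologicalKrullDim ↥(f.fiber y) := by
  have hopen : ∀ x : X, EGA43.IsOpenAt f.base x := isOpenAt_of_isOpenMap hf
  obtain ⟨V₁, hyV₁, hV₁⟩ := exists_nhds_le_generic f hopen y
  obtain ⟨V₂, hV₂, hV₂'⟩ := exists_nhds_dim_ge f hopen y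
  refine ⟨(V₁ : Set Y) ∩ V₂, Filter.inter_mem (V₁.2.mem_nhds hyV₁) hV₂, ?_⟩
  rintro z ⟨hz1, hz2⟩
  apply le_antisymm _ (hV₂' z hz2)
  apply le_of_forall_natCast_le
  intro n hn
  obtain ⟨η, hηy, hηmax, hnη⟩ := hV₁ z hz1 n hn
  rw [h η hηy.mem_closure (closure_mem_irreducibleComponents_of_forall hηmax)]
  exact hnη

end Groth.Agent.H60.GenOpenMap
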