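import Mathlib
import Groth.Agent.H60.GenOpenMap

/-!
# S4924: an open neighbourhood of a fibre of an open morphism with locally constant fibre dimension
-/

set_option autoImplicit false
set_option linter.style.haveILetI false
universe u

open AlgebraicGeometry CategoryTheory CategoryTheory.Limits Topology

namespace Groth.Agent.H60.GenOpenNhd

open Groth.Agent.H54 Groth.Agent.H9.DimFormulaEq Groth.Agent.H71.DimFun
  Groth.Agent.H9.FibreFormula Groth.Agent.H9.FibDim Groth.Agent.H9.Equidim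
  Groth.Agent.H60.EquidimAtFlat Groth.Agent.H60.EquidimAtConv Groth.Agent.H60.EquidimComp
  Groth.Agent.H60.EquidimFibMax Groth.Agent.H60.EquidimCrit Groth.Agent.H60.DimFormulaIff
  Groth.Agent.H60.FibreDimsGeneric Groth.Agent.H60.GenOpen Groth.Agent.H60.GenOpenApps
  Groth.Agent.H60.GenOpenGen Groth.Agent.H60.GenOpenProper Groth.Agent.H60.ConstrNhd
  Groth.Agent.H60.GenOpenMap

theorem isOpenEmbedding_inclusion_inter {A : Type*} [TopologicalSpace A] (U T : Set A)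
    (hU : IsOpen U) :
    IsOpenEmbedding (Set.inclusion (Set.inter_subset_right : U ∩ T ⊆ T)) := by
  refine ⟨Topology.IsEmbedding.inclusion _, ?_⟩
  have : Set.range (Set.inclusion (Set.inter_subset_right : U ∩ T ⊆ T)) =
      (Subtype.val : ↥T → A) ⁻¹' U := by
    ext p; constructor
    · rintro ⟨q, rfl⟩; exact q.2.1
    · intro hp; exact ⟨⟨p.1, hp, p.2⟩, rfl⟩
  rw [this]; exact hU.preimage continuous_subtype_val

/-- The dimension of the part of a fibre lying in an open set, in terms of fibre dimensions. -/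
theorem dim_inter_fibre_eq_iSup {X Y : Scheme.{u}} (f : X ⟶ Y) (U : Set X) (hU : IsOpen U)
    (z : Y) :
    topologicalKrullDim ↥(U ∩ f.base ⁻¹' {z}) =
      ⨆ s : ↥(U ∩ f.base ⁻¹' {z}), FlatMor.fibreDimAt f s.1 := by
  rw [Groth.Agent.S5792.result]
  refine iSup_congr fun s => ?_
  rw [localDim_of_isOpenEmbedding (isOpenEmbedding_inclusion_inter U _ hU) s, fibreDimAt_eq_tfd,
    tfd_eq_of_eq f.base s.1 z s.2.2]

/-- **S4924.** -/
theorem main_S4924 {X Y : Scheme.{u}} [IsLocallyNoetherian Y] (f : X ⟶ Y) [LocallyOfFiniteType f]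
    [QuasiCompact f] (hf : IsOpenMap f.base) (y : Y) :
    ∃ U : X.Opens, f.base ⁻¹' {y} ⊆ (U : Set X) ∧ ∃ V ∈ nhds y, ∀ z ∈ V,
      topologicalKrullDim ↥((U : Set X) ∩ f.base ⁻¹' {z}) =
        topologicalKrullDim ↥((U : Set X) ∩ f.base ⁻¹' {y}) := by
  have hopen : ∀ x : X, EGA43.IsOpenAt f.base x := isOpenAt_of_isOpenMap hf
  obtain ⟨N, hN⟩ := exists_nat_dim_fiber_le f y
  induction hc : topologicalKrullDim ↥(f.fiber y) using WithBot.recBotCoe with
  | bot =>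
    have hempty : ∀ x : X, f.base x ≠ y := by
      intro x hx
      have h1 := (dim_fiber_le_iff f y ⊥).mp (le_of_eq hc) x hx
      exact localDim_ne_bot _ _ (le_bot_iff.mp h1)
    refine ⟨⊥, fun x hx => absurd hx (hempty x), Set.univ, Filter.univ_mem, fun z _ => ?_⟩
    rw [dim_inter_fibre_eq_iSup f ((⊥ : X.Opens) : Set X) (⊥ : X.Opens).isOpen z,
      dim_inter_fibre_eq_iSup f ((⊥ : X.Opens) : Set X) (⊥ : X.Opens).isOpen y]
    haveI : IsEmpty ↥(((⊥ : X.Opens) : Set X) ∩ f.base ⁻¹' {z}) := ⟨fun s => s.2.1⟩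
    haveI : IsEmpty ↥(((⊥ : X.Opens) : Set X) ∩ f.base ⁻¹' {y}) := ⟨fun s => s.2.1⟩
    rw [iSup_of_empty, iSup_of_empty]
  | coe c' =>
    rw [hc] at hN
    have hc'N : c' ≤ (N : ℕ∞) := by exact_mod_cast hN
    have hne : c' ≠ ⊤ := fun h => by rw [h] at hc'N; simp at hc'N
    obtain ⟨d, hd⟩ : ∃ d : ℕ, c' = (d : ℕ∞) := ⟨_, (ENat.natCast_toNat hne).symm⟩
    subst hd
    have hdy : ((d : ℕ) : WithBot ℕ∞) ≤ topologicalKrullDim ↥(f.fiber y) := by rw [hc]; rfl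
    have hyd : topologicalKrullDim ↥(f.fiber y) ≤ ((d : ℕ) : WithBot ℕ∞) := by rw [hc]; rfl
    obtain ⟨x, hfx, hdx⟩ := (natCast_le_dim_fiber_iff f y d).mp hdy
    obtain ⟨z₀, m, -, hfz₀, hz₀max, hdm, hm⟩ := exists_fibre_max f x d hdx
    have hfz₀y : f.base z₀ = y := hfz₀.trans hfx
    have hdz₀ : ((d : ℕ) : WithBot ℕ∞) ≤ FlatMor.fibreDimAt f z₀ :=
      le_trans (by exact_mod_cast hdm)
        (natCast_trdeg_le_fibreDimAt f z₀ z₀ specializes_rfl rfl m hm)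
    have hle := (dim_fiber_le_iff f y d).mp hyd
    let U : X.Opens := ⟨{x : X | FlatMor.fibreDimAt f x ≤ ((d : ℕ) : WithBot ℕ∞)},
      isOpen_setOf_fibreDimAt_le f d⟩
    have hnhds := image_mem_nhds f z₀ hz₀max
      (fun y' hy' => Groth.Agent.S3404.lift_of_isOpenAt f z₀ (hopen z₀) y' hy')
      (U : Set X) U.isOpen (hle z₀ hfz₀y) d hdz₀
    rw [hfz₀y] at hnhds
    have hupper : ∀ z : Y, topologicalKrullDim ↥((U : Set X) ∩ f.base ⁻¹' {z}) ≤
        ((d : ℕ) : WithBot ℕ∞) := by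
      intro z
      rw [dim_inter_fibre_eq_iSup f (U : Set X) U.isOpen z]
      exact iSup_le fun s => s.2.1
    have hlower : ∀ z : Y, (∃ x' : X, x' ∈ U ∧ f.base x' = z ∧
        ((d : ℕ) : WithBot ℕ∞) ≤ FlatMor.fibreDimAt f x') →
        ((d : ℕ) : WithBot ℕ∞) ≤ topologicalKrullDim ↥((U : Set X) ∩ f.base ⁻¹' {z}) := by
      rintro z ⟨x', hx'U, hfx', hdx'⟩
      rw [dim_inter_fibre_eq_iSup f (U : Set X) U.isOpen z]
      exact le_trans hdx' (le_iSup (fun s : ↥((U : Set X) ∩ f.base ⁻¹' {z}) =>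
        FlatMor.fibreDimAt f s.1) ⟨x', hx'U, hfx'⟩)
    refine ⟨U, fun x hx => hle x hx, _, hnhds, ?_⟩
    rintro z ⟨x', ⟨hx'd, hx'U⟩, rfl⟩
    rw [le_antisymm (hupper _) (hlower _ ⟨x', hx'U, rfl, hx'd⟩),
      le_antisymm (hupper y) (hlower y ⟨z₀, hle z₀ hfz₀y, hfz₀y, hdz₀⟩)]

end Groth.Agent.H60.GenOpenNhd
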