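import Mathlib
import Groth.Agent.H60.GenOpenComp
import Groth.Agent.H60.GenOpenGen
import Groth.Agent.H60.GenOpenNhd
import Groth.Agent.H60.GenOpenProper
import Groth.Agent.H25.UnivOpenAt

/-!
# Openness at a fibre-maximal point versus dimensions of nearby fibres (towards S4934, S4938)
-/

set_option autoImplicit false
set_option linter.style.haveILetI false
universe u

open AlgebraicGeometry CategoryTheory

namespace Groth.Agent.H60.UnivOpenAtTop

open Groth.Agent.H54 Groth.Agent.H9.DimFormulaEq Groth.Agent.H71.DimFun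
  Groth.Agent.H9.FibreFormula Groth.Agent.H9.FibDim Groth.Agent.H9.Equidim
  Groth.Agent.H60.EquidimAtFlat Groth.Agent.H60.EquidimAtConv Groth.Agent.H60.EquidimComp
  Groth.Agent.H60.EquidimFibMax Groth.Agent.H60.EquidimCrit Groth.Agent.H60.DimFormulaIff
  Groth.Agent.H60.FibreDimsGeneric Groth.Agent.H60.GenOpen Groth.Agent.H60.GenOpenApps
  Groth.Agent.H60.GenOpenGen Groth.Agent.H60.GenOpenNhd Groth.Agent.H60.GenOpenProper

/-- Universally open at `x` implies open at `x`. -/
theorem isOpenAt_of_isUnivOpenAt {X Y : Scheme.{u}} (f : X ⟶ Y) (x : X)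
    (h : EGA43.IsUnivOpenAt f x) : EGA43.IsOpenAt f.base x :=
  Groth.Agent.H25.isOpenAt_of_isPullback (IsPullback.id_horiz f) x h x rfl

theorem fibreDimAt_ne_bot {X Y : Scheme.{u}} (f : X ⟶ Y) (x : X) :
    FlatMor.fibreDimAt f x ≠ ⊥ := by
  rw [fibreDimAt_eq_tfd]
  exact localDim_ne_bot _ _

/-- A natural number below a supremum of non-`⊥` values of `WithBot ℕ∞` is below one of them. -/
theorem exists_of_natCast_le_iSup {ι : Type*} (v : ι → WithBot ℕ∞) (hv : ∀ i, v i ≠ ⊥) (d : ℕ)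
    (h : (d : WithBot ℕ∞) ≤ ⨆ i, v i) : ∃ i, (d : WithBot ℕ∞) ≤ v i := by
  cases d with
  | zero =>
    rcases isEmpty_or_nonempty ι with hι | ⟨⟨i⟩⟩
    · rw [iSup_of_empty] at h
      simp at h
    · refine ⟨i, ?_⟩
      rcases h1 : v i with _ | c
      · exact absurd h1 (hv i)
      · exact WithBot.coe_le_coe.mpr zero_le
  | succ k =>
    by_contra hne
    have h2 : ⨆ i, v i ≤ (k : WithBot ℕ∞) := by
      refine iSup_le fun i => ?_
      by_contra h3
      exact hne ⟨i, (natCast_le_iff_not_le _ k).mpr h3⟩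
    exact (natCast_le_iff_not_le _ k).mp h h2

/-- If `f` is open at the fibre-maximal point `x`, then nearby fibres over generizations of `f x`
have dimension at least `dim_x (X_{f x})`. -/
theorem le_dim_inter_of_isOpenAt {X Y : Scheme.{u}} [IsLocallyNoetherian Y] (f : X ⟶ Y)
    [LocallyOfFiniteType f] (x : X)
    (hmax : ∀ z' : X, f.base z' = f.base x → z' ⤳ x → z' = x)
    (hopen : EGA43.IsOpenAt f.base x) (U : Set X) (hU : IsOpen U) (hxU : x ∈ U)
    (y' : Y) (hy' : y' ⤳ f.base x) :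
    FlatMor.fibreDimAt f x ≤ topologicalKrullDim ↥(U ∩ f.base ⁻¹' {y'}) := by
  obtain ⟨ξ, hξx, hfξ, hle⟩ := exists_of_isOpenAt_generization f x hmax hopen y' hy'
  rw [dim_inter_fibre_eq_iSup f U hU y']
  have hξU : ξ ∈ U := hξx.mem_open hU hxU
  exact hle.trans
    (le_iSup (fun s : ↥(U ∩ f.base ⁻¹' {y'}) => FlatMor.fibreDimAt f s.1) ⟨ξ, hξU, hfξ⟩)

/-- In a quasi-sober space, a point in the closure of a Noetherian "locally closed piece of a
fibre" is a specialization of a point of that piece. -/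
theorem exists_specializes_of_mem_closure_fibre {A B : Type*} [TopologicalSpace A]
    [TopologicalSpace B] [QuasiSober A] [T0Space B] (φ : A → B) (hφ : Continuous φ)
    (U E : Set A) (hU : IsOpen U) (hE : IsClosed E) (η : B)
    [TopologicalSpace.NoetherianSpace ↥(U ∩ (E ∩ φ ⁻¹' {η}))] (x : A) (hxU : x ∈ U)
    (hx : x ∈ closure (U ∩ (E ∩ φ ⁻¹' {η}))) :
    ∃ ζ : A, ζ ∈ U ∧ ζ ∈ E ∧ φ ζ = η ∧ ζ ⤳ x := by
  set S : Set A := U ∩ (E ∩ φ ⁻¹' {η}) with hS
  have hfin := TopologicalSpace.NoetherianSpace.finite_irreducibleComponents (α := ↥S)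
  set T : Set A := ⋃ C ∈ irreducibleComponents ↥S, closure (Subtype.val '' C) with hT
  have hTcl : IsClosed T := hfin.isClosed_biUnion fun _ _ => isClosed_closure
  have hST : S ⊆ T := by
    intro s hs
    refine Set.mem_biUnion (irreducibleComponent_mem_irreducibleComponents (⟨s, hs⟩ : ↥S)) ?_
    exact subset_closure ⟨⟨s, hs⟩, mem_irreducibleComponent, rfl⟩
  have hxT : x ∈ T := closure_minimal hST hTcl hx
  obtain ⟨C, hC, hxC⟩ := Set.mem_iUnion₂.mp hxT
  have hirr : IsIrreducible (Subtype.val '' C : Set A) :=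
    hC.1.image _ continuous_subtype_val.continuousOn
  obtain ⟨ζ, hζ⟩ := QuasiSober.sober hirr.closure isClosed_closure
  have hζcl : closure {ζ} = closure (Subtype.val '' C : Set A) := hζ.def
  have hζx : ζ ⤳ x := by
    rw [specializes_iff_mem_closure, hζcl]
    exact hxC
  have hCE : (Subtype.val '' C : Set A) ⊆ E := by
    rintro _ ⟨c, -, rfl⟩
    exact c.2.2.1
  have hζmem : ζ ∈ closure (Subtype.val '' C : Set A) := hζcl ▸ subset_closure rfl
  refine ⟨ζ, hζx.mem_open hU hxU, closure_minimal hCE hE hζmem, ?_, hζx⟩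
  obtain ⟨c, hc⟩ := hC.1.nonempty
  have h1 : φ ζ ⤳ η := by
    have h2 : ζ ⤳ c.1 := by
      rw [specializes_iff_mem_closure, hζcl]
      exact subset_closure ⟨c, hc, rfl⟩
    have h3 := h2.map hφ
    have h4 : φ c.1 = η := c.2.2.2
    rwa [h4] at h3
  have h5 : η ⤳ φ ζ := by
    rw [specializes_iff_mem_closure]
    have h6 : φ '' (Subtype.val '' C : Set A) ⊆ {η} := by
      rintro _ ⟨_, ⟨c', -, rfl⟩, rfl⟩
      exact c'.2.2.2
    exact closure_mono h6 (image_closure_subset_closure_image hφ ⟨ζ, hζmem, rfl⟩)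
  exact (h1.antisymm h5).eq

end Groth.Agent.H60.UnivOpenAtTop
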