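import Mathlib
import Groth.Agent.H60.UnivOpenAtTop

/-!
# Components through a fibre-maximal point and the dimension of the generic fibre
(towards S4934, S4938)
-/

set_option autoImplicit false
set_option linter.style.haveILetI false
universe u

open AlgebraicGeometry CategoryTheory

namespace Groth.Agent.H60.UnivOpenAtComp

open Groth.Agent.H54 Groth.Agent.H9.DimFormulaEq Groth.Agent.H71.DimFun
  Groth.Agent.H9.FibreFormula Groth.Agent.H9.FibDim Groth.Agent.H9.Equidim
  Groth.Agent.H60.EquidimAtFlat Groth.Agent.H60.EquidimAtConv Groth.Agent.H60.EquidimComp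
  Groth.Agent.H60.EquidimFibMax Groth.Agent.H60.EquidimCrit Groth.Agent.H60.DimFormulaIff
  Groth.Agent.H60.FibreDimsGeneric Groth.Agent.H60.GenOpen Groth.Agent.H60.GenOpenApps
  Groth.Agent.H60.GenOpenGen Groth.Agent.H60.GenOpenNhd Groth.Agent.H60.GenOpenProper
  Groth.Agent.H60.UnivOpenAtTop

/-- For a fibre-maximal point `ξ`, the dimension of `closure {ξ} ∩ X_{f ξ}` is the local fibre
dimension at `ξ`. -/
theorem dim_closure_inter_fibre_of_fibre_maximal {X Y : Scheme.{u}} (f : X ⟶ Y)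
    [LocallyOfFiniteType f] (ξ : X)
    (hξmax : ∀ z' : X, f.base z' = f.base ξ → z' ⤳ ξ → z' = ξ) :
    topologicalKrullDim ↥(closure ({ξ} : Set X) ∩ f.base ⁻¹' {f.base ξ}) =
      FlatMor.fibreDimAt f ξ := by
  obtain ⟨n, hn, hfd⟩ := fibreDimAt_of_fibre_maximal f ξ hξmax
  rw [hfd, dim_closure_inter_fibre f ξ]
  have h1 := trdeg_fiber_eq f (f.base ξ) (f.asFiber ξ)
  have h2 := trdeg_congr_point f (f.fiberι_asFiber ξ)
  have h3 : (tdeg (fiberQ f (f.base ξ)) (f.asFiber ξ) : Cardinal.{u}) = (n : Cardinal.{u}) := by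
    rw [← h1, h2, hn]
  have : tdeg (fiberQ f (f.base ξ)) (f.asFiber ξ) = n := by exact_mod_cast h3
  rw [this]

/-- For a fibre-maximal point `x` of a closed subset `Z`, the local dimension of `Z ∩ X_{f x}`
at `x` is the local fibre dimension at `x`. -/
theorem localDim_closed_inter_fibre_of_fibre_maximal {X Y : Scheme.{u}} (f : X ⟶ Y)
    [LocallyOfFiniteType f] (Z : Set X) (hZ : IsClosed Z) (x : X) (hx : x ∈ Z)
    (hxmax : ∀ z' : X, f.base z' = f.base x → z' ⤳ x → z' = x) :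
    FlatMor.localDim ↥(Z ∩ f.base ⁻¹' {f.base x}) ⟨x, ⟨hx, rfl⟩⟩ = FlatMor.fibreDimAt f x := by
  let W : TopologicalSpace.Closeds X := ⟨Z, hZ⟩
  have hrange : Set.range (Scheme.IdealSheafData.vanishingIdeal W).subschemeι.base = Z := by
    rw [Scheme.IdealSheafData.range_subschemeι,
      Scheme.IdealSheafData.coe_support_vanishingIdeal]
    rfl
  have hemb : Topology.IsEmbedding (Scheme.IdealSheafData.vanishingIdeal W).subschemeι.base :=
    (Scheme.IdealSheafData.vanishingIdeal W).subschemeι.isClosedEmbedding.isEmbedding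
  set ι := (Scheme.IdealSheafData.vanishingIdeal W).subschemeι with hι
  obtain ⟨w, hw⟩ : x ∈ Set.range ι.base := by rw [hrange]; exact hx
  have hkey := localDim_inter_fibre_eq ι hemb Z hrange f w x hw hx
  rw [hkey]
  have hwmax : ∀ w' : _, (ι ≫ f).base w' = (ι ≫ f).base w → w' ⤳ w → w' = w := by
    intro w' hw' hsp
    apply hemb.injective
    rw [hw]
    apply hxmax
    · have := hw'
      rw [Scheme.Hom.comp_apply, Scheme.Hom.comp_apply, hw] at this
      exact this
    · have := hsp.map ι.continuous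
      rwa [hw] at this
  obtain ⟨n', hn', hfd'⟩ := fibreDimAt_of_fibre_maximal (ι ≫ f) w hwmax
  obtain ⟨n, hn, hfd⟩ := fibreDimAt_of_fibre_maximal f x hxmax
  have h3 := trdeg_comp_of_surjectiveOnStalks ι f w
  have h4 := trdeg_congr_point f hw
  have h5 : (n' : Cardinal.{u}) = (n : Cardinal.{u}) := by
    rw [← hn', h3, h4, hn]
  have h6 : n' = n := by exact_mod_cast h5
  rw [hfd', hfd, h6]

/-- The generic point of an irreducible component is a maximal point. -/
theorem isMax_of_closure_mem_irreducibleComponents {A : Type*} [TopologicalSpace A] [T0Space A]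
    (ξ : A) (h : closure ({ξ} : Set A) ∈ irreducibleComponents A) (t : A) (ht : t ⤳ ξ) :
    t = ξ := by
  have h1 : closure ({ξ} : Set A) ⊆ closure {t} := specializes_iff_closure_subset.mp ht
  have h2 : closure ({t} : Set A) ⊆ closure {ξ} :=
    h.2 (isIrreducible_singleton.closure) h1
  have h3 : ξ ⤳ t := specializes_iff_closure_subset.mpr h2
  exact (ht.antisymm h3).eq

/-- Condition b') at the single generic point `η` produces a component as in condition b). -/
theorem exists_generic_of_forall_le {X Y : Scheme.{u}} [IsLocallyNoetherian Y] (f : X ⟶ Y)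
    [LocallyOfFiniteType f] (x : X)
    (hmax : ∀ z' : X, f.base z' = f.base x → z' ⤳ x → z' = x)
    (η : Y) (hηmax : ∀ t : Y, t ⤳ η → t = η)
    (h : ∀ U : X.Opens, x ∈ U →
      FlatMor.fibreDimAt f x ≤ topologicalKrullDim ↥((U : Set X) ∩ f.base ⁻¹' {η})) :
    ∃ ξ : X, ξ ⤳ x ∧ f.base ξ = η ∧ (∀ t : X, t ⤳ ξ → t = ξ) ∧
      FlatMor.fibreDimAt f ξ = FlatMor.fibreDimAt f x := by
  obtain ⟨d, hd, hfd⟩ := fibreDimAt_of_fibre_maximal f x hmax
  haveI : IsLocallyNoetherian X := LocallyOfFiniteType.isLocallyNoetherian f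
  obtain ⟨U₀, hU₀, hxU₀, -⟩ :=
    exists_isAffineOpen_mem_and_subset (X := X) (x := x) (U := ⊤) trivial
  haveI : IsNoetherianRing Γ(X, U₀) := IsLocallyNoetherian.component_noetherian ⟨U₀, hU₀⟩
  haveI hN : TopologicalSpace.NoetherianSpace ↥(U₀ : Set X) :=
    noetherianSpace_of_isAffineOpen U₀ hU₀
  set E : Set X := {z | (d : WithBot ℕ∞) ≤ FlatMor.fibreDimAt f z} with hE
  have hEcl : IsClosed E := isClosed_setOf_natCast_le_fibreDimAt f d
  haveI : TopologicalSpace.NoetherianSpace ↥((U₀ : Set X) ∩ (E ∩ f.base ⁻¹' {η})) :=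
    (Topology.IsEmbedding.inclusion (Set.inter_subset_left
      (s := (U₀ : Set X)) (t := E ∩ f.base ⁻¹' {η}))).isInducing.noetherianSpace
  have hcl : x ∈ closure ((U₀ : Set X) ∩ (E ∩ f.base ⁻¹' {η})) := by
    rw [mem_closure_iff]
    intro o ho hxo
    let U' : X.Opens := ⟨o, ho⟩ ⊓ U₀
    have h1 := h U' ⟨hxo, hxU₀⟩
    rw [hfd, dim_inter_fibre_eq_iSup f _ U'.isOpen η] at h1
    obtain ⟨s, hs⟩ := exists_of_natCast_le_iSup _ (fun s => fibreDimAt_ne_bot f _) d h1
    exact ⟨s.1, s.2.1.1, s.2.1.2, hs, s.2.2⟩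
  obtain ⟨ζ, hζU, hζE, hζη, hζx⟩ := exists_specializes_of_mem_closure_fibre f.base
    f.continuous (U₀ : Set X) E U₀.isOpen hEcl η x hxU₀ hcl
  obtain ⟨ξ, m, hξζ, hfξ, hξfmax, hdm, hm⟩ := exists_fibre_max f ζ d hζE
  have hfξη : f.base ξ = η := hfξ.trans hζη
  have hξx : ξ ⤳ x := hξζ.trans hζx
  obtain ⟨m', hm', hfdξ⟩ := fibreDimAt_of_fibre_maximal f ξ hξfmax
  have hmm' : m' = m := by
    have : (m' : Cardinal.{u}) = (m : Cardinal.{u}) := by rw [← hm', hm]
    exact_mod_cast this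
  subst hmm'
  have hmd : m' ≤ d := by
    have hcl' : IsClosed {z : X | (m' : WithBot ℕ∞) ≤ FlatMor.fibreDimAt f z} :=
      isClosed_setOf_natCast_le_fibreDimAt f m'
    have hξmem : ξ ∈ {z : X | (m' : WithBot ℕ∞) ≤ FlatMor.fibreDimAt f z} := by
      show (m' : WithBot ℕ∞) ≤ FlatMor.fibreDimAt f ξ
      rw [hfdξ]
    have hxmem : x ∈ {z : X | (m' : WithBot ℕ∞) ≤ FlatMor.fibreDimAt f z} :=
      closure_minimal (Set.singleton_subset_iff.mpr hξmem) hcl' hξx.mem_closure
    have : (m' : WithBot ℕ∞) ≤ (d : WithBot ℕ∞) := by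
      have h2 : (m' : WithBot ℕ∞) ≤ FlatMor.fibreDimAt f x := hxmem
      rwa [hfd] at h2
    exact_mod_cast this
  have hdm' : m' = d := le_antisymm hmd hdm
  refine ⟨ξ, hξx, hfξη, ?_, ?_⟩
  · intro t ht
    apply hξfmax t _ ht
    rw [hfξη]
    apply hηmax
    have := ht.map f.continuous
    rwa [hfξη] at this
  · rw [hfdξ, hfd, hdm']

end Groth.Agent.H60.UnivOpenAtComp
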