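import Mathlib
import Groth.Agent.H60.UnivOpenAtComp
import Groth.Agent.S4926

/-!
# S4934: universal openness at a fibre-maximal point over a geometrically unibranch point
(the pointwise Chevalley criterion is taken as a hypothesis `hChev`)
-/

set_option autoImplicit false
set_option linter.style.haveILetI false
universe u

open AlgebraicGeometry CategoryTheory

namespace Groth.Agent.H60.UnivOpenAtMain

open Groth.Agent.H54 Groth.Agent.H9.DimFormulaEq Groth.Agent.H71.DimFun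
  Groth.Agent.H9.FibreFormula Groth.Agent.H9.FibDim Groth.Agent.H9.Equidim
  Groth.Agent.H60.EquidimAtFlat Groth.Agent.H60.EquidimAtConv Groth.Agent.H60.EquidimComp
  Groth.Agent.H60.EquidimFibMax Groth.Agent.H60.EquidimCrit Groth.Agent.H60.DimFormulaIff
  Groth.Agent.H60.FibreDimsGeneric Groth.Agent.H60.GenOpen Groth.Agent.H60.GenOpenApps
  Groth.Agent.H60.GenOpenGen Groth.Agent.H60.GenOpenNhd Groth.Agent.H60.GenOpenProper
  Groth.Agent.H60.UnivOpenAtTop Groth.Agent.H60.UnivOpenAtComp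

theorem eq_of_closure_eq {A : Type*} [TopologicalSpace A] [T0Space A] {a b : A}
    (h : closure ({a} : Set A) = closure {b}) : a = b :=
  ((specializes_iff_closure_subset.mpr h.ge).antisymm
    (specializes_iff_closure_subset.mpr h.le)).eq

/-- b') (at the generic points of the components through `f x`) implies b). -/
theorem cond_b_of_cond_b' {X Y : Scheme.{u}} [IsLocallyNoetherian Y] (f : X ⟶ Y)
    [LocallyOfFiniteType f] (x : X)
    (hmax : ∀ z' : X, f.base z' = f.base x → z' ⤳ x → z' = x)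
    (Y₀ : Set Y) (hY₀ : Y₀ ∈ irreducibleComponents (Y : Type u))
    (h : ∀ η : Y, closure ({η} : Set Y) = Y₀ → ∀ U : X.Opens, x ∈ U →
      FlatMor.fibreDimAt f x ≤ topologicalKrullDim ↥((U : Set X) ∩ f.base ⁻¹' {η})) :
    ∃ Z ∈ irreducibleComponents (X : Type u), ∃ hx : x ∈ Z, closure (f.base '' Z) = Y₀ ∧
      ∀ η : Y, closure ({η} : Set Y) = Y₀ →
        FlatMor.localDim ↥(Z ∩ f.base ⁻¹' {f.base x}) ⟨x, ⟨hx, rfl⟩⟩ =
          topologicalKrullDim ↥(Z ∩ f.base ⁻¹' {η}) := by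
  obtain ⟨η, hη⟩ := QuasiSober.sober hY₀.1 (isClosed_of_mem_irreducibleComponents Y₀ hY₀)
  have hηcl : closure ({η} : Set Y) = Y₀ := hη.def
  have hηmax : ∀ t : Y, t ⤳ η → t = η :=
    isMax_of_closure_mem_irreducibleComponents η (hηcl ▸ hY₀)
  obtain ⟨ξ, hξx, hfξ, hξmax, hdim⟩ :=
    exists_generic_of_forall_le f x hmax η hηmax (h η hηcl)
  have hξfmax : ∀ z' : X, f.base z' = f.base ξ → z' ⤳ ξ → z' = ξ := fun z' _ hz' => hξmax z' hz'
  refine ⟨closure {ξ}, closure_mem_irreducibleComponents_of_forall hξmax, hξx.mem_closure, ?_, ?_⟩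
  · rw [closure_image_closure f ξ, hfξ, hηcl]
  · intro η' hη'
    have hηη' : η' = η := eq_of_closure_eq (hη'.trans hηcl.symm)
    rw [hηη', localDim_closed_inter_fibre_of_fibre_maximal f _ isClosed_closure x hξx.mem_closure hmax,
      ← hdim]
    have h1 := dim_closure_inter_fibre_of_fibre_maximal f ξ hξfmax
    rw [hfξ] at h1
    exact h1.symm

set_option backward.isDefEq.respectTransparency.types false in
/-- b) ⇒ a), given the pointwise Chevalley criterion. -/
theorem isUnivOpenAt_of_component {X Y : Scheme.{u}} [IsLocallyNoetherian Y] (f : X ⟶ Y)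
    [LocallyOfFiniteType f]
    (hChev : ∀ (X' : Scheme.{u}) (g : X' ⟶ Y) [LocallyOfFiniteType g] (w : X'),
      CAlg2.IsGeomUnibranch (Y.presheaf.stalk (g.base w)) → EGA43.IsEquidimAt g w →
      (∀ z' : X', g.base z' = g.base w → z' ⤳ w → z' = w) → EGA43.IsUnivOpenAt g w)
    (x : X) (hmax : ∀ z' : X, f.base z' = f.base x → z' ⤳ x → z' = x)
    (hy : CAlg2.IsGeomUnibranch (Y.presheaf.stalk (f.base x)))
    (Z : Set X) (hZ : Z ∈ irreducibleComponents (X : Type u)) (hx : x ∈ Z) (η : Y)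
    (hη : closure ({η} : Set Y) ∈ irreducibleComponents (Y : Type u))
    (hdense : closure (f.base '' Z) = closure ({η} : Set Y))
    (hdim : FlatMor.localDim ↥(Z ∩ f.base ⁻¹' {f.base x}) ⟨x, ⟨hx, rfl⟩⟩ =
      topologicalKrullDim ↥(Z ∩ f.base ⁻¹' {η})) :
    EGA43.IsUnivOpenAt f x := by
  have hZcl : IsClosed Z := isClosed_of_mem_irreducibleComponents Z hZ
  obtain ⟨ξ, hξ⟩ := QuasiSober.sober hZ.1 hZcl
  have hξcl : closure ({ξ} : Set X) = Z := hξ.def
  subst hξcl
  have hξmax : ∀ t : X, t ⤳ ξ → t = ξ := isMax_of_closure_mem_irreducibleComponents ξ hZ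
  have hξfmax : ∀ z' : X, f.base z' = f.base ξ → z' ⤳ ξ → z' = ξ := fun z' _ hz' => hξmax z' hz'
  have hfξ : f.base ξ = η := by
    apply eq_of_closure_eq
    rw [← closure_image_closure f ξ, hdense]
  obtain ⟨e, he, hfde⟩ := fibreDimAt_of_fibre_maximal f ξ hξfmax
  have hdimη : topologicalKrullDim ↥(closure ({ξ} : Set X) ∩ f.base ⁻¹' {η}) =
      (e : WithBot ℕ∞) := by
    have h1 := dim_closure_inter_fibre_of_fibre_maximal f ξ hξfmax
    rw [hfξ] at h1
    rw [h1, hfde]
  -- the component as a scheme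
  let W : TopologicalSpace.Closeds X := ⟨closure {ξ}, isClosed_closure⟩
  have hrange : Set.range (Scheme.IdealSheafData.vanishingIdeal W).subschemeι.base =
      (closure {ξ} : Set X) := by
    rw [Scheme.IdealSheafData.range_subschemeι,
      Scheme.IdealSheafData.coe_support_vanishingIdeal]
    rfl
  have hemb : Topology.IsEmbedding (Scheme.IdealSheafData.vanishingIdeal W).subschemeι.base :=
    (Scheme.IdealSheafData.vanishingIdeal W).subschemeι.isClosedEmbedding.isEmbedding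
  set ι := (Scheme.IdealSheafData.vanishingIdeal W).subschemeι with hι
  obtain ⟨w, hw⟩ : x ∈ Set.range ι.base := by rw [hrange]; exact hx
  obtain ⟨ξ', hξ'⟩ : ξ ∈ Set.range ι.base := by rw [hrange]; exact subset_closure rfl
  have hgw : FlatMor.fibreDimAt (ι ≫ f) w = (e : WithBot ℕ∞) := by
    rw [← localDim_inter_fibre_eq ι hemb _ hrange f w x hw hx, hdim, hdimη]
  have hgξ' : FlatMor.fibreDimAt (ι ≫ f) ξ' = (e : WithBot ℕ∞) := by
    rw [← localDim_inter_fibre_eq ι hemb (closure {ξ}) hrange f ξ' ξ hξ'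
        (subset_closure (Set.mem_singleton ξ)),
      localDim_closed_inter_fibre_of_fibre_maximal f (closure {ξ}) isClosed_closure ξ
        (subset_closure (Set.mem_singleton ξ)) hξfmax, hfde]
  have hξ'gen : ∀ z : _, ξ' ⤳ z := by
    intro z
    rw [← hemb.isInducing.specializes_iff, hξ', specializes_iff_mem_closure, ← hrange]
    exact ⟨z, rfl⟩
  have hge : ∀ z : _, (e : WithBot ℕ∞) ≤ FlatMor.fibreDimAt (ι ≫ f) z := by
    intro z
    have hcl' : IsClosed {z : _ | (e : WithBot ℕ∞) ≤ FlatMor.fibreDimAt (ι ≫ f) z} :=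
      isClosed_setOf_natCast_le_fibreDimAt (ι ≫ f) e
    have hmem : ξ' ∈ {z : _ | (e : WithBot ℕ∞) ≤ FlatMor.fibreDimAt (ι ≫ f) z} := by
      show (e : WithBot ℕ∞) ≤ FlatMor.fibreDimAt (ι ≫ f) ξ'
      rw [hgξ']
    exact closure_minimal (Set.singleton_subset_iff.mpr hmem) hcl' (hξ'gen z).mem_closure
  have hgwx : (ι ≫ f).base w = f.base x := by rw [Scheme.Hom.comp_apply, hw]
  have hgξη : (ι ≫ f).base ξ' = η := by rw [Scheme.Hom.comp_apply, hξ', hfξ]
  have hwmax : ∀ w' : _, (ι ≫ f).base w' = (ι ≫ f).base w → w' ⤳ w → w' = w := by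
    intro w' hw' hsp
    apply hemb.injective
    rw [hw]
    apply hmax
    · have := hw'
      rw [Scheme.Hom.comp_apply, Scheme.Hom.comp_apply, hw] at this
      exact this
    · have := hsp.map ι.continuous
      rwa [hw] at this
  let U' : TopologicalSpace.Opens _ :=
    ⟨{z : _ | FlatMor.fibreDimAt (ι ≫ f) z ≤ (e : WithBot ℕ∞)}, isOpen_setOf_fibreDimAt_le (ι ≫ f) e⟩
  have hwU' : w ∈ U' := hgw.le
  have hequi : EGA43.IsEquidimAt (ι ≫ f) w := by
    refine isEquidimAt_of_forall' (ι ≫ f) w e U' hwU' ?_ ?_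
    · intro ξ₁ _ hξ₁max
      have h1 : ξ₁ = ξ' := (hξ₁max ξ' (hξ'gen ξ₁)).symm
      rw [h1, hgξη, hgwx]
      refine ⟨hη, ?_⟩
      rw [specializes_iff_mem_closure, ← hdense]
      exact subset_closure ⟨x, hx, rfl⟩
    · intro z hz
      exact le_antisymm hz (hge z)
  have hy' : CAlg2.IsGeomUnibranch (Y.presheaf.stalk ((ι ≫ f).base w)) := by
    rw [hgwx]; exact hy
  have h1 := hChev _ (ι ≫ f) w hy' hequi hwmax
  have h2 := Groth.Agent.S4926.result ι f w h1
  rwa [hw] at h2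

/-- S4934, with the pointwise Chevalley criterion as a hypothesis. -/
theorem main_S4934 {X Y : Scheme.{u}} [IsLocallyNoetherian Y] (f : X ⟶ Y)
    [LocallyOfFiniteType f]
    (hChev : ∀ (X' : Scheme.{u}) (g : X' ⟶ Y) [LocallyOfFiniteType g] (w : X'),
      CAlg2.IsGeomUnibranch (Y.presheaf.stalk (g.base w)) → EGA43.IsEquidimAt g w →
      (∀ z' : X', g.base z' = g.base w → z' ⤳ w → z' = w) → EGA43.IsUnivOpenAt g w)
    (x : X) (hmax : ∀ x' : X, f.base x' = f.base x → x ∈ closure {x'} → x' = x)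
    (hy : CAlg2.IsGeomUnibranch (Y.presheaf.stalk (f.base x))) :
    List.TFAE [EGA43.IsUnivOpenAt f x,
      (∀ Y₀ ∈ irreducibleComponents (Y : Type u), f.base x ∈ Y₀ →
        ∃ Z ∈ irreducibleComponents (X : Type u), ∃ hx : x ∈ Z, closure (f.base '' Z) = Y₀ ∧
          ∀ η : Y, closure ({η} : Set Y) = Y₀ →
            FlatMor.localDim ↥(Z ∩ f.base ⁻¹' {f.base x}) ⟨x, ⟨hx, rfl⟩⟩ =
              topologicalKrullDim ↥(Z ∩ f.base ⁻¹' {η})),
      (∀ U : X.Opens, x ∈ U → ∀ y' : Y, y' ⤳ f.base x →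
        FlatMor.fibreDimAt f x ≤ topologicalKrullDim ↥((U : Set X) ∩ f.base ⁻¹' {y'})),
      EGA43.IsOpenAt f.base x] := by
  have hmax' : ∀ z' : X, f.base z' = f.base x → z' ⤳ x → z' = x :=
    fun z' h1 h2 => hmax z' h1 h2.mem_closure
  tfae_have 1 → 4 := isOpenAt_of_isUnivOpenAt f x
  tfae_have 4 → 3 := fun hopen U hxU y' hy' =>
    le_dim_inter_of_isOpenAt f x hmax' hopen U U.isOpen hxU y' hy'
  tfae_have 3 → 2 := by
    intro h Y₀ hY₀ hfx
    refine cond_b_of_cond_b' f x hmax' Y₀ hY₀ ?_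
    intro η hη U hxU
    exact h U hxU η (specializes_iff_mem_closure.mpr (hη ▸ hfx))
  tfae_have 2 → 1 := by
    intro h
    obtain ⟨Y₀, hY₀, hfx⟩ : ∃ Y₀ ∈ irreducibleComponents (Y : Type u), f.base x ∈ Y₀ :=
      ⟨irreducibleComponent (f.base x), irreducibleComponent_mem_irreducibleComponents _,
        mem_irreducibleComponent⟩
    obtain ⟨Z, hZ, hx, hdense, hdim⟩ := h Y₀ hY₀ hfx
    obtain ⟨η, hη⟩ := QuasiSober.sober hY₀.1 (isClosed_of_mem_irreducibleComponents Y₀ hY₀)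
    have hηcl : closure ({η} : Set Y) = Y₀ := hη.def
    exact isUnivOpenAt_of_component f hChev x hmax' hy Z hZ hx η (hηcl ▸ hY₀)
      (hdense.trans hηcl.symm) (hdim η hηcl)
  tfae_finish

end Groth.Agent.H60.UnivOpenAtMain
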