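import Mathlib
import Groth.Agent.H60.UnivOpenAtMain
import Groth.Agent.H7.ChevalleyPointwise

/-!
# S4938: universal openness along a whole fibre over a geometrically unibranch point
-/

set_option autoImplicit false
set_option linter.style.haveILetI false
universe u

open AlgebraicGeometry CategoryTheory

namespace Groth.Agent.H60.UnivOpenAtFibre

open Groth.Agent.H54 Groth.Agent.H9.DimFormulaEq Groth.Agent.H71.DimFun
  Groth.Agent.H9.FibreFormula Groth.Agent.H9.FibDim Groth.Agent.H9.Equidim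
  Groth.Agent.H60.EquidimAtFlat Groth.Agent.H60.EquidimAtConv Groth.Agent.H60.EquidimComp
  Groth.Agent.H60.EquidimFibMax Groth.Agent.H60.EquidimCrit Groth.Agent.H60.DimFormulaIff
  Groth.Agent.H60.FibreDimsGeneric Groth.Agent.H60.GenOpen Groth.Agent.H60.GenOpenApps
  Groth.Agent.H60.GenOpenGen Groth.Agent.H60.GenOpenNhd Groth.Agent.H60.GenOpenProper
  Groth.Agent.H60.UnivOpenAtTop Groth.Agent.H60.UnivOpenAtComp Groth.Agent.H60.UnivOpenAtMain

/-- Every point has a fibre-maximal generization in its fibre with the same local fibre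
dimension. -/
theorem exists_fibre_max' {X Y : Scheme.{u}} (f : X ⟶ Y) [LocallyOfFiniteType f] (x : X) :
    ∃ z₀ : X, z₀ ⤳ x ∧ f.base z₀ = f.base x ∧
      (∀ z' : X, f.base z' = f.base z₀ → z' ⤳ z₀ → z' = z₀) ∧
      FlatMor.fibreDimAt f z₀ = FlatMor.fibreDimAt f x := by
  obtain ⟨n, b, -, -, hform⟩ := fibre_formula f x
  obtain ⟨z₀, m, hz₀x, hfz₀, hz₀max, hnm, hm⟩ := exists_fibre_max f x (n + b) hform.ge
  obtain ⟨m', hm', hfd⟩ := fibreDimAt_of_fibre_maximal f z₀ hz₀max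
  have hmm' : m' = m := by
    have : (m' : Cardinal.{u}) = (m : Cardinal.{u}) := by rw [← hm', hm]
    exact_mod_cast this
  subst hmm'
  refine ⟨z₀, hz₀x, hfz₀, hz₀max, le_antisymm ?_ ?_⟩
  · rw [hfd]
    exact natCast_trdeg_le_fibreDimAt f z₀ x hz₀x hfz₀ m' hm
  · rw [hform, hfd]
    exact_mod_cast hnm

/-- Composing with a morphism surjective on stalks (e.g. an immersion) does not increase the local
fibre dimension. -/
theorem fibreDimAt_comp_le {Z X Y : Scheme.{u}} (j : Z ⟶ X) [SurjectiveOnStalks j] (f : X ⟶ Y)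
    [LocallyOfFiniteType f] [LocallyOfFiniteType (j ≫ f)] (w : Z) :
    FlatMor.fibreDimAt (j ≫ f) w ≤ FlatMor.fibreDimAt f (j.base w) := by
  obtain ⟨w₀, hw₀w, hgw₀, hw₀max, hfd⟩ := exists_fibre_max' (j ≫ f) w
  obtain ⟨m, hm, hfdm⟩ := fibreDimAt_of_fibre_maximal (j ≫ f) w₀ hw₀max
  rw [← hfd, hfdm]
  have h3 := trdeg_comp_of_surjectiveOnStalks j f w₀
  refine natCast_trdeg_le_fibreDimAt f (j.base w₀) (j.base w) (hw₀w.map j.continuous) ?_ m ?_
  · have := hgw₀
    rwa [Scheme.Hom.comp_apply, Scheme.Hom.comp_apply] at this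
  · rw [← h3, hm]

/-- Chevalley's lower bound on an irreducible closed subscheme with fibre-maximal generic point
`ξ`: all local fibre dimensions are at least the one at `ξ`. -/
theorem le_fibreDimAt_comp_of_range_eq_closure {Z' X Y : Scheme.{u}} (f : X ⟶ Y)
    [LocallyOfFiniteType f] (ξ : X)
    (hξfmax : ∀ z' : X, f.base z' = f.base ξ → z' ⤳ ξ → z' = ξ)
    (ι : Z' ⟶ X) [IsClosedImmersion ι] (hrange : Set.range ι.base = closure ({ξ} : Set X))
    (w : Z') : FlatMor.fibreDimAt f ξ ≤ FlatMor.fibreDimAt (ι ≫ f) w := by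
  have hemb : Topology.IsEmbedding ι.base := ι.isClosedEmbedding.isEmbedding
  obtain ⟨e, he, hfde⟩ := fibreDimAt_of_fibre_maximal f ξ hξfmax
  obtain ⟨ξ', hξ'⟩ : ξ ∈ Set.range ι.base := by
    rw [hrange]; exact subset_closure (Set.mem_singleton ξ)
  have hgξ' : FlatMor.fibreDimAt (ι ≫ f) ξ' = (e : WithBot ℕ∞) := by
    rw [← localDim_inter_fibre_eq ι hemb (closure {ξ}) hrange f ξ' ξ hξ'
        (subset_closure (Set.mem_singleton ξ)),
      localDim_closed_inter_fibre_of_fibre_maximal f (closure {ξ}) isClosed_closure ξ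
        (subset_closure (Set.mem_singleton ξ)) hξfmax, hfde]
  have hξ'gen : ξ' ⤳ w := by
    rw [← hemb.isInducing.specializes_iff, hξ', specializes_iff_mem_closure, ← hrange]
    exact ⟨w, rfl⟩
  have hcl' : IsClosed {z : Z' | (e : WithBot ℕ∞) ≤ FlatMor.fibreDimAt (ι ≫ f) z} :=
    isClosed_setOf_natCast_le_fibreDimAt (ι ≫ f) e
  have hmem : ξ' ∈ {z : Z' | (e : WithBot ℕ∞) ≤ FlatMor.fibreDimAt (ι ≫ f) z} := by
    show (e : WithBot ℕ∞) ≤ FlatMor.fibreDimAt (ι ≫ f) ξ'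
    rw [hgξ']
  rw [hfde]
  exact closure_minimal (Set.singleton_subset_iff.mpr hmem) hcl' hξ'gen.mem_closure

/-- On an irreducible component (with its generic point `ξ` lying over a maximal point of `Y`),
the structure morphism of the component is equidimensional at every point where the local fibre
dimension equals the generic one. -/
theorem isEquidimAt_comp_of_eq {Z' X Y : Scheme.{u}} (f : X ⟶ Y)
    [LocallyOfFiniteType f] (ξ : X) (hξmax : ∀ t : X, t ⤳ ξ → t = ξ)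
    (hη : closure ({f.base ξ} : Set Y) ∈ irreducibleComponents (Y : Type u))
    (ι : Z' ⟶ X) [IsClosedImmersion ι] (hrange : Set.range ι.base = closure ({ξ} : Set X))
    (w : Z') (hw : FlatMor.fibreDimAt (ι ≫ f) w = FlatMor.fibreDimAt f ξ) :
    EGA43.IsEquidimAt (ι ≫ f) w := by
  have hemb : Topology.IsEmbedding ι.base := ι.isClosedEmbedding.isEmbedding
  have hξfmax : ∀ z' : X, f.base z' = f.base ξ → z' ⤳ ξ → z' = ξ := fun z' _ hz' => hξmax z' hz'
  obtain ⟨e, he, hfde⟩ := fibreDimAt_of_fibre_maximal f ξ hξfmax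
  obtain ⟨ξ', hξ'⟩ : ξ ∈ Set.range ι.base := by
    rw [hrange]; exact subset_closure (Set.mem_singleton ξ)
  have hξ'gen : ∀ z : Z', ξ' ⤳ z := by
    intro z
    rw [← hemb.isInducing.specializes_iff, hξ', specializes_iff_mem_closure, ← hrange]
    exact ⟨z, rfl⟩
  have hgξη : (ι ≫ f).base ξ' = f.base ξ := by rw [Scheme.Hom.comp_apply, hξ']
  let U' : TopologicalSpace.Opens Z' :=
    ⟨{z : Z' | FlatMor.fibreDimAt (ι ≫ f) z ≤ (e : WithBot ℕ∞)},
      isOpen_setOf_fibreDimAt_le (ι ≫ f) e⟩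
  have hwU' : w ∈ U' := by
    show FlatMor.fibreDimAt (ι ≫ f) w ≤ (e : WithBot ℕ∞)
    rw [hw, hfde]
  refine isEquidimAt_of_forall' (ι ≫ f) w e U' hwU' ?_ ?_
  · intro ξ₁ _ hξ₁max
    have h1 : ξ₁ = ξ' := (hξ₁max ξ' (hξ'gen ξ₁)).symm
    rw [h1, hgξη]
    refine ⟨hη, ?_⟩
    rw [← hgξη]
    exact (hξ'gen w).map (ι ≫ f).continuous
  · intro z hz
    refine le_antisymm hz ?_
    rw [← hfde]
    exact le_fibreDimAt_comp_of_range_eq_closure f ξ hξfmax ι hrange z

/-- If `x ∈ closure {ξ}` (`ξ` fibre-maximal) has the same local fibre dimension as `ξ`, then the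
local dimension at `x` of `closure {ξ} ∩ X_{f x}` is that common value. -/
theorem localDim_closure_inter_fibre_eq_of_eq {X Y : Scheme.{u}} (f : X ⟶ Y)
    [LocallyOfFiniteType f] (ξ : X)
    (hξfmax : ∀ z' : X, f.base z' = f.base ξ → z' ⤳ ξ → z' = ξ) (x : X)
    (hx : x ∈ closure ({ξ} : Set X))
    (heq : FlatMor.fibreDimAt f x = FlatMor.fibreDimAt f ξ) :
    FlatMor.localDim ↥(closure ({ξ} : Set X) ∩ f.base ⁻¹' {f.base x}) ⟨x, ⟨hx, rfl⟩⟩ =
      FlatMor.fibreDimAt f ξ := by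
  let W : TopologicalSpace.Closeds X := ⟨closure {ξ}, isClosed_closure⟩
  have hrange : Set.range (Scheme.IdealSheafData.vanishingIdeal W).subschemeι.base =
      (closure {ξ} : Set X) := by
    rw [Scheme.IdealSheafData.range_subschemeι,
      Scheme.IdealSheafData.coe_support_vanishingIdeal]
    rfl
  have hemb : Topology.IsEmbedding (Scheme.IdealSheafData.vanishingIdeal W).subschemeι.base :=
    (Scheme.IdealSheafData.vanishingIdeal W).subschemeι.isClosedEmbedding.isEmbedding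
  set ι := (Scheme.IdealSheafData.vanishingIdeal W).subschemeι with hι
  obtain ⟨w, hw⟩ : x ∈ Set.range ι.base := by rw [hrange]; exact hx
  rw [localDim_inter_fibre_eq ι hemb (closure {ξ}) hrange f w x hw hx]
  refine le_antisymm ?_ (le_fibreDimAt_comp_of_range_eq_closure f ξ hξfmax ι hrange w)
  have h1 := fibreDimAt_comp_le ι f w
  rwa [hw, heq] at h1

set_option backward.isDefEq.respectTransparency.types false in
/-- b) ⇒ a) at an arbitrary point of the fibre over a geometrically unibranch point. -/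
theorem isUnivOpenAt_of_component' {X Y : Scheme.{u}} [IsLocallyNoetherian Y] (f : X ⟶ Y)
    [LocallyOfFiniteType f] (x : X)
    (hy : CAlg2.IsGeomUnibranch (Y.presheaf.stalk (f.base x)))
    (Z : Set X) (hZ : Z ∈ irreducibleComponents (X : Type u)) (hx : x ∈ Z) (η : Y)
    (hη : closure ({η} : Set Y) ∈ irreducibleComponents (Y : Type u))
    (hdense : closure (f.base '' Z) = closure ({η} : Set Y))
    (hdim : FlatMor.localDim ↥(Z ∩ f.base ⁻¹' {f.base x}) ⟨x, ⟨hx, rfl⟩⟩ =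
      topologicalKrullDim ↥(Z ∩ f.base ⁻¹' {η})) :
    EGA43.IsUnivOpenAt f x := by
  have hZcl : IsClosed Z := isClosed_of_mem_irreducibleComponents Z hZ
  obtain ⟨ξ, hξ⟩ := QuasiSober.sober hZ.1 hZcl
  have hξcl : closure ({ξ} : Set X) = Z := hξ.def
  subst hξcl
  have hξmax : ∀ t : X, t ⤳ ξ → t = ξ := isMax_of_closure_mem_irreducibleComponents ξ hZ
  have hξfmax : ∀ z' : X, f.base z' = f.base ξ → z' ⤳ ξ → z' = ξ := fun z' _ hz' => hξmax z' hz'
  have hfξ : f.base ξ = η := by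
    apply eq_of_closure_eq
    rw [← closure_image_closure f ξ, hdense]
  have hdimη : topologicalKrullDim ↥(closure ({ξ} : Set X) ∩ f.base ⁻¹' {η}) =
      FlatMor.fibreDimAt f ξ := by
    have h1 := dim_closure_inter_fibre_of_fibre_maximal f ξ hξfmax
    rwa [hfξ] at h1
  let W : TopologicalSpace.Closeds X := ⟨closure {ξ}, isClosed_closure⟩
  have hrange : Set.range (Scheme.IdealSheafData.vanishingIdeal W).subschemeι.base =
      (closure {ξ} : Set X) := by
    rw [Scheme.IdealSheafData.range_subschemeι,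
      Scheme.IdealSheafData.coe_support_vanishingIdeal]
    rfl
  have hemb : Topology.IsEmbedding (Scheme.IdealSheafData.vanishingIdeal W).subschemeι.base :=
    (Scheme.IdealSheafData.vanishingIdeal W).subschemeι.isClosedEmbedding.isEmbedding
  set ι := (Scheme.IdealSheafData.vanishingIdeal W).subschemeι with hι
  obtain ⟨w, hw⟩ : x ∈ Set.range ι.base := by rw [hrange]; exact hx
  have hgw : FlatMor.fibreDimAt (ι ≫ f) w = FlatMor.fibreDimAt f ξ := by
    rw [← localDim_inter_fibre_eq ι hemb _ hrange f w x hw hx, hdim, hdimη]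
  have hequi : EGA43.IsEquidimAt (ι ≫ f) w :=
    isEquidimAt_comp_of_eq f ξ hξmax (hfξ ▸ hη) ι hrange w hgw
  have hgwx : (ι ≫ f).base w = f.base x := by rw [Scheme.Hom.comp_apply, hw]
  have hy' : CAlg2.IsGeomUnibranch (Y.presheaf.stalk ((ι ≫ f).base w)) := by
    rw [hgwx]; exact hy
  have h1 := Groth.Agent.H7.isUnivOpenAt_of_isEquidimAt_of_isGeomUnibranch (ι ≫ f) w hequi hy'
  have h2 := Groth.Agent.S4926.result ι f w h1
  rwa [hw] at h2

/-- b'') (at the generic point of the component `Y₀` through `f x`) implies b) at `x`. -/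
theorem cond_b_of_cond_b'' {X Y : Scheme.{u}} [IsLocallyNoetherian Y] (f : X ⟶ Y)
    [LocallyOfFiniteType f] (x : X)
    (Y₀ : Set Y) (hY₀ : Y₀ ∈ irreducibleComponents (Y : Type u))
    (h : ∀ η : Y, closure ({η} : Set Y) = Y₀ → ∀ U : X.Opens,
      topologicalKrullDim ↥((U : Set X) ∩ f.base ⁻¹' {f.base x}) ≤
        topologicalKrullDim ↥((U : Set X) ∩ f.base ⁻¹' {η})) :
    ∃ Z ∈ irreducibleComponents (X : Type u), ∃ hx : x ∈ Z, closure (f.base '' Z) = Y₀ ∧
      ∀ η : Y, closure ({η} : Set Y) = Y₀ →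
        FlatMor.localDim ↥(Z ∩ f.base ⁻¹' {f.base x}) ⟨x, ⟨hx, rfl⟩⟩ =
          topologicalKrullDim ↥(Z ∩ f.base ⁻¹' {η}) := by
  obtain ⟨η, hη⟩ := QuasiSober.sober hY₀.1 (isClosed_of_mem_irreducibleComponents Y₀ hY₀)
  have hηcl : closure ({η} : Set Y) = Y₀ := hη.def
  have hηmax : ∀ t : Y, t ⤳ η → t = η :=
    isMax_of_closure_mem_irreducibleComponents η (hηcl ▸ hY₀)
  obtain ⟨z₀, hz₀x, hfz₀, hz₀max, hfdz₀⟩ := exists_fibre_max' f x
  have hb' : ∀ U : X.Opens, z₀ ∈ U →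
      FlatMor.fibreDimAt f z₀ ≤ topologicalKrullDim ↥((U : Set X) ∩ f.base ⁻¹' {η}) := by
    intro U hz₀U
    refine le_trans ?_ (h η hηcl U)
    rw [dim_inter_fibre_eq_iSup f _ U.isOpen (f.base x)]
    exact le_iSup (fun s : ↥((U : Set X) ∩ f.base ⁻¹' {f.base x}) => FlatMor.fibreDimAt f s.1)
      ⟨z₀, hz₀U, hfz₀⟩
  obtain ⟨ξ, hξz₀, hfξ, hξmax, hdim⟩ := exists_generic_of_forall_le f z₀ hz₀max η hηmax hb'
  have hξfmax : ∀ z' : X, f.base z' = f.base ξ → z' ⤳ ξ → z' = ξ := fun z' _ hz' => hξmax z' hz'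
  have hξx : ξ ⤳ x := hξz₀.trans hz₀x
  refine ⟨closure {ξ}, closure_mem_irreducibleComponents_of_forall hξmax, hξx.mem_closure, ?_, ?_⟩
  · rw [closure_image_closure f ξ, hfξ, hηcl]
  · intro η' hη'
    have hηη' : η' = η := eq_of_closure_eq (hη'.trans hηcl.symm)
    rw [hηη', localDim_closure_inter_fibre_eq_of_eq f ξ hξfmax x hξx.mem_closure
      (hfdz₀.symm.trans hdim.symm)]
    have h1 := dim_closure_inter_fibre_of_fibre_maximal f ξ hξfmax
    rw [hfξ] at h1
    exact h1.symm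

/-- c) ⇒ b''). -/
theorem dim_inter_le_of_isOpenAt {X Y : Scheme.{u}} [IsLocallyNoetherian Y] (f : X ⟶ Y)
    [LocallyOfFiniteType f] (y : Y)
    (hopen : ∀ x : X, f.base x = y → EGA43.IsOpenAt f.base x) (U : X.Opens) (η : Y)
    (hη : η ⤳ y) :
    topologicalKrullDim ↥((U : Set X) ∩ f.base ⁻¹' {y}) ≤
      topologicalKrullDim ↥((U : Set X) ∩ f.base ⁻¹' {η}) := by
  rw [dim_inter_fibre_eq_iSup f _ U.isOpen y]
  refine iSup_le fun s => ?_
  obtain ⟨z₀, hz₀s, hfz₀, hz₀max, hfdz₀⟩ := exists_fibre_max' f s.1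
  have hfz₀y : f.base z₀ = y := hfz₀.trans s.2.2
  rw [← hfdz₀]
  exact le_dim_inter_of_isOpenAt f z₀ hz₀max (hopen z₀ hfz₀y) U U.isOpen
    (hz₀s.mem_open U.isOpen s.2.1) η (hfz₀y ▸ hη)

/-- S4938. -/
theorem main_S4938 {X Y : Scheme.{u}} [IsLocallyNoetherian Y] (f : X ⟶ Y)
    [LocallyOfFiniteType f] (y : Y) (hy : CAlg2.IsGeomUnibranch (Y.presheaf.stalk y)) :
    List.TFAE [∀ x : X, f.base x = y → EGA43.IsUnivOpenAt f x,
      ∀ x : X, f.base x = y → ∀ Y₀ ∈ irreducibleComponents (Y : Type u), y ∈ Y₀ →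
        ∃ Z ∈ irreducibleComponents (X : Type u), ∃ hx : x ∈ Z, closure (f.base '' Z) = Y₀ ∧
          ∀ η : Y, closure ({η} : Set Y) = Y₀ →
            FlatMor.localDim ↥(Z ∩ f.base ⁻¹' {f.base x}) ⟨x, ⟨hx, rfl⟩⟩ =
              topologicalKrullDim ↥(Z ∩ f.base ⁻¹' {η}),
      ∀ U : X.Opens, ∀ Y₀ ∈ irreducibleComponents (Y : Type u), y ∈ Y₀ → ∀ η : Y,
        closure ({η} : Set Y) = Y₀ →
        topologicalKrullDim ↥((U : Set X) ∩ f.base ⁻¹' {y}) ≤
          topologicalKrullDim ↥((U : Set X) ∩ f.base ⁻¹' {η}),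
      ∀ x : X, f.base x = y → EGA43.IsOpenAt f.base x] := by
  tfae_have 1 → 4 := fun h x hx => isOpenAt_of_isUnivOpenAt f x (h x hx)
  tfae_have 4 → 3 := by
    intro hopen U Y₀ _ hyY₀ η hη
    exact dim_inter_le_of_isOpenAt f y hopen U η (specializes_iff_mem_closure.mpr (hη ▸ hyY₀))
  tfae_have 3 → 2 := by
    intro h x hx Y₀ hY₀ hyY₀
    subst hx
    exact cond_b_of_cond_b'' f x Y₀ hY₀ (fun η hη U => h U Y₀ hY₀ hyY₀ η hη)
  tfae_have 2 → 1 := by
    intro h x hx
    subst hx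
    obtain ⟨Y₀, hY₀, hfx⟩ : ∃ Y₀ ∈ irreducibleComponents (Y : Type u), f.base x ∈ Y₀ :=
      ⟨irreducibleComponent (f.base x), irreducibleComponent_mem_irreducibleComponents _,
        mem_irreducibleComponent⟩
    obtain ⟨Z, hZ, hxZ, hdense, hdim⟩ := h x rfl Y₀ hY₀ hfx
    obtain ⟨η, hη⟩ := QuasiSober.sober hY₀.1 (isClosed_of_mem_irreducibleComponents Y₀ hY₀)
    have hηcl : closure ({η} : Set Y) = Y₀ := hη.def
    exact isUnivOpenAt_of_component' f x hy Z hZ hxZ η (hηcl ▸ hY₀)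
      (hdense.trans hηcl.symm) (hdim η hηcl)
  tfae_finish

end Groth.Agent.H60.UnivOpenAtFibre
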