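import Mathlib

/-!
# (PW) for helper8's coherent devissage squad #2: an object built by `d` successive biproducts with
`F` is the `d`-fold coproduct of `F`
-/

set_option autoImplicit false
universe u
open CategoryTheory CategoryTheory.Limits
open scoped ZeroObject

namespace Groth.Agent.H60.Dev

theorem PW {C : Type*} [Category C] [Preadditive C] [HasZeroObject C] [HasBinaryBiproducts C]
    [HasFiniteCoproducts C] (F : C) (P : ℕ → C) (h0 : IsZero (P 0))
    (hs : ∀ n, Nonempty (P (n + 1) ≅ F ⊞ P n)) (d : ℕ) :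
    Nonempty (P d ≅ ∐ fun _ : Fin d => F) := by
  induction d with
  | zero =>
    have hz : IsZero (∐ fun _ : Fin 0 => F) := by
      rw [IsZero.iff_id_eq_zero]
      exact Sigma.hom_ext _ _ (fun i => i.elim0)
    exact ⟨h0.iso hz⟩
  | succ d ih =>
    obtain ⟨e⟩ := hs d
    obtain ⟨e'⟩ := ih
    let c₁ : Cofan (fun _ : Fin d => F) := Cofan.mk (∐ fun _ : Fin d => F) (Sigma.ι _)
    have t₁ : IsColimit c₁ := coproductIsCoproduct _
    let c₂ : BinaryCofan F c₁.pt := (BinaryBiproduct.bicone F c₁.pt).toCocone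
    have t₂ : IsColimit c₂ := BinaryBiproduct.isColimit F c₁.pt
    have t := extendCofanIsColimit (fun _ : Fin (d + 1) => F) (c₁ := c₁) (c₂ := c₂) t₁ t₂
    have e'' : F ⊞ (∐ fun _ : Fin d => F) ≅ ∐ fun _ : Fin (d + 1) => F :=
      t.coconePointUniqueUpToIso (colimit.isColimit _)
    exact ⟨e ≪≫ biprod.mapIso (Iso.refl F) e' ≪≫ e''⟩

end Groth.Agent.H60.Dev
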