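import Groth.Prelude.Def_C1
import Groth.Prelude.Def_Cyc
import Groth.Prelude.Def_Pic
import Groth.Agent.H95.SecOrd
import Groth.Agent.H95.AssGen

set_option autoImplicit false
set_option linter.style.haveILetI false
universe u
open CategoryTheory AlgebraicGeometry TopologicalSpace Opposite

namespace Groth.Agent.H60.StubDiv_ZS

section alg
variable {R : Type*} [CommRing R] {M : Type*} [AddCommGroup M] [Module R M]

/-- Any generator of a module free on `τ` is a unit multiple of `τ`. -/
theorem exists_isUnit_smul_of_span_eq_top (τ : M) (hfree : ∀ r : R, r • τ = 0 → r = 0)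
    (hgen : ∀ m : M, ∃ r : R, m = r • τ) (t : M) (ht : Submodule.span R {t} = ⊤) :
    ∃ a : R, IsUnit a ∧ t = a • τ := by
  obtain ⟨a, ha⟩ := hgen t
  have hτ : τ ∈ Submodule.span R {t} := by rw [ht]; trivial
  obtain ⟨b, hb⟩ := Submodule.mem_span_singleton.1 hτ
  have h1 : (b * a - 1) • τ = 0 := by
    rw [sub_smul, one_smul, mul_smul, ← ha, hb, sub_self]
  have h2 : b * a = 1 := sub_eq_zero.1 (hfree _ h1)
  exact ⟨a, IsUnit.of_mul_eq_one_right b h2, ha⟩

theorem span_singleton_eq_of_smul_eq (τ : M) (hfree : ∀ r : R, r • τ = 0 → r = 0)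
    (hgen : ∀ m : M, ∃ r : R, m = r • τ) (t₁ t₀ : M) (ht₁ : Submodule.span R {t₁} = ⊤)
    (ht₀ : Submodule.span R {t₀} = ⊤) (f₁ f₀ : R) (h : f₁ • t₁ = f₀ • t₀) :
    Ideal.span {f₁} = Ideal.span {f₀} := by
  obtain ⟨a₁, ha₁, rfl⟩ := exists_isUnit_smul_of_span_eq_top τ hfree hgen t₁ ht₁
  obtain ⟨a₀, ha₀, rfl⟩ := exists_isUnit_smul_of_span_eq_top τ hfree hgen t₀ ht₀
  have h1 : (f₁ * a₁ - f₀ * a₀) • τ = 0 := by
    rw [sub_smul, mul_smul, mul_smul, h, sub_self]
  have h2 : f₁ * a₁ = f₀ * a₀ := sub_eq_zero.1 (hfree _ h1)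
  obtain ⟨u₁, rfl⟩ := ha₁
  obtain ⟨u₀, rfl⟩ := ha₀
  apply le_antisymm
  · rw [Ideal.span_singleton_le_span_singleton]
    refine ⟨(u₀ : R) * ((u₁⁻¹ : Rˣ) : R), ?_⟩
    rw [← mul_assoc, ← h2, mul_assoc, Units.mul_inv, mul_one]
  · rw [Ideal.span_singleton_le_span_singleton]
    refine ⟨(u₁ : R) * ((u₀⁻¹ : Rˣ) : R), ?_⟩
    rw [← mul_assoc, h2, mul_assoc, Units.mul_inv, mul_one]

theorem isUnit_of_smul_notMem [IsLocalRing R] (t : M) (f : R)
    (h : f • t ∉ IsLocalRing.maximalIdeal R • (⊤ : Submodule R M)) : IsUnit f := by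
  by_contra hf
  exact h (Submodule.smul_mem_smul ((IsLocalRing.mem_maximalIdeal f).2 hf) trivial)

/-- Length of `R ⧸ ker φ` over `R` equals the length of `S` over itself for `φ` surjective. -/
theorem length_quotient_ker_eq {S : Type*} [CommRing S] (φ : R →+* S)
    (hφ : Function.Surjective φ) :
    Module.length R (R ⧸ RingHom.ker φ) = Module.length S S := by
  algebraize [φ]
  have h1 : Module.length R S = Module.length S S :=
    Module.length_eq_of_surjective (S := R) (R := S) (M := S) hφ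
  rw [← h1]
  let e : (R ⧸ RingHom.ker φ) ≃ₗ[R] S :=
    { (RingHom.quotientKerEquivOfSurjective hφ).toAddEquiv with
      map_smul' := by
        intro r x
        obtain ⟨y, rfl⟩ := Ideal.Quotient.mk_surjective x
        have h1 : r • (Ideal.Quotient.mk (RingHom.ker φ) y) =
            Ideal.Quotient.mk (RingHom.ker φ) (r * y) := rfl
        change (RingHom.quotientKerEquivOfSurjective hφ) (r • Ideal.Quotient.mk _ y) =
          r • (RingHom.quotientKerEquivOfSurjective hφ) (Ideal.Quotient.mk _ y)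
        rw [h1, RingHom.quotientKerEquivOfSurjective_apply_mk,
          RingHom.quotientKerEquivOfSurjective_apply_mk, map_mul]
        rfl }
  exact e.length_eq

end alg


open Groth.Agent.H18.TensorGen (IsGen exists_isGen)

variable {X D : Scheme.{u}}

/-- (ZS) The cycle of the zero scheme of a section, computed by `zeroSectionFun` and by
`subschemeFun`. -/
theorem zeroSectionFun_eq_subschemeFun (δ : X → ℤ) (k : ℤ) (L : X.Modules)
    (hL : PicF.IsInvertible L) (s : L.presheaf.obj (Opposite.op ⊤)) (i : D ⟶ X)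
    [IsClosedImmersion i] (hD : Cyc.IsZeroSchemeOf i L s) :
    Cyc.zeroSectionFun δ k L s = Cyc.subschemeFun δ k i := by
  classical
  funext ξ
  unfold Cyc.zeroSectionFun Cyc.subschemeFun
  by_cases hk : δ ξ = k
  swap
  · rw [if_neg hk, if_neg hk]
  rw [if_pos hk, if_pos hk]
  -- a free generator of the stalk
  obtain ⟨V, τ, hξV, hτ⟩ := exists_isGen hL ξ
  set τξ := L.presheaf.germ V ξ hξV τ with hτξ
  have hfree : ∀ r : X.presheaf.stalk ξ, r • τξ = 0 → r = 0 := fun r hr =>
    Groth.Agent.H95.MeroData.germ_smul_eq_zero hτ ξ hξV r hr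
  have hgen : ∀ m : L.presheaf.stalk ξ, ∃ r : X.presheaf.stalk ξ, m = r • τξ :=
    Groth.Agent.H95.AssGen.genAt_of_isGen hτ ξ hξV
  have ht : ∃ t : L.presheaf.stalk ξ, Submodule.span (X.presheaf.stalk ξ) {t} = ⊤ := by
    refine ⟨τξ, ?_⟩
    rw [eq_top_iff]
    intro m _
    obtain ⟨r, rfl⟩ := hgen m
    exact Submodule.smul_mem _ _ (Submodule.mem_span_singleton_self _)
  rw [dif_pos ht]
  have ht₁ := Classical.choose_spec ht
  have hf : ∃ f : X.presheaf.stalk ξ,
      (L.presheaf.germ ⊤ ξ trivial) s = f • Classical.choose ht := by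
    have hmem : (L.presheaf.germ ⊤ ξ trivial) s ∈
        Submodule.span (X.presheaf.stalk ξ) {Classical.choose ht} := by rw [ht₁]; trivial
    obtain ⟨f, hf⟩ := Submodule.mem_span_singleton.1 hmem
    exact ⟨f, hf.symm⟩
  rw [dif_pos hf]
  have hf₁ := Classical.choose_spec hf
  by_cases hξ : ξ ∈ Set.range ⇑i
  · -- `ξ = i d`
    obtain ⟨d, rfl⟩ := hξ
    obtain ⟨t₀, f₀, ht₀, hs₀, hker⟩ := hD.2 d
    have hspan : Ideal.span {Classical.choose hf} = Ideal.span {f₀} :=
      span_singleton_eq_of_smul_eq τξ hfree hgen _ t₀ ht₁ ht₀ _ f₀ (hf₁.symm.trans hs₀)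
    have hinj : Function.Injective ⇑i := i.isEmbedding.injective
    have hset : {z : D | i z = i d} = {d} := by
      ext z
      simp only [Set.mem_setOf_eq, Set.mem_singleton_iff]
      exact ⟨fun h => hinj h, fun h => by rw [h]⟩
    rw [hset, finsum_mem_singleton, hspan, ← hker,
      length_quotient_ker_eq (i.stalkMap d).hom (i.stalkMap_surjective d)]
  · -- `ξ ∉ range i`
    have hne : (Submodule.Quotient.mk ((L.presheaf.germ ⊤ ξ trivial) s) : Cyc.secFibre L ξ) ≠ 0 := by
      intro h0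
      apply hξ
      rw [hD.1]
      exact h0
    have hnotMem : (Classical.choose hf) • (Classical.choose ht) ∉
        IsLocalRing.maximalIdeal (X.presheaf.stalk ξ) •
          (⊤ : Submodule (X.presheaf.stalk ξ) (L.presheaf.stalk ξ)) := by
      rw [← hf₁]
      intro hmem
      exact hne ((Submodule.Quotient.mk_eq_zero _).2 hmem)
    have hunit : IsUnit (Classical.choose hf) := isUnit_of_smul_notMem _ _ hnotMem
    have htop : Ideal.span {Classical.choose hf} = (⊤ : Ideal (X.presheaf.stalk ξ)) :=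
      Ideal.span_singleton_eq_top.2 hunit
    have hsub : Subsingleton (↥(X.presheaf.stalk ξ) ⧸ Ideal.span {Classical.choose hf}) := by
      rw [htop]
      exact Ideal.Quotient.subsingleton_iff.2 rfl
    have hlen : Module.length (X.presheaf.stalk ξ)
        (↥(X.presheaf.stalk ξ) ⧸ Ideal.span {Classical.choose hf}) = 0 :=
      Module.length_eq_zero
    have hset : {z : D | i z = ξ} = ∅ := by
      ext z
      simp only [Set.mem_setOf_eq, Set.mem_empty_iff_false, iff_false]
      intro h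
      exact hξ ⟨z, h⟩
    rw [hlen, hset, finsum_mem_empty]
    rfl

end Groth.Agent.H60.StubDiv_ZS
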