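import Mathlib
import Groth.Agent.H44.IrrN1

/-!
# (CLIFT) for helper38's S0420 squad: geometric points near the generic point lift along a dominant
finite type morphism `Spec A₁ ⟶ W ⊆ Y`
-/

set_option autoImplicit false
set_option linter.style.haveILetI false
universe u
open TensorProduct AlgebraicGeometry CategoryTheory Limits

namespace Groth.Agent.H60.ConnCLIFT

/-- a morphism from an affine scheme landing in an affine open factors through `fromSpec` -/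
theorem exists_specMap_fromSpec {Y : Scheme.{u}} {W : Y.Opens} (hW : IsAffineOpen W)
    {K : CommRingCat.{u}} (q : Spec K ⟶ Y) (hq : ∀ t, q t ∈ W) :
    ∃ ψ : Γ(Y, W) ⟶ K, Spec.map ψ ≫ hW.fromSpec = q := by
  have hr : Set.range q ⊆ Set.range W.ι := by
    rintro _ ⟨t, rfl⟩
    rw [Scheme.Opens.range_ι]
    exact hq t
  have hl : IsOpenImmersion.lift W.ι q hr ≫ W.ι = q := IsOpenImmersion.lift_fac _ _ _
  refine ⟨Spec.preimage (IsOpenImmersion.lift W.ι q hr ≫ hW.isoSpec.hom), ?_⟩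
  rw [Spec.map_preimage, Category.assoc, IsAffineOpen.isoSpec_hom_fromSpec, hl]

/-- points of the spectrum of a field: membership in a basic open of the image point -/
theorem specMap_mem_basicOpen_iff {R : CommRingCat.{u}} {K : Type u} [Field K]
    (ψ : R ⟶ CommRingCat.of K) (a : R) (t : Spec (CommRingCat.of K)) :
    (Spec.map ψ) t ∈ PrimeSpectrum.basicOpen a ↔ ψ.hom a ≠ 0 := by
  have h3 : (t : PrimeSpectrum K).asIdeal = ⊥ :=
    @Ideal.eq_bot_of_prime K _ _ (t : PrimeSpectrum K).isPrime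
  show ψ.hom a ∉ (t : PrimeSpectrum K).asIdeal ↔ _
  rw [h3, Ideal.mem_bot]

/-- (CLIFT) -/
theorem exists_lift_geometric_point {Y : Scheme.{u}} [IrreducibleSpace ↑Y] {W : Y.Opens}
    (hW : IsAffineOpen W) (hηW : genericPoint ↑Y ∈ W) {A₁ : CommRingCat.{u}} [IsDomain A₁]
    (φ : Γ(Y, W) ⟶ A₁) (hφ : φ.hom.FiniteType)
    (hker : ∀ P : Ideal Γ(Y, W), P.IsPrime → RingHom.ker φ.hom ≤ P)
    (V₁ : (Spec A₁).Opens) (hV₁ : (V₁ : Set ↑(Spec A₁)).Nonempty) :
    ∃ V : Y.Opens, genericPoint ↑Y ∈ V ∧ ∀ (K : Type u) [Field K] [IsAlgClosed K]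
      (q : Spec (CommRingCat.of K) ⟶ Y), (∀ t, q t ∈ V) →
      ∃ q₁ : Spec (CommRingCat.of K) ⟶ Spec A₁, (∀ t, q₁ t ∈ V₁) ∧
        q₁ ≫ Spec.map φ ≫ hW.fromSpec = q := by
  classical
  -- a basic open `D(a₁) ⊆ V₁`, `a₁ ≠ 0`
  obtain ⟨x, hx⟩ := hV₁
  obtain ⟨_, ⟨a₁, rfl⟩, hxa, hsub⟩ :=
    PrimeSpectrum.isTopologicalBasis_basic_opens.exists_subset_of_mem_open hx V₁.2
  have ha₁ : a₁ ≠ 0 := by
    rintro rfl
    exact hxa (x : PrimeSpectrum A₁).asIdeal.zero_mem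
  -- the domain `A' = Γ(Y, W) ⧸ ker φ ⊆ A₁`
  haveI hkp : (RingHom.ker φ.hom).IsPrime := RingHom.ker_isPrime φ.hom
  letI : Algebra (Γ(Y, W) ⧸ RingHom.ker φ.hom) A₁ := (RingHom.kerLift φ.hom).toAlgebra
  have hinj : Function.Injective (algebraMap (Γ(Y, W) ⧸ RingHom.ker φ.hom) A₁) :=
    RingHom.kerLift_injective φ.hom
  haveI : Algebra.FiniteType (Γ(Y, W) ⧸ RingHom.ker φ.hom) A₁ := by
    have h1 : ((RingHom.kerLift φ.hom).comp (Ideal.Quotient.mk (RingHom.ker φ.hom))).FiniteType := by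
      have h2 : (RingHom.kerLift φ.hom).comp (Ideal.Quotient.mk (RingHom.ker φ.hom)) = φ.hom := by
        ext r
        exact RingHom.kerLift_mk φ.hom r
      rw [h2]
      exact hφ
    exact RingHom.FiniteType.of_comp_finiteType h1
  obtain ⟨a', ha', hext⟩ :=
    Groth.Agent.H44.IrrN1.exists_extension_ne_zero hinj a₁ ha₁
  obtain ⟨a, rfl⟩ := Ideal.Quotient.mk_surjective a'
  have haker : a ∉ RingHom.ker φ.hom := fun h => ha' (Ideal.Quotient.eq_zero_iff_mem.mpr h)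
  refine ⟨Y.basicOpen a, ?_, ?_⟩
  · -- the basic open is nonempty, hence contains the generic point
    have h1 : hW.fromSpec ⟨RingHom.ker φ.hom, hkp⟩ ∈ Y.basicOpen a := by
      have h2 : (⟨RingHom.ker φ.hom, hkp⟩ : PrimeSpectrum Γ(Y, W)) ∈
          hW.fromSpec ⁻¹ᵁ Y.basicOpen a := by
        rw [hW.fromSpec_preimage_basicOpen]
        exact haker
      exact h2
    exact ((genericPoint_spec ↑Y).mem_open_set_iff (Y.basicOpen a).2).mpr
      ⟨_, Set.mem_univ _, h1⟩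
  · intro K _ _ q hq
    obtain ⟨ψ, hψ⟩ := exists_specMap_fromSpec hW q (fun t => Y.basicOpen_le a (hq t))
    -- `ψ` kills `ker φ`
    have hψker : RingHom.ker φ.hom ≤ RingHom.ker ψ.hom :=
      hker _ (RingHom.ker_isPrime ψ.hom)
    -- `ψ a ≠ 0`
    have hψa : ψ.hom a ≠ 0 := by
      have t : Spec (CommRingCat.of K) := IsLocalRing.closedPoint K
      have h1 : q t ∈ Y.basicOpen a := hq t
      rw [← hψ] at h1
      have h2 : (Spec.map ψ) t ∈ hW.fromSpec ⁻¹ᵁ Y.basicOpen a := h1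
      rw [hW.fromSpec_preimage_basicOpen] at h2
      exact (specMap_mem_basicOpen_iff ψ a t).mp h2
    let ψ' : Γ(Y, W) ⧸ RingHom.ker φ.hom →+* K :=
      Ideal.Quotient.lift (RingHom.ker φ.hom) ψ.hom (fun r hr => RingHom.mem_ker.mp (hψker hr))
    have hψ'mk : ∀ r, ψ' (Ideal.Quotient.mk _ r) = ψ.hom r := fun r =>
      Ideal.Quotient.lift_mk _ _ _
    obtain ⟨ψ₁, hψ₁, hψ₁a⟩ := hext K ψ' (by rw [hψ'mk]; exact hψa)
    have hcomp : φ ≫ CommRingCat.ofHom ψ₁ = ψ := by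
      ext r
      have h1 := RingHom.congr_fun hψ₁ (Ideal.Quotient.mk _ r)
      have h2 : algebraMap (Γ(Y, W) ⧸ RingHom.ker φ.hom) A₁ (Ideal.Quotient.mk _ r) = φ.hom r :=
        RingHom.kerLift_mk φ.hom r
      rw [RingHom.comp_apply, h2] at h1
      rw [CommRingCat.comp_apply]
      exact h1.trans (hψ'mk r)
    refine ⟨Spec.map (CommRingCat.ofHom ψ₁), fun t => hsub ?_, ?_⟩
    · exact (specMap_mem_basicOpen_iff (CommRingCat.ofHom ψ₁) a₁ t).mpr hψ₁a
    · rw [← Category.assoc, ← Spec.map_comp, hcomp, hψ]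

end Groth.Agent.H60.ConnCLIFT
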