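import Mathlib
import Groth.Prelude.Def_ActBC

/-!
# (B2) for helper63's S3035-S3038 squad: kernels commute with base change
-/

set_option autoImplicit false
universe u
open CategoryTheory CategoryTheory.Limits AlgebraicGeometry MonoidalCategory
  CartesianMonoidalCategory MonObj GrpObj

namespace Groth.Agent.H60.ArtB2

/-- the base change of a morphism over `S` is a pullback of it -/
theorem isPullback_map_left {S S' : Scheme.{u}} {X Y : Over S} (f : X ⟶ Y) (h : S' ⟶ S) :
    IsPullback ((Over.pullback h).map f).left (pullback.fst X.hom h) (pullback.fst Y.hom h)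
      f.left := by
  have t : IsPullback (pullback.snd Y.hom h) (pullback.fst Y.hom h) h Y.hom :=
    (IsPullback.of_hasPullback Y.hom h).flip
  have s : IsPullback (((Over.pullback h).map f).left ≫ pullback.snd Y.hom h)
      (pullback.fst X.hom h) h (f.left ≫ Y.hom) := by
    have e1 : ((Over.pullback h).map f).left ≫ pullback.snd Y.hom h = pullback.snd X.hom h :=
      Over.w ((Over.pullback h).map f)
    rw [e1, Over.w f]
    exact (IsPullback.of_hasPullback X.hom h).flip
  exact IsPullback.of_right s (ActBC.pullback_map_left_fst h f) t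

/-- the unit section of the base-changed group lies over the unit section -/
theorem unit_left_fst {S S' : Scheme.{u}} (b : S' ⟶ S) {H : Over S} [GrpObj H] :
    letI : GrpObj ((Over.pullback b).obj H) := Functor.grpObjObj
    (η[(Over.pullback b).obj H] : 𝟙_ (Over S') ⟶ (Over.pullback b).obj H).left ≫
      pullback.fst H.hom b = b ≫ (η[H] : 𝟙_ (Over S) ⟶ H).left := by
  letI : GrpObj ((Over.pullback b).obj H) := Functor.grpObjObj
  have h1 : (η[(Over.pullback b).obj H] : 𝟙_ (Over S') ⟶ (Over.pullback b).obj H) =
      Functor.LaxMonoidal.ε (Over.pullback b) ≫ (Over.pullback b).map η[H] := rfl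
  rw [h1, Over.comp_left, Category.assoc, ActBC.pullback_map_left_fst, ← Category.assoc]
  congr 1
  rw [Over.ε_pullback_left, IsIso.inv_comp_eq]
  have h2 := pullback.condition (f := 𝟙 S) (g := b)
  rw [Category.comp_id] at h2
  exact h2

/-- (B2) -/
theorem kernel_baseChange {S S' : Scheme.{u}} (b : S' ⟶ S) {G H : Over S} [GrpObj H]
    (u : G ⟶ H) (P : MorphismProperty Scheme.{u}) [P.IsStableUnderBaseChange]
    (h : P (pullback.snd u.left (η[H] : 𝟙_ (Over S) ⟶ H).left)) :
    letI : GrpObj ((Over.pullback b).obj H) := Functor.grpObjObj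
    P (pullback.snd ((Over.pullback b).map u).left
      (η[(Over.pullback b).obj H] : 𝟙_ (Over S') ⟶ (Over.pullback b).obj H).left) := by
  letI : GrpObj ((Over.pullback b).obj H) := Functor.grpObjObj
  let e : 𝟙_ (Over S) ⟶ H := η[H]
  let e' : 𝟙_ (Over S') ⟶ (Over.pullback b).obj H := η[(Over.pullback b).obj H]
  let u' := (Over.pullback b).map u
  have hcompat : e'.left ≫ pullback.fst H.hom b = b ≫ e.left := unit_left_fst b
  have A : IsPullback (pullback.fst u'.left e'.left) (pullback.snd u'.left e'.left) u'.left e'.left :=
    IsPullback.of_hasPullback _ _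
  have B : IsPullback u'.left (pullback.fst G.hom b) (pullback.fst H.hom b) u.left :=
    isPullback_map_left u b
  have C : IsPullback (pullback.fst u.left e.left) (pullback.snd u.left e.left) u.left e.left :=
    IsPullback.of_hasPullback _ _
  -- paste `A` and `B`
  have AB : IsPullback (pullback.fst u'.left e'.left ≫ pullback.fst G.hom b)
      (pullback.snd u'.left e'.left) u.left (e'.left ≫ pullback.fst H.hom b) :=
    (A.flip.paste_vert B).flip
  rw [hcompat] at AB
  let l : pullback u'.left e'.left ⟶ pullback u.left e.left :=
    pullback.lift (pullback.fst u'.left e'.left ≫ pullback.fst G.hom b)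
      (pullback.snd u'.left e'.left ≫ b) (by rw [AB.w, Category.assoc])
  have hl1 : l ≫ pullback.fst u.left e.left =
      pullback.fst u'.left e'.left ≫ pullback.fst G.hom b := pullback.lift_fst _ _ _
  have hl2 : l ≫ pullback.snd u.left e.left = pullback.snd u'.left e'.left ≫ b :=
    pullback.lift_snd _ _ _
  rw [← hl1] at AB
  have D : IsPullback l (pullback.snd u'.left e'.left) (pullback.snd u.left e.left) b :=
    IsPullback.of_right AB hl2 C
  exact MorphismProperty.of_isPullback (P := P) D h

end Groth.Agent.H60.ArtB2
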