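import Mathlib

/-!
# (DQ) for helper63's S5339/S5340 squad: isolated points descend along a field extension
-/

set_option autoImplicit false
universe u
open CategoryTheory CategoryTheory.Limits AlgebraicGeometry

namespace Groth.Agent.H60.ArtDQ

theorem isOpen_singleton_of_baseChange {K L : Type u} [Field K] [Field L] {X : Scheme.{u}}
    (f : X ⟶ Spec (CommRingCat.of K))
    (j : Spec (CommRingCat.of L) ⟶ Spec (CommRingCat.of K))
    (N : (pullback f j).Opens) (hN : LocallyOfFiniteType (N.ι ≫ pullback.snd f j))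
    (hN' : LocallyQuasiFinite (N.ι ≫ pullback.snd f j))
    (x' : ↥(pullback f j)) (hx' : x' ∈ N) :
    IsOpen ({(pullback.fst f j) x'} : Set X) := by
  have hdisc := (N.ι ≫ pullback.snd f j).isDiscrete_preimage_singleton
    ((N.ι ≫ pullback.snd f j) ⟨x', hx'⟩)
  have huniv : (N.ι ≫ pullback.snd f j) ⁻¹' {(N.ι ≫ pullback.snd f j) ⟨x', hx'⟩} = Set.univ := by
    ext z
    simp only [Set.mem_preimage, Set.mem_singleton_iff, Set.mem_univ, iff_true]
    exact Subsingleton.elim _ _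
  rw [huniv, isDiscrete_univ_iff] at hdisc
  have h1 : IsOpen ({⟨x', hx'⟩} : Set ↥(N : Scheme)) := isOpen_discrete _
  have h2 : IsOpen (N.ι '' ({⟨x', hx'⟩} : Set ↥(N : Scheme))) :=
    N.ι.isOpenEmbedding.isOpenMap _ h1
  have h3 : IsOpen (pullback.fst f j '' (N.ι '' ({⟨x', hx'⟩} : Set ↥(N : Scheme)))) :=
    (pullback.fst f j).isOpenMap _ h2
  have e : ({(pullback.fst f j) x'} : Set X) =
      pullback.fst f j '' (N.ι '' ({⟨x', hx'⟩} : Set ↥(N : Scheme))) := by
    ext z
    constructor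
    · rintro rfl
      exact ⟨x', ⟨⟨x', hx'⟩, rfl, rfl⟩, rfl⟩
    · rintro ⟨_, ⟨w, hw, rfl⟩, rfl⟩
      have hw' : w = ⟨x', hx'⟩ := hw
      rw [hw']
      rfl
  rw [e]
  exact h3

end Groth.Agent.H60.ArtDQ
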