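import Mathlib
import Groth.Agent.H63.OrbitProper
import Groth.Agent.H63.GrpKernel
import Groth.Agent.H37.GrpImage
import Groth.Agent.H8.ProperDescent
import Groth.Agent.S5331
import Groth.Agent.H93.FlatOpenRange

/-!
# (K1) for helper63's S3035-S3038 squad: a quasi-compact homomorphism of locally finite type group
schemes over an algebraically closed field with proper kernel is proper
-/

set_option autoImplicit false
set_option linter.style.haveILetI false
universe u
open CategoryTheory CategoryTheory.Limits AlgebraicGeometry MonoidalCategory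
  CartesianMonoidalCategory MonObj GrpObj

namespace Groth.Agent.H60.ArtK1

section

variable {S : Scheme.{u}}

/-- the kernel of `f'` is the preimage under `r` of the kernel of `u` when `f' ≫ i = r ≫ u` with
`i` a monomorphism of groups -/
theorem isPullback_kernel {Gr G H H' : Over S} [GrpObj H] [GrpObj H'] (r : Gr ⟶ G) (u : G ⟶ H)
    (f' : Gr ⟶ H') (i : H' ⟶ H) [IsMonHom i] [Mono i] (hfi : f' ≫ i = r ≫ u)
    (hw : (pullback.fst f' η[H'] ≫ r) ≫ u = toUnit (pullback f' η[H']) ≫ η[H]) :
    IsPullback (pullback.lift (pullback.fst f' η[H'] ≫ r) (toUnit (pullback f' η[H'])) hw)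
      (pullback.fst f' η[H']) (pullback.fst u η[H]) r := by
  refine Groth.Agent.H40.FpqcFam.isPullback_of_pts (pullback.lift_fst _ _ _) ?_
  intro T x y hxy
  have hy : y ≫ f' = toUnit T ≫ η[H'] := by
    rw [← cancel_mono i, Category.assoc, hfi, ← Category.assoc, ← hxy, Category.assoc,
      pullback.condition, ← Category.assoc, Category.assoc (toUnit T), IsMonHom.one_hom]
    congr 1
    exact toUnit_unique _ _
  refine ⟨pullback.lift y (toUnit T) hy, ⟨?_, pullback.lift_fst _ _ _⟩, ?_⟩
  · apply pullback.hom_ext
    · rw [Category.assoc, pullback.lift_fst, ← Category.assoc, pullback.lift_fst, hxy]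
    · exact toUnit_unique _ _
  · rintro q ⟨-, hq2⟩
    apply pullback.hom_ext
    · rw [hq2, pullback.lift_fst]
    · exact toUnit_unique _ _

end

/-- (K1) -/
theorem isProper_hom_of_isProper_kernel {K : Type u} [Field K] [IsAlgClosed K]
    {G H : Over (Spec (CommRingCat.of K))} [GrpObj G] [GrpObj H] [LocallyOfFiniteType G.hom]
    [LocallyOfFiniteType H.hom] (u : G ⟶ H) [IsMonHom u] [QuasiCompact u.left]
    (hker : IsProper (pullback.snd u.left (η[H] : 𝟙_ (Over (Spec (CommRingCat.of K))) ⟶ H).left)) :
    IsProper u.left := by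
  obtain ⟨Gr, str, r, hmon, hrcl, hrs, hred⟩ :=
    Groth.Agent.H63.OrbitProper.exists_reduced_subgroup G
  haveI : LocallyOfFiniteType Gr.hom := by rw [← Over.w r]; infer_instance
  haveI : QuasiCompact (r ≫ u).left := by rw [Over.comp_left]; infer_instance
  obtain ⟨H', strH', i, f', himon, hf'mon, hfi, hicl, hker0, hf'qc, hf'surj⟩ :=
    Groth.Agent.H37.GrpImage.exists_image_grp K Gr H (r ≫ u)
  haveI : IsSchemeTheoreticallyDominant f'.left := ⟨hker0⟩
  haveI : IsReduced H'.left := IsSchemeTheoreticallyDominant.isReduced f'.left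
  haveI : LocallyOfFiniteType H'.hom := by rw [← Over.w i]; infer_instance
  -- flatness
  have hflat : Flat f'.left := Groth.Agent.H93.FlatOpenRange.flat_of_isOpen_range Gr H' f' (by
    have h1 : Set.range f'.left = Set.univ := Set.range_eq_univ.mpr hf'surj.surj
    rw [h1]
    exact isOpen_univ)
  -- the kernel of `f'`
  haveI : Mono i.left := inferInstance
  haveI : Mono i := Over.mono_of_mono_left i
  have hN : AlgGrp.IsKernel (pullback.fst f' η[H']) f' := by
    have h1 := IsPullback.of_hasPullback f' η[H']
    rwa [toUnit_unique (pullback.snd f' η[H']) (toUnit (pullback f' η[H']))] at h1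
  have hK := Groth.Agent.H63.GrpKernel.kernel_sq f' (pullback.fst f' η[H']) hN
  -- the kernel of `u` is proper
  have hP := (IsPullback.of_hasPullback u η[H]).map (Over.forget _)
  have hsnd : (pullback.snd u η[H]).left =
      hP.isoPullback.hom ≫ pullback.snd u.left (η[H] : 𝟙_ (Over (Spec (CommRingCat.of K))) ⟶ H).left :=
    (hP.isoPullback_hom_snd).symm
  haveI : IsProper (pullback.snd u η[H]).left := by
    rw [hsnd]
    haveI h1 : IsProper hP.isoPullback.hom := inferInstance
    exact MorphismProperty.comp_mem (W := @IsProper) _ _ h1 hker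
  haveI : IsProper (pullback u η[H]).hom := by
    rw [← Over.w (pullback.snd u η[H])]
    exact inferInstanceAs (IsProper ((pullback.snd u η[H]).left ≫ 𝟙 _))
  -- the kernel of `f'` is proper
  have hw : (pullback.fst f' η[H'] ≫ r) ≫ u = toUnit (pullback f' η[H']) ≫ η[H] := by
    rw [Category.assoc, ← hfi, ← Category.assoc, pullback.condition, Category.assoc,
      IsMonHom.one_hom]
    congr 1
    exact toUnit_unique _ _
  have hc := (isPullback_kernel r u f' i hfi hw).map (Over.forget _)
  haveI : IsClosedImmersion (pullback.lift (pullback.fst f' η[H'] ≫ r)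
      (toUnit (pullback f' η[H'])) hw).left :=
    MorphismProperty.of_isPullback (P := @IsClosedImmersion) hc.flip hrcl
  haveI : IsProper (pullback f' η[H']).hom := by
    rw [← Over.w (pullback.lift (pullback.fst f' η[H'] ≫ r) (toUnit (pullback f' η[H'])) hw)]
    infer_instance
  haveI : IsProper (fst Gr (pullback f' η[H'])).left :=
    inferInstanceAs (IsProper (pullback.fst Gr.hom (pullback f' η[H']).hom))
  -- descent
  have hK' : IsPullback (fst Gr (pullback f' η[H'])).left
      (fst Gr (pullback f' η[H']) * (snd Gr (pullback f' η[H']) ≫ pullback.fst f' η[H'])).left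
      f'.left f'.left := hK.map (Over.forget _)
  haveI : IsProper f'.left :=
    MorphismProperty.of_isPullback_of_descendsAlong (P := @IsProper)
      (Q := @Surjective ⊓ @Flat ⊓ @QuasiCompact) hK' ⟨⟨hf'surj, hflat⟩, hf'qc⟩ inferInstance
  haveI : UniversallyClosed (r.left ≫ u.left) := by
    rw [← Over.comp_left, ← hfi, Over.comp_left]; infer_instance
  haveI : UniversallyClosed u.left := UniversallyClosed.of_comp_surjective r.left _
  haveI : IsSeparated G.hom := Groth.Agent.S5331.result (Spec (CommRingCat.of K)) G
  haveI : IsSeparated (u.left ≫ H.hom) := by rw [Over.w]; infer_instance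
  haveI : IsSeparated u.left := IsSeparated.of_comp _ H.hom
  haveI : LocallyOfFiniteType (u.left ≫ H.hom) := by rw [Over.w]; infer_instance
  haveI : LocallyOfFiniteType u.left := locallyOfFiniteType_of_comp _ H.hom
  exact {}

end Groth.Agent.H60.ArtK1
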