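import Mathlib

/-!
# (T1'), (T2), (T3) for helper63's S3035-S3038 squad: topological descent of universal
closedness/openness.
-/

set_option autoImplicit false
universe u
open CategoryTheory CategoryTheory.Limits AlgebraicGeometry

namespace Groth.Agent.H60.ArtT

set_option backward.isDefEq.respectTransparency.types false in
/-- In a cartesian square whose base `cY` is surjective, `f` is a closed map as soon as `cY` and the
base change `f'` are closed maps after every base change. Core computation: one base change. -/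
theorem isClosedMap_of_isPullback_aux {X Y X' Y' : Scheme.{u}} {f : X ⟶ Y} {f' : X' ⟶ Y'}
    {cX : X' ⟶ X} {cY : Y' ⟶ Y} (sq : IsPullback cX f' f cY) [Surjective cY]
    [UniversallyClosed cY] [UniversallyClosed f'] {XT T : Scheme.{u}} (i₁ : XT ⟶ X) (i₂ : T ⟶ Y)
    (fT : XT ⟶ T) (H : IsPullback fT i₁ i₂ f) : IsClosedMap fT := by
  let p1 : pullback i₂ cY ⟶ T := pullback.fst i₂ cY
  let p2 : pullback i₂ cY ⟶ Y' := pullback.snd i₂ cY
  let q1 : pullback fT p1 ⟶ XT := pullback.fst fT p1
  let q2 : pullback fT p1 ⟶ pullback i₂ cY := pullback.snd fT p1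
  have S1 : IsPullback q1 q2 fT p1 := IsPullback.of_hasPullback fT p1
  have Big : IsPullback q2 (q1 ≫ i₁) (p1 ≫ i₂) f := S1.flip.paste_vert H
  have hc : p1 ≫ i₂ = p2 ≫ cY := pullback.condition
  have hw : (q1 ≫ i₁) ≫ f = (q2 ≫ p2) ≫ cY := by
    rw [Category.assoc q2, ← hc]
    exact Big.w.symm
  let l : pullback fT p1 ⟶ X' := sq.lift (q1 ≫ i₁) (q2 ≫ p2) hw
  have hl1 : l ≫ cX = q1 ≫ i₁ := sq.lift_fst _ _ _
  have hl2 : l ≫ f' = q2 ≫ p2 := sq.lift_snd _ _ _
  have Big' : IsPullback (l ≫ cX) q2 f (p2 ≫ cY) := by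
    rw [hl1, ← hc]
    exact Big.flip
  have S2 : IsPullback l q2 f' p2 := IsPullback.of_right Big' hl2 sq
  have hq2 : UniversallyClosed q2 :=
    MorphismProperty.of_isPullback (P := @UniversallyClosed) S2 inferInstance
  have hp1s : Surjective p1 :=
    MorphismProperty.pullback_fst (P := @Surjective) i₂ cY inferInstance
  have hp1c : UniversallyClosed p1 := inferInstance
  intro V hV
  have h1 : q2 '' (q1 ⁻¹' V) = p1 ⁻¹' (fT '' V) :=
    Scheme.image_preimage_eq_of_isPullback S1 V
  have h2 : (fT '' V : Set T) = p1 '' (q2 '' (q1 ⁻¹' V)) := by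
    rw [h1, Set.image_preimage_eq _ hp1s.surj]
  rw [h2]
  exact p1.isClosedMap _ (q2.isClosedMap _ (hV.preimage q1.continuous))

/-- (T1') -/
theorem universallyClosed_of_isPullback {X Y X' Y' : Scheme.{u}} {f : X ⟶ Y} {f' : X' ⟶ Y'}
    {cX : X' ⟶ X} {cY : Y' ⟶ Y} (sq : IsPullback cX f' f cY) [Surjective cY]
    [UniversallyClosed cY] [UniversallyClosed f'] : UniversallyClosed f := by
  constructor
  intro XT T i₁ i₂ fT H
  exact isClosedMap_of_isPullback_aux sq i₁ i₂ fT H

set_option backward.isDefEq.respectTransparency.types false in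
/-- the open analogue of the core computation -/
theorem isOpenMap_of_isPullback_aux {X Y X' Y' : Scheme.{u}} {f : X ⟶ Y} {f' : X' ⟶ Y'}
    {cX : X' ⟶ X} {cY : Y' ⟶ Y} (sq : IsPullback cX f' f cY) [Surjective cY]
    [UniversallyOpen cY] [UniversallyOpen f'] {XT T : Scheme.{u}} (i₁ : XT ⟶ X) (i₂ : T ⟶ Y)
    (fT : XT ⟶ T) (H : IsPullback fT i₁ i₂ f) : IsOpenMap fT := by
  let p1 : pullback i₂ cY ⟶ T := pullback.fst i₂ cY
  let p2 : pullback i₂ cY ⟶ Y' := pullback.snd i₂ cY
  let q1 : pullback fT p1 ⟶ XT := pullback.fst fT p1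
  let q2 : pullback fT p1 ⟶ pullback i₂ cY := pullback.snd fT p1
  have S1 : IsPullback q1 q2 fT p1 := IsPullback.of_hasPullback fT p1
  have Big : IsPullback q2 (q1 ≫ i₁) (p1 ≫ i₂) f := S1.flip.paste_vert H
  have hc : p1 ≫ i₂ = p2 ≫ cY := pullback.condition
  have hw : (q1 ≫ i₁) ≫ f = (q2 ≫ p2) ≫ cY := by
    rw [Category.assoc q2, ← hc]
    exact Big.w.symm
  let l : pullback fT p1 ⟶ X' := sq.lift (q1 ≫ i₁) (q2 ≫ p2) hw
  have hl1 : l ≫ cX = q1 ≫ i₁ := sq.lift_fst _ _ _
  have hl2 : l ≫ f' = q2 ≫ p2 := sq.lift_snd _ _ _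
  have Big' : IsPullback (l ≫ cX) q2 f (p2 ≫ cY) := by
    rw [hl1, ← hc]
    exact Big.flip
  have S2 : IsPullback l q2 f' p2 := IsPullback.of_right Big' hl2 sq
  have hq2 : UniversallyOpen q2 :=
    MorphismProperty.of_isPullback (P := @UniversallyOpen) S2 inferInstance
  have hp1s : Surjective p1 :=
    MorphismProperty.pullback_fst (P := @Surjective) i₂ cY inferInstance
  have hp1c : UniversallyOpen p1 := inferInstance
  intro V hV
  have h1 : q2 '' (q1 ⁻¹' V) = p1 ⁻¹' (fT '' V) :=
    Scheme.image_preimage_eq_of_isPullback S1 V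
  have h2 : (fT '' V : Set T) = p1 '' (q2 '' (q1 ⁻¹' V)) := by
    rw [h1, Set.image_preimage_eq _ hp1s.surj]
  rw [h2]
  exact p1.isOpenMap _ (q2.isOpenMap _ (hV.preimage q1.continuous))

/-- (T1) (also requested from helper22; included for completeness) -/
theorem universallyOpen_of_isPullback {X Y X' Y' : Scheme.{u}} {f : X ⟶ Y} {f' : X' ⟶ Y'}
    {cX : X' ⟶ X} {cY : Y' ⟶ Y} (sq : IsPullback cX f' f cY) [Surjective cY] [UniversallyOpen cY]
    [UniversallyOpen f'] : UniversallyOpen f := by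
  constructor
  intro XT T i₁ i₂ fT H
  exact isOpenMap_of_isPullback_aux sq i₁ i₂ fT H

set_option backward.isDefEq.respectTransparency.types false in
/-- (T2) -/
theorem universallyOpen_of_comp_surjective {X Y Z : Scheme.{u}} (r : X ⟶ Y) (f : Y ⟶ Z)
    [Surjective r] [UniversallyOpen (r ≫ f)] : UniversallyOpen f := by
  constructor
  intro X' Y' i₁ i₂ f' H
  have h1 : IsOpenMap (pullback.fst i₁ r ≫ f') :=
    UniversallyOpen.universally_isOpenMap _ _ _
      ((IsPullback.of_hasPullback i₁ r).paste_horiz H)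
  have hs : Function.Surjective (pullback.fst i₁ r) :=
    (MorphismProperty.pullback_fst (P := @Surjective) i₁ r inferInstance).1
  intro K hK
  have h2 : (f' '' K : Set Y') = (pullback.fst i₁ r ≫ f') '' ((pullback.fst i₁ r) ⁻¹' K) := by
    rw [Scheme.Hom.comp_base, TopCat.coe_comp, Set.image_comp, Set.image_preimage_eq _ hs]
  rw [h2]
  exact h1 _ (hK.preimage (pullback.fst i₁ r).continuous)

/-- (T3) -/
theorem universallyOpen_of_isClosedImmersion {X Y : Scheme.{u}} (j : X ⟶ Y) [IsClosedImmersion j]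
    (h : IsOpen (Set.range j)) : UniversallyOpen j := by
  constructor
  intro X' Y' i₁ i₂ j' H
  have hj' : IsClosedImmersion j' :=
    MorphismProperty.of_isPullback (P := @IsClosedImmersion) H.flip inferInstance
  have hr : Set.range j' = i₂ ⁻¹' Set.range j := by
    have h1 := Scheme.image_preimage_eq_of_isPullback H.flip (Set.univ : Set X)
    rw [Set.preimage_univ, Set.image_univ, Set.image_univ] at h1
    exact h1
  have hopen : IsOpen (Set.range j') := by
    rw [hr]
    exact h.preimage i₂.continuous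
  exact (Topology.IsOpenEmbedding.mk j'.isClosedEmbedding.isEmbedding hopen).isOpenMap

end Groth.Agent.H60.ArtT
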