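import Mathlib
import Groth.Prelude.Def_BlowUp2
import Groth.Agent.S7894
import Groth.Agent.S7927
import Groth.Agent.H22.FB_AFF

/-!
# Blow-ups glue (piece (GLUEBU) for helper95, S8859)
-/

set_option autoImplicit false
set_option linter.style.haveILetI false
universe u
open CategoryTheory CategoryTheory.Limits AlgebraicGeometry

namespace Groth.Agent.H60.BUEX_GLUEBU

/-- Uniqueness of blow-ups. -/
theorem UI {X B₁ B₂ : Scheme.{u}} (I : X.IdealSheafData) (b₁ : B₁ ⟶ X) (b₂ : B₂ ⟶ X)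
    (h₁ : BlowUp.IsBlowUp b₁ I) (h₂ : BlowUp.IsBlowUp b₂ I) (l : B₁ ⟶ B₂) (hl : l ≫ b₂ = b₁) :
    IsIso l := by
  obtain ⟨k, hk, -⟩ := h₁.2 B₂ b₂ h₂.1
  have hk' : k ≫ b₁ = b₂ := hk
  have h1 : l ≫ k = 𝟙 B₁ := by
    obtain ⟨_, -, hu⟩ := h₁.2 B₁ b₁ h₁.1
    rw [hu (l ≫ k) (show (l ≫ k) ≫ b₁ = b₁ by rw [Category.assoc, hk', hl]),
      hu (𝟙 B₁) (Category.id_comp _)]
  have h2 : k ≫ l = 𝟙 B₂ := by
    obtain ⟨_, -, hu⟩ := h₂.2 B₂ b₂ h₂.1
    rw [hu (k ≫ l) (show (k ≫ l) ≫ b₂ = b₂ by rw [Category.assoc, hl, hk']),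
      hu (𝟙 B₂) (Category.id_comp _)]
  exact ⟨k, h1, h2⟩

/-- Blow-ups commute with flat base change (pullback square form). -/
theorem BCO {U V B B' : Scheme.{u}} (J : V.IdealSheafData) (j : U ⟶ V) [Flat j]
    (b : B ⟶ V) (hb : BlowUp.IsBlowUp b J) (b' : B' ⟶ U) (hb' : BlowUp.IsBlowUp b' (J.comap j))
    (l : B' ⟶ B) (hl : l ≫ b = b' ≫ j) : IsPullback l b' b j := by
  have h1 := Groth.Agent.S7927.isBlowUp_pullback_of_flat b j J hb
  haveI : IsIso (pullback.lift l b' hl) :=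
    UI (J.comap j) b' (pullback.snd b j) hb' h1 (pullback.lift l b' hl) (pullback.lift_snd _ _ _)
  exact IsPullback.of_iso_pullback ⟨hl⟩ (asIso (pullback.lift l b' hl))
    (pullback.lift_fst _ _ _) (pullback.lift_snd _ _ _)

section glue

variable (Y : Scheme.{u}) (I : Y.IdealSheafData)
  (B : Y.affineOpens → Scheme.{u}) (b : ∀ U : Y.affineOpens, B U ⟶ U.1.toScheme)
  (hB : ∀ U : Y.affineOpens, BlowUp.IsBlowUp (b U) (I.comap U.1.ι))

lemma comap_homOfLE {U V : Y.affineOpens} (hUV : U ≤ V) :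
    (I.comap V.1.ι).comap (Y.homOfLE hUV) = I.comap U.1.ι := by
  rw [← Scheme.IdealSheafData.comap_comp, Scheme.homOfLE_ι]

include hB in
lemma existsUnique_trans {U V : Y.affineOpens} (hUV : U ≤ V) :
    ∃! l : B U ⟶ B V, l ≫ b V = b U ≫ Y.homOfLE hUV := by
  apply (hB V).2
  rw [Scheme.IdealSheafData.comap_comp, comap_homOfLE Y I hUV]
  exact (hB U).1

/-- the transition maps -/
noncomputable def tr {U V : Y.affineOpens} (hUV : U ≤ V) : B U ⟶ B V :=
  (existsUnique_trans Y I B b hB hUV).choose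

lemma tr_comp {U V : Y.affineOpens} (hUV : U ≤ V) :
    tr Y I B b hB hUV ≫ b V = b U ≫ Y.homOfLE hUV :=
  (existsUnique_trans Y I B b hB hUV).choose_spec.1

lemma tr_unique {U V : Y.affineOpens} (hUV : U ≤ V) (l : B U ⟶ B V)
    (hl : l ≫ b V = b U ≫ Y.homOfLE hUV) : l = tr Y I B b hB hUV :=
  (existsUnique_trans Y I B b hB hUV).choose_spec.2 l hl

/-- the functor of blow-ups over the affine opens -/
noncomputable def F : Y.directedAffineCover.I₀ ⥤ Scheme.{u} where
  obj U := B U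
  map {U V} f := tr Y I B b hB (leOfHom f)
  map_id := by
    intro (U : Y.affineOpens)
    symm
    apply tr_unique
    rw [Category.id_comp]
    change b U = b U ≫ Y.homOfLE le_rfl
    rw [Scheme.homOfLE_rfl, Category.comp_id]
  map_comp := by
    intro (U : Y.affineOpens) (V : Y.affineOpens) (W : Y.affineOpens) f g
    symm
    apply tr_unique
    have h1 : tr Y I B b hB (leOfHom g) ≫ b W = b V ≫ Y.homOfLE (leOfHom g) :=
      tr_comp Y I B b hB (leOfHom g)
    have h2 : tr Y I B b hB (leOfHom f) ≫ b V = b U ≫ Y.homOfLE (leOfHom f) :=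
      tr_comp Y I B b hB (leOfHom f)
    rw [Category.assoc, h1, ← Category.assoc, h2, Category.assoc, Scheme.homOfLE_homOfLE]

/-- the natural transformation to the cover -/
noncomputable def α : F Y I B b hB ⟶ Y.directedAffineCover.functorOfLocallyDirected where
  app U := b U
  naturality _ _ f := tr_comp Y I B b hB (leOfHom f)

lemma equifibered : (α Y I B b hB).Equifibered := by
  intro (U : Y.affineOpens) (V : Y.affineOpens) f
  have hUV : U ≤ V := leOfHom f
  haveI : IsOpenImmersion (Y.homOfLE hUV) := inferInstance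
  haveI : Flat (Y.homOfLE hUV) := inferInstance
  have hb' : BlowUp.IsBlowUp (b U) ((I.comap V.1.ι).comap (Y.homOfLE hUV)) := by
    rw [comap_homOfLE Y I hUV]
    exact hB U
  exact BCO (I.comap V.1.ι) (Y.homOfLE hUV) (b V) (hB V) (b U) hb' (tr Y I B b hB hUV)
    (tr_comp Y I B b hB hUV)

/-- the relative gluing datum -/
noncomputable def d : Scheme.Cover.RelativeGluingData Y.directedAffineCover where
  functor := F Y I B b hB
  natTrans := α Y I B b hB
  equifibered := equifibered Y I B b hB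

end glue

/-- (GLUEBU) blow-ups glue. -/
theorem GLUEBU (Y : Scheme.{u}) (I : Y.IdealSheafData)
    (h : ∀ U : Y.affineOpens, ∃ (B : Scheme.{u}) (b : B ⟶ U.1.toScheme),
      BlowUp.IsBlowUp b (I.comap U.1.ι)) :
    ∃ (X' : Scheme.{u}) (b : X' ⟶ Y), BlowUp.IsBlowUp b I := by
  choose B b hB using h
  let D := d Y I B b hB
  refine ⟨D.glued, D.toBase, ?_⟩
  apply Groth.Agent.S7894.LOC D.toBase I (fun U : Y.affineOpens => U.1)
    (iSup_affineOpens_eq_top Y)
  intro U
  have P1 : IsPullback (colimit.ι D.functor U) (b U) D.toBase U.1.ι :=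
    (D.isPullback_natTrans_ι_toBase U).flip
  have P2 : IsPullback (D.toBase ⁻¹ᵁ U.1).ι (D.toBase ∣_ U.1) D.toBase U.1.ι :=
    (isPullback_morphismRestrict D.toBase U.1).flip
  let e : (D.toBase ⁻¹ᵁ U.1).toScheme ≅ B U := P2.isoIsPullback _ _ P1
  have he : e.hom ≫ b U = D.toBase ∣_ U.1 := P2.isoIsPullback_hom_snd _ _ P1
  have key := Groth.Agent.H22.FBAFF.ISO (b U) (D.toBase ∣_ U.1) e (Iso.refl _)
    (by rw [he, Iso.refl_hom, Category.comp_id]) (I.comap U.1.ι) (hB U)
  rw [Iso.refl_hom, Scheme.IdealSheafData.comap_id] at key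
  exact key

end Groth.Agent.H60.BUEX_GLUEBU
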