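import Groth.Prelude.Def_BlowUp2
import Mathlib

/-!
# Elements of the affine blow-up algebra `A[I/π] ⊆ A_π` (helper60)

`frac π y n = y / π^n`.  For `π ∈ I`, the elements of `BlowUp.affineAlgebra A I π` are exactly the
`frac π y n` with `y ∈ I^n`.
-/

set_option autoImplicit false
universe u

namespace Groth.Agent.H60.BlowUpAlg

open IsLocalization

variable {A : Type u} [CommRing A] (I : Ideal A) (π : A)

/-- the fraction `y / π^n` in `A_π` -/
noncomputable def frac (y : A) (n : ℕ) : Localization.Away π :=
  algebraMap A (Localization.Away π) y * (Away.invSelf (S := Localization.Away π) π) ^ n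

lemma mul_inv : algebraMap A (Localization.Away π) π * Away.invSelf (S := Localization.Away π) π = 1 :=
  Away.mul_invSelf π

lemma isUnit_inv : IsUnit (Away.invSelf (S := Localization.Away π) π) :=
  IsUnit.of_mul_eq_one _ (by rw [mul_comm]; exact mul_inv π)

lemma frac_zero' (y : A) : frac π y 0 = algebraMap A (Localization.Away π) y := by
  simp [frac]

lemma frac_add (y y' : A) (n : ℕ) : frac π (y + y') n = frac π y n + frac π y' n := by
  simp only [frac, map_add, add_mul]

lemma frac_mul (y y' : A) (n m : ℕ) : frac π (y * y') (n + m) = frac π y n * frac π y' m := by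
  simp only [frac, map_mul, pow_add]; ring

lemma frac_pow_mul (y : A) (n m : ℕ) : frac π (π ^ m * y) (n + m) = frac π y n := by
  have h := mul_inv π
  simp only [frac, map_mul, map_pow, pow_add]
  calc algebraMap A (Localization.Away π) π ^ m * algebraMap A (Localization.Away π) y *
        (Away.invSelf (S := Localization.Away π) π ^ n * Away.invSelf (S := Localization.Away π) π ^ m)
      = algebraMap A (Localization.Away π) y * Away.invSelf (S := Localization.Away π) π ^ n *
        (algebraMap A (Localization.Away π) π * Away.invSelf (S := Localization.Away π) π) ^ m := by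
        ring
    _ = _ := by rw [h, one_pow, mul_one]

lemma algebraMap_pow_mul_frac (y : A) (n : ℕ) :
    algebraMap A (Localization.Away π) π ^ n * frac π y n = algebraMap A (Localization.Away π) y := by
  have h := mul_inv π
  simp only [frac]
  calc algebraMap A (Localization.Away π) π ^ n *
        (algebraMap A (Localization.Away π) y * Away.invSelf (S := Localization.Away π) π ^ n)
      = algebraMap A (Localization.Away π) y *
        (algebraMap A (Localization.Away π) π * Away.invSelf (S := Localization.Away π) π) ^ n := by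
        ring
    _ = _ := by rw [h, one_pow, mul_one]

lemma algebraMap_mul_frac (c y : A) (n : ℕ) :
    algebraMap A (Localization.Away π) c * frac π y n = frac π (c * y) n := by
  simp only [frac, map_mul]; ring

lemma frac_eq_zero_iff (y : A) (n : ℕ) : frac π y n = 0 ↔ ∃ m : ℕ, π ^ m * y = 0 := by
  unfold frac
  rw [((isUnit_inv π).pow n).mul_left_eq_zero,
    IsLocalization.map_eq_zero_iff (Submonoid.powers π) (Localization.Away π)]
  constructor
  · rintro ⟨⟨_, m, rfl⟩, hm⟩
    exact ⟨m, hm⟩
  · rintro ⟨m, hm⟩
    exact ⟨⟨π ^ m, m, rfl⟩, hm⟩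

lemma exists_frac_all (z : Localization.Away π) : ∃ (n : ℕ) (y : A), z = frac π y n := by
  obtain ⟨y, ⟨_, n, rfl⟩, rfl⟩ := IsLocalization.exists_mk'_eq (Submonoid.powers π) z
  refine ⟨n, y, ?_⟩
  have hu : IsUnit (algebraMap A (Localization.Away π) π ^ n) :=
    (IsUnit.of_mul_eq_one _ (mul_inv π)).pow n
  apply hu.mul_left_cancel
  rw [algebraMap_pow_mul_frac, ← map_pow]
  exact IsLocalization.mk'_spec' _ y (⟨π ^ n, n, rfl⟩ : Submonoid.powers π)

lemma gen_eq (x : A) :
    IsLocalization.mk' (Localization.Away π) x (⟨π, Submonoid.mem_powers π⟩ : Submonoid.powers π) =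
      frac π x 1 := by
  rw [frac, pow_one, IsLocalization.mk'_eq_mul_mk'_one]
  rfl

lemma frac_mem (n : ℕ) : ∀ y ∈ I ^ n, frac π y n ∈ BlowUp.affineAlgebra A I π := by
  induction n with
  | zero =>
    intro y _
    rw [frac_zero']
    exact Subalgebra.algebraMap_mem _ y
  | succ n ih =>
    intro y hy
    rw [pow_succ'] at hy
    refine Submodule.mul_induction_on hy ?_ ?_
    · intro x hx z hz
      rw [add_comm n 1, frac_mul]
      refine Subalgebra.mul_mem _ ?_ (ih z hz)
      rw [← gen_eq]
      exact Algebra.subset_adjoin ⟨x, hx, rfl⟩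
    · intro y y' hy hy'
      rw [frac_add]
      exact Subalgebra.add_mem _ hy hy'

lemma exists_frac (hπ : π ∈ I) (q : Localization.Away π) (hq : q ∈ BlowUp.affineAlgebra A I π) :
    ∃ (n : ℕ) (y : A), y ∈ I ^ n ∧ q = frac π y n := by
  unfold BlowUp.affineAlgebra at hq
  induction hq using Algebra.adjoin_induction with
  | mem q hq =>
    obtain ⟨x, hx, rfl⟩ := hq
    exact ⟨1, x, by rwa [pow_one], gen_eq π x⟩
  | algebraMap r =>
    exact ⟨0, r, by simp, (frac_zero' π r).symm⟩
  | add q q' _ _ h h' =>
    obtain ⟨n, y, hy, rfl⟩ := h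
    obtain ⟨m, y', hy', rfl⟩ := h'
    refine ⟨n + m, π ^ m * y + π ^ n * y', ?_, ?_⟩
    · refine Ideal.add_mem _ ?_ ?_
      · rw [add_comm n m, pow_add]
        exact Ideal.mul_mem_mul (Ideal.pow_mem_pow hπ m) hy
      · rw [pow_add]
        exact Ideal.mul_mem_mul (Ideal.pow_mem_pow hπ n) hy'
    · rw [frac_add, frac_pow_mul, add_comm n m, frac_pow_mul]
  | mul q q' _ _ h h' =>
    obtain ⟨n, y, hy, rfl⟩ := h
    obtain ⟨m, y', hy', rfl⟩ := h'
    refine ⟨n + m, y * y', ?_, (frac_mul π y y' n m).symm⟩
    rw [pow_add]
    exact Ideal.mul_mem_mul hy hy'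

section map

variable {B : Type u} [CommRing B] (f : A →+* B)

lemma awayMap_algebraMap (y : A) :
    Localization.awayMap f π (algebraMap A (Localization.Away π) y) =
      algebraMap B (Localization.Away (f π)) (f y) := by
  unfold Localization.awayMap IsLocalization.Away.map
  exact IsLocalization.map_eq _ y

lemma awayMap_inv :
    Localization.awayMap f π (Away.invSelf (S := Localization.Away π) π) =
      Away.invSelf (S := Localization.Away (f π)) (f π) := by
  have h1 := mul_inv π
  have h2 := mul_inv (f π)
  have h3 := congrArg (Localization.awayMap f π) h1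
  rw [map_mul, awayMap_algebraMap, map_one] at h3
  have hu : IsUnit (algebraMap B (Localization.Away (f π)) (f π)) := IsUnit.of_mul_eq_one _ h2
  exact hu.mul_left_cancel (h3.trans h2.symm)

lemma awayMap_frac (y : A) (n : ℕ) :
    Localization.awayMap f π (frac π y n) = frac (f π) (f y) n := by
  simp only [frac, map_mul, map_pow, awayMap_algebraMap, awayMap_inv]

end map

end Groth.Agent.H60.BlowUpAlg
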