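import Groth.Agent.H95.MeroData

/-!
# (CA) for helper34 (S1931): a free generator on an open is torsion-free in the stalk

This is `Groth.Agent.H95.MeroData.germ_smul_eq_zero`, re-exported at the requested statement.
-/

set_option autoImplicit false
universe u
open CategoryTheory CategoryTheory.Limits AlgebraicGeometry TopologicalSpace Opposite
open Groth.Agent.H18.TensorGen (IsGen exists_isGen)

namespace Groth.Agent.H60.CMP_CA

/-- (CA) a free generator on an open is torsion-free in the stalk. -/
theorem eq_zero_of_smul_germ_eq_zero {X : Scheme.{u}} {L : X.Modules} {V : X.Opens} {τ : Γ(L, V)}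
    (hτ : IsGen L V τ) (z : X) (hz : z ∈ V) (c : X.presheaf.stalk z)
    (hc : c • L.presheaf.germ V z hz τ = 0) : c = 0 :=
  Groth.Agent.H95.MeroData.germ_smul_eq_zero hτ z hz c hc

end Groth.Agent.H60.CMP_CA
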