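import Mathlib
import Groth.Agent.H7.DedekindOpen
import Groth.Agent.H7.ChevalleyPointwise
import Groth.Agent.H69.ChevGeneral
import Groth.Agent.H70.BranchTop
import Groth.Agent.H47.FieldBC
import Groth.Agent.H9.FibDimTop
import Groth.Agent.H54.GenericComp

/-!
# S14070: Chevalley's criterion over a (non-Noetherian) geometrically unibranch base with
finitely many irreducible components
-/

set_option autoImplicit false
set_option linter.style.haveILetI false
universe u

open AlgebraicGeometry CategoryTheory CategoryTheory.Limits Topology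

namespace Groth.Agent.H60.ChevNonNoeth

open Groth.Agent.H54 Groth.Agent.H9.FibDim Groth.Agent.H69.Chev Groth.Agent.H69.GeomUnibranch
  Groth.Agent.H70.BranchTop

/-- A space with a point specializing to every point is irreducible. -/
theorem irreducibleSpace_of_forall_specializes {α : Type*} [TopologicalSpace α] (ξ : α)
    (h : ∀ t : α, ξ ⤳ t) : IrreducibleSpace α := by
  have h1 : closure ({ξ} : Set α) = Set.univ :=
    Set.eq_univ_of_forall (fun t => (h t).mem_closure)
  have h2 : IsIrreducible (Set.univ : Set α) := h1 ▸ isIrreducible_singleton.closure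
  exact (irreducibleSpace_def α).mpr h2

/-- If all points lie on exactly one irreducible component and there are finitely many
components, then every irreducible component is open. -/
theorem isOpen_of_mem_irreducibleComponents {α : Type*} [TopologicalSpace α]
    (hfin : (irreducibleComponents α).Finite)
    (huniq : ∀ s : α, {Z : Set α | Z ∈ irreducibleComponents α ∧ s ∈ Z}.encard = 1)
    {Z : Set α} (hZ : Z ∈ irreducibleComponents α) : IsOpen Z := by
  have hcompl : Zᶜ = ⋃ Z' ∈ (irreducibleComponents α \ {Z}), Z' := by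
    ext y
    simp only [Set.mem_compl_iff, Set.mem_iUnion, Set.mem_sdiff, Set.mem_singleton_iff,
      exists_prop]
    constructor
    · intro hy
      refine ⟨irreducibleComponent y, ⟨irreducibleComponent_mem_irreducibleComponents y, ?_⟩,
        mem_irreducibleComponent⟩
      intro he
      exact hy (he ▸ mem_irreducibleComponent)
    · rintro ⟨Z', ⟨hZ', hne⟩, hyZ'⟩ hyZ
      obtain ⟨Z₀, hZ₀⟩ := Set.encard_eq_one.mp (huniq y)
      have e1 : Z ∈ ({Z₀} : Set (Set α)) := hZ₀ ▸ (⟨hZ, hyZ⟩ :
        Z ∈ {Z : Set α | Z ∈ irreducibleComponents α ∧ y ∈ Z})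
      have e2 : Z' ∈ ({Z₀} : Set (Set α)) := hZ₀ ▸ (⟨hZ', hyZ'⟩ :
        Z' ∈ {Z : Set α | Z ∈ irreducibleComponents α ∧ y ∈ Z})
      exact hne ((Set.mem_singleton_iff.mp e2).trans (Set.mem_singleton_iff.mp e1).symm)
  rw [← isClosed_compl_iff, hcompl]
  exact (hfin.subset Set.sdiff_subset).isClosed_biUnion
    (fun Z' hZ' => isClosed_of_mem_irreducibleComponents Z' hZ'.1)

/-- A point of a scheme whose local ring has a domain as reduction lies on exactly one
irreducible component. -/
theorem encard_eq_one_of_isDomain_red {S : Scheme.{u}} (s : S)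
    (h : IsDomain (CAlg2.red (S.presheaf.stalk s))) :
    {Z : Set S | Z ∈ irreducibleComponents S ∧ s ∈ Z}.encard = 1 := by
  obtain ⟨V, hV, hsV, -⟩ :=
    exists_isAffineOpen_mem_and_subset (x := s) (U := (⊤ : S.Opens)) trivial
  apply encard_eq_one_of_minimalPrimes_unique s hV hsV
  set q := (hV.primeIdealOf ⟨s, hsV⟩).asIdeal with hq
  letI algSt : Algebra Γ(S, V) (S.presheaf.stalk s) :=
    TopCat.Presheaf.algebra_section_stalk S.presheaf (⟨s, hsV⟩ : V)
  haveI : IsLocalization.AtPrime (S.presheaf.stalk s) q := hV.isLocalization_stalk ⟨s, hsV⟩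
  haveI hprime : (nilradical (S.presheaf.stalk s)).IsPrime :=
    (Ideal.Quotient.isDomain_iff_prime _).mp h
  set P0 := (nilradical (S.presheaf.stalk s)).comap (algebraMap Γ(S, V) (S.presheaf.stalk s))
    with hP0
  have key : ∀ P ∈ minimalPrimes Γ(S, V), P ≤ q → P = P0 := by
    intro P hP hPq
    haveI := hP.1.1
    have hdisj : Disjoint (q.primeCompl : Set Γ(S, V)) (P : Set Γ(S, V)) := by
      rw [Set.disjoint_left]
      intro a ha haP
      exact ha (hPq haP)
    have h1 : (P.map (algebraMap Γ(S, V) (S.presheaf.stalk s))).IsPrime :=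
      IsLocalization.isPrime_of_isPrime_disjoint q.primeCompl _ P inferInstance hdisj
    have h2 : (P.map (algebraMap Γ(S, V) (S.presheaf.stalk s))).comap
        (algebraMap Γ(S, V) (S.presheaf.stalk s)) = P :=
      IsLocalization.under_map_of_isPrime_disjoint q.primeCompl _ inferInstance hdisj
    have h3 : P0 ≤ P := by
      rw [← h2]
      exact Ideal.comap_mono (nilradical_le_prime _)
    haveI : P0.IsPrime := Ideal.comap_isPrime _ _
    exact le_antisymm (hP.2 ⟨inferInstance, bot_le⟩ h3) h3
  intro P1 hP1 P2 hP2 h1 h2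
  rw [key P1 hP1 h1, key P2 hP2 h2]

set_option backward.isDefEq.respectTransparency false in
/-- Chevalley's criterion at a point of a scheme with a generic point, over a geometrically
unibranch base with finitely many irreducible components. -/
theorem isUnivOpenAt_of_generic {W S : Scheme.{u}}
    (hS : ∀ s : S, CAlg2.IsGeomUnibranch (S.presheaf.stalk s))
    (hfin : (irreducibleComponents (S : Type u)).Finite)
    (g : W ⟶ S) [LocallyOfFiniteType g] (ξ : W) (hξ : ∀ t : W, ξ ⤳ t) (w : W)
    (hequi : EGA43.IsEquidimAt g w) : EGA43.IsUnivOpenAt g w := by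
  obtain ⟨e₀, U, hwU, hdim, hmax⟩ := exists_of_isEquidimAt' g w hequi
  have hξU : ξ ∈ U := (hξ w).mem_open U.isOpen hwU
  have hξmax : ∀ t : W, t ⤳ ξ → t = ξ := fun t ht => (ht.antisymm (hξ t)).eq
  have hηmax := hmax ξ hξU hξmax
  have hS₀ : closure ({g.base ξ} : Set S) ∈ irreducibleComponents S :=
    closure_mem_irreducibleComponents_of_forall hηmax
  have hopen : IsOpen (closure ({g.base ξ} : Set S)) :=
    isOpen_of_mem_irreducibleComponents hfin
      (fun s => encard_eq_one_of_isDomain_red s (hS s).1.1) hS₀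
  let V : S.Opens := ⟨closure {g.base ξ}, hopen⟩
  have hUV : ∀ u : W, g.base u ∈ V := fun u => ((hξ u).map g.continuous).mem_closure
  have hrange : Set.range (U.ι ≫ g).base ⊆ Set.range V.ι.base := by
    rintro _ ⟨u, rfl⟩
    rw [Scheme.Opens.range_ι]
    exact hUV _
  let g' : (U : Scheme.{u}) ⟶ V := IsOpenImmersion.lift V.ι (U.ι ≫ g) hrange
  have hfac : g' ≫ V.ι = U.ι ≫ g := IsOpenImmersion.lift_fac _ _ _
  haveI : LocallyOfFiniteType (g' ≫ V.ι) := by rw [hfac]; infer_instance
  haveI : LocallyOfFiniteType g' := locallyOfFiniteType_of_comp g' V.ι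
  have hfac_pt : ∀ u : (U : Scheme.{u}), V.ι.base (g'.base u) = g.base (U.ι.base u) := by
    intro u
    have := congrArg (fun φ => φ.base u) hfac
    exact this
  -- irreducibility
  haveI : IrreducibleSpace (U : Scheme.{u}) :=
    irreducibleSpace_of_forall_specializes (α := (U : Scheme.{u})) ⟨ξ, hξU⟩ (fun t => by
      rw [← U.ι.isOpenEmbedding.isInducing.specializes_iff]
      exact hξ t.1)
  have hηV : ∀ t : (V : Scheme.{u}), (⟨g.base ξ, subset_closure rfl⟩ : (V : Scheme.{u})) ⤳ t := by
    intro t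
    rw [← V.ι.isOpenEmbedding.isInducing.specializes_iff]
    exact specializes_iff_mem_closure.mpr t.2
  haveI : IrreducibleSpace (V : Scheme.{u}) :=
    irreducibleSpace_of_forall_specializes (α := (V : Scheme.{u})) ⟨g.base ξ, subset_closure rfl⟩
      hηV
  haveI : IsDominant g' := by
    refine ⟨fun t => ?_⟩
    have h1 : g'.base ⟨ξ, hξU⟩ = (⟨g.base ξ, subset_closure rfl⟩ : (V : Scheme.{u})) :=
      V.ι.isOpenEmbedding.injective (hfac_pt ⟨ξ, hξU⟩)
    have h2 : t ∈ closure ({g'.base ⟨ξ, hξU⟩} : Set (V : Scheme.{u})) := by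
      rw [h1]; exact (hηV t).mem_closure
    exact closure_mono (Set.singleton_subset_iff.mpr (Set.mem_range_self _)) h2
  have hV : ∀ v : (V : Scheme.{u}),
      CAlg2.IsGeomUnibranch ((V : Scheme.{u}).presheaf.stalk v) := by
    intro v
    exact Groth.Agent.H47.FieldBC.isGeomUnibranch_of_ringEquiv
      (asIso (V.ι.stalkMap v)).commRingCatIsoToRingEquiv.symm (hS (V.ι.base v))
  have hfd : ∀ u : (U : Scheme.{u}), FlatMor.fibreDimAt g' u = (e₀ : WithBot ℕ∞) := by
    intro u
    rw [fibreDimAt_eq_tfd, tfd_eq_of_square g.base g'.base U.ι.base V.ι.base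
      U.ι.isOpenEmbedding V.ι.isOpenEmbedding.injective (fun a' => (hfac_pt a').symm) u,
      ← fibreDimAt_eq_tfd]
    exact hdim _ u.2
  haveI := universallyOpen_of_fibreDimAt_const hV g' (e₀ : WithBot ℕ∞) hfd
  haveI : UniversallyOpen (U.ι ≫ g) := by rw [← hfac]; infer_instance
  have h1 : EGA43.IsUnivOpenAt (U.ι ≫ g) ⟨w, hwU⟩ :=
    Groth.Agent.H7.isUnivOpenAt_of_universallyOpen' _ _
  exact Groth.Agent.H7.isUnivOpenAt_of_comp_left U.ι g ⟨w, hwU⟩ h1

set_option backward.isDefEq.respectTransparency false in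
/-- **S14070.** -/
theorem main_S14070 {X S : Scheme.{u}}
    (hS : ∀ s : S, CAlg2.IsGeomUnibranch (S.presheaf.stalk s))
    (hfin : (irreducibleComponents (S : Type u)).Finite)
    (f : X ⟶ S) [LocallyOfFiniteType f]
    (hT : ∀ x : X, ∃ W : TopologicalSpace.Closeds X,
      (W : Set X) ∈ irreducibleComponents (X : Type u) ∧
      ∃ w : ↥((Scheme.IdealSheafData.vanishingIdeal W).subscheme),
        (Scheme.IdealSheafData.vanishingIdeal W).subschemeι.base w = x ∧
        EGA43.IsEquidimAt ((Scheme.IdealSheafData.vanishingIdeal W).subschemeι ≫ f) w) :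
    UniversallyOpen f := by
  refine Groth.Agent.H7.universallyOpen_of_forall_isUnivOpenAt f (fun x => ?_)
  obtain ⟨W, hW, w, rfl, hequi⟩ := hT x
  apply Groth.Agent.H7.isUnivOpenAt_of_comp_left
  have hrange : Set.range (Scheme.IdealSheafData.vanishingIdeal W).subschemeι.base =
      (W : Set X) := by
    rw [Scheme.IdealSheafData.range_subschemeι,
      Scheme.IdealSheafData.coe_support_vanishingIdeal]
  have hemb : Topology.IsEmbedding (Scheme.IdealSheafData.vanishingIdeal W).subschemeι.base :=
    (Scheme.IdealSheafData.vanishingIdeal W).subschemeι.isClosedEmbedding.isEmbedding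
  set ι := (Scheme.IdealSheafData.vanishingIdeal W).subschemeι with hι
  obtain ⟨ξ, hξ⟩ := QuasiSober.sober hW.1 W.isClosed
  obtain ⟨ξZ, hξZ⟩ : ξ ∈ Set.range ι.base := by rw [hrange]; exact hξ.mem
  have hgen : ∀ t, ξZ ⤳ t := by
    intro t
    rw [← hemb.isInducing.specializes_iff, hξZ, specializes_iff_mem_closure, hξ.def]
    have : ι.base t ∈ Set.range ι.base := ⟨t, rfl⟩
    rw [hrange] at this
    exact this
  exact isUnivOpenAt_of_generic hS hfin (ι ≫ f) ξZ hgen w hequi

end Groth.Agent.H60.ChevNonNoeth
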