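import Groth.Agent.H91.Cm2Defs
import Groth.Agent.H26.Fix_KER

/-!
# (PT) for helper91's S18298 squad: two points of `A(M × Y)` with the same image under the graph
embedding differ by a point of `A(range f)`
-/

set_option autoImplicit false
universe u
open CategoryTheory Limits AlgebraicGeometry MonoidalCategory CartesianMonoidalCategory MonObj Opposite
open Magnet Magnet.MonAct
open scoped TensorProduct
open Groth.Agent.H91.MagnetDense Groth.Agent.H91.Cm2Defs Groth.Agent.H91.AMonPt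
open Groth.Agent.H26.Fix_KER

namespace Groth.Agent.H60.Cm2_PT

attribute [local instance 10] algZ

section Chr

variable {S : Scheme.{u}} {A B : Type} [AddCommMonoid A] [AddCommMonoid B] {T : Over S}

/-- the character of a point, written additively -/
noncomputable def ch (w : T ⟶ AMonS S A) (a : A) : Γ(T.left, ⊤) :=
  chr w (Multiplicative.ofAdd a)

theorem ch_zero (w : T ⟶ AMonS S A) : ch w 0 = 1 := by
  show chr w (Multiplicative.ofAdd 0) = 1
  rw [ofAdd_zero, map_one]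

theorem ch_add (w : T ⟶ AMonS S A) (a b : A) : ch w (a + b) = ch w a * ch w b := by
  show chr w (Multiplicative.ofAdd (a + b)) = _
  rw [ofAdd_add, map_mul]
  rfl

theorem ch_map (j : B →+ A) (x : T ⟶ AMonS S A) (b : B) :
    ch (x ≫ AMonS.map S j) b = ch x (j b) := by
  show ptM (x ≫ AMonS.map S j) (MonoidAlgebra.single (Multiplicative.ofAdd b) 1) =
    ptM x (MonoidAlgebra.single (Multiplicative.ofAdd (j b)) 1)
  rw [ptM_map, RingHom.comp_apply]
  congr 1
  show (MonoidAlgebra.mapDomainBialgHom (ULift.{u} ℤ) (AddMonoidHom.toMultiplicative j))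
    (MonoidAlgebra.single (Multiplicative.ofAdd b) 1) = _
  rw [MonoidAlgebra.mapDomainBialgHom_single]
  rfl

theorem ch_mul (x y : T ⟶ AMonS S A) (a : A) : ch (x * y) a = ch x a * ch y a :=
  ptM_mul_single x y (Multiplicative.ofAdd a)

theorem ch_ext {x y : T ⟶ AMonS S A} (h : ∀ a, ch x a = ch y a) : x = y := by
  refine ptM_ext ?_
  apply MonoidAlgebra.ringHom_ext
  · intro r
    exact congrArg (fun f => f r) (Groth.Agent.H93.GaGmLaw.ulift_hom_ext
      ((ptM x).comp MonoidAlgebra.singleOneRingHom) ((ptM y).comp MonoidAlgebra.singleOneRingHom))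
  · intro m
    exact h (Multiplicative.toAdd m)

theorem exists_ch (c : Multiplicative A →* Γ(T.left, ⊤)) :
    ∃ k : T ⟶ AMonS S A, ∀ a, ch k a = c (Multiplicative.ofAdd a) := by
  obtain ⟨k, hk⟩ := exists_ptM (S := S) (T := T)
    (MonoidAlgebra.lift (ULift.{u} ℤ) Γ(T.left, ⊤) (Multiplicative A) c).toRingHom
  refine ⟨k, fun a => ?_⟩
  show ptM k (MonoidAlgebra.single (Multiplicative.ofAdd a) 1) = _
  rw [hk]
  show MonoidAlgebra.lift (ULift.{u} ℤ) Γ(T.left, ⊤) (Multiplicative A) c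
    (MonoidAlgebra.single (Multiplicative.ofAdd a) 1) = _
  rw [MonoidAlgebra.lift_single, one_smul]

end Chr

variable {M Z : Type} [AddCommGroup M] [AddCommGroup Z]

/-- (PT) -/
theorem exists_range_pt {S : Scheme.{u}} (f : M →+ Z) (Y : AddSubmonoid Z)
    (hY : Y ≤ AddMonoidHom.mrange f) {T : Over S} (w₁ w₂ : T ⟶ AMonS S (M × ↥Y))
    (h : w₁ ≫ AMonS.map S (jgr f Y) = w₂ ≫ AMonS.map S (jgr f Y)) :
    ∃ hb : T ⟶ AMonS S ↥f.range.toAddSubmonoid,
      w₁ ≫ AMonS.map S (AddMonoidHom.inl M ↥Y) =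
        (w₂ ≫ AMonS.map S (AddMonoidHom.inl M ↥Y)) * (hb ≫ AMonS.map S (fR f)) ∧
      w₂ ≫ AMonS.map S (AddMonoidHom.inr M ↥Y) =
        (hb ≫ AMonS.map S (yR f Y hY)) * (w₁ ≫ AMonS.map S (AddMonoidHom.inr M ↥Y)) := by
  classical
  -- the hypothesis on characters
  have hN : ∀ (n : M) (hn : f n ∈ Y), ch w₁ (n, ⟨f n, hn⟩) = ch w₂ (n, ⟨f n, hn⟩) := by
    intro n hn
    have h1 := congrArg (fun x => ch x (⟨n, hn⟩ : ↥(Y.comap f))) h
    simp only [ch_map, jgr_apply] at h1
    exact h1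
  have hsplit : ∀ (w : T ⟶ AMonS S (M × ↥Y)) (m : M) (y : ↥Y),
      ch w (m, y) = ch w (m, 0) * ch w (0, y) := by
    intro w m y
    rw [← ch_add, Prod.mk_add_mk, add_zero, zero_add]
  have hinv : ∀ (w : T ⟶ AMonS S (M × ↥Y)) (m : M), ch w (m, 0) * ch w (-m, 0) = 1 := by
    intro w m
    rw [← ch_add, Prod.mk_add_mk, add_neg_cancel, add_zero]
    exact ch_zero w
  -- the difference character on `M`
  let c : M → Γ(T.left, ⊤) := fun m => ch w₁ (m, 0) * ch w₂ (-m, 0)
  have hc0 : c 0 = 1 := by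
    show ch w₁ (0, 0) * ch w₂ (-0, 0) = 1
    rw [neg_zero]
    have e : ((0 : M), (0 : ↥Y)) = 0 := rfl
    rw [e, ch_zero, ch_zero, _root_.mul_one]
  have hcadd : ∀ m m', c (m + m') = c m * c m' := by
    intro m m'
    show ch w₁ (m + m', 0) * ch w₂ (-(m + m'), 0) = _
    have e1 : ((m + m', 0) : M × ↥Y) = (m, 0) + (m', 0) := by
      rw [Prod.mk_add_mk, add_zero]
    have e2 : ((-(m + m'), 0) : M × ↥Y) = (-m, 0) + (-m', 0) := by
      rw [Prod.mk_add_mk, add_zero, neg_add]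
    rw [e1, e2, ch_add, ch_add]
    show _ = (ch w₁ (m, 0) * ch w₂ (-m, 0)) * (ch w₁ (m', 0) * ch w₂ (-m', 0))
    ring
  have hcker : ∀ n : M, f n = 0 → c n = 1 := by
    intro n hn
    have hnY : f n ∈ Y := by rw [hn]; exact Y.zero_mem
    have h1 := hN n hnY
    have e : ((n, ⟨f n, hnY⟩) : M × ↥Y) = (n, 0) := by
      refine Prod.ext rfl (Subtype.ext ?_)
      exact hn
    rw [e] at h1
    show ch w₁ (n, 0) * ch w₂ (-n, 0) = 1
    rw [h1]
    exact hinv w₂ n
  have hcinv : ∀ m, c m * c (-m) = 1 := by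
    intro m
    rw [← hcadd, add_neg_cancel, hc0]
  have hceq : ∀ m m', f m = f m' → c m = c m' := by
    intro m m' hmm
    have h1 : c (m - m') = 1 := hcker _ (by rw [map_sub, hmm, sub_self])
    have h2 : c m = c (m - m') * c m' := by rw [← hcadd, sub_add_cancel]
    rw [h2, h1, _root_.one_mul]
  -- descend to the range
  have hex : ∀ z : ↥f.range.toAddSubmonoid, ∃ m : M, f m = (z : Z) := fun z =>
    AddMonoidHom.mem_range.mp z.2
  let χf : ↥f.range.toAddSubmonoid → Γ(T.left, ⊤) := fun z => c (hex z).choose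
  have hχf : ∀ m : M, χf (fR f m) = c m := by
    intro m
    exact hceq _ _ ((hex (fR f m)).choose_spec)
  have hsurj : ∀ z : ↥f.range.toAddSubmonoid, ∃ m : M, fR f m = z := by
    intro z
    obtain ⟨m, hm⟩ := hex z
    exact ⟨m, Subtype.ext hm⟩
  let χ : Multiplicative ↥f.range.toAddSubmonoid →* Γ(T.left, ⊤) :=
    { toFun := fun z => χf (Multiplicative.toAdd z)
      map_one' := by
        show χf 0 = 1
        have e : (0 : ↥f.range.toAddSubmonoid) = fR f 0 := (map_zero (fR f)).symm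
        rw [e, hχf, hc0]
      map_mul' := by
        intro z z'
        show χf (Multiplicative.toAdd z + Multiplicative.toAdd z') =
          χf (Multiplicative.toAdd z) * χf (Multiplicative.toAdd z')
        obtain ⟨m, hm⟩ := hsurj (Multiplicative.toAdd z)
        obtain ⟨m', hm'⟩ := hsurj (Multiplicative.toAdd z')
        rw [← hm, ← hm', ← map_add, hχf, hχf, hχf, hcadd] }
  obtain ⟨hb, hhb⟩ := exists_ch (S := S) (T := T) χ
  have hhb' : ∀ m : M, ch hb (fR f m) = c m := fun m => (hhb (fR f m)).trans (hχf m)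
  refine ⟨hb, ch_ext fun m => ?_, ch_ext fun y => ?_⟩
  · rw [ch_mul, ch_map, ch_map, ch_map, hhb']
    show ch w₁ (m, 0) = ch w₂ (m, 0) * (ch w₁ (m, 0) * ch w₂ (-m, 0))
    have h1 := hinv w₂ m
    calc ch w₁ (m, 0) = ch w₁ (m, 0) * (ch w₂ (m, 0) * ch w₂ (-m, 0)) := by
          rw [h1, _root_.mul_one]
      _ = _ := by ring
  · rw [ch_mul, ch_map, ch_map, ch_map]
    obtain ⟨n, hn⟩ := AddMonoidHom.mem_mrange.mp (hY y.2)
    have hnY : f n ∈ Y := by rw [hn]; exact y.2
    have e1 : yR f Y hY y = fR f n := Subtype.ext hn.symm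
    rw [e1, hhb']
    have h1 := hN n hnY
    have e2 : (⟨f n, hnY⟩ : ↥Y) = y := Subtype.ext hn
    rw [e2, hsplit w₁, hsplit w₂] at h1
    show ch w₂ (0, y) = (ch w₁ (n, 0) * ch w₂ (-n, 0)) * ch w₁ (0, y)
    have h2 := hinv w₂ n
    calc ch w₂ (0, y) = (ch w₂ (n, 0) * ch w₂ (-n, 0)) * ch w₂ (0, y) := by
          rw [h2, _root_.one_mul]
      _ = ch w₂ (-n, 0) * (ch w₂ (n, 0) * ch w₂ (0, y)) := by ring
      _ = ch w₂ (-n, 0) * (ch w₁ (n, 0) * ch w₁ (0, y)) := by rw [h1]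
      _ = _ := by ring

end Groth.Agent.H60.Cm2_PT
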