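import Mathlib
import Groth.Agent.S9357
import Groth.Agent.H60.EquidimCrit
import Groth.Agent.H70.RelDimPointwise

/-!
# S1857: flat pullback of cycles is functorial
-/

set_option autoImplicit false
set_option linter.style.haveILetI false
universe u

open AlgebraicGeometry CategoryTheory

namespace Groth.Agent.H60.CycPullComp

/-- Multiplicativity of colengths along a flat local homomorphism. -/
theorem length_quot_map {A B : Type u} [CommRing A] [CommRing B] [IsLocalRing A] [IsLocalRing B]
    (φ : A →+* B) [hloc : IsLocalHom φ] (hφ : φ.Flat) (I : Ideal A) :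
    Module.length B (B ⧸ I.map φ) =
      Module.length A (A ⧸ I) * Module.length B (B ⧸ (IsLocalRing.maximalIdeal A).map φ) := by
  letI := φ.toAlgebra
  haveI : Module.Flat A B := hφ
  haveI : IsLocalHom (algebraMap A B) := hloc
  have h := IsLocalRing.length_baseChange A B (A ⧸ I)
  rw [← (Algebra.TensorProduct.quotIdealMapEquivTensorQuot B I).toLinearEquiv.length_eq] at h
  exact h

/-- The transcendence degree of the residue field extension at a point is at most the relative
dimension. -/
theorem trdeg_le_of_hasRelDim {X Y : Scheme.{u}} (f : X ⟶ Y) [LocallyOfFiniteType f] (r : ℕ)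
    (hr : Cyc.HasRelDim f r) (x : X) (n : ℕ)
    (hn : @Algebra.trdeg (Y.residueField (f.base x)) (X.residueField x) _ _
        (f.residueFieldMap x).hom.toAlgebra = (n : Cardinal.{u})) : n ≤ r := by
  have h1 := Groth.Agent.H60.EquidimCrit.natCast_trdeg_le_fibreDimAt f x x specializes_rfl rfl n hn
  rw [(Groth.Agent.H70.RelDimPointwise.hasRelDim_iff f r).mp hr x] at h1
  exact_mod_cast h1

/-- The multiplicity of the composite is the product of the multiplicities. -/
theorem length_comp {X Y Z : Scheme.{u}} (f : X ⟶ Y) (g : Y ⟶ Z) [Flat f] (x : X) :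
    Module.length (X.presheaf.stalk x)
      (X.presheaf.stalk x ⧸ Ideal.map ((f ≫ g).stalkMap x).hom
        (IsLocalRing.maximalIdeal (Z.presheaf.stalk ((f ≫ g) x)))) =
    Module.length (Y.presheaf.stalk (f x))
      (Y.presheaf.stalk (f x) ⧸ Ideal.map (g.stalkMap (f x)).hom
        (IsLocalRing.maximalIdeal (Z.presheaf.stalk (g (f x))))) *
    Module.length (X.presheaf.stalk x)
      (X.presheaf.stalk x ⧸ Ideal.map (f.stalkMap x).hom
        (IsLocalRing.maximalIdeal (Y.presheaf.stalk (f x)))) := by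
  have h := length_quot_map (f.stalkMap x).hom (AlgebraicGeometry.Flat.stalkMap f x)
    (Ideal.map (g.stalkMap (f x)).hom (IsLocalRing.maximalIdeal (Z.presheaf.stalk (g (f x)))))
  rw [Ideal.map_map] at h
  rw [← h]
  have e : ((f ≫ g).stalkMap x).hom = (f.stalkMap x).hom.comp (g.stalkMap (f x)).hom := by
    rw [Scheme.Hom.stalkMap_comp]; rfl
  rw [e]
  rfl

/-- **S1857**, second half: flat pullback of coefficient functions is functorial. -/
theorem pullFun_comp {X Y Z : Scheme.{u}} (δX : X → ℤ) (δY : Y → ℤ) (δZ : Z → ℤ)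
    (f : X ⟶ Y) (g : Y ⟶ Z) [Flat f] [LocallyOfFiniteType f] [LocallyOfFiniteType g]
    (r s : ℕ) (hr : Cyc.HasRelDim f r) (hs : Cyc.HasRelDim g s)
    (hf : Cyc.DeltaCompat f δX δY) (hg : Cyc.DeltaCompat g δY δZ) (α : Z → ℤ) :
    Cyc.pullFun f δX δY r (Cyc.pullFun g δY δZ s α) =
      Cyc.pullFun (f ≫ g) δX δZ ((r : ℤ) + s) α := by
  funext x
  obtain ⟨n, hn, hδn⟩ := hf x
  obtain ⟨m, hm, hδm⟩ := hg (f x)
  have hnr : n ≤ r := trdeg_le_of_hasRelDim f r hr x n hn
  have hms : m ≤ s := trdeg_le_of_hasRelDim g s hs (f x) m hm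
  have hbase : (f ≫ g) x = g (f x) := rfl
  unfold Cyc.pullFun
  by_cases h1 : δX x = δY (f x) + r
  · by_cases h2 : δY (f x) = δZ (g (f x)) + s
    · have h3 : δX x = δZ ((f ≫ g) x) + ((r : ℤ) + s) := by rw [hbase]; omega
      rw [if_pos h1, if_pos h2, if_pos h3, length_comp f g x, ENat.toNat_mul]
      push_cast
      rw [hbase]
      ring
    · have h3 : ¬ δX x = δZ ((f ≫ g) x) + ((r : ℤ) + s) := by rw [hbase]; omega
      rw [if_pos h1, if_neg h2, if_neg h3, zero_mul]
  · have h3 : ¬ δX x = δZ ((f ≫ g) x) + ((r : ℤ) + s) := by rw [hbase]; omega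
    rw [if_neg h1, if_neg h3]

end Groth.Agent.H60.CycPullComp
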