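import Mathlib
import Groth.Prelude.Def_Bivar

/-!
# S1859: proper pushforward of cycles is functorial
-/

set_option autoImplicit false
set_option linter.style.haveILetI false
universe u

open AlgebraicGeometry CategoryTheory

namespace Groth.Agent.H60.CycMapComp

/-- Residue degrees are multiplicative in towers. -/
theorem residueDegree_comp {X Y Z : Scheme.{u}} (f : X ⟶ Y) (g : Y ⟶ Z) (x : X) :
    (f ≫ g).residueDegree x = g.residueDegree (f x) * f.residueDegree x := by
  let algYX : Algebra (Y.residueField (f x)) (X.residueField x) :=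
    (f.residueFieldMap x).hom.toAlgebra
  let algZY : Algebra (Z.residueField (g (f x))) (Y.residueField (f x)) :=
    (g.residueFieldMap (f x)).hom.toAlgebra
  let algZX : Algebra (Z.residueField (g (f x))) (X.residueField x) :=
    ((f ≫ g).residueFieldMap x).hom.toAlgebra
  have hST : IsScalarTower (Z.residueField (g (f x))) (Y.residueField (f x)) (X.residueField x) :=
    IsScalarTower.of_algebraMap_eq' (by
      change ((f ≫ g).residueFieldMap x).hom =
        (f.residueFieldMap x).hom.comp (g.residueFieldMap (f x)).hom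
      rw [Scheme.residueFieldMap_comp]; rfl)
  have key := Module.finrank_mul_finrank (Z.residueField (g (f x))) (Y.residueField (f x))
    (X.residueField x)
  change Module.finrank (Z.residueField (g (f x))) (X.residueField x) = _
  rw [← key]
  rfl

/-- The pushforward coefficients are multiplicative for compatible dimension functions. -/
theorem mapCoeff_comp {X Y Z : Scheme.{u}} (f : X ⟶ Y) (g : Y ⟶ Z) (δX : X → ℤ) (δY : Y → ℤ)
    (δZ : Z → ℤ) (hf : Cyc.DeltaCompat f δX δY) (hg : Cyc.DeltaCompat g δY δZ) (x : X) :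
    AlgebraicCycle.mapCoeff (f ≫ g) δX δZ x =
      AlgebraicCycle.mapCoeff f δX δY x * AlgebraicCycle.mapCoeff g δY δZ (f x) := by
  obtain ⟨n, -, hδn⟩ := hf x
  obtain ⟨m, -, hδm⟩ := hg (f x)
  unfold AlgebraicCycle.mapCoeff
  have hbase : (f ≫ g).base x = g.base (f.base x) := rfl
  rw [hbase]
  by_cases h1 : δX x = δY (f.base x)
  · by_cases h2 : δY (f.base x) = δZ (g.base (f.base x))
    · rw [if_pos (h1.trans h2), if_pos h1, if_pos h2, residueDegree_comp, mul_comm]
    · rw [if_neg h2, mul_zero, if_neg]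
      intro h3
      have h4 : δY (f.base x) = δZ (g.base (f.base x)) + m := hδm
      have h5 : δX x = δY (f.base x) + n := hδn
      omega
  · rw [if_neg h1, zero_mul, if_neg]
    intro h3
    have h4 : δY (f.base x) = δZ (g.base (f.base x)) + m := hδm
    have h5 : δX x = δY (f.base x) + n := hδn
    omega

/-- Fibrewise summation for `finsum`. -/
theorem finsum_mem_fiberwise {A B : Type*} (p : A → B) (q : B → Prop) (a : A → ℤ) (b : B → ℤ)
    (hfin : ({x | q (p x)} ∩ Function.support a).Finite) :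
    ∑ᶠ y ∈ {y | q y}, (∑ᶠ x ∈ p ⁻¹' {y}, a x) * b y = ∑ᶠ x ∈ {x | q (p x)}, a x * b (p x) := by
  classical
  set t : Finset A := hfin.toFinset with ht
  have hmem : ∀ x, x ∈ t ↔ q (p x) ∧ a x ≠ 0 := by
    intro x; rw [ht, Set.Finite.mem_toFinset]; rfl
  -- right hand side
  have hR : ∑ᶠ x ∈ {x | q (p x)}, a x * b (p x) = ∑ x ∈ t, a x * b (p x) := by
    apply finsum_mem_eq_sum_of_inter_support_eq
    ext x
    simp only [Set.mem_inter_iff, Set.mem_setOf_eq, Function.mem_support, Finset.mem_coe, hmem]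
    constructor
    · rintro ⟨h1, h2⟩
      exact ⟨⟨h1, left_ne_zero_of_mul h2⟩, h2⟩
    · rintro ⟨⟨h1, _⟩, h3⟩
      exact ⟨h1, h3⟩
  -- inner sums
  have hI : ∀ y, q y → ∑ᶠ x ∈ p ⁻¹' {y}, a x = ∑ x ∈ t.filter (fun x => p x = y), a x := by
    intro y hy
    apply finsum_mem_eq_sum_of_inter_support_eq
    ext x
    simp only [Set.mem_inter_iff, Set.mem_preimage, Set.mem_singleton_iff, Function.mem_support,
      Finset.coe_filter, Set.mem_setOf_eq, hmem]
    constructor
    · rintro ⟨h1, h2⟩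
      exact ⟨⟨⟨h1 ▸ hy, h2⟩, h1⟩, h2⟩
    · rintro ⟨⟨_, h1⟩, h2⟩
      exact ⟨h1, h2⟩
  have hL : ∑ᶠ y ∈ {y | q y}, (∑ᶠ x ∈ p ⁻¹' {y}, a x) * b y =
      ∑ y ∈ t.image p, (∑ x ∈ t.filter (fun x => p x = y), a x) * b y := by
    rw [finsum_mem_eq_sum_of_subset (t := t.image p)]
    · apply Finset.sum_congr rfl
      intro y hy
      obtain ⟨x, hx, rfl⟩ := Finset.mem_image.mp hy
      rw [hI _ ((hmem x).mp hx).1]
    · intro y hy
      obtain ⟨hy1, hy2⟩ := hy
      have hy3 : ∑ᶠ x ∈ p ⁻¹' {y}, a x ≠ 0 := left_ne_zero_of_mul hy2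
      rw [hI y hy1] at hy3
      obtain ⟨x, hx, -⟩ := Finset.exists_ne_zero_of_sum_ne_zero hy3
      rw [Finset.mem_filter] at hx
      exact Finset.mem_coe.mpr (Finset.mem_image.mpr ⟨x, hx.1, hx.2⟩)
    · intro y hy
      obtain ⟨x, hx, rfl⟩ := Finset.mem_image.mp (Finset.mem_coe.mp hy)
      exact ((hmem x).mp hx).1
  rw [hL, hR]
  rw [← Finset.sum_fiberwise_of_maps_to (s := t) (t := t.image p) (g := p)
    (fun x hx => Finset.mem_image_of_mem p hx)]
  apply Finset.sum_congr rfl
  intro y _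
  rw [Finset.sum_mul]
  apply Finset.sum_congr rfl
  intro x hx
  rw [(Finset.mem_filter.mp hx).2]

/-- **S1859**: pushforward of cycles is functorial for compatible dimension functions. -/
theorem main {X Y Z : Scheme.{u}} (δX : X → ℤ) (δY : Y → ℤ) (δZ : Z → ℤ)
    (f : X ⟶ Y) (g : Y ⟶ Z) [QuasiCompact f] [QuasiCompact g]
    (hf : Cyc.DeltaCompat f δX δY) (hg : Cyc.DeltaCompat g δY δZ) (α : AlgebraicCycle X ℤ) :
    AlgebraicCycle.map g δY δZ (AlgebraicCycle.map f δX δY α) =
      AlgebraicCycle.map (f ≫ g) δX δZ α := by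
  ext z
  simp only [AlgebraicCycle.map, Function.locallyFinsupp.map_apply]
  have hfin := Bivar.finite_fiber_inter_support (f ≫ g) α z
  have key := finsum_mem_fiberwise (fun x : X => f.base x) (fun y : Y => g.base y = z)
    (fun x => α x * (AlgebraicCycle.mapCoeff f δX δY x : ℤ))
    (fun y => (AlgebraicCycle.mapCoeff g δY δZ y : ℤ))
    (hfin.subset (by
      rintro x ⟨hx1, hx2⟩
      exact ⟨hx1, left_ne_zero_of_mul hx2⟩))
  have e1 : (g.base ⁻¹' {z} : Set Y) = {y | g.base y = z} := rfl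
  have e2 : ((f ≫ g).base ⁻¹' {z} : Set X) = {x | g.base (f.base x) = z} := rfl
  rw [e1, e2]
  refine key.trans ?_
  apply finsum_mem_congr rfl
  intro x _
  rw [mapCoeff_comp f g δX δY δZ hf hg x]
  push_cast
  ring

end Groth.Agent.H60.CycMapComp
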