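import Mathlib
import Groth.Agent.H60.CycPullComp
import Groth.Agent.H71.DimFun

/-!
# S6479: composition of flat (base-change type) pullbacks of cycles
-/

set_option autoImplicit false
set_option linter.style.haveILetI false
universe u

open AlgebraicGeometry CategoryTheory

namespace Groth.Agent.H60.CycPullBC

/-- Every point of the source of a morphism has a generization in the same fibre which is maximal
(under generization) in that fibre. No finiteness hypotheses. -/
theorem exists_fibre_max_gen {X Y : Scheme.{u}} (f : X ⟶ Y) (x : X) :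
    ∃ z : X, z ⤳ x ∧ f.base z = f.base x ∧
      ∀ y : X, f.base y = f.base z → y ⤳ z → y = z := by
  obtain ⟨ζ, hζx, hζmax⟩ :=
    Groth.Agent.H71.DimFun.exists_generic_specializes (f.fiber (f.base x)) (f.asFiber x)
  have hmem : ∀ a : f.fiber (f.base x), f.base ((f.fiberι (f.base x)).base a) = f.base x := by
    intro a
    have h : (f.fiberι (f.base x)).base a ∈ Set.range (f.fiberι (f.base x)).base := ⟨a, rfl⟩
    rw [f.range_fiberι] at h
    exact h
  refine ⟨(f.fiberι (f.base x)).base ζ, ?_, hmem ζ, ?_⟩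
  · have h := hζx.map (f.fiberι (f.base x)).continuous
    rwa [f.fiberι_asFiber] at h
  · intro y hy hyz
    have hy' : f.base y = f.base x := hy.trans (hmem ζ)
    obtain ⟨y₁, rfl⟩ : y ∈ Set.range (f.fiberι (f.base x)).base := by
      rw [f.range_fiberι]; exact hy'
    have h1 : y₁ ⤳ ζ :=
      (f.fiberι (f.base x)).isEmbedding.isInducing.specializes_iff.mp hyz
    rw [hζmax y₁ h1]

/-- **S6479**. -/
theorem main {X X' X'' : Scheme.{u}} (p : X' ⟶ X) (p' : X'' ⟶ X') [Flat p']
    (δ : X → ℤ) (δ' : X' → ℤ) (δ'' : X'' → ℤ) (hdim : Cyc.IsDimFun X'' δ'') (c c' : ℤ)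
    (hc : ∀ x' : X', (∀ y, p y = p x' → y ⤳ x' → y = x') → δ' x' = δ (p x') + c)
    (hc' : ∀ x'' : X'', (∀ y, p' y = p' x'' → y ⤳ x'' → y = x'') → δ'' x'' = δ' (p' x'') + c')
    (α : X → ℤ) :
    (∀ x'' : X'', (∀ y, (p' ≫ p) y = (p' ≫ p) x'' → y ⤳ x'' → y = x'') →
        δ'' x'' = δ ((p' ≫ p) x'') + (c + c')) ∧
      Cyc.pullFun (p' ≫ p) δ'' δ (c + c') α =
        Cyc.pullFun p' δ'' δ' c' (Cyc.pullFun p δ' δ c α) := by
  have hbase : ∀ t : X'', (p' ≫ p) t = p (p' t) := fun _ => rfl
  -- fibre-maximal for the composite implies fibre-maximal for both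
  have key : ∀ x'' : X'', (∀ y, (p' ≫ p) y = (p' ≫ p) x'' → y ⤳ x'' → y = x'') →
      δ'' x'' = δ' (p' x'') + c' ∧ δ' (p' x'') = δ (p (p' x'')) + c := by
    intro x'' hmax
    constructor
    · apply hc'
      intro y hy hyx
      exact hmax y (by rw [hbase, hbase, hy]) hyx
    · apply hc
      intro y' hy' hyx'
      obtain ⟨y'', hy''x, hy''⟩ := (Flat.generalizingMap p') hyx'
      have h1 : y'' = x'' := hmax y'' (by rw [hbase, hbase, hy'', hy']) hy''x
      rw [← hy'', h1]
  have part1 : ∀ x'' : X'', (∀ y, (p' ≫ p) y = (p' ≫ p) x'' → y ⤳ x'' → y = x'') →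
      δ'' x'' = δ ((p' ≫ p) x'') + (c + c') := by
    intro x'' hmax
    obtain ⟨h1, h2⟩ := key x'' hmax
    rw [hbase, h1, h2]; ring
  refine ⟨part1, ?_⟩
  funext x''
  unfold Cyc.pullFun
  by_cases hmax : ∀ y, (p' ≫ p) y = (p' ≫ p) x'' → y ⤳ x'' → y = x''
  · obtain ⟨h1, h2⟩ := key x'' hmax
    have h3 := part1 x'' hmax
    rw [if_pos h3, if_pos h1, if_pos h2, Groth.Agent.H60.CycPullComp.length_comp p' p x'',
      ENat.toNat_mul]
    push_cast
    rw [hbase]
    ring
  · -- not fibre-maximal: the composite condition fails, and so does one of the other two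
    obtain ⟨z, hzx, hfz, hzmax⟩ := exists_fibre_max_gen (p' ≫ p) x''
    have hzne : z ≠ x'' := by
      rintro rfl
      exact hmax hzmax
    have hlt : δ'' x'' < δ'' z := (hdim z x'' hzx hzne).1
    have hz := part1 z hzmax
    have hfz' : (p' ≫ p) z = (p' ≫ p) x'' := hfz
    rw [hfz'] at hz
    have h3 : ¬ δ'' x'' = δ ((p' ≫ p) x'') + (c + c') := by omega
    rw [if_neg h3]
    by_cases h1 : δ'' x'' = δ' (p' x'') + c'
    · rw [if_pos h1]
      have h2 : ¬ δ' (p' x'') = δ (p (p' x'')) + c := by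
        intro h2
        apply h3
        rw [hbase, h1, h2]; ring
      rw [if_neg h2, zero_mul]
    · rw [if_neg h1]

end Groth.Agent.H60.CycPullBC
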