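import Mathlib
import Groth.Agent.H60.CycPullBC
import Groth.Agent.H60.GenOpenGen
import Groth.Agent.S9358
import Groth.Agent.S9684

/-!
# S6478: flat pullback of cycles commutes with base-change pullback in a cartesian square
-/

set_option autoImplicit false
set_option linter.style.haveILetI false
universe u

open AlgebraicGeometry CategoryTheory CategoryTheory.Limits

namespace Groth.Agent.H60.CycPullSq

open Groth.Agent.H54 Groth.Agent.H9.DimFormulaEq
  Groth.Agent.H9.FibreFormula Groth.Agent.H9.FibDim Groth.Agent.H9.Equidim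
  Groth.Agent.H60.GenOpenGen Groth.Agent.H60.CycPullBC Groth.Agent.H60.CycPullComp

/-- The multiplicity of a morphism at a point: the length of `O_{X,x}/𝔪_{h x} O_{X,x}`. -/
noncomputable def mult {X Y : Scheme.{u}} (h : X ⟶ Y) (x : X) : ℤ :=
  ((Module.length (X.presheaf.stalk x)
    (X.presheaf.stalk x ⧸ Ideal.map (h.stalkMap x).hom
      (IsLocalRing.maximalIdeal (Y.presheaf.stalk (h x))))).toNat : ℤ)

theorem pullFun_apply {X Y : Scheme.{u}} (h : X ⟶ Y) (δX : X → ℤ) (δY : Y → ℤ) (r : ℤ)
    (α : Y → ℤ) (x : X) :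
    Cyc.pullFun h δX δY r α x = if δX x = δY (h x) + r then α (h x) * mult h x else 0 := rfl

theorem mult_comp {X Y Z : Scheme.{u}} (f : X ⟶ Y) (g : Y ⟶ Z) [Flat f] (x : X) :
    mult (f ≫ g) x = mult g (f x) * mult f x := by
  unfold mult
  rw [length_comp f g x, ENat.toNat_mul]
  push_cast
  rfl

/-- For a morphism of relative dimension `r`, a point is maximal in its fibre iff the
transcendence degree of its residue field extension is `r`. -/
theorem fibre_max_iff_trdeg_eq {X Y : Scheme.{u}} (h : X ⟶ Y) [LocallyOfFiniteType h] (r : ℕ)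
    (hr : Cyc.HasRelDim h r) (z : X) (n : ℕ)
    (hn : @Algebra.trdeg (Y.residueField (h.base z)) (X.residueField z) _ _
        (h.residueFieldMap z).hom.toAlgebra = (n : Cardinal.{u})) :
    (∀ w : X, h.base w = h.base z → w ⤳ z → w = z) ↔ n = r := by
  have hfd := (Groth.Agent.H70.RelDimPointwise.hasRelDim_iff h r).mp hr z
  constructor
  · intro hmax
    obtain ⟨n', hn', hfd'⟩ := fibreDimAt_of_fibre_maximal h z hmax
    have h1 : (n : Cardinal.{u}) = (n' : Cardinal.{u}) := by rw [← hn, hn']
    have h2 : n = n' := by exact_mod_cast h1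
    rw [hfd] at hfd'
    have h3 : r = n' := by exact_mod_cast hfd'
    omega
  · intro hnr
    obtain ⟨b, hb⟩ : ∃ b : ℕ, Order.coheight (h.asFiber z) = b :=
      ⟨_, (ENat.natCast_toNat (coheight_ne_top (fiberQ h (h.base z)) _)).symm⟩
    have h1 := fibreDimAt_eq h z b hb
    have h4 := trdeg_fiber_eq h (h.base z) (h.asFiber z)
    have h5 := trdeg_congr_point h (h.fiberι_asFiber z)
    have h6 : (n : Cardinal.{u}) = (tdeg (fiberQ h (h.base z)) (h.asFiber z) : Cardinal.{u}) := by
      rw [← hn, ← h5, h4]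
    have h7 : n = tdeg (fiberQ h (h.base z)) (h.asFiber z) := by exact_mod_cast h6
    rw [hfd, ← h7] at h1
    have h8 : r = n + b := by exact_mod_cast h1
    have hb0 : b = 0 := by omega
    rw [hb0] at hb
    have hmax : IsMax (h.asFiber z) := Order.coheight_eq_zero.mp (by exact_mod_cast hb)
    intro w hw hwz
    obtain ⟨w₁, rfl⟩ : w ∈ Set.range (h.fiberι (h.base z)).base := by
      rw [h.range_fiberι]; exact hw
    have h9 : w₁ ⤳ h.asFiber z := by
      rw [← (h.fiberι (h.base z)).isEmbedding.isInducing.specializes_iff, h.fiberι_asFiber]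
      exact hwz
    have h10 : h.asFiber z ⤳ w₁ := Scheme.le_iff_specializes.mp (hmax (Scheme.le_iff_specializes.mpr h9))
    rw [(h9.antisymm h10).eq, h.fiberι_asFiber]

/-- A shift condition at fibre-maximal points together with a dimension function upstairs
characterizes fibre-maximal points. -/
theorem shift_iff_fibre_max {X' X : Scheme.{u}} (p : X' ⟶ X) (δ : X → ℤ) (δ' : X' → ℤ)
    (hdim : Cyc.IsDimFun X' δ') (c : ℤ)
    (hc : ∀ x' : X', (∀ y, p y = p x' → y ⤳ x' → y = x') → δ' x' = δ (p x') + c) (x' : X') :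
    δ' x' = δ (p x') + c ↔ ∀ y, p y = p x' → y ⤳ x' → y = x' := by
  refine ⟨fun h => ?_, hc x'⟩
  obtain ⟨z, hzx, hfz, hzmax⟩ := exists_fibre_max_gen p x'
  by_cases hzx' : z = x'
  · rw [← hzx']; exact hzmax
  · exfalso
    have hlt : δ' x' < δ' z := (hdim z x' hzx hzx').1
    have hz := hc z hzmax
    have hfz' : p z = p x' := hfz
    rw [hfz'] at hz
    omega

set_option backward.isDefEq.respectTransparency false in
/-- **S6478**, second half. -/
theorem pullFun_square {X X' Y : Scheme.{u}} (f : Y ⟶ X) (p : X' ⟶ X) [Flat f]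
    [LocallyOfFiniteType f] [Flat p] (r : ℕ) (hr : Cyc.HasRelDim f r)
    (δ : X → ℤ) (δ' : X' → ℤ) (δY : Y → ℤ) (δY' : ↥(pullback f p) → ℤ)
    (hX' : Cyc.IsSetup X' δ')
    (hf : Cyc.DeltaCompat f δY δ) (hf' : Cyc.DeltaCompat (pullback.snd f p) δY' δ') (c : ℤ)
    (hc : ∀ x' : X', (∀ y, p y = p x' → y ⤳ x' → y = x') → δ' x' = δ (p x') + c)
    (hcY : ∀ y' : ↥(pullback f p),
      (∀ y, pullback.fst f p y = pullback.fst f p y' → y ⤳ y' → y = y') →
        δY' y' = δY (pullback.fst f p y') + c) (α : X → ℤ) :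
    Cyc.pullFun (pullback.snd f p) δY' δ' r (Cyc.pullFun p δ' δ c α) =
      Cyc.pullFun (pullback.fst f p) δY' δY c (Cyc.pullFun f δY δ r α) := by
  have hr' : Cyc.HasRelDim (pullback.snd f p) r :=
    (Groth.Agent.S9358.result f p (pullback.fst f p) (pullback.snd f p)
      (IsPullback.of_hasPullback f p) r).2.2 hr
  have hdimY' : Cyc.IsDimFun (pullback f p) δY' :=
    Groth.Agent.S9684.result (pullback.snd f p) δ' hX' δY' hf'
  haveI : Flat (pullback.snd f p) := inferInstance
  haveI : Flat (pullback.fst f p) := inferInstance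
  funext y'
  set q := pullback.fst f p with hq
  set f' := pullback.snd f p with hf'def
  have hcond : q ≫ f = f' ≫ p := pullback.condition
  have hpt : f (q y') = p (f' y') := by
    have := congrArg (fun φ : pullback f p ⟶ X => φ.base y') hcond
    exact this
  rw [pullFun_apply, pullFun_apply, pullFun_apply, pullFun_apply]
  obtain ⟨n, hn, hδn⟩ := hf (q y')
  obtain ⟨n', hn', hδn'⟩ := hf' y'
  -- characterizations of the four conditions
  have A1 : δY' y' = δ' (f' y') + r ↔ ∀ w, f' w = f' y' → w ⤳ y' → w = y' := by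
    rw [fibre_max_iff_trdeg_eq f' r hr' y' n' hn']
    constructor
    · intro h; have : δY' y' = δ' (f' y') + n' := hδn'; omega
    · intro h; have : δY' y' = δ' (f' y') + n' := hδn'; rw [this, h]
  have A2 := shift_iff_fibre_max p δ δ' hX'.2.2 c hc (f' y')
  have B1 := shift_iff_fibre_max q δY δY' hdimY' c hcY y'
  have B2 : δY (q y') = δ (f (q y')) + r ↔ ∀ w, f w = f (q y') → w ⤳ q y' → w = q y' := by
    rw [fibre_max_iff_trdeg_eq f r hr (q y') n hn]
    constructor
    · intro h; have : δY (q y') = δ (f (q y')) + n := hδn; omega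
    · intro h; have : δY (q y') = δ (f (q y')) + n := hδn; rw [this, h]
  have hsq : ∀ w : ↥(pullback f p), f (q w) = p (f' w) := by
    intro w
    exact congrArg (fun φ : pullback f p ⟶ X => φ.base w) hcond
  -- the equivalence of the two pairs of conditions
  have hiff : ((∀ w, f' w = f' y' → w ⤳ y' → w = y') ∧
      (∀ y, p y = p (f' y') → y ⤳ f' y' → y = f' y')) ↔
      ((∀ y, q y = q y' → y ⤳ y' → y = y') ∧
        (∀ w, f w = f (q y') → w ⤳ q y' → w = q y')) := by
    constructor
    · rintro ⟨a1, a2⟩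
      have b1 : ∀ y, q y = q y' → y ⤳ y' → y = y' := by
        intro w hw hwy
        apply a1 w _ hwy
        apply a2 (f' w) _ (hwy.map f'.continuous)
        rw [← hsq, ← hsq, hw]
      refine ⟨b1, ?_⟩
      intro t ht hty
      obtain ⟨w, hwy, hw⟩ := (Flat.generalizingMap q) hty
      have h1 : f' w = f' y' := by
        apply a2 (f' w) _ (hwy.map f'.continuous)
        rw [← hsq, ← hsq, hw, ht]
      rw [← hw, a1 w h1 hwy]
    · rintro ⟨b1, b2⟩
      have a1 : ∀ w, f' w = f' y' → w ⤳ y' → w = y' := by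
        intro w hw hwy
        apply b1 w _ hwy
        apply b2 (q w) _ (hwy.map q.continuous)
        rw [hsq, hsq, hw]
      refine ⟨a1, ?_⟩
      intro t ht hty
      obtain ⟨w, hwy, hw⟩ := (Flat.generalizingMap f') hty
      have h1 : q w = q y' := by
        apply b2 (q w) _ (hwy.map q.continuous)
        rw [hsq, hsq, hw, ht]
      rw [← hw, b1 w h1 hwy]
  have hmult : mult p (f' y') * mult f' y' = mult f (q y') * mult q y' := by
    rw [← mult_comp f' p y', ← mult_comp q f y']
    exact (congrArg (fun φ : pullback f p ⟶ X => mult φ y') hcond).symm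
  by_cases hA : (∀ w, f' w = f' y' → w ⤳ y' → w = y') ∧
      (∀ y, p y = p (f' y') → y ⤳ f' y' → y = f' y')
  · have hB := hiff.mp hA
    rw [if_pos (A1.mpr hA.1), if_pos (A2.mpr hA.2), if_pos (B1.mpr hB.1), if_pos (B2.mpr hB.2)]
    rw [← hpt, mul_assoc, hmult, mul_assoc]
  · have hB : ¬ ((∀ y, q y = q y' → y ⤳ y' → y = y') ∧
        (∀ w, f w = f (q y') → w ⤳ q y' → w = q y')) := fun h => hA (hiff.mpr h)
    have hL : (if δY' y' = δ' (f' y') + r then
        (if δ' (f' y') = δ (p (f' y')) + c then α (p (f' y')) * mult p (f' y') else 0) *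
          mult f' y' else 0) = 0 := by
      by_cases h1 : δY' y' = δ' (f' y') + r
      · rw [if_pos h1]
        have h2 : ¬ δ' (f' y') = δ (p (f' y')) + c := fun h2 => hA ⟨A1.mp h1, A2.mp h2⟩
        rw [if_neg h2, zero_mul]
      · rw [if_neg h1]
    have hR : (if δY' y' = δY (q y') + c then
        (if δY (q y') = δ (f (q y')) + r then α (f (q y')) * mult f (q y') else 0) *
          mult q y' else 0) = 0 := by
      by_cases h1 : δY' y' = δY (q y') + c
      · rw [if_pos h1]
        have h2 : ¬ δY (q y') = δ (f (q y')) + r := fun h2 => hB ⟨B1.mp h1, B2.mp h2⟩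
        rw [if_neg h2, zero_mul]
      · rw [if_neg h1]
    rw [hL, hR]

end Groth.Agent.H60.CycPullSq
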