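import Mathlib
import Groth.Agent.S6320

/-!
# Degree formula for finite algebras over a field

`dim_K C = Σ_{𝔪} [C/𝔪 : K] · length(C_𝔪)` for a finite algebra `C` over a field `K`.
-/

set_option autoImplicit false
set_option linter.style.haveILetI false
universe u

namespace Groth.Agent.H60.FinFlatDeg

theorem comap_eq_bot (K C : Type u) [Field K] [CommRing C] [Algebra K C] (n : Ideal C)
    [hn : n.IsPrime] : n.comap (algebraMap K C) = ⊥ :=
  (Ideal.eq_bot_or_top _).resolve_right (Ideal.IsPrime.ne_top (Ideal.IsPrime.comap _))

/-- `dim_K C = Σ_{𝔪} [C/𝔪 : K] · length(C_𝔪)` for a finite algebra over a field. -/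
theorem finrank_eq_finsum (K C : Type u) [Field K] [CommRing C] [Algebra K C]
    [Module.Finite K C] :
    (Module.finrank K C : ℕ∞) = ∑ᶠ n : MaximalSpectrum C,
      (Module.finrank K (C ⧸ n.asIdeal) : ℕ∞) *
        Module.length (Localization.AtPrime n.asIdeal) (Localization.AtPrime n.asIdeal) := by
  haveI : IsArtinianRing C := IsArtinianRing.of_finite K C
  haveI : IsNoetherianRing C := inferInstance
  have hbot : ∀ n : MaximalSpectrum C, n.asIdeal.comap (algebraMap K C) = ⊥ := fun n =>
    comap_eq_bot K C n.asIdeal
  have key := Groth.Agent.S6320.result (A := K) (B := C)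
    (fun n => by rw [hbot n, IsLocalRing.maximalIdeal_eq_bot])
    (fun n => by
      haveI : Module.Finite K (C ⧸ n.asIdeal) := inferInstance
      exact Module.Finite.of_restrictScalars_finite K _ _) C
    (isFiniteLength_iff_isNoetherian_isArtinian.mpr ⟨inferInstance, inferInstance⟩)
  rw [Module.length_eq_finrank] at key
  rw [key]
  apply finsum_congr
  intro n
  congr 1
  · congr 1
    symm
    refine Algebra.finrank_eq_of_equiv_equiv
      ((RingEquiv.quotientBot K).symm.trans (Ideal.quotEquivOfEq (hbot n).symm))
      (RingEquiv.refl _) ?_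
    ext k
    rfl

end Groth.Agent.H60.FinFlatDeg
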