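import Mathlib
import Groth.Agent.H60.FinFlatDeg
import Groth.Agent.H69.FibDegRes
import Groth.Agent.H37.BddFibLib3
import Groth.Agent.H25.LenBC

/-!
# Degree formula for finite schemes over a field
-/

set_option autoImplicit false
set_option linter.style.haveILetI false
universe u

open AlgebraicGeometry CategoryTheory BddFib

namespace Groth.Agent.H60.FinFlatDegSch

open Groth.Agent.H69.FibDegRes Groth.Agent.H25.LenBC

theorem length_localization_congr {C : Type u} [CommRing C] (P Q : Ideal C) [P.IsPrime]
    [Q.IsPrime] (h : P = Q) :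
    Module.length (Localization.AtPrime P) (Localization.AtPrime P) =
      Module.length (Localization.AtPrime Q) (Localization.AtPrime Q) := by
  subst h; rfl

theorem ker_Γevaluation_eq_primeIdealOf {T : Scheme.{u}} [IsAffine T] (x : T) :
    RingHom.ker (T.Γevaluation x).hom =
      ((isAffineOpen_top T).primeIdealOf ⟨x, trivial⟩).asIdeal := by
  letI := T.presheaf.algebra_section_stalk (U := ⊤) ⟨x, trivial⟩
  haveI := (isAffineOpen_top T).isLocalization_stalk ⟨x, trivial⟩
  have h := IsLocalization.AtPrime.comap_maximalIdeal (T.presheaf.stalk x)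
    ((isAffineOpen_top T).primeIdealOf ⟨x, trivial⟩).asIdeal
  rw [← h]
  ext a
  rw [RingHom.mem_ker, Ideal.mem_comap, ← IsLocalRing.residue_eq_zero_iff]
  rfl

theorem length_stalk_eq {T : Scheme.{u}} [IsAffine T] (x : T)
    [hP : (RingHom.ker (T.Γevaluation x).hom).IsPrime] :
    Module.length (Localization.AtPrime (RingHom.ker (T.Γevaluation x).hom))
        (Localization.AtPrime (RingHom.ker (T.Γevaluation x).hom)) =
      Module.length (T.presheaf.stalk x) (T.presheaf.stalk x) := by
  rw [length_localization_congr _ _ (ker_Γevaluation_eq_primeIdealOf x)]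
  letI := T.presheaf.algebra_section_stalk (U := ⊤) ⟨x, trivial⟩
  haveI := (isAffineOpen_top T).isLocalization_stalk ⟨x, trivial⟩
  exact length_self_ringEquiv (IsLocalization.algEquiv
    ((isAffineOpen_top T).primeIdealOf ⟨x, trivial⟩).asIdeal.primeCompl
    (Localization.AtPrime ((isAffineOpen_top T).primeIdealOf ⟨x, trivial⟩).asIdeal)
    (T.presheaf.stalk x)).toRingEquiv


theorem length_localization_ne_top {C : Type u} [CommRing C] [IsArtinianRing C]
    [IsNoetherianRing C] (P : Ideal C) [P.IsPrime] :
    Module.length (Localization.AtPrime P) (Localization.AtPrime P) ≠ ⊤ := by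
  rw [Module.length_ne_top_iff, isFiniteLength_iff_isNoetherian_isArtinian]
  haveI : IsNoetherianRing (Localization.AtPrime P) :=
    IsLocalization.isNoetherianRing P.primeCompl _ inferInstance
  exact ⟨inferInstance, inferInstance⟩

set_option backward.isDefEq.respectTransparency false in
/-- The degree of a finite scheme over a field is the sum over its points of
`length(O_x) · [κ(x) : k]`. -/
theorem finrank_eq_sum_points {k : Type u} [Field k] {T : Scheme.{u}} [IsAffine T]
    (p : T ⟶ Spec (CommRingCat.of k))
    (hfin : letI := secAlgebra (CommRingCat.of k) p; Module.Finite k Γ(T, ⊤)) :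
    Finite T ∧ (letI := secAlgebra (CommRingCat.of k) p; (Module.finrank k Γ(T, ⊤) : ℤ)) =
      ∑ᶠ x : T, ((Module.length (T.presheaf.stalk x) (T.presheaf.stalk x)).toNat : ℤ) *
        (p.residueDegree x : ℤ) := by
  classical
  letI aP : Algebra k Γ(T, ⊤) := secAlgebra (CommRingCat.of k) p
  haveI : Module.Finite k Γ(T, ⊤) := hfin
  haveI : IsArtinianRing Γ(T, ⊤) := IsArtinianRing.of_finite k _
  haveI : IsNoetherianRing Γ(T, ⊤) := inferInstance
  have hsurj : ∀ x : T, Function.Surjective (T.Γevaluation x).hom := fun x =>
    Γevaluation_surjective (k := k) x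
  have hmax : ∀ x : T, (RingHom.ker (T.Γevaluation x).hom).IsMaximal := fun x => by
    haveI : (RingHom.ker (T.Γevaluation x).hom).IsPrime := RingHom.ker_isPrime _
    infer_instance
  have hinj : Function.Injective fun x : T => RingHom.ker (T.Γevaluation x).hom := by
    intro x x' h
    simp only [ker_Γevaluation] at h
    have h2 : T.toSpecΓ x = T.toSpecΓ x' := PrimeSpectrum.ext h
    have hiso : Function.Injective T.toSpecΓ := T.isoSpec.hom.homeomorph.injective
    exact hiso h2
  let e : T → MaximalSpectrum Γ(T, ⊤) := fun x => ⟨RingHom.ker (T.Γevaluation x).hom, hmax x⟩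
  have he : Function.Bijective e := by
    constructor
    · intro x x' h
      exact hinj (congrArg MaximalSpectrum.asIdeal h)
    · intro n
      obtain ⟨x, hx⟩ := T.isoSpec.hom.homeomorph.surjective ⟨n.asIdeal, n.isMaximal.isPrime⟩
      refine ⟨x, MaximalSpectrum.ext ?_⟩
      show RingHom.ker _ = n.asIdeal
      rw [ker_Γevaluation]
      exact congrArg PrimeSpectrum.asIdeal hx
  haveI : Finite T := Finite.of_injective e he.1
  refine ⟨inferInstance, ?_⟩
  have key := Groth.Agent.H60.FinFlatDeg.finrank_eq_finsum k Γ(T, ⊤)
  rw [← finsum_comp_equiv (Equiv.ofBijective e he)] at key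
  -- residue degrees
  have hdeg : ∀ x : T, Module.finrank k (Γ(T, ⊤) ⧸ RingHom.ker (T.Γevaluation x).hom) =
      p.residueDegree x := by
    intro x
    letI := (p.residueFieldMap x).hom.toAlgebra
    change _ = Module.finrank ((Spec (CommRingCat.of k)).residueField (p x)) (T.residueField x)
    refine Algebra.finrank_eq_of_equiv_equiv
      (RingEquiv.ofBijective _ (bijective_toResidueField_Spec k (p x)))
      (RingHom.quotientKerEquivOfSurjective (hsurj x)) ?_
    ext c
    exact (Scheme.Γevaluation_naturality_apply p x _)
  have hlen : ∀ x : T, Module.length (Localization.AtPrime (e x).asIdeal)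
      (Localization.AtPrime (e x).asIdeal) =
        Module.length (T.presheaf.stalk x) (T.presheaf.stalk x) := fun x => by
    haveI : (RingHom.ker (T.Γevaluation x).hom).IsPrime := (hmax x).isPrime
    exact length_stalk_eq x
  have hne : ∀ x : T, Module.length (T.presheaf.stalk x) (T.presheaf.stalk x) ≠ ⊤ := fun x => by
    rw [← hlen x]
    exact length_localization_ne_top _
  letI : Fintype T := Fintype.ofFinite T
  rw [finsum_eq_sum_of_fintype] at key ⊢
  have key2 : (Module.finrank k Γ(T, ⊤) : ℕ∞) = ((∑ x : T,
      (Module.length (T.presheaf.stalk x) (T.presheaf.stalk x)).toNat *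
        p.residueDegree x : ℕ) : ℕ∞) := by
    rw [key, Nat.cast_sum]
    apply Finset.sum_congr rfl
    intro x _
    have h1 : (Equiv.ofBijective e he) x = e x := rfl
    rw [h1, hlen x, hdeg x, Nat.cast_mul, ENat.natCast_toNat (hne x), mul_comm]
  have key3 : Module.finrank k Γ(T, ⊤) = ∑ x : T,
      (Module.length (T.presheaf.stalk x) (T.presheaf.stalk x)).toNat *
        p.residueDegree x := by exact_mod_cast key2
  rw [key3]
  push_cast
  rfl

end Groth.Agent.H60.FinFlatDegSch
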