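import Mathlib
import Groth.Agent.H60.FinFlatDegSch
import Groth.Agent.H60.CycPullSq
import Groth.Agent.H60.CycMapComp
import Groth.Agent.H9.FiberStalk

/-!
# Degree formula for finite flat morphisms: `rank_y f = Σ_{x ↦ y} e_x · f_x`
-/

set_option autoImplicit false
set_option linter.style.haveILetI false
universe u

open AlgebraicGeometry CategoryTheory CategoryTheory.Limits BddFib

namespace Groth.Agent.H60.FinFlatDegFib

open Groth.Agent.H60.FinFlatDegSch Groth.Agent.H25.LenBC Groth.Agent.H60.CycPullSq
  Groth.Agent.H60.CycMapComp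

theorem residueFieldMap_bijective_of_surjective {X Y : Scheme.{u}} (g : X ⟶ Y) (x : X)
    (h : Function.Surjective (g.stalkMap x).hom) :
    Function.Bijective (g.residueFieldMap x).hom := by
  refine ⟨RingHom.injective _, ?_⟩
  intro b
  obtain ⟨b', rfl⟩ := IsLocalRing.residue_surjective (R := X.presheaf.stalk x) b
  obtain ⟨a, rfl⟩ := h b'
  exact ⟨IsLocalRing.residue _ a, rfl⟩

theorem residueDegree_eq_one_of_surjective {X Y : Scheme.{u}} (g : X ⟶ Y) (x : X)
    (h : Function.Surjective (g.stalkMap x).hom) : g.residueDegree x = 1 := by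
  letI := (g.residueFieldMap x).hom.toAlgebra
  change Module.finrank (Y.residueField (g x)) (X.residueField x) = 1
  rw [Algebra.finrank_eq_of_equiv_equiv
    (RingEquiv.ofBijective _ (residueFieldMap_bijective_of_surjective g x h))
    (RingEquiv.refl (X.residueField x)) (by ext c; rfl)]
  exact Module.finrank_self _

theorem mult_eq_length_fiber {X Y : Scheme.{u}} (f : X ⟶ Y) (y : Y) (x' : ↥(f.fiber y)) :
    mult f ((f.fiberι y) x') =
      ((Module.length ((f.fiber y).presheaf.stalk x') ((f.fiber y).presheaf.stalk x')).toNat : ℤ) := by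
  unfold mult
  rw [← length_self_ringEquiv (Groth.Agent.H9.fiberStalkEquiv f y x')]
  congr 2
  exact Module.length_eq_of_surjective Ideal.Quotient.mk_surjective


theorem residueDegree_fiber {X Y : Scheme.{u}} (f : X ⟶ Y) (y : Y) (x' : ↥(f.fiber y)) :
    (f.fiberToSpecResidueField y).residueDegree x' = f.residueDegree ((f.fiberι y) x') := by
  have h1 := residueDegree_comp (f.fiberι y) f x'
  have h2 := residueDegree_comp (f.fiberToSpecResidueField y) (Y.fromSpecResidueField y) x'
  have hc : f.fiberι y ≫ f = f.fiberToSpecResidueField y ≫ Y.fromSpecResidueField y :=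
    pullback.condition
  rw [hc] at h1
  rw [residueDegree_eq_one_of_surjective (f.fiberι y) x'
    ((f.fiberι y).stalkMap_surjective x'), mul_one] at h1
  rw [residueDegree_eq_one_of_surjective (Y.fromSpecResidueField y) _
    ((Y.fromSpecResidueField y).stalkMap_surjective _), one_mul] at h2
  rw [← h1, h2]

set_option backward.isDefEq.respectTransparency false in
/-- **Degree formula**: the rank of a finite flat morphism at `y` is the sum over the points
`x` of the fibre of `length(O_x/𝔪_y O_x) · [κ(x) : κ(y)]`. -/
theorem finrank_eq_finsum_fibre {X Y : Scheme.{u}} (f : X ⟶ Y) [IsFinite f] [Flat f] (y : Y) :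
    (f.base ⁻¹' {y} : Set X).Finite ∧ (f.finrank y : ℤ) =
      ∑ᶠ x ∈ (f.base ⁻¹' {y} : Set X), mult f x * (f.residueDegree x : ℤ) := by
  obtain ⟨hT, hfin, hrank⟩ := Groth.Agent.H37.BddFibLib.fibre_finrank_eq f y
  haveI := hT
  obtain ⟨hT2, hsum⟩ := finrank_eq_sum_points (k := Y.residueField y)
    (f.fiberToSpecResidueField y) hfin
  have hrange : Set.range (f.fiberι y) = f.base ⁻¹' {y} := f.range_fiberι y
  constructor
  · rw [← hrange]
    exact Set.finite_range _
  rw [← hrank, hsum, ← hrange, finsum_mem_range (f.fiberι y).isEmbedding.injective]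
  apply finsum_congr
  intro x'
  rw [mult_eq_length_fiber, residueDegree_fiber]

end Groth.Agent.H60.FinFlatDegFib
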