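import Mathlib
import Groth.Agent.H60.FinFlatDegFib
import Groth.Agent.H60.CycPullComp
import Groth.Agent.S1608

/-!
# S1868: `f_* f^* α = d • α` for finite locally free `f` of degree `d`
-/

set_option autoImplicit false
set_option linter.style.haveILetI false
universe u

open AlgebraicGeometry CategoryTheory CategoryTheory.Limits

namespace Groth.Agent.H60.CycFinFlat

open Groth.Agent.H60.CycPullSq Groth.Agent.H60.CycPullComp Groth.Agent.H60.FinFlatDegFib

theorem hasRelDim_zero {X Y : Scheme.{u}} (f : X ⟶ Y) [IsFinite f] : Cyc.HasRelDim f 0 := by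
  refine (Groth.Agent.H70.RelDimPointwise.hasRelDim_iff f 0).mpr fun x => ?_
  exact Groth.Agent.S1608.fibreDimAt_eq_zero_of_quasiFiniteAt f x (f.quasiFiniteAt x)

set_option backward.isDefEq.respectTransparency false in
theorem main (X Y : Scheme.{u}) (δX : X → ℤ) (δY : Y → ℤ) (f : X ⟶ Y) [IsFinite f] [Flat f]
    (d : ℕ) (hd : ∀ y : Y, f.finrank y = d) (hδ : Cyc.DeltaCompat f δX δY) :
    Cyc.HasRelDim f 0 ∧ ∀ (α : AlgebraicCycle Y ℤ),
      ∀ α' : AlgebraicCycle X ℤ, ⇑α' = Cyc.pullFun f δX δY 0 ⇑α →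
        AlgebraicCycle.map f δX δY α' = d • α := by
  have hr := hasRelDim_zero f
  refine ⟨hr, ?_⟩
  intro α α' hα'
  have hδeq : ∀ x : X, δX x = δY (f.base x) := by
    intro x
    obtain ⟨n, hn, hδn⟩ := hδ x
    have h0 : n ≤ 0 := trdeg_le_of_hasRelDim f 0 hr x n hn
    have h1 : n = 0 := by omega
    rw [h1] at hδn
    simpa using hδn
  ext z
  simp only [AlgebraicCycle.map, Function.locallyFinsupp.map_apply]
  obtain ⟨hfin, hsum⟩ := finrank_eq_finsum_fibre f z
  have hterm : ∀ x ∈ (f.base ⁻¹' {z} : Set X),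
      α' x * (AlgebraicCycle.mapCoeff f δX δY x : ℤ) =
        α z * (mult f x * (f.residueDegree x : ℤ)) := by
    intro x hx
    have hx' : f.base x = z := hx
    rw [hα', pullFun_apply]
    unfold AlgebraicCycle.mapCoeff
    rw [if_pos (by rw [hδeq x]; simp), if_pos (hδeq x), hx']
    ring
  rw [finsum_mem_congr rfl hterm, ← mul_finsum_mem, ← hsum, hd z]
  simp [mul_comm]

end Groth.Agent.H60.CycFinFlat
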