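import Mathlib
import Groth.Agent.S0019
import Groth.Agent.H18.SuppZero
import Groth.Agent.H8.SuppClosed
import Groth.Agent.H60.CycFinFlat
import Groth.Prelude.Def_ChowK

/-!
# S6499: finite pushforward preserves `Coh_{≤ k}`
-/

set_option autoImplicit false
set_option linter.style.haveILetI false
universe u

open AlgebraicGeometry CategoryTheory CategoryTheory.Limits TopologicalSpace

namespace Groth.Agent.H60.CohLePush

open Groth.Agent.H60.CycPullComp Groth.Agent.H60.CycFinFlat

set_option backward.isDefEq.respectTransparency false in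
/-- The stalk of a pushforward vanishes at `y` as soon as the stalks vanish over a neighbourhood. -/
theorem subsingleton_stalk_push {X Y : Scheme.{u}} (π : X ⟶ Y) (F : X.Modules) (y : Y)
    (V : Y.Opens) (hyV : y ∈ V)
    (hV : ∀ x : X, π x ∈ V → Subsingleton ↑(F.presheaf.stalk x)) :
    Subsingleton ↑(((Scheme.Modules.pushforward π).obj F).presheaf.stalk y) := by
  refine ⟨fun a b => ?_⟩
  suffices h : ∀ g : ↑(((Scheme.Modules.pushforward π).obj F).presheaf.stalk y), g = 0 by
    rw [h a, h b]
  intro g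
  obtain ⟨O, hOV, hyO, t, rfl⟩ :=
    ((Scheme.Modules.pushforward π).obj F).presheaf.exists_le_germ_eq g hyV
  have ht : t = 0 := by
    have := Groth.Agent.H18.SuppZero.eq_zero_of_stalks (F := F) (U := π ⁻¹ᵁ O)
      (fun x hx => hV x (hOV hx)) t
    exact this
  rw [ht, map_zero]

set_option backward.isDefEq.respectTransparency false in
theorem main (X Y : Scheme.{u}) (δX : X → ℤ) (δY : Y → ℤ) (hY : Cyc.IsSetup Y δY)
    (π : X ⟶ Y) [IsFinite π] (hδ : Cyc.DeltaCompat π δX δY) (k : ℤ) (F : X.Modules)
    (hF : Cyc.CohLe δX k F) : Cyc.CohLe δY k ((Coh.push π).obj F) := by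
  haveI : IsLocallyNoetherian Y := hY.1
  refine ⟨Groth.Agent.S0019.result π F hF.1, ?_⟩
  intro y hy
  by_contra hcon
  have hr := hasRelDim_zero π
  have hall : ∀ x : X, π x = y → Subsingleton ↑(F.presheaf.stalk x) := by
    intro x hx
    by_contra hns
    have hnt : Nontrivial ↑(F.presheaf.stalk x) := not_subsingleton_iff_nontrivial.mp hns
    have h1 := hF.2 x hnt
    obtain ⟨n, hn, hδn⟩ := hδ x
    have h0 : n ≤ 0 := trdeg_le_of_hasRelDim π 0 hr x n hn
    have h2 : δX x = δY (π x) + n := hδn
    rw [hx] at h2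
    have : n = 0 := by omega
    rw [this] at h2
    apply hcon
    simp at h2
    omega
  haveI : SheafOfModules.IsFiniteType (R := X.ringCatSheaf) F := hF.1.2
  have hcl := Groth.Agent.H8.isClosed_support_of_isFiniteType F
  have hclosed : IsClosed (π '' {x : X | ¬ Subsingleton ↑(F.presheaf.stalk x)}) :=
    π.isClosedMap _ hcl
  let V : Y.Opens := ⟨(π '' {x : X | ¬ Subsingleton ↑(F.presheaf.stalk x)})ᶜ,
    hclosed.isOpen_compl⟩
  have hyV : y ∈ V := by
    rintro ⟨x, hx, hxy⟩
    exact hx (hall x hxy)
  have hsub := subsingleton_stalk_push π F y V hyV (fun x hx => by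
    by_contra hns
    exact hx ⟨x, hns, rfl⟩)
  exact not_subsingleton _ hsub

end Groth.Agent.H60.CohLePush
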