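import Mathlib.Topology.Spectral.ConstructibleTopology
import Mathlib.Topology.Constructible
import Mathlib.AlgebraicGeometry.Morphisms.QuasiSeparated
import Mathlib.AlgebraicGeometry.Properties
import Mathlib.Topology.Compactness.LocallyCompact
import Mathlib.Topology.Connected.TotallyDisconnected

set_option autoImplicit false
universe u

namespace Groth.Agent.H60

open Topology

section
variable {X : Type u} [TopologicalSpace X]

theorem isClopen_cons_of_isCompact_isOpen {V : Set X} (hV : IsOpen V) (hVc : IsCompact V) :
    IsOpen[constructibleTopology X] V ∧ IsClosed[constructibleTopology X] V := by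
  refine ⟨hVc.isOpen_constructibleTopology_of_isOpen hV, ?_⟩
  rw [← @isOpen_compl_iff _ _ (constructibleTopology X)]
  exact IsCompact.isOpen_constructibleTopology_of_isClosed (by simpa using hVc) hV.isClosed_compl

theorem isClopen_preimage_ofTopology {V : Set X} (hV : IsOpen V) (hVc : IsCompact V) :
    IsClopen (WithTopology.ofTopology ⁻¹' V : Set (WithConstructibleTopology X)) := by
  obtain ⟨h1, h2⟩ := isClopen_cons_of_isCompact_isOpen hV hVc
  constructor
  · rw [WithConstructibleTopology.isClosed_iff]
    exact h2
  · rw [WithConstructibleTopology.isOpen_iff]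
    exact h1

theorem continuous_val_cons [QuasiSeparatedSpace X] (U : Set X) (hUo : IsOpen U) (hU : IsCompact U) :
    Continuous[constructibleTopology ↥U, constructibleTopology X] (Subtype.val : ↥U → X) := by
  unfold constructibleTopology
  rw [continuous_generateFrom_iff]
  intro s hs
  rcases hs with ⟨hso, hsc⟩ | ⟨hscl, hsc⟩
  · apply IsCompact.isOpen_constructibleTopology_of_isOpen
    · rw [Subtype.isCompact_iff, Subtype.image_preimage_coe]
      exact QuasiSeparatedSpace.inter_isCompact _ _ hUo hU hso hsc
    · exact hso.preimage continuous_subtype_val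
  · apply IsCompact.isOpen_constructibleTopology_of_isClosed
    · rw [← Set.preimage_compl, Subtype.isCompact_iff, Subtype.image_preimage_coe]
      exact QuasiSeparatedSpace.inter_isCompact _ _ hUo hU hscl.isOpen_compl hsc
    · exact hscl.preimage continuous_subtype_val

theorem isCompact_cons_of_isCompact_isOpen [QuasiSeparatedSpace X] [QuasiSober X] [PrespectralSpace X]
    (U : Set X) (hUo : IsOpen U) (hU : IsCompact U) :
    @IsCompact X (constructibleTopology X) U := by
  haveI : CompactSpace ↥U := isCompact_iff_compactSpace.mp hU
  haveI : QuasiSeparatedSpace ↥U := QuasiSeparatedSpace.of_isOpenEmbedding hUo.isOpenEmbedding_subtypeVal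
  haveI : QuasiSober ↥U := hUo.isOpenEmbedding_subtypeVal.quasiSober
  haveI : PrespectralSpace ↥U := hUo.isOpenEmbedding_subtypeVal.prespectralSpace
  have h1 : IsCompact (Set.univ : Set (WithConstructibleTopology ↥U)) := isCompact_univ
  have h2 : @IsCompact ↥U (constructibleTopology ↥U) (Set.univ : Set ↥U) := by
    have := @IsCompact.image (WithConstructibleTopology ↥U) ↥U _ (constructibleTopology ↥U) _ _ h1
      (WithTopology.continuous_ofTopology _)
    rwa [Set.image_univ, (WithTopology.ofTopology_surjective _).range_eq] at this
  have h3 := @IsCompact.image ↥U X (constructibleTopology ↥U) (constructibleTopology X) _ _ h2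
    (continuous_val_cons U hUo hU)
  rwa [Set.image_univ, Subtype.range_coe] at h3

theorem isCompact_preimage_ofTopology [QuasiSeparatedSpace X] [QuasiSober X] [PrespectralSpace X]
    (U : Set X) (hUo : IsOpen U) (hU : IsCompact U) :
    IsCompact (WithTopology.ofTopology ⁻¹' U : Set (WithConstructibleTopology X)) := by
  have h := isCompact_cons_of_isCompact_isOpen U hUo hU
  have := @IsCompact.image X (WithConstructibleTopology X) (constructibleTopology X) _ _ _ h
    (WithTopology.continuous_toTopology _)
  rwa [WithTopology.image_toTopology] at this

end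

end Groth.Agent.H60
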