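import Groth.Agent.H60.ConsTop

set_option autoImplicit false
universe u

namespace Groth.Agent.H60

open Topology TopologicalSpace

/-- A compact open set of a topology generated by a subbasis is a finite union of finite
intersections of subbasic sets. -/
theorem of_isCompact_isOpen_generateFrom {α : Type u} (S : Set (Set α)) (P : Set α → Prop)
    (hS : ∀ s ∈ S, P s) (huniv : P Set.univ) (hinter : ∀ s t, P s → P t → P (s ∩ t))
    (hempty : P ∅) (hunion : ∀ s t, P s → P t → P (s ∪ t))
    (K : Set α) (hKo : IsOpen[generateFrom S] K) (hKc : @IsCompact α (generateFrom S) K) : P K := by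
  classical
  letI : TopologicalSpace α := TopologicalSpace.generateFrom S
  have hbasis := TopologicalSpace.isTopologicalBasis_of_subbasis (s := S) rfl
  have hPb : ∀ B ∈ ((fun f => ⋂₀ f) '' {f : Set (Set α) | f.Finite ∧ f ⊆ S}), P B := by
    rintro _ ⟨f, ⟨hf, hfS⟩, rfl⟩
    induction f, hf using Set.Finite.induction_on with
    | empty => simpa using huniv
    | @insert a f _ _ ih =>
      show P (⋂₀ insert a f)
      rw [Set.sInter_insert]
      exact hinter _ _ (hS _ (hfS (Set.mem_insert _ _)))
        (ih ((Set.subset_insert _ _).trans hfS))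
  have hex : ∀ y ∈ K, ∃ B ∈ ((fun f => ⋂₀ f) '' {f : Set (Set α) | f.Finite ∧ f ⊆ S}),
      y ∈ B ∧ B ⊆ K := fun y hy => hbasis.exists_subset_of_mem_open hy hKo
  choose! B hB hyB hBK using hex
  obtain ⟨t, ht, hcov⟩ := hKc.elim_nhds_subcover B
    (fun y hy => (hbasis.isOpen (hB y hy)).mem_nhds (hyB y hy))
  have hK : K = ⋃ x ∈ t, B x := by
    apply Set.Subset.antisymm hcov
    exact Set.iUnion₂_subset fun x hx => hBK x (ht x hx)
  rw [hK]
  have : ∀ t' : Finset α, (∀ x ∈ t', x ∈ K) → P (⋃ x ∈ t', B x) := by
    intro t'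
    induction t' using Finset.induction_on with
    | empty => intro _; simpa using hempty
    | insert a s _ ih =>
      intro h
      rw [Finset.set_biUnion_insert]
      exact hunion _ _ (hPb _ (hB a (h a (Finset.mem_insert_self _ _))))
        (ih fun x hx => h x (Finset.mem_insert_of_mem hx))
  exact this t ht

section
variable {X : Type u} [TopologicalSpace X] [QuasiSeparatedSpace X] [PrespectralSpace X]

theorem isConstructible_of_mem_subbasis {s : Set X} (hs : s ∈ constructibleTopologySubbasis X) :
    IsConstructible s := by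
  rcases hs with ⟨ho, hc⟩ | ⟨hcl, hc⟩
  · exact hc.isConstructible ho
  · exact (hc.isConstructible hcl.isOpen_compl).of_compl

/-- open retrocompact sets are clopen in the constructible topology -/
theorem isClopen_cons_of_isRetrocompact {U : Set X} (hU : IsOpen U) (hUr : IsRetrocompact U) :
    IsOpen[constructibleTopology X] U ∧ IsOpen[constructibleTopology X] Uᶜ := by
  have hcov : ∀ x : X, ∃ V : Set X, IsOpen V ∧ IsCompact V ∧ x ∈ V := by
    intro x
    obtain ⟨V, ⟨hVo, hVc⟩, hxV, -⟩ :=
      PrespectralSpace.isTopologicalBasis.exists_subset_of_mem_open (Set.mem_univ x) isOpen_univ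
    exact ⟨V, hVo, hVc, hxV⟩
  choose V hVo hVc hxV using hcov
  constructor
  · have : U = ⋃ x, U ∩ V x := by
      rw [← Set.inter_iUnion]
      have : ⋃ x, V x = Set.univ := Set.eq_univ_of_forall fun x => Set.mem_iUnion.mpr ⟨x, hxV x⟩
      rw [this, Set.inter_univ]
    rw [this]
    apply @isOpen_iUnion _ _ (constructibleTopology X)
    intro x
    exact (hUr (hVc x) (hVo x)).isOpen_constructibleTopology_of_isOpen (hU.inter (hVo x))
  · have : Uᶜ = ⋃ x, V x ∩ (U ∩ V x)ᶜ := by
      ext y
      simp only [Set.mem_compl_iff, Set.mem_iUnion, Set.mem_inter_iff, not_and]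
      constructor
      · intro hy
        exact ⟨y, hxV y, fun h => absurd h hy⟩
      · rintro ⟨x, hyx, h⟩ hyU
        exact h hyU hyx
    rw [this]
    apply @isOpen_iUnion _ _ (constructibleTopology X)
    intro x
    apply @IsOpen.inter _ (constructibleTopology X)
    · exact (hVc x).isOpen_constructibleTopology_of_isOpen (hVo x)
    · apply IsCompact.isOpen_constructibleTopology_of_isClosed
      · rw [compl_compl]; exact hUr (hVc x) (hVo x)
      · exact (hU.inter (hVo x)).isClosed_compl

theorem isClopen_cons_of_isConstructible {s : Set X} (hs : IsConstructible s) :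
    IsOpen[constructibleTopology X] s ∧ IsOpen[constructibleTopology X] sᶜ := by
  induction hs using IsConstructible.empty_union_induction with
  | open_retrocompact U hU hUr => exact isClopen_cons_of_isRetrocompact hU hUr
  | union s _ t _ hs ht =>
    refine ⟨@IsOpen.union _ _ _ (constructibleTopology X) hs.1 ht.1, ?_⟩
    rw [Set.compl_union]
    exact @IsOpen.inter _ (constructibleTopology X) _ _ hs.2 ht.2
  | compl s _ hs => exact ⟨hs.2, by rw [compl_compl]; exact hs.1⟩

theorem isLocallyConstructible_compl {s : Set X} (hs : IsLocallyConstructible s) :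
    IsLocallyConstructible sᶜ := by
  intro x
  obtain ⟨U, hUx, hU, hUs⟩ := hs x
  refine ⟨U, hUx, hU, ?_⟩
  rw [Set.preimage_compl]
  exact hUs.compl

theorem isOpen_cons_of_isLocallyConstructible {s : Set X} (hs : IsLocallyConstructible s) :
    IsOpen[constructibleTopology X] s := by
  have hcov : ∀ x : X, ∃ V : Set X, IsOpen V ∧ IsCompact V ∧ x ∈ V := by
    intro x
    obtain ⟨V, ⟨hVo, hVc⟩, hxV, -⟩ :=
      PrespectralSpace.isTopologicalBasis.exists_subset_of_mem_open (Set.mem_univ x) isOpen_univ
    exact ⟨V, hVo, hVc, hxV⟩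
  choose V hVo hVc hxV using hcov
  have : s = ⋃ x, s ∩ V x := by
    rw [← Set.inter_iUnion]
    have : ⋃ x, V x = Set.univ := Set.eq_univ_of_forall fun x => Set.mem_iUnion.mpr ⟨x, hxV x⟩
    rw [this, Set.inter_univ]
  rw [this]
  apply @isOpen_iUnion _ _ (constructibleTopology X)
  intro x
  exact (isClopen_cons_of_isConstructible (hs.inter_of_isOpen_isCompact (hVo x) (hVc x))).1

end

end Groth.Agent.H60
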