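import Groth.Agent.H60.ConsTop2
import Mathlib.Topology.Maps.Proper.Basic
import Mathlib.AlgebraicGeometry.Morphisms.QuasiCompact

set_option autoImplicit false
universe u

namespace Groth.Agent.H60

open Topology TopologicalSpace

section
variable {X : Type u} [TopologicalSpace X] [PrespectralSpace X]

theorem exists_compact_open_mem (x : X) : ∃ V : Set X, IsOpen V ∧ IsCompact V ∧ x ∈ V := by
  obtain ⟨V, ⟨hVo, hVc⟩, hxV, -⟩ :=
    PrespectralSpace.isTopologicalBasis.exists_subset_of_mem_open (Set.mem_univ x) isOpen_univ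
  exact ⟨V, hVo, hVc, hxV⟩

theorem cons_le : constructibleTopology X ≤ (inferInstance : TopologicalSpace X) := by
  intro s hs
  have hs' : IsOpen s := hs
  rw [PrespectralSpace.isTopologicalBasis.open_eq_sUnion' hs']
  apply @isOpen_sUnion _ (constructibleTopology X)
  rintro t ⟨⟨hto, htc⟩, -⟩
  exact htc.isOpen_constructibleTopology_of_isOpen hto

theorem isCompact_of_isCompact_cons {K : Set X} (hK : @IsCompact X (constructibleTopology X) K) :
    IsCompact K := by
  have := @IsCompact.image X X (constructibleTopology X) _ K id hK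
    (continuous_id_of_le cons_le)
  rwa [Set.image_id] at this

theorem t2Space_cons [T0Space X] : @T2Space X (constructibleTopology X) := by
  refine @T2Space.mk X (constructibleTopology X) fun x y hne => ?_
  obtain ⟨U, hU, hx⟩ := exists_isOpen_xor'_mem hne
  rcases hx with ⟨h1, h2⟩ | ⟨h2, h1⟩
  · obtain ⟨V, ⟨hVo, hVc⟩, hxV, hVU⟩ :=
      PrespectralSpace.isTopologicalBasis.exists_subset_of_mem_open h1 hU
    obtain ⟨ho, hc⟩ := isClopen_cons_of_isCompact_isOpen hVo hVc
    exact ⟨V, Vᶜ, ho, (@isOpen_compl_iff _ _ (constructibleTopology X)).mpr hc, hxV,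
      fun h => h2 (hVU h), disjoint_compl_right⟩
  · obtain ⟨V, ⟨hVo, hVc⟩, hxV, hVU⟩ :=
      PrespectralSpace.isTopologicalBasis.exists_subset_of_mem_open h2 hU
    obtain ⟨ho, hc⟩ := isClopen_cons_of_isCompact_isOpen hVo hVc
    exact ⟨Vᶜ, V, (@isOpen_compl_iff _ _ (constructibleTopology X)).mpr hc, ho,
      fun h => h1 (hVU h), hxV, disjoint_compl_left⟩

end

section
variable {X Y : Type u} [TopologicalSpace X] [TopologicalSpace Y]
  [QuasiSeparatedSpace X] [QuasiSober X] [PrespectralSpace X]
  [QuasiSeparatedSpace Y] [QuasiSober Y] [PrespectralSpace Y] [T0Space Y]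

theorem continuous_cons_of_isSpectralMap {f : X → Y} (hf : IsSpectralMap f) :
    Continuous[constructibleTopology X, constructibleTopology Y] f := by
  unfold constructibleTopology
  rw [continuous_generateFrom_iff]
  intro s hs
  rcases hs with ⟨hso, hsc⟩ | ⟨hscl, hsc⟩
  · exact (hf.2 hso hsc).isOpen_constructibleTopology_of_isOpen (hso.preimage hf.1)
  · apply IsCompact.isOpen_constructibleTopology_of_isClosed
    · rw [← Set.preimage_compl]
      exact hf.2 hscl.isOpen_compl hsc
    · exact hscl.preimage hf.1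

theorem isCompact_cons_preimage_of_isSpectralMap {f : X → Y} (hf : IsSpectralMap f)
    {K : Set Y} (hK : @IsCompact Y (constructibleTopology Y) K) :
    @IsCompact X (constructibleTopology X) (f ⁻¹' K) := by
  have hcont := continuous_cons_of_isSpectralMap hf
  have := @t2Space_cons Y _ _ _
  choose V hVo hVc hxV using fun y : Y => exists_compact_open_mem y
  have hVo' : ∀ y, IsOpen[constructibleTopology Y] (V y) := fun y =>
    (hVc y).isOpen_constructibleTopology_of_isOpen (hVo y)
  obtain ⟨t, -, hcov⟩ : ∃ t : Finset Y, (∀ x ∈ t, x ∈ K) ∧ K ⊆ ⋃ x ∈ t, V x := by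
    letI : TopologicalSpace Y := constructibleTopology Y
    exact hK.elim_nhds_subcover V (fun y _ => IsOpen.mem_nhds (hVo' y) (hxV y))
  have hWo : IsOpen (⋃ x ∈ t, V x) := isOpen_biUnion fun x _ => hVo x
  have hWc : IsCompact (⋃ x ∈ t, V x) := t.isCompact_biUnion fun x _ => hVc x
  have h1 : @IsCompact X (constructibleTopology X) (f ⁻¹' (⋃ x ∈ t, V x)) :=
    isCompact_cons_of_isCompact_isOpen _ (hWo.preimage hf.1) (hf.2 hWo hWc)
  have hKcl : IsClosed[constructibleTopology Y] K :=
    @IsCompact.isClosed Y (constructibleTopology Y) _ K hK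
  have h2 : IsClosed[constructibleTopology X] (f ⁻¹' K) :=
    @IsClosed.preimage X Y (constructibleTopology X) (constructibleTopology Y) f hcont K hKcl
  exact @IsCompact.of_isClosed_subset X (constructibleTopology X) _ _ h1 h2 (Set.preimage_mono hcov)

theorem isProperMap_cons_of_isSpectralMap {f : X → Y} (hf : IsSpectralMap f) :
    @IsProperMap X Y (constructibleTopology X) (constructibleTopology Y) f := by
  have hcont := continuous_cons_of_isSpectralMap hf
  have := @t2Space_cons Y _ _ _
  rw [@isProperMap_iff_isClosedMap_and_compact_fibers X Y (constructibleTopology X)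
    (constructibleTopology Y) f]
  refine ⟨hcont, ?_, ?_⟩
  · intro C hC
    rw [← @isOpen_compl_iff _ _ (constructibleTopology Y)]
    suffices key : ∀ y ∈ (f '' C)ᶜ, ∃ t ⊆ (f '' C)ᶜ, IsOpen[constructibleTopology Y] t ∧ y ∈ t by
      letI : TopologicalSpace Y := constructibleTopology Y
      exact isOpen_iff_forall_mem_open.mpr key
    intro y hy
    obtain ⟨V, hVo, hVc, hyV⟩ := exists_compact_open_mem y
    have h1 : @IsCompact X (constructibleTopology X) (C ∩ f ⁻¹' V) :=
      @IsCompact.inter_left X (constructibleTopology X) _ _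
        (isCompact_cons_of_isCompact_isOpen _ (hVo.preimage hf.1) (hf.2 hVo hVc)) hC
    have h2 : @IsCompact Y (constructibleTopology Y) (f '' (C ∩ f ⁻¹' V)) :=
      @IsCompact.image X Y (constructibleTopology X) (constructibleTopology Y) _ f h1 hcont
    have h3 : IsClosed[constructibleTopology Y] (f '' (C ∩ f ⁻¹' V)) :=
      @IsCompact.isClosed Y (constructibleTopology Y) _ _ h2
    refine ⟨V ∩ (f '' (C ∩ f ⁻¹' V))ᶜ, ?_, ?_, ?_⟩
    · rintro z ⟨hzV, hz⟩ ⟨c, hc, rfl⟩
      exact hz ⟨c, ⟨hc, hzV⟩, rfl⟩
    · exact @IsOpen.inter _ (constructibleTopology Y) _ _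
        (hVc.isOpen_constructibleTopology_of_isOpen hVo)
        ((@isOpen_compl_iff _ _ (constructibleTopology Y)).mpr h3)
    · refine ⟨hyV, ?_⟩
      rintro ⟨c, ⟨hc, -⟩, rfl⟩
      exact hy ⟨c, hc, rfl⟩
  · intro y
    exact isCompact_cons_preimage_of_isSpectralMap hf
      (@isCompact_singleton Y (constructibleTopology Y) y)

theorem isSpectralMap_of_isProperMap_cons {f : X → Y} (hfc : Continuous f)
    (hf : @IsProperMap X Y (constructibleTopology X) (constructibleTopology Y) f) :
    IsSpectralMap f := by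
  refine ⟨hfc, fun U hUo hUc => ?_⟩
  apply isCompact_of_isCompact_cons
  exact @IsProperMap.isCompact_preimage X Y (constructibleTopology X) (constructibleTopology Y) f hf U
    (isCompact_cons_of_isCompact_isOpen U hUo hUc)

end

end Groth.Agent.H60
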