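import Mathlib
import Groth.Agent.H46.LatMain
import Groth.Agent.H97.OrdOpen
import Groth.Agent.H60.CycPullComp

/-!
# Orders of vanishing along flat local homomorphisms, and transport along isomorphisms
-/

set_option autoImplicit false
set_option linter.style.haveILetI false
universe u

namespace Groth.Agent.H60.OrdFlat

open Groth.Agent.H60.CycPullComp

section Transport

variable {R R' K K' : Type u} [CommRing R] [CommRing R'] [Field K] [Field K'] [Algebra R K]
  [Algebra R' K']

theorem isFractionRing_transport [IsFractionRing R K] (e : R ≃+* R') (ε : K ≃+* K')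
    (hc : ∀ r, ε (algebraMap R K r) = algebraMap R' K' (e r)) : IsFractionRing R' K' := by
  haveI : IsDomain R := (IsFractionRing.injective R K).isDomain
  have hc' : ∀ r' : R', algebraMap R' K' r' = ε (algebraMap R K (e.symm r')) := fun r' => by
    rw [hc, e.apply_symm_apply]
  have hinj : Function.Injective (algebraMap R' K') := by
    intro r₁ r₂ h
    rw [hc', hc'] at h
    exact e.symm.injective (IsFractionRing.injective R K (ε.injective h))
  haveI : FaithfulSMul R' K' := (faithfulSMul_iff_algebraMap_injective R' K').mpr hinj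
  refine IsFractionRing.of_field R' K' (fun z => ?_)
  obtain ⟨a, b, -, hab⟩ := IsFractionRing.div_surjective (A := R) (ε.symm z)
  refine ⟨e a, e b, ?_⟩
  rw [← hc, ← hc, ← map_div₀, hab, ε.apply_symm_apply]

theorem cond_transport (e : R ≃+* R') (ε : K ≃+* K')
    (hc : ∀ r, ε (algebraMap R K r) = algebraMap R' K' (e r))
    (h : IsNoetherianRing R ∧ Ring.KrullDimLE 1 R ∧ Nontrivial R ∧ IsFractionRing R K) :
    IsNoetherianRing R' ∧ Ring.KrullDimLE 1 R' ∧ Nontrivial R' ∧ IsFractionRing R' K' := by
  obtain ⟨h1, h2, h3, h4⟩ := h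
  refine ⟨isNoetherianRing_of_ringEquiv _ e, ?_, e.injective.nontrivial,
    isFractionRing_transport e ε hc⟩
  rw [Ring.krullDimLE_iff, ← ringKrullDim_eq_of_ringEquiv e]
  exact Ring.krullDimLE_iff.mp h2

/-- Transport of the prelude's order of vanishing along compatible isomorphisms. -/
theorem cycOrdFrac_transport (e : R ≃+* R') (ε : K ≃+* K')
    (hc : ∀ r, ε (algebraMap R K r) = algebraMap R' K' (e r)) (f : K) :
    CycAlg.ordFrac R' K' (ε f) = CycAlg.ordFrac R K f := by
  by_cases h : IsNoetherianRing R ∧ Ring.KrullDimLE 1 R ∧ Nontrivial R ∧ IsFractionRing R K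
  · have h' := cond_transport e ε hc h
    unfold CycAlg.ordFrac
    rw [dif_pos h, dif_pos h']
    haveI := h.1; haveI := h.2.1; haveI := h.2.2.1; haveI := h.2.2.2
    haveI := h'.1; haveI := h'.2.1; haveI := h'.2.2.1; haveI := h'.2.2.2
    rw [Groth.Agent.H97.OrdOpen.ordFrac_transport e ε hc f]
  · have h' : ¬ (IsNoetherianRing R' ∧ Ring.KrullDimLE 1 R' ∧ Nontrivial R' ∧
        IsFractionRing R' K') := by
      intro h'
      apply h
      refine cond_transport e.symm ε.symm (fun r' => ?_) h'
      apply ε.injective
      rw [ε.apply_symm_apply, hc, e.apply_symm_apply]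
    unfold CycAlg.ordFrac
    rw [dif_neg h, dif_neg h']

end Transport

section Flat

variable {A B K L : Type u} [CommRing A] [CommRing B] [Field K] [Field L]
  [IsLocalRing A] [IsLocalRing B] [Algebra A K] [Algebra B L]

/-- Orders of vanishing are multiplied by the ramification length along a flat local
homomorphism of one-dimensional Noetherian local domains. -/
theorem ordFrac_flat [IsFractionRing A K] [IsFractionRing B L] [IsNoetherianRing A]
    [IsNoetherianRing B] [Ring.KrullDimLE 1 A] [Ring.KrullDimLE 1 B]
    (φ : A →+* B) [hloc : IsLocalHom φ] (hφ : φ.Flat) (φK : K →+* L)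
    (hc : ∀ a, φK (algebraMap A K a) = algebraMap B L (φ a)) (g : K) (hg : g ≠ 0) :
    CycAlg.ordFrac B L (φK g) = CycAlg.ordFrac A K g *
      ((Module.length B (B ⧸ (IsLocalRing.maximalIdeal A).map φ)).toNat : ℤ) := by
  haveI : IsDomain A := (IsFractionRing.injective A K).isDomain
  haveI : IsDomain B := (IsFractionRing.injective B L).isDomain
  have hinj : Function.Injective φ := by
    letI := φ.toAlgebra
    haveI : Module.Flat A B := hφ
    haveI : IsLocalHom (algebraMap A B) := hloc
    haveI : Module.FaithfullyFlat A B := Module.FaithfullyFlat.of_flat_of_isLocalHom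
    exact FaithfulSMul.algebraMap_injective A B
  obtain ⟨x, y, hy, rfl⟩ := IsFractionRing.div_surjective (A := A) g
  have hy0 : y ≠ 0 := nonZeroDivisors.ne_zero hy
  have hx0 : x ≠ 0 := by
    rintro rfl
    exact hg (by rw [map_zero, zero_div])
  have hφx : φ x ≠ 0 := fun h => hx0 (hinj (h.trans (map_zero φ).symm))
  have hφy : φ y ≠ 0 := fun h => hy0 (hinj (h.trans (map_zero φ).symm))
  have key : ∀ z : A, Ring.ord B (φ z) = Ring.ord A z *
      Module.length B (B ⧸ (IsLocalRing.maximalIdeal A).map φ) := by
    intro z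
    have h := length_quot_map φ hφ (Ideal.span {z})
    rw [Ideal.map_span, Set.image_singleton] at h
    exact h
  rw [map_div₀, hc, hc, Groth.Agent.H46.LatDist.ordFrac_div (φ x) (φ y) hφx hφy,
    Groth.Agent.H46.LatDist.ordFrac_div x y hx0 hy0, key x, key y, ENat.toNat_mul,
    ENat.toNat_mul]
  push_cast
  ring

end Flat

end Groth.Agent.H60.OrdFlat
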