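import Mathlib
import Groth.Agent.S6480
import Groth.Agent.H60.OrdFlat
import Groth.Agent.H29.DepthFinite
import Groth.Agent.H25.LenBC

/-!
# The length of `B/cB` over a one-dimensional Noetherian local ring, summed over minimal primes,
and the flat pullback formula for orders of vanishing (algebra behind S1907)
-/

set_option autoImplicit false
set_option linter.style.haveILetI false
universe u

namespace Groth.Agent.H60.CycDivAlg

open Groth.Agent.H60.CycPullComp
open scoped Pointwise

section Sum

variable {B : Type u} [CommRing B] [IsNoetherianRing B] [IsLocalRing B]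

theorem minimalPrimes_finite :
    {q : PrimeSpectrum B | q.asIdeal ∈ minimalPrimes B}.Finite :=
  (Ideal.finite_minimalPrimes_of_isNoetherianRing B ⊥).preimage
    (fun p _ q _ h => PrimeSpectrum.ext h)

theorem span_singleton_eq_smul_top (c : B) :
    (Ideal.span {c} : Submodule B B) = c • (⊤ : Submodule B B) := by
  ext z
  rw [Ideal.mem_span_singleton', Submodule.mem_smul_pointwise_iff_exists]
  constructor
  · rintro ⟨a, rfl⟩
    exact ⟨a, trivial, by rw [smul_eq_mul, mul_comm]⟩
  · rintro ⟨a, -, rfl⟩
    exact ⟨a, by rw [smul_eq_mul, mul_comm]⟩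

/-- `ℓ(B/cB) = Σ_q ℓ(B_q) · ℓ(B/(q + cB))` in `ℤ`, for a nonzerodivisor `c`. -/
theorem ord_eq_sum (hB : ringKrullDim B = 1) (c : B) (hc : c ∈ nonZeroDivisors B) :
    ((Ring.ord B c).toNat : ℤ) =
      ∑ᶠ (q : PrimeSpectrum B) (_ : q.asIdeal ∈ minimalPrimes B),
        ((Module.length (Localization.AtPrime q.asIdeal)
          (Localization.AtPrime q.asIdeal)).toNat : ℤ) *
          ((Module.length B (B ⧸ (q.asIdeal ⊔ Ideal.span {c}))).toNat : ℤ) := by
  classical
  haveI : Ring.KrullDimLE 1 B := by
    rw [Ring.krullDimLE_iff]; exact hB.le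
  have hS := minimalPrimes_finite (B := B)
  have hmin := Groth.Agent.S6480.nzd_notMem_minimalPrimes hc
  have f1 := Groth.Agent.S0616.result hB B c hmin
  have hreg : IsSMulRegular B c := by
    intro x y hxy
    simp only [smul_eq_mul] at hxy
    exact (mem_nonZeroDivisors_iff_right.mp hc |> fun h => by
      have : (x - y) * c = 0 := by rw [sub_mul, mul_comm x, mul_comm y, hxy, sub_self]
      exact sub_eq_zero.mp (h _ this))
  rw [(isSMulRegular_iff_ker_lsmul_eq_bot B c).mp hreg, Module.length_bot, zero_add] at f1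
  have hlen : ∀ q : PrimeSpectrum B,
      Module.length (Localization.AtPrime q.asIdeal) (LocalizedModule q.asIdeal.primeCompl B) =
        Module.length (Localization.AtPrime q.asIdeal) (Localization.AtPrime q.asIdeal) :=
    fun q => (Groth.Agent.H29.DepthFinite.selfEquiv q.asIdeal.primeCompl).length_eq
  have f2 : Ring.ord B c =
      ∑ q ∈ hS.toFinset, Module.length (Localization.AtPrime q.asIdeal)
        (Localization.AtPrime q.asIdeal) *
          Module.length B (B ⧸ (q.asIdeal ⊔ Ideal.span {c})) := by
    unfold Ring.ord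
    have e0 : Module.length B (B ⧸ Ideal.span {c}) =
        Module.length B (B ⧸ c • (⊤ : Submodule B B)) := by
      rw [← span_singleton_eq_smul_top]
    rw [e0, f1]
    refine (finsum_mem_eq_finite_toFinset_sum (fun q : PrimeSpectrum B =>
        Module.length (Localization.AtPrime q.asIdeal)
          (LocalizedModule q.asIdeal.primeCompl B) *
            Module.length B (B ⧸ (q.asIdeal ⊔ Ideal.span {c}))) hS).trans ?_
    exact Finset.sum_congr rfl (fun q _ => by rw [hlen])
  have hfin : Ring.ord B c ≠ ⊤ := Ring.ord_ne_top hc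
  have hterm : ∀ q ∈ hS.toFinset, Module.length (Localization.AtPrime q.asIdeal)
        (Localization.AtPrime q.asIdeal) *
          Module.length B (B ⧸ (q.asIdeal ⊔ Ideal.span {c})) ≠ ⊤ := by
    intro q hq
    refine ne_top_of_le_ne_top hfin ?_
    rw [f2]
    exact Finset.single_le_sum (f := fun q : PrimeSpectrum B =>
      Module.length (Localization.AtPrime q.asIdeal) (Localization.AtPrime q.asIdeal) *
        Module.length B (B ⧸ (q.asIdeal ⊔ Ideal.span {c}))) (fun _ _ => zero_le) hq
  rw [f2, ENat.toNat_sum hterm]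
  push_cast
  refine Eq.trans ?_ (finsum_mem_eq_finite_toFinset_sum _ hS).symm
  refine Finset.sum_congr rfl (fun q _ => ?_)
  rw [ENat.toNat_mul]
  push_cast
  rfl

end Sum

section Flat

variable {A B K : Type u} [CommRing A] [CommRing B] [Field K]
  [IsLocalRing A] [IsLocalRing B] [Algebra A K]

/-- The flat pullback formula: for a flat local homomorphism `φ : A → B` from a one-dimensional
Noetherian local domain to a one-dimensional Noetherian local ring, the order of `a/b` times the
ramification length is the sum over the minimal primes `q` of `B` of `ℓ(B_q)` times the order of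
`φ(a)/φ(b)` in `B/q`. -/
theorem ordFrac_flat_sum [IsFractionRing A K] [IsNoetherianRing A] [IsNoetherianRing B]
    [Ring.KrullDimLE 1 A] (hB : ringKrullDim B = 1)
    (φ : A →+* B) [hloc : IsLocalHom φ] (hφ : φ.Flat) (a b : A) (ha : a ≠ 0) (hb : b ≠ 0) :
    CycAlg.ordFrac A K (algebraMap A K a / algebraMap A K b) *
      ((Module.length B (B ⧸ (IsLocalRing.maximalIdeal A).map φ)).toNat : ℤ) =
    ∑ᶠ (q : PrimeSpectrum B) (_ : q.asIdeal ∈ minimalPrimes B),
      ((Module.length (Localization.AtPrime q.asIdeal)
        (Localization.AtPrime q.asIdeal)).toNat : ℤ) *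
        CycAlg.ordFrac (B ⧸ q.asIdeal) q.asIdeal.ResidueField
          (algebraMap B q.asIdeal.ResidueField (φ a) /
            algebraMap B q.asIdeal.ResidueField (φ b)) := by
  classical
  haveI : IsDomain A := (IsFractionRing.injective A K).isDomain
  have hS := minimalPrimes_finite (B := B)
  letI := φ.toAlgebra
  haveI : Module.Flat A B := hφ
  have hnzd : ∀ z : A, z ≠ 0 → φ z ∈ nonZeroDivisors B := by
    intro z hz
    have hz' : z ∈ nonZeroDivisors A := mem_nonZeroDivisors_of_ne_zero hz
    have h1 : IsSMulRegular B z :=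
      Module.Flat.isSMulRegular_of_nonZeroDivisors (M := B) hz'
    rw [mem_nonZeroDivisors_iff_right]
    intro w hw
    apply h1
    show z • w = z • (0 : B)
    rw [smul_zero, Algebra.smul_def, mul_comm]
    exact hw
  have key : ∀ z : A, Ring.ord B (φ z) = Ring.ord A z *
      Module.length B (B ⧸ (IsLocalRing.maximalIdeal A).map φ) := by
    intro z
    have h := length_quot_map φ hφ (Ideal.span {z})
    rw [Ideal.map_span, Set.image_singleton] at h
    exact h
  have hmin_a := Groth.Agent.S6480.nzd_notMem_minimalPrimes (hnzd a ha)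
  have hmin_b := Groth.Agent.S6480.nzd_notMem_minimalPrimes (hnzd b hb)
  rw [Groth.Agent.H46.LatDist.ordFrac_div a b ha hb, sub_mul]
  have e1 : ∀ z : A, ((Ring.ord A z).toNat : ℤ) *
      ((Module.length B (B ⧸ (IsLocalRing.maximalIdeal A).map φ)).toNat : ℤ) =
        ((Ring.ord B (φ z)).toNat : ℤ) := by
    intro z
    rw [key z, ENat.toNat_mul]
    push_cast
    rfl
  rw [e1 a, e1 b, ord_eq_sum hB (φ a) (hnzd a ha), ord_eq_sum hB (φ b) (hnzd b hb)]
  refine Eq.trans (congrArg₂ (· - ·) (finsum_mem_eq_finite_toFinset_sum _ hS)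
    (finsum_mem_eq_finite_toFinset_sum _ hS)) ?_
  refine Eq.trans ?_ (finsum_mem_eq_finite_toFinset_sum _ hS).symm
  rw [← Finset.sum_sub_distrib]
  refine Finset.sum_congr rfl (fun q hq => ?_)
  have hq' : q.asIdeal ∈ minimalPrimes B := hS.mem_toFinset.mp hq
  rw [Groth.Agent.S6480.ordFrac_div_eq hB q.asIdeal (φ a) (φ b) (hmin_a _ hq') (hmin_b _ hq'),
    mul_sub]

end Flat

end Groth.Agent.H60.CycDivAlg
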