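import Mathlib
import Groth.Agent.H60.OrdFlat
import Groth.Agent.H60.CycPullSq

/-!
# S1905: flat pullback of a principal divisor on an integral scheme
-/

set_option autoImplicit false
set_option linter.style.haveILetI false
universe u

open AlgebraicGeometry CategoryTheory CategoryTheory.Limits

namespace Groth.Agent.H60.CycPullDiv

open Groth.Agent.H60.CycPullSq Groth.Agent.H60.CycPullComp Groth.Agent.H60.OrdFlat

/-- The codimension of a point is bounded by the drop of a dimension function from a generic
point. -/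
theorem coheight_le_of_dimFun (X : Scheme.{u}) (δ : X → ℤ) (hδ : Cyc.IsDimFun X δ) (x η : X)
    (hη : ∀ z : X, η ⤳ z) (n : ℕ) (h : δ η ≤ δ x + n) : Order.coheight x ≤ (n : ℕ∞) := by
  refine Order.coheight_le_iff'.mpr fun p hp => ?_
  have hmono : ∀ i : ℕ, ∀ hi : i < p.length + 1, δ x + i ≤ δ (p ⟨i, hi⟩) := by
    intro i
    induction i with
    | zero =>
      intro hi
      have : p ⟨0, hi⟩ = x := hp
      rw [this]; simp
    | succ i ih =>
      intro hi
      have hi' : i < p.length + 1 := by omega
      have hlt : p ⟨i, hi'⟩ < p ⟨i + 1, hi⟩ := p.strictMono (by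
        rw [Fin.lt_def]; simp)
      have hspec : p ⟨i + 1, hi⟩ ⤳ p ⟨i, hi'⟩ := Scheme.le_iff_specializes.mp hlt.le
      have hne : p ⟨i + 1, hi⟩ ≠ p ⟨i, hi'⟩ := fun e => (lt_irrefl _ (e ▸ hlt))
      have := (hδ _ _ hspec hne).1
      have := ih hi'
      push_cast
      omega
  have hlast := hmono p.length (by omega)
  have hle : δ (p ⟨p.length, by omega⟩) ≤ δ η := by
    by_cases e : η = p ⟨p.length, by omega⟩
    · rw [← e]
    · exact ((hδ _ _ (hη _) e).1).le
  have : (p.length : ℤ) ≤ n := by omega
  exact_mod_cast this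

variable {X : Scheme.{u}}

/-- The order along `ξ ⤳ x` of the image of a unit of the local ring vanishes. -/
theorem ordAt_specMap_unit {x ξ : X} (h : ξ ⤳ x) {u : X.presheaf.stalk x} (hu : IsUnit u) :
    Cyc.ordAt x ξ h (Cyc.specMap x ξ h u) = 0 := by
  unfold Cyc.ordAt
  have e : Cyc.specMap x ξ h u = algebraMap (Cyc.LocQuot x ξ h) (X.residueField ξ)
      (Ideal.Quotient.mk (RingHom.ker (Cyc.specMap x ξ h)) u) := rfl
  rw [e]
  have hu' := hu.map (Ideal.Quotient.mk (RingHom.ker (Cyc.specMap x ξ h)))
  unfold CycAlg.ordFrac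
  split_ifs with hc
  · haveI := hc.1; haveI := hc.2.1; haveI := hc.2.2.1; haveI := hc.2.2.2
    haveI : IsDomain (Cyc.LocQuot x ξ h) :=
      (IsFractionRing.injective (Cyc.LocQuot x ξ h) (X.residueField ξ)).isDomain
    have e2 : Ring.ordFrac (Cyc.LocQuot x ξ h) (algebraMap (Cyc.LocQuot x ξ h)
        (X.residueField ξ) (Ideal.Quotient.mk (RingHom.ker (Cyc.specMap x ξ h)) u)) = 1 :=
      Ring.ordFrac_of_isUnit hu'
    rw [e2]
    rfl
  · rfl

/-- When `specMap` is injective, the order along `ξ ⤳ x` is the order of vanishing for the local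
ring `O_{X,x}` itself, with `κ(ξ)` as an algebra through `specMap`. -/
theorem ordAt_eq_of_ker_eq_bot {x ξ : X} (h : ξ ⤳ x)
    (hker : RingHom.ker (Cyc.specMap x ξ h) = ⊥) (f : X.residueField ξ) :
    Cyc.ordAt x ξ h f =
      @CycAlg.ordFrac (X.presheaf.stalk x) _ (X.residueField ξ) _
        (Cyc.specMap x ξ h).toAlgebra f := by
  letI : Algebra (X.presheaf.stalk x) (X.residueField ξ) := (Cyc.specMap x ξ h).toAlgebra
  have hinj : Function.Injective (Ideal.Quotient.mk (RingHom.ker (Cyc.specMap x ξ h))) := by
    rw [RingHom.injective_iff_ker_eq_bot, Ideal.mk_ker]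
    exact hker
  let e : X.presheaf.stalk x ≃+* Cyc.LocQuot x ξ h :=
    RingEquiv.ofBijective (Ideal.Quotient.mk _) ⟨hinj, Ideal.Quotient.mk_surjective⟩
  have := cycOrdFrac_transport e (RingEquiv.refl (X.residueField ξ)) (fun r => rfl) f
  exact this


theorem ker_specMap_of_generic [IsIntegral X] (ξ : X) (hξ : ξ = genericPoint X) (x : X)
    (h : ξ ⤳ x) : RingHom.ker (Cyc.specMap x ξ h) = ⊥ := by
  subst hξ
  rw [← RingHom.injective_iff_ker_eq_bot]
  have h1 : Function.Injective (X.presheaf.stalkSpecializes h).hom :=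
    IsFractionRing.injective (X.presheaf.stalk x) X.functionField
  have h2 : Function.Injective (X.residue (genericPoint X)).hom :=
    RingHom.injective (R := X.functionField) _
  exact h2.comp h1

theorem isFractionRing_specMap [IsIntegral X] (ξ : X) (hξ : ξ = genericPoint X) (x : X)
    (h : ξ ⤳ x) :
    @IsFractionRing (X.presheaf.stalk x) _ (X.residueField ξ) _
      (Cyc.specMap x ξ h).toAlgebra := by
  subst hξ
  letI : Algebra (X.presheaf.stalk x) (X.residueField (genericPoint X)) :=
    (Cyc.specMap x _ h).toAlgebra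
  let ε : X.functionField ≃+* X.residueField (genericPoint X) :=
    RingEquiv.ofBijective (X.residue (genericPoint X)).hom
      ⟨RingHom.injective (R := X.functionField) _, fun y => Ideal.Quotient.mk_surjective y⟩
  exact isFractionRing_transport (RingEquiv.refl _) ε (fun r => rfl)

theorem residueFieldMap_specMap {X Y : Scheme.{u}} (f : X ⟶ Y) {x ξ : X} (h : ξ ⤳ x)
    (a : Y.presheaf.stalk (f x)) :
    (f.residueFieldMap ξ).hom (Cyc.specMap (f x) (f ξ) (h.map f.continuous) a) =
      Cyc.specMap x ξ h ((f.stalkMap x).hom a) := by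
  show (f.residueFieldMap ξ) (Y.residue (f ξ) (Y.presheaf.stalkSpecializes _ a)) =
    X.residue ξ (X.presheaf.stalkSpecializes h (f.stalkMap x a))
  rw [← Scheme.Hom.stalkSpecializes_stalkMap_apply]
  have := congrArg (fun φ => φ.hom (Y.presheaf.stalkSpecializes (h.map f.continuous) a))
    (Scheme.residue_residueFieldMap f ξ)
  exact this

theorem exists_unit_specMap_eq {Y : Scheme.{u}} (y ξ : Y) (h : ξ ⤳ y) (e : y = ξ)
    (g : Y.residueField ξ) (hg : g ≠ 0) :
    ∃ a : Y.presheaf.stalk y, IsUnit a ∧ Cyc.specMap y ξ h a = g := by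
  subst e
  obtain ⟨b, rfl⟩ := Y.residue_surjective y g
  refine ⟨b, ?_, ?_⟩
  · by_contra hb
    apply hg
    have : b ∈ IsLocalRing.maximalIdeal (Y.presheaf.stalk y) := hb
    exact (IsLocalRing.residue_eq_zero_iff b).mpr this
  · show Y.residue y (Y.presheaf.stalkSpecializes h b) = _
    have : Y.presheaf.stalkSpecializes h = 𝟙 _ := TopCat.Presheaf.stalkSpecializes_refl _ _
    rw [this]
    rfl


set_option backward.isDefEq.respectTransparency false in
/-- **S1905**. -/
theorem main (X Y : Scheme.{u}) [IsIntegral X] [IsIntegral Y] (δX : X → ℤ) (δY : Y → ℤ)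
    (hX : Cyc.IsSetup X δX) (hY : Cyc.IsSetup Y δY) (f : X ⟶ Y) [Flat f]
    [LocallyOfFiniteType f] (r : ℕ) (hr : Cyc.HasRelDim f r) (hδ : Cyc.DeltaCompat f δX δY)
    (g : Y.residueField (f (genericPoint X))) (hg : g ≠ 0) :
    Cyc.pullFun f δX δY r (Cyc.divFun δY (f (genericPoint X)) g) =
      Cyc.divFun δX (genericPoint X) (f.residueFieldMap (genericPoint X) g) := by
  classical
  haveI : IsLocallyNoetherian X := hX.1
  haveI : IsLocallyNoetherian Y := hY.1
  have hη : ∀ z : X, (genericPoint X) ⤳ z := fun z => genericPoint_specializes z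
  -- the generic point maps to the generic point
  have hfη : f (genericPoint X) = genericPoint Y := by
    obtain ⟨x', hx', hfx'⟩ := (Flat.generalizingMap f) (genericPoint_specializes (f (genericPoint X)))
    have : x' = (genericPoint X) := (hx'.antisymm (hη x')).eq
    rw [← this, hfx']
  have hηY : ∀ z : Y, f (genericPoint X) ⤳ z := fun z => by rw [hfη]; exact genericPoint_specializes z
  -- δ at the generic point
  have hδη : δX (genericPoint X) = δY (f (genericPoint X)) + r := by
    obtain ⟨m, hm, hδm⟩ := hδ (genericPoint X)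
    have hmax : ∀ w : X, f.base w = f.base (genericPoint X) → w ⤳ (genericPoint X) → w = (genericPoint X) := fun w _ hw =>
      (hw.antisymm (hη w)).eq
    have := (fibre_max_iff_trdeg_eq f r hr (genericPoint X) m hm).mp hmax
    rw [this] at hδm
    exact hδm
  funext x
  rw [pullFun_apply]
  have hxs : (genericPoint X) ⤳ x := hη x
  have hys : f (genericPoint X) ⤳ f x := hxs.map f.continuous
  obtain ⟨n, hn, hδn⟩ := hδ x
  have hδn' : δX x = δY (f x) + n := hδn
  have hnr : n ≤ r := trdeg_le_of_hasRelDim f r hr x n hn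
  have hYle : δY (f x) ≤ δY (f (genericPoint X)) := by
    by_cases e : f (genericPoint X) = f x
    · rw [e]
    · exact ((hY.2.2 _ _ hys e).1).le
  unfold Cyc.divFun
  by_cases hA : n = r ∧ δY (f x) + 1 = δY (f (genericPoint X))
  · -- the main case
    obtain ⟨hA1, hA2⟩ := hA
    have c1 : δX x = δY (f x) + r := by rw [hδn', hA1]
    have c2 : f (genericPoint X) ⤳ f x ∧ δY (f x) + 1 = δY (f (genericPoint X)) := ⟨hys, hA2⟩
    have c3 : (genericPoint X) ⤳ x ∧ δX x + 1 = δX (genericPoint X) := ⟨hxs, by omega⟩
    rw [if_pos c1, dif_pos c2, dif_pos c3]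
    rw [ordAt_eq_of_ker_eq_bot hys (ker_specMap_of_generic (f (genericPoint X)) hfη (f x) hys),
      ordAt_eq_of_ker_eq_bot hxs (ker_specMap_of_generic (genericPoint X) rfl x hxs)]
    letI algA : Algebra (Y.presheaf.stalk (f x)) (Y.residueField (f (genericPoint X))) :=
      (Cyc.specMap (f x) (f (genericPoint X)) hys).toAlgebra
    letI algB : Algebra (X.presheaf.stalk x) (X.residueField (genericPoint X)) :=
      (Cyc.specMap x (genericPoint X) hxs).toAlgebra
    haveI : IsFractionRing (Y.presheaf.stalk (f x)) (Y.residueField (f (genericPoint X))) :=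
      isFractionRing_specMap (f (genericPoint X)) hfη (f x) hys
    haveI : IsFractionRing (X.presheaf.stalk x) (X.residueField (genericPoint X)) :=
      isFractionRing_specMap (genericPoint X) rfl x hxs
    haveI : Ring.KrullDimLE 1 (X.presheaf.stalk x) :=
      krullDimLE_of_coheight_le (coheight_le_of_dimFun X δX hX.2.2 x (genericPoint X) hη 1 (by
        push_cast; omega))
    haveI : Ring.KrullDimLE 1 (Y.presheaf.stalk (f x)) :=
      krullDimLE_of_coheight_le (coheight_le_of_dimFun Y δY hY.2.2 (f x) (f (genericPoint X)) hηY 1 (by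
        push_cast; omega))
    have key := ordFrac_flat (A := Y.presheaf.stalk (f x)) (B := X.presheaf.stalk x)
      (K := Y.residueField (f (genericPoint X))) (L := X.residueField (genericPoint X)) (f.stalkMap x).hom
      (AlgebraicGeometry.Flat.stalkMap f x) (f.residueFieldMap (genericPoint X)).hom
      (fun a => residueFieldMap_specMap f hxs a) g hg
    rw [key]
    rfl
  · -- the degenerate cases
    have hL : (if δX x = δY (f x) + r then
        (if h : f (genericPoint X) ⤳ f x ∧ δY (f x) + 1 = δY (f (genericPoint X)) then Cyc.ordAt (f x) (f (genericPoint X)) h.1 g else 0) *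
          mult f x else 0) = 0 := by
      by_cases c1 : δX x = δY (f x) + r
      · rw [if_pos c1]
        have hn' : n = r := by omega
        have c2 : ¬ (f (genericPoint X) ⤳ f x ∧ δY (f x) + 1 = δY (f (genericPoint X))) := fun h => hA ⟨hn', h.2⟩
        rw [dif_neg c2, zero_mul]
      · rw [if_neg c1]
    rw [hL]
    by_cases c3 : (genericPoint X) ⤳ x ∧ δX x + 1 = δX (genericPoint X)
    · rw [dif_pos c3]
      have hlt : n < r := by
        rcases Nat.lt_or_ge n r with h | h
        · exact h
        · exfalso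
          have hn' : n = r := le_antisymm hnr h
          apply hA
          refine ⟨hn', ?_⟩
          have := c3.2
          omega
      have heq : δY (f x) = δY (f (genericPoint X)) := by
        have := c3.2
        omega
      have hfx : f x = f (genericPoint X) := by
        by_contra e
        have := (hY.2.2 _ _ hys (fun e' => e e'.symm)).1
        omega
      obtain ⟨a, ha, hag⟩ := exists_unit_specMap_eq (f x) (f (genericPoint X)) hys hfx g hg
      have h1 := residueFieldMap_specMap f hxs a
      rw [hag] at h1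
      have h2 : (f.residueFieldMap (genericPoint X)) g = Cyc.specMap x (genericPoint X) hxs ((f.stalkMap x).hom a) := h1
      rw [h2]
      exact (ordAt_specMap_unit hxs (ha.map (f.stalkMap x).hom)).symm
    · rw [dif_neg c3]

end Groth.Agent.H60.CycPullDiv
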