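import Mathlib
import Groth.Agent.H60.CycDivAlg
import Groth.Agent.H60.CycPullDiv
import Groth.Agent.H71.DimFun2

/-!
# Scheme-level lemmas for S1907: local rings at generic points as localizations of `O_{X,x}`,
reindexing sums over generic points by minimal primes
-/

set_option autoImplicit false
set_option linter.style.haveILetI false
universe u

open AlgebraicGeometry CategoryTheory CategoryTheory.Limits

namespace Groth.Agent.H60.CycDivSch

open Groth.Agent.H60.CycPullSq Groth.Agent.H60.CycPullComp Groth.Agent.H60.OrdFlat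
  Groth.Agent.H60.CycPullDiv Groth.Agent.H71.DimFun

/-- The codimension of a point is bounded by the room a dimension function leaves above it. -/
theorem coheight_le_of_bound (X : Scheme.{u}) (δ : X → ℤ) (hδ : Cyc.IsDimFun X δ) (x : X)
    (n : ℕ) (hb : ∀ z : X, z ⤳ x → δ z ≤ δ x + n) : Order.coheight x ≤ (n : ℕ∞) := by
  refine Order.coheight_le_iff'.mpr fun p hp => ?_
  have hmono : ∀ i : ℕ, ∀ hi : i < p.length + 1, δ x + i ≤ δ (p ⟨i, hi⟩) := by
    intro i
    induction i with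
    | zero =>
      intro hi
      have : p ⟨0, hi⟩ = x := hp
      rw [this]; simp
    | succ i ih =>
      intro hi
      have hi' : i < p.length + 1 := by omega
      have hlt : p ⟨i, hi'⟩ < p ⟨i + 1, hi⟩ := p.strictMono (by
        rw [Fin.lt_def]; simp)
      have hspec : p ⟨i + 1, hi⟩ ⤳ p ⟨i, hi'⟩ := Scheme.le_iff_specializes.mp hlt.le
      have hne : p ⟨i + 1, hi⟩ ≠ p ⟨i, hi'⟩ := fun e => (lt_irrefl _ (e ▸ hlt))
      have := (hδ _ _ hspec hne).1
      have := ih hi'
      push_cast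
      omega
  have hlast := hmono p.length (by omega)
  have hspec : p ⟨p.length, by omega⟩ ⤳ x := by
    have h0 : p ⟨0, by omega⟩ = x := hp
    rw [← h0]
    exact Scheme.le_iff_specializes.mp (p.monotone (by rw [Fin.le_def]; simp))
  have := hb _ hspec
  have : (p.length : ℤ) ≤ n := by omega
  exact_mod_cast this

variable {X : Scheme.{u}}

theorem divFun_apply_pos (δ : X → ℤ) {x ξ : X} (g : X.residueField ξ) (h : ξ ⤳ x)
    (hd : δ x + 1 = δ ξ) : Cyc.divFun δ ξ g x = Cyc.ordAt x ξ h g :=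
  dif_pos ⟨h, hd⟩

theorem divFun_apply_neg (δ : X → ℤ) {x ξ : X} (g : X.residueField ξ)
    (hn : ¬ (ξ ⤳ x ∧ δ x + 1 = δ ξ)) : Cyc.divFun δ ξ g x = 0 :=
  dif_neg hn

set_option backward.isDefEq.respectTransparency false in
/-- The prime of `O_{X,x}` attached to a generization `ξ` is the kernel of `specMap`. -/
theorem ker_specMap_eq (z ξ : X) (h : ξ ⤳ z) (q : PrimeSpectrum (X.presheaf.stalk z))
    (hq : X.fromSpecStalk z q = ξ) : RingHom.ker (Cyc.specMap z ξ h) = q.asIdeal := by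
  rw [ker_specMap]
  have h2 : (Spec.map (X.presheaf.stalkSpecializes h) ≫ X.fromSpecStalk z)
      (IsLocalRing.closedPoint (X.presheaf.stalk ξ)) =
      (X.fromSpecStalk ξ) (IsLocalRing.closedPoint (X.presheaf.stalk ξ)) := by
    rw [Scheme.SpecMap_stalkSpecializes_fromSpecStalk]
  rw [Scheme.Hom.comp_apply, Scheme.fromSpecStalk_closedPoint] at h2
  have h3 : q = Spec.map (X.presheaf.stalkSpecializes h)
      (IsLocalRing.closedPoint (X.presheaf.stalk ξ)) :=
    fromSpecStalk_injective X z (hq.trans h2.symm)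
  rw [h3]
  rfl

/-- `O_{X,ξ}` is the localization of `O_{X,x}` at the prime of `ξ`. -/
theorem isLocalization_stalkSpecializes {x ξ : X} (h : ξ ⤳ x) :
    @IsLocalization.AtPrime (X.presheaf.stalk x) _ (X.presheaf.stalk ξ) _
      (X.presheaf.stalkSpecializes h).hom.toAlgebra
      (RingHom.ker (Cyc.specMap x ξ h)) (RingHom.ker_isPrime _) := by
  obtain ⟨U, hU, hxU, -⟩ := exists_isAffineOpen_mem_and_subset (X := X) (x := x) (U := ⊤) trivial
  have hξU : ξ ∈ U := h.mem_open U.isOpen hxU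
  letI algξ : Algebra Γ(X, U) (X.presheaf.stalk ξ) :=
    TopCat.Presheaf.algebra_section_stalk X.presheaf (⟨ξ, hξU⟩ : U)
  letI algx : Algebra Γ(X, U) (X.presheaf.stalk x) :=
    TopCat.Presheaf.algebra_section_stalk X.presheaf (⟨x, hxU⟩ : U)
  letI algxξ : Algebra (X.presheaf.stalk x) (X.presheaf.stalk ξ) :=
    (X.presheaf.stalkSpecializes h).hom.toAlgebra
  haveI : IsScalarTower Γ(X, U) (X.presheaf.stalk x) (X.presheaf.stalk ξ) := by
    refine IsScalarTower.of_algebraMap_eq' ?_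
    change (X.presheaf.germ U ξ hξU).hom =
      (X.presheaf.stalkSpecializes h).hom.comp (X.presheaf.germ U x hxU).hom
    rw [← CommRingCat.hom_comp, TopCat.Presheaf.germ_stalkSpecializes]
  haveI locξ : IsLocalization.AtPrime (X.presheaf.stalk ξ) (hU.primeIdealOf ⟨ξ, hξU⟩).asIdeal :=
    hU.isLocalization_stalk ⟨ξ, hξU⟩
  haveI locx : IsLocalization.AtPrime (X.presheaf.stalk x) (hU.primeIdealOf ⟨x, hxU⟩).asIdeal :=
    hU.isLocalization_stalk ⟨x, hxU⟩
  have hle : (hU.primeIdealOf ⟨x, hxU⟩).asIdeal.primeCompl ≤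
      (hU.primeIdealOf ⟨ξ, hξU⟩).asIdeal.primeCompl := by
    intro r hr
    have h1 : IsUnit (algebraMap Γ(X, U) (X.presheaf.stalk x) r) :=
      IsLocalization.map_units (X.presheaf.stalk x) ⟨r, hr⟩
    have h2 : IsUnit (algebraMap Γ(X, U) (X.presheaf.stalk ξ) r) := by
      rw [IsScalarTower.algebraMap_apply Γ(X, U) (X.presheaf.stalk x) (X.presheaf.stalk ξ)]
      exact h1.map _
    exact (IsLocalization.AtPrime.isUnit_to_map_iff (X.presheaf.stalk ξ)
      (hU.primeIdealOf ⟨ξ, hξU⟩).asIdeal r).mp h2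
  haveI h1 : IsLocalization ((hU.primeIdealOf ⟨ξ, hξU⟩).asIdeal.primeCompl.map
      (algebraMap Γ(X, U) (X.presheaf.stalk x))) (X.presheaf.stalk ξ) :=
    IsLocalization.isLocalization_of_submonoid_le (X.presheaf.stalk x) (X.presheaf.stalk ξ)
      _ _ hle
  haveI : (RingHom.ker (Cyc.specMap x ξ h)).IsPrime := RingHom.ker_isPrime _
  have hmem : ∀ b : X.presheaf.stalk x, b ∈ (RingHom.ker (Cyc.specMap x ξ h)).primeCompl ↔
      IsUnit (algebraMap (X.presheaf.stalk x) (X.presheaf.stalk ξ) b) := by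
    intro b
    rw [Ideal.mem_primeCompl_iff, ker_specMap, Ideal.mem_comap,
      ← IsLocalRing.notMem_maximalIdeal]
    exact Iff.rfl
  refine IsLocalization.of_le ((hU.primeIdealOf ⟨ξ, hξU⟩).asIdeal.primeCompl.map
      (algebraMap Γ(X, U) (X.presheaf.stalk x))) _ ?_ ?_
  · rintro _ ⟨r, hr, rfl⟩
    rw [hmem]
    have := IsLocalization.map_units (X.presheaf.stalk ξ)
      (⟨r, hr⟩ : (hU.primeIdealOf ⟨ξ, hξU⟩).asIdeal.primeCompl)
    rw [IsScalarTower.algebraMap_apply Γ(X, U) (X.presheaf.stalk x) (X.presheaf.stalk ξ)] at this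
    exact this
  · intro b hb
    exact (hmem b).mp hb

/-- The contribution of one generic point, rewritten through the prime ideal of `O_{X,x}`. -/
theorem term_eq {x ξ : X} (h : ξ ⤳ x) (q : Ideal (X.presheaf.stalk x)) [hqp : q.IsPrime]
    (hq : RingHom.ker (Cyc.specMap x ξ h) = q) (a' b' : X.presheaf.stalk x) :
    ((Module.length (X.presheaf.stalk ξ) (X.presheaf.stalk ξ)).toNat : ℤ) *
      Cyc.ordAt x ξ h (Cyc.specMap x ξ h a' / Cyc.specMap x ξ h b') =
    ((Module.length (Localization.AtPrime q) (Localization.AtPrime q)).toNat : ℤ) *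
      CycAlg.ordFrac (X.presheaf.stalk x ⧸ q) q.ResidueField
        (algebraMap (X.presheaf.stalk x) q.ResidueField a' /
          algebraMap (X.presheaf.stalk x) q.ResidueField b') := by
  subst hq
  letI algxξ : Algebra (X.presheaf.stalk x) (X.presheaf.stalk ξ) :=
    (X.presheaf.stalkSpecializes h).hom.toAlgebra
  haveI := isLocalization_stalkSpecializes h
  let α : Localization.AtPrime (RingHom.ker (Cyc.specMap x ξ h)) ≃ₐ[X.presheaf.stalk x]
      X.presheaf.stalk ξ :=
    IsLocalization.algEquiv (RingHom.ker (Cyc.specMap x ξ h)).primeCompl _ _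
  have hlen := Groth.Agent.H25.LenBC.length_self_ringEquiv α.toRingEquiv
  let ε : (RingHom.ker (Cyc.specMap x ξ h)).ResidueField ≃+* X.residueField ξ :=
    IsLocalRing.ResidueField.mapEquiv α.toRingEquiv
  have hε : ∀ b : X.presheaf.stalk x,
      ε (algebraMap (X.presheaf.stalk x) (RingHom.ker (Cyc.specMap x ξ h)).ResidueField b) =
        Cyc.specMap x ξ h b := by
    intro b
    rw [IsScalarTower.algebraMap_apply (X.presheaf.stalk x)
      (Localization.AtPrime (RingHom.ker (Cyc.specMap x ξ h)))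
      (RingHom.ker (Cyc.specMap x ξ h)).ResidueField]
    change IsLocalRing.residue _ (α (algebraMap _ _ b)) = _
    rw [α.commutes]
    rfl
  have hc : ∀ r : X.presheaf.stalk x ⧸ RingHom.ker (Cyc.specMap x ξ h),
      ε (algebraMap _ (RingHom.ker (Cyc.specMap x ξ h)).ResidueField r) =
        algebraMap (Cyc.LocQuot x ξ h) (X.residueField ξ)
          ((RingEquiv.refl (Cyc.LocQuot x ξ h)) r) := by
    intro r
    obtain ⟨b, rfl⟩ := Ideal.Quotient.mk_surjective r
    exact hε b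
  have key := cycOrdFrac_transport (RingEquiv.refl (Cyc.LocQuot x ξ h)) ε hc
    (algebraMap (X.presheaf.stalk x) (RingHom.ker (Cyc.specMap x ξ h)).ResidueField a' /
      algebraMap (X.presheaf.stalk x) (RingHom.ker (Cyc.specMap x ξ h)).ResidueField b')
  rw [map_div₀, hε, hε] at key
  unfold Cyc.ordAt
  rw [key, hlen]

/-- Reindexing a sum over the generic points of `X` by the minimal primes of `O_{X,x}`. -/
theorem finsum_reindex (X : Scheme.{u}) (x : X) (P : X → Prop)
    (hP' : ∀ ξ, P ξ → ∀ x' : X, x' ⤳ ξ → x' = ξ)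
    (hP : ∀ q : PrimeSpectrum (X.presheaf.stalk x),
      q.asIdeal ∈ minimalPrimes (X.presheaf.stalk x) → P (X.fromSpecStalk x q))
    (G : {ξ : X // P ξ} → ℤ) (F : PrimeSpectrum (X.presheaf.stalk x) → ℤ)
    (hG0 : ∀ ξ : {ξ : X // P ξ}, ¬ ξ.1 ⤳ x → G ξ = 0)
    (hGF : ∀ (q : PrimeSpectrum (X.presheaf.stalk x))
      (hq : q.asIdeal ∈ minimalPrimes (X.presheaf.stalk x)),
      G ⟨X.fromSpecStalk x q, hP q hq⟩ = F q) :
    ∑ᶠ ξ, G ξ = ∑ᶠ (q : PrimeSpectrum (X.presheaf.stalk x))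
      (_ : q.asIdeal ∈ minimalPrimes (X.presheaf.stalk x)), F q := by
  classical
  rw [← finsum_subtype_eq_finsum_cond
    (fun q : PrimeSpectrum (X.presheaf.stalk x) => q.asIdeal ∈ minimalPrimes (X.presheaf.stalk x))]
  have h1 : ∑ᶠ ξ, G ξ = ∑ᶠ ξ : {ξ : {ξ : X // P ξ} // ξ.1 ⤳ x}, G ξ.1 := by
    rw [finsum_subtype_eq_finsum_cond (fun ξ : {ξ : X // P ξ} => ξ.1 ⤳ x)]
    refine finsum_congr fun ξ => ?_
    rw [finsum_eq_if]
    split_ifs with hs
    · rfl
    · exact hG0 ξ hs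
  rw [h1]
  symm
  refine finsum_eq_of_bijective
    (fun q : {q : PrimeSpectrum (X.presheaf.stalk x) //
        q.asIdeal ∈ minimalPrimes (X.presheaf.stalk x)} =>
      (⟨⟨X.fromSpecStalk x q.1, hP q.1 q.2⟩, fromSpecStalk_specializes X x q.1⟩ :
        {ξ : {ξ : X // P ξ} // ξ.1 ⤳ x})) ⟨?_, ?_⟩ (fun q => (hGF q.1 q.2).symm)
  · intro q q' e
    have e' : X.fromSpecStalk x q.1 = X.fromSpecStalk x q'.1 :=
      congrArg (fun z : {ξ : {ξ : X // P ξ} // ξ.1 ⤳ x} => z.1.1) e
    exact Subtype.ext (fromSpecStalk_injective X x e')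
  · rintro ⟨⟨ξ, hPξ⟩, hs⟩
    obtain ⟨q, rfl⟩ := exists_of_specializes X hs
    exact ⟨⟨q, PrimeSpectrum.isMin_iff.mp (isMin_of_generic X x q (hP' _ hPξ))⟩, rfl⟩

/-- The image in `κ(ξ)` of an element of `κ(f ξ)` coming from `O_{Y,f x}`. -/
theorem residueFieldMap_congr_specMap {X Y : Scheme.{u}} (f : X ⟶ Y) {x ξ : X} (h : ξ ⤳ x)
    (η : Y) (hfξ : f ξ = η) (hy : η ⤳ f x) (a : Y.presheaf.stalk (f x)) :
    f.residueFieldMap ξ ((Y.residueFieldCongr hfξ.symm).hom (Cyc.specMap (f x) η hy a)) =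
      Cyc.specMap x ξ h ((f.stalkMap x).hom a) := by
  subst hfξ
  exact residueFieldMap_specMap f h a

theorem residueFieldMap_congr_div {X Y : Scheme.{u}} (f : X ⟶ Y) {x ξ : X} (h : ξ ⤳ x)
    (η : Y) (hfξ : f ξ = η) (hy : η ⤳ f x) (a b : Y.presheaf.stalk (f x)) :
    f.residueFieldMap ξ ((Y.residueFieldCongr hfξ.symm).hom
      (Cyc.specMap (f x) η hy a / Cyc.specMap (f x) η hy b)) =
      Cyc.specMap x ξ h ((f.stalkMap x).hom a) / Cyc.specMap x ξ h ((f.stalkMap x).hom b) := by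
  subst hfξ
  have e1 := residueFieldMap_specMap f h a
  have e2 := residueFieldMap_specMap f h b
  have e0 : f.residueFieldMap ξ ((Y.residueFieldCongr (rfl : f ξ = f ξ).symm).hom
      (Cyc.specMap (f x) (f ξ) hy a / Cyc.specMap (f x) (f ξ) hy b)) =
      (f.residueFieldMap ξ).hom
        (Cyc.specMap (f x) (f ξ) hy a / Cyc.specMap (f x) (f ξ) hy b) := rfl
  rw [e0, map_div₀, e1, e2]

end Groth.Agent.H60.CycDivSch
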