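import Mathlib
import Groth.Agent.H60.CycDivSch

/-!
# S1907: flat pullback of a principal divisor, summed over the irreducible components of the source
-/

set_option autoImplicit false
set_option linter.style.haveILetI false
universe u

open AlgebraicGeometry CategoryTheory CategoryTheory.Limits

namespace Groth.Agent.H60.CycDivMain

open Groth.Agent.H60.CycPullSq Groth.Agent.H60.CycPullComp Groth.Agent.H60.OrdFlat
  Groth.Agent.H60.CycPullDiv Groth.Agent.H71.DimFun Groth.Agent.H60.CycDivSch
  Groth.Agent.H60.CycDivAlg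

set_option backward.isDefEq.respectTransparency false in
/-- **S1907**. -/
theorem main (X Y : Scheme.{u}) [IsIntegral Y] (δX : X → ℤ) (δY : Y → ℤ)
    (hX : Cyc.IsSetup X δX) (hY : Cyc.IsSetup Y δY) (f : X ⟶ Y) [Flat f]
    [LocallyOfFiniteType f] (r : ℕ) (hr : Cyc.HasRelDim f r) (hδ : Cyc.DeltaCompat f δX δY)
    (k : ℤ) (hk : δY (genericPoint Y) = k) (g : Y.residueField (genericPoint Y)) (hg : g ≠ 0)
    (x : X) :
    Cyc.pullFun f δX δY r (Cyc.divFun δY (genericPoint Y) g) x =
      ∑ᶠ ξ : {ξ : X // (∀ x' : X, x' ⤳ ξ → x' = ξ) ∧ f ξ = genericPoint Y},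
        ((Module.length (X.presheaf.stalk ξ.1) (X.presheaf.stalk ξ.1)).toNat : ℤ) *
          Cyc.divFun δX ξ.1
            (f.residueFieldMap ξ.1 ((Y.residueFieldCongr ξ.2.2.symm).hom g)) x := by
  classical
  haveI : IsLocallyNoetherian X := hX.1
  haveI : IsLocallyNoetherian Y := hY.1
  have hηs : ∀ z : Y, genericPoint Y ⤳ z := fun z => genericPoint_specializes z
  -- δY is at most k
  have hYle : ∀ y : Y, δY y ≤ k := by
    intro y
    by_cases e : genericPoint Y = y
    · rw [← e, hk]
    · have := (hY.2.2 _ _ (hηs y) e).1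
      omega
  have hYlt : ∀ y : Y, y ≠ genericPoint Y → δY y < k := by
    intro y e
    have := (hY.2.2 _ _ (hηs y) (fun e' => e e'.symm)).1
    omega
  -- δX is at most k + r
  have hXle : ∀ z : X, δX z ≤ k + r := by
    intro z
    obtain ⟨m, hm, hδm⟩ := hδ z
    have hmr : m ≤ r := trdeg_le_of_hasRelDim f r hr z m hm
    have h1 := hYle (f z)
    have hδm' : δX z = δY (f z) + m := hδm
    have : (m : ℤ) ≤ r := by exact_mod_cast hmr
    omega
  -- maximal points map to the generic point
  have hgen : ∀ ξ : X, (∀ x' : X, x' ⤳ ξ → x' = ξ) → f ξ = genericPoint Y := by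
    intro ξ hmax
    obtain ⟨x', hx', hfx'⟩ := (Flat.generalizingMap f) (hηs (f ξ))
    rw [← hmax x' hx', hfx']
  -- δ at the maximal points
  have hδgen : ∀ ξ : X, (∀ x' : X, x' ⤳ ξ → x' = ξ) → δX ξ = k + r := by
    intro ξ hmax
    obtain ⟨m, hm, hδm⟩ := hδ ξ
    have hmr := (fibre_max_iff_trdeg_eq f r hr ξ m hm).mp (fun w _ hw => hmax w hw)
    have hδm' : δX ξ = δY (f ξ) + m := hδm
    rw [hmr, hgen ξ hmax, hk] at hδm'
    exact hδm'
  obtain ⟨n, hn, hδn⟩ := hδ x
  have hδn' : δX x = δY (f x) + n := hδn
  have hnr : n ≤ r := trdeg_le_of_hasRelDim f r hr x n hn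
  have hnr' : (n : ℤ) ≤ r := by exact_mod_cast hnr
  have hys : genericPoint Y ⤳ f x := hηs _
  rw [pullFun_apply]
  by_cases hA : n = r ∧ δY (f x) + 1 = k
  · -- the main case
    obtain ⟨hA1, hA2⟩ := hA
    have c1 : δX x = δY (f x) + r := by rw [hδn', hA1]
    rw [if_pos c1, divFun_apply_pos δY g hys (by rw [hk]; exact hA2)]
    rw [ordAt_eq_of_ker_eq_bot hys (ker_specMap_of_generic (genericPoint Y) rfl (f x) hys)]
    letI algA : Algebra (Y.presheaf.stalk (f x)) (Y.residueField (genericPoint Y)) :=
      (Cyc.specMap (f x) (genericPoint Y) hys).toAlgebra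
    haveI : IsFractionRing (Y.presheaf.stalk (f x)) (Y.residueField (genericPoint Y)) :=
      isFractionRing_specMap (genericPoint Y) rfl (f x) hys
    haveI : Ring.KrullDimLE 1 (Y.presheaf.stalk (f x)) :=
      krullDimLE_of_coheight_le (coheight_le_of_dimFun Y δY hY.2.2 (f x) (genericPoint Y) hηs 1
        (by push_cast; omega))
    -- the local ring at x has dimension one
    have hco1 : Order.coheight x ≤ ((1 : ℕ) : ℕ∞) :=
      coheight_le_of_bound X δX hX.2.2 x 1 (fun z _ => by
        have := hXle z
        push_cast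
        omega)
    have hco0 : Order.coheight x ≠ 0 := by
      intro h0
      have hmaxx : IsMax x := Order.coheight_eq_zero.mp h0
      obtain ⟨ξ', hs, hf'⟩ := (Flat.generalizingMap f) hys
      have hle : x ≤ ξ' := Scheme.le_iff_specializes.mpr hs
      have hs' : x ⤳ ξ' := Scheme.le_iff_specializes.mp (hmaxx hle)
      have hxe : ξ' = x := (hs.antisymm hs').eq
      rw [hxe] at hf'
      rw [hf', hk] at hA2
      omega
    have hB : ringKrullDim (X.presheaf.stalk x) = 1 := by
      rw [ringKrullDim_stalk_eq_coheight]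
      have h1 : Order.coheight x = 1 := by
        refine le_antisymm (by exact_mod_cast hco1) ?_
        exact Order.one_le_iff_pos.mpr (pos_iff_ne_zero.mpr hco0)
      rw [h1]
      rfl
    -- write g as a fraction
    obtain ⟨a, b, hb, hab⟩ := IsFractionRing.div_surjective (A := Y.presheaf.stalk (f x)) g
    haveI : IsDomain (Y.presheaf.stalk (f x)) :=
      (IsFractionRing.injective (Y.presheaf.stalk (f x))
        (Y.residueField (genericPoint Y))).isDomain
    have hb0 : b ≠ 0 := nonZeroDivisors.ne_zero hb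
    have ha0 : a ≠ 0 := by
      rintro rfl
      exact hg (by rw [← hab, map_zero, zero_div])
    have hab' : g = Cyc.specMap (f x) (genericPoint Y) hys a /
        Cyc.specMap (f x) (genericPoint Y) hys b := hab.symm
    have key := ordFrac_flat_sum (A := Y.presheaf.stalk (f x)) (B := X.presheaf.stalk x)
      (K := Y.residueField (genericPoint Y)) hB (f.stalkMap x).hom
      (AlgebraicGeometry.Flat.stalkMap f x) a b ha0 hb0
    rw [hab] at key
    refine key.trans ?_
    symm
    refine finsum_reindex X x
      (fun ξ => (∀ x' : X, x' ⤳ ξ → x' = ξ) ∧ f ξ = genericPoint Y)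
      (fun ξ hξ => hξ.1)
      (fun q hq => ⟨generic_of_isMin X x q (PrimeSpectrum.isMin_iff.mpr hq),
        hgen _ (generic_of_isMin X x q (PrimeSpectrum.isMin_iff.mpr hq))⟩) _ _ ?_ ?_
    · intro ξ hs
      rw [divFun_apply_neg δX _ (fun h => hs h.1), mul_zero]
    · intro q hq
      have hs : X.fromSpecStalk x q ⤳ x := fromSpecStalk_specializes X x q
      have hmax := generic_of_isMin X x q (PrimeSpectrum.isMin_iff.mpr hq)
      have hd : δX x + 1 = δX (X.fromSpecStalk x q) := by
        rw [hδgen _ hmax]
        omega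
      show ((Module.length (X.presheaf.stalk (X.fromSpecStalk x q))
          (X.presheaf.stalk (X.fromSpecStalk x q))).toNat : ℤ) *
        Cyc.divFun δX (X.fromSpecStalk x q)
          (f.residueFieldMap (X.fromSpecStalk x q)
            ((Y.residueFieldCongr (hgen _ hmax).symm).hom g)) x = _
      rw [divFun_apply_pos δX _ hs hd, hab',
        residueFieldMap_congr_div f hs (genericPoint Y) (hgen _ hmax) hys a b]
      exact term_eq hs q.asIdeal (ker_specMap_eq x _ hs q rfl) _ _
  · -- the degenerate cases
    have hL : (if δX x = δY (f x) + r then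
        Cyc.divFun δY (genericPoint Y) g (f x) * mult f x else 0) = 0 := by
      by_cases c1 : δX x = δY (f x) + r
      · rw [if_pos c1]
        have hn' : n = r := by omega
        rw [divFun_apply_neg δY g (fun h => hA ⟨hn', by rw [← hk]; exact h.2⟩), zero_mul]
      · rw [if_neg c1]
    rw [hL]
    symm
    refine finsum_eq_zero_of_forall_eq_zero fun ξ => ?_
    by_cases c3 : ξ.1 ⤳ x ∧ δX x + 1 = δX ξ.1
    · have hδξ := hδgen ξ.1 ξ.2.1
      have h3 := c3.2
      have hYx := hYle (f x)
      have hfx : f x = genericPoint Y := by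
        by_contra e
        have := hYlt (f x) e
        have hn2 : ¬ (n = r ∧ δY (f x) + 1 = k) := hA
        by_cases hnr2 : n = r
        · apply hn2
          refine ⟨hnr2, ?_⟩
          rw [hnr2] at hδn'
          omega
        · have : n < r := lt_of_le_of_ne hnr hnr2
          have : (n : ℤ) + 1 ≤ r := by exact_mod_cast this
          omega
      obtain ⟨a, ha, hag⟩ := exists_unit_specMap_eq (f x) (genericPoint Y) hys hfx g hg
      rw [divFun_apply_pos δX _ c3.1 c3.2, ← hag,
        residueFieldMap_congr_specMap f c3.1 (genericPoint Y) ξ.2.2 hys a,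
        ordAt_specMap_unit c3.1 (ha.map (f.stalkMap x).hom), mul_zero]
    · rw [divFun_apply_neg δX _ c3, mul_zero]

end Groth.Agent.H60.CycDivMain
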