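import Mathlib
import Groth.Agent.H60.CycDivAlg
import Groth.Agent.H17.Chi

/-!
# The flat pullback formula for orders of vanishing along a prime of the base local ring
(algebra behind the pointwise form of S1907 over a non-integral base)
-/

set_option autoImplicit false
set_option linter.style.haveILetI false
universe u

namespace Groth.Agent.H60.CycDivQAlg

open Groth.Agent.H60.CycPullComp Groth.Agent.H60.CycDivAlg
open scoped TensorProduct

variable {A' B' K : Type u} [CommRing A'] [CommRing B'] [Field K]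

/-- For a flat `A'`-algebra `B'` and a prime `p` of `A'`, elements outside `p` are nonzerodivisors
on `B'/pB'`. -/
theorem mk_map_mem_nonZeroDivisors (φ' : A' →+* B') (hφ : φ'.Flat) (p : Ideal A') [p.IsPrime]
    (a : A') (ha : a ∉ p) :
    Ideal.Quotient.mk (p.map φ') (φ' a) ∈ nonZeroDivisors (B' ⧸ p.map φ') := by
  letI := φ'.toAlgebra
  haveI : Module.Flat A' B' := hφ
  have h0 : IsSMulRegular (A' ⧸ p) a := by
    intro z₁ z₂ h
    simp only [Algebra.smul_def] at h
    have hne : (algebraMap A' (A' ⧸ p)) a ≠ 0 := fun h0 =>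
      ha (Ideal.Quotient.eq_zero_iff_mem.mp h0)
    exact mul_left_cancel₀ hne h
  have h1 : IsSMulRegular (B' ⊗[A'] (A' ⧸ p)) a := IsSMulRegular.lTensor B' h0
  let E := Algebra.TensorProduct.quotIdealMapEquivTensorQuot B' p
  rw [mem_nonZeroDivisors_iff_right]
  intro w hw
  have hw' : (algebraMap A' B' a) • w = 0 := by
    rw [Algebra.smul_def, mul_comm]
    exact hw
  have h2 : a • E w = a • (0 : B' ⊗[A'] (A' ⧸ p)) := by
    rw [smul_zero, ← algebraMap_smul B' a (E w), ← map_smul, hw', map_zero]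
  have h3 : E w = 0 := h1 h2
  exact E.injective (h3.trans (map_zero E).symm)

variable [IsLocalRing A'] [IsLocalRing B']

theorem ordFrac_flat_sum_quot [IsNoetherianRing A'] [IsNoetherianRing B']
    (φ' : A' →+* B') [hloc : IsLocalHom φ'] (hφ : φ'.Flat) (p : Ideal A') [p.IsPrime]
    [Algebra (A' ⧸ p) K] [IsFractionRing (A' ⧸ p) K] [Ring.KrullDimLE 1 (A' ⧸ p)]
    [IsLocalRing (B' ⧸ p.map φ')]
    (hB : ringKrullDim (B' ⧸ p.map φ') = 1) (a b : A') (ha : a ∉ p) (hb : b ∉ p) :
    CycAlg.ordFrac (A' ⧸ p) K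
        (algebraMap (A' ⧸ p) K (Ideal.Quotient.mk p a) /
          algebraMap (A' ⧸ p) K (Ideal.Quotient.mk p b)) *
      ((Module.length B' (B' ⧸ (IsLocalRing.maximalIdeal A').map φ')).toNat : ℤ) =
    ∑ᶠ (q : PrimeSpectrum (B' ⧸ p.map φ'))
      (_ : q.asIdeal ∈ minimalPrimes (B' ⧸ p.map φ')),
      ((Module.length (Localization.AtPrime q.asIdeal)
        (Localization.AtPrime q.asIdeal)).toNat : ℤ) *
        CycAlg.ordFrac ((B' ⧸ p.map φ') ⧸ q.asIdeal) q.asIdeal.ResidueField
          (algebraMap (B' ⧸ p.map φ') q.asIdeal.ResidueField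
              (Ideal.Quotient.mk (p.map φ') (φ' a)) /
            algebraMap (B' ⧸ p.map φ') q.asIdeal.ResidueField
              (Ideal.Quotient.mk (p.map φ') (φ' b))) := by
  classical
  have hS := minimalPrimes_finite (B := B' ⧸ p.map φ')
  have hnzd : ∀ z : A', z ∉ p →
      Ideal.Quotient.mk (p.map φ') (φ' z) ∈ nonZeroDivisors (B' ⧸ p.map φ') :=
    fun z hz => mk_map_mem_nonZeroDivisors φ' hφ p z hz
  have hne : ∀ z : A', z ∉ p → Ideal.Quotient.mk p z ≠ 0 := fun z hz h0 =>
    hz (Ideal.Quotient.eq_zero_iff_mem.mp h0)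
  have key : ∀ z : A', Ring.ord (B' ⧸ p.map φ') (Ideal.Quotient.mk (p.map φ') (φ' z)) =
      Ring.ord (A' ⧸ p) (Ideal.Quotient.mk p z) *
        Module.length B' (B' ⧸ (IsLocalRing.maximalIdeal A').map φ') := by
    intro z
    rw [Groth.Agent.H17.Chi.ord_quotient_eq, Groth.Agent.H17.Chi.ord_quotient_eq]
    have h := length_quot_map φ' hφ (p ⊔ Ideal.span {z})
    rw [Ideal.map_sup, Ideal.map_span, Set.image_singleton] at h
    exact h
  have hmin_a := Groth.Agent.S6480.nzd_notMem_minimalPrimes (hnzd a ha)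
  have hmin_b := Groth.Agent.S6480.nzd_notMem_minimalPrimes (hnzd b hb)
  rw [Groth.Agent.H46.LatDist.ordFrac_div _ _ (hne a ha) (hne b hb), sub_mul]
  have e1 : ∀ z : A', ((Ring.ord (A' ⧸ p) (Ideal.Quotient.mk p z)).toNat : ℤ) *
      ((Module.length B' (B' ⧸ (IsLocalRing.maximalIdeal A').map φ')).toNat : ℤ) =
        ((Ring.ord (B' ⧸ p.map φ') (Ideal.Quotient.mk (p.map φ') (φ' z))).toNat : ℤ) := by
    intro z
    rw [key z, ENat.toNat_mul]
    push_cast
    rfl
  rw [e1 a, e1 b, ord_eq_sum hB _ (hnzd a ha), ord_eq_sum hB _ (hnzd b hb)]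
  refine Eq.trans (congrArg₂ (· - ·) (finsum_mem_eq_finite_toFinset_sum _ hS)
    (finsum_mem_eq_finite_toFinset_sum _ hS)) ?_
  refine Eq.trans ?_ (finsum_mem_eq_finite_toFinset_sum _ hS).symm
  rw [← Finset.sum_sub_distrib]
  refine Finset.sum_congr rfl (fun q hq => ?_)
  have hq' : q.asIdeal ∈ minimalPrimes (B' ⧸ p.map φ') := hS.mem_toFinset.mp hq
  rw [Groth.Agent.S6480.ordFrac_div_eq hB q.asIdeal _ _ (hmin_a _ hq') (hmin_b _ hq'), mul_sub]

end Groth.Agent.H60.CycDivQAlg
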