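import Mathlib
import Groth.Agent.H60.CycDivQAlg
import Groth.Agent.H60.CycDivSch

/-!
# Scheme-level lemmas for the pointwise flat pullback of a principal divisor over a
non-integral base: the ring `O_{X,x}/𝔭_η O_{X,x}` and the generic points of the fibre over `η`
-/

set_option autoImplicit false
set_option linter.style.haveILetI false
universe u

open AlgebraicGeometry CategoryTheory CategoryTheory.Limits

namespace Groth.Agent.H60.CycDivQSch

open Groth.Agent.H60.CycPullSq Groth.Agent.H60.CycPullComp Groth.Agent.H60.OrdFlat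
  Groth.Agent.H60.CycPullDiv Groth.Agent.H71.DimFun Groth.Agent.H60.CycDivSch

section Ring

/-- A Noetherian local ring containing a nonzerodivisor in its maximal ideal has positive
dimension. -/
theorem not_ringKrullDim_le_zero_of_nzd {B : Type u} [CommRing B] [IsLocalRing B]
    [IsNoetherianRing B] (c : B) (hc : c ∈ nonZeroDivisors B)
    (hcm : c ∈ IsLocalRing.maximalIdeal B) : ¬ ringKrullDim B ≤ 0 := by
  intro h
  haveI : Ring.KrullDimLE 0 B := Ring.krullDimLE_iff.mpr h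
  obtain ⟨q, hq, -⟩ := Ideal.exists_minimalPrimes_le (I := (⊥ : Ideal B))
    (J := IsLocalRing.maximalIdeal B) bot_le
  haveI : q.IsPrime := hq.1.1
  have hqm : q.IsMaximal := Ideal.isMaximal_of_isPrime q
  have : q = IsLocalRing.maximalIdeal B := IsLocalRing.eq_maximalIdeal hqm
  exact Groth.Agent.S6480.nzd_notMem_minimalPrimes hc q hq (this ▸ hcm)

theorem ringKrullDim_eq_one_of {B : Type u} [CommRing B] (h1 : ringKrullDim B ≤ 1)
    (h0 : ¬ ringKrullDim B ≤ 0) : ringKrullDim B = 1 := by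
  refine le_antisymm h1 (not_lt.mp fun hlt => h0 ?_)
  have := (ENat.WithBot.lt_add_one_iff (n := ringKrullDim B) (m := 0)).mp (by simpa using hlt)
  simpa using this

end Ring

variable {X : Scheme.{u}}

instance kerSpecMapIsPrime {x ξ : X} (h : ξ ⤳ x) : (RingHom.ker (Cyc.specMap x ξ h)).IsPrime :=
  RingHom.ker_isPrime _

/-- There is an isomorphism between the residue field of the prime of `ξ` in `O_{X,x}` and
`κ(ξ)`, compatible with `specMap`. -/
theorem exists_residueField_equiv {x ξ : X} (h : ξ ⤳ x) :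
    ∃ ε : (RingHom.ker (Cyc.specMap x ξ h)).ResidueField ≃+* X.residueField ξ,
      ∀ b : X.presheaf.stalk x,
        ε (algebraMap (X.presheaf.stalk x) (RingHom.ker (Cyc.specMap x ξ h)).ResidueField b) =
          Cyc.specMap x ξ h b := by
  letI algxξ : Algebra (X.presheaf.stalk x) (X.presheaf.stalk ξ) :=
    (X.presheaf.stalkSpecializes h).hom.toAlgebra
  haveI := isLocalization_stalkSpecializes h
  let α : Localization.AtPrime (RingHom.ker (Cyc.specMap x ξ h)) ≃ₐ[X.presheaf.stalk x]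
      X.presheaf.stalk ξ :=
    IsLocalization.algEquiv (RingHom.ker (Cyc.specMap x ξ h)).primeCompl _ _
  refine ⟨IsLocalRing.ResidueField.mapEquiv α.toRingEquiv, fun b => ?_⟩
  rw [IsScalarTower.algebraMap_apply (X.presheaf.stalk x)
    (Localization.AtPrime (RingHom.ker (Cyc.specMap x ξ h)))
    (RingHom.ker (Cyc.specMap x ξ h)).ResidueField]
  change IsLocalRing.residue _ (α (algebraMap _ _ b)) = _
  rw [α.commutes]
  rfl

/-- `κ(ξ)` is the fraction field of `O_{X,x}/𝔭_ξ`. -/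
theorem locQuot_isFractionRing {x ξ : X} (h : ξ ⤳ x) :
    IsFractionRing (Cyc.LocQuot x ξ h) (X.residueField ξ) := by
  obtain ⟨ε, hε⟩ := exists_residueField_equiv h
  refine isFractionRing_transport (R := Cyc.LocQuot x ξ h)
    (K := (RingHom.ker (Cyc.specMap x ξ h)).ResidueField)
    (RingEquiv.refl (Cyc.LocQuot x ξ h)) ε (fun r => ?_)
  obtain ⟨b, rfl⟩ := Ideal.Quotient.mk_surjective r
  exact hε b

/-- Specialization between generizations of `x` is containment of the primes of `O_{X,x}`. -/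
theorem specializes_iff_ker_le {x ξ₁ ξ₂ : X} (h₁ : ξ₁ ⤳ x) (h₂ : ξ₂ ⤳ x) :
    ξ₁ ⤳ ξ₂ ↔ RingHom.ker (Cyc.specMap x ξ₁ h₁) ≤ RingHom.ker (Cyc.specMap x ξ₂ h₂) := by
  obtain ⟨q₁, hq₁⟩ := exists_of_specializes X h₁
  obtain ⟨q₂, hq₂⟩ := exists_of_specializes X h₂
  rw [ker_specMap_eq x ξ₁ h₁ q₁ hq₁, ker_specMap_eq x ξ₂ h₂ q₂ hq₂, ← hq₁, ← hq₂,
    fromSpecStalk_specializes_iff]
  rfl

/-- The prime of `f ξ` in `O_{Y,f x}` is the contraction of the prime of `ξ` in `O_{X,x}`. -/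
theorem ker_specMap_comap {Y : Scheme.{u}} (f : X ⟶ Y) {x ξ : X} (h : ξ ⤳ x) :
    (RingHom.ker (Cyc.specMap x ξ h)).comap (f.stalkMap x).hom =
      RingHom.ker (Cyc.specMap (f x) (f ξ) (h.map f.continuous)) := by
  ext a
  rw [Ideal.mem_comap, RingHom.mem_ker, RingHom.mem_ker, ← residueFieldMap_specMap f h a]
  exact map_eq_zero _

/-- The extension to `O_{X,x}` of the prime of `η ⤳ f x` lies in the prime of `ξ ⤳ x` exactly
when `f ξ` lies in the closure of `η`. -/
theorem map_ker_le_iff {Y : Scheme.{u}} (f : X ⟶ Y) {x ξ : X} (h : ξ ⤳ x) {η : Y}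
    (hη : η ⤳ f x) :
    (RingHom.ker (Cyc.specMap (f x) η hη)).map (f.stalkMap x).hom ≤
      RingHom.ker (Cyc.specMap x ξ h) ↔ η ⤳ f ξ := by
  rw [Ideal.map_le_iff_le_comap, ker_specMap_comap f h,
    ← specializes_iff_ker_le hη (h.map f.continuous)]

/-- Bounding the dimension of a quotient of a local ring of a scheme with a dimension
function. -/
theorem ringKrullDim_quot_le (X : Scheme.{u}) (δ : X → ℤ) (hδ : Cyc.IsDimFun X δ) (x : X)
    (J : Ideal (X.presheaf.stalk x)) (n : ℕ)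
    (hb : ∀ q : PrimeSpectrum (X.presheaf.stalk x), J ≤ q.asIdeal →
      δ (X.fromSpecStalk x q) ≤ δ x + n) :
    ringKrullDim (X.presheaf.stalk x ⧸ J) ≤ n := by
  rw [ringKrullDim_quotient]
  refine iSup_le fun s => ?_
  have hmono : ∀ i : ℕ, ∀ hi : i < s.length + 1,
      δ (X.fromSpecStalk x (s ⟨i, hi⟩).1) + i ≤ δ (X.fromSpecStalk x (s ⟨0, by omega⟩).1) := by
    intro i
    induction i with
    | zero => intro hi; simp
    | succ i ih =>
      intro hi
      have hi' : i < s.length + 1 := by omega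
      have hlt : s ⟨i, hi'⟩ < s ⟨i + 1, hi⟩ := s.strictMono (by
        rw [Fin.lt_def]; simp)
      have hlt' : (s ⟨i, hi'⟩).1 < (s ⟨i + 1, hi⟩).1 := hlt
      have hspec : X.fromSpecStalk x (s ⟨i, hi'⟩).1 ⤳ X.fromSpecStalk x (s ⟨i + 1, hi⟩).1 :=
        (fromSpecStalk_specializes_iff X x _ _).mpr hlt'.le
      have hne : X.fromSpecStalk x (s ⟨i, hi'⟩).1 ≠ X.fromSpecStalk x (s ⟨i + 1, hi⟩).1 :=
        fun e => (ne_of_lt hlt') (fromSpecStalk_injective X x e)
      have := (hδ _ _ hspec hne).1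
      have := ih hi'
      push_cast
      omega
  have hlast := hmono s.length (by omega)
  have h1 := isDimFun_mono X δ hδ (fromSpecStalk_specializes X x (s ⟨s.length, by omega⟩).1)
  have h2 := hb (s ⟨0, by omega⟩).1 (by
    have := (s ⟨0, by omega⟩).2
    rw [PrimeSpectrum.mem_zeroLocus] at this
    exact this)
  have : (s.length : ℤ) ≤ n := by omega
  exact_mod_cast this

/-- Reindexing a sum over points `ξ` with a property `P` by any parametrization of those among
them that specialize to `x`. -/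
theorem finsum_subtype_reindex (x : X) (P : X → Prop) {Q : Type*} (pt : Q → X)
    (hinj : Function.Injective pt) (hP : ∀ q, P (pt q)) (hs : ∀ q, pt q ⤳ x)
    (hsurj : ∀ ξ, P ξ → ξ ⤳ x → ∃ q, pt q = ξ) (G : {ξ : X // P ξ} → ℤ)
    (hG0 : ∀ ξ : {ξ : X // P ξ}, ¬ ξ.1 ⤳ x → G ξ = 0) :
    ∑ᶠ ξ, G ξ = ∑ᶠ q : Q, G ⟨pt q, hP q⟩ := by
  classical
  have h1 : ∑ᶠ ξ, G ξ = ∑ᶠ ξ : {ξ : {ξ : X // P ξ} // ξ.1 ⤳ x}, G ξ.1 := by
    rw [finsum_subtype_eq_finsum_cond (fun ξ : {ξ : X // P ξ} => ξ.1 ⤳ x)]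
    refine finsum_congr fun ξ => ?_
    rw [finsum_eq_if]
    split_ifs with hs
    · rfl
    · exact hG0 ξ hs
  rw [h1]
  symm
  refine finsum_eq_of_bijective
    (fun q : Q => (⟨⟨pt q, hP q⟩, hs q⟩ : {ξ : {ξ : X // P ξ} // ξ.1 ⤳ x})) ⟨?_, ?_⟩
    (fun q => rfl)
  · intro q q' e
    exact hinj (congrArg (fun z : {ξ : {ξ : X // P ξ} // ξ.1 ⤳ x} => z.1.1) e)
  · rintro ⟨⟨ξ, hPξ⟩, hsξ⟩
    obtain ⟨q, rfl⟩ := hsurj ξ hPξ hsξ
    exact ⟨q, rfl⟩

section Quot

variable {Y : Scheme.{u}} (f : X ⟶ Y) (x : X) (η : Y) (hη : η ⤳ f x)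

/-- The ideal `𝔭_η O_{X,x}`. -/
noncomputable abbrev extIdeal : Ideal (X.presheaf.stalk x) :=
  (RingHom.ker (Cyc.specMap (f x) η hη)).map (f.stalkMap x).hom

/-- The prime of `O_{X,x}` under a prime of `O_{X,x}/𝔭_η O_{X,x}`. -/
noncomputable def toPrime (q : PrimeSpectrum (X.presheaf.stalk x ⧸ extIdeal f x η hη)) :
    PrimeSpectrum (X.presheaf.stalk x) :=
  ⟨q.asIdeal.comap (Ideal.Quotient.mk (extIdeal f x η hη)), inferInstance⟩

/-- The point of `X` attached to a prime of `O_{X,x}/𝔭_η O_{X,x}`. -/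
noncomputable def pt (q : PrimeSpectrum (X.presheaf.stalk x ⧸ extIdeal f x η hη)) : X :=
  X.fromSpecStalk x (toPrime f x η hη q)

theorem pt_specializes (q : PrimeSpectrum (X.presheaf.stalk x ⧸ extIdeal f x η hη)) :
    pt f x η hη q ⤳ x :=
  fromSpecStalk_specializes X x _

theorem ker_pt (q : PrimeSpectrum (X.presheaf.stalk x ⧸ extIdeal f x η hη)) :
    RingHom.ker (Cyc.specMap x (pt f x η hη q) (pt_specializes f x η hη q)) =
      q.asIdeal.comap (Ideal.Quotient.mk (extIdeal f x η hη)) :=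
  ker_specMap_eq x _ _ (toPrime f x η hη q) rfl

theorem extIdeal_le_comap (q : Ideal (X.presheaf.stalk x ⧸ extIdeal f x η hη)) :
    extIdeal f x η hη ≤ q.comap (Ideal.Quotient.mk (extIdeal f x η hη)) := by
  intro j hj
  rw [Ideal.mem_comap, Ideal.Quotient.eq_zero_iff_mem.mpr hj]
  exact q.zero_mem

theorem spec_pt (q : PrimeSpectrum (X.presheaf.stalk x ⧸ extIdeal f x η hη)) :
    η ⤳ f (pt f x η hη q) := by
  rw [← map_ker_le_iff f (pt_specializes f x η hη q) hη, ker_pt]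
  exact extIdeal_le_comap f x η hη _

theorem pt_injective : Function.Injective (pt f x η hη) := by
  intro q q' e
  have e1 : toPrime f x η hη q = toPrime f x η hη q' := fromSpecStalk_injective X x e
  have e2 : q.asIdeal.comap (Ideal.Quotient.mk (extIdeal f x η hη)) =
      q'.asIdeal.comap (Ideal.Quotient.mk (extIdeal f x η hη)) :=
    congrArg PrimeSpectrum.asIdeal e1
  exact PrimeSpectrum.ext
    (Ideal.comap_injective_of_surjective _ Ideal.Quotient.mk_surjective e2)

/-- A generization of `x` over the closure of `η` comes from a prime of the quotient. -/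
theorem exists_pt_eq {ξ : X} (h : ξ ⤳ x) (hξ : η ⤳ f ξ) :
    ∃ q : PrimeSpectrum (X.presheaf.stalk x ⧸ extIdeal f x η hη), pt f x η hη q = ξ ∧
      q.asIdeal = (RingHom.ker (Cyc.specMap x ξ h)).map
        (Ideal.Quotient.mk (extIdeal f x η hη)) := by
  have hJ : extIdeal f x η hη ≤ RingHom.ker (Cyc.specMap x ξ h) :=
    (map_ker_le_iff f h hη).mpr hξ
  have hprime : ((RingHom.ker (Cyc.specMap x ξ h)).map
      (Ideal.Quotient.mk (extIdeal f x η hη))).IsPrime :=
    Ideal.map_isPrime_of_surjective Ideal.Quotient.mk_surjective (by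
      rw [Ideal.mk_ker]; exact hJ)
  have hcomap : ((RingHom.ker (Cyc.specMap x ξ h)).map
      (Ideal.Quotient.mk (extIdeal f x η hη))).comap (Ideal.Quotient.mk (extIdeal f x η hη)) =
      RingHom.ker (Cyc.specMap x ξ h) := by
    rw [Ideal.comap_map_of_surjective _ Ideal.Quotient.mk_surjective, ← RingHom.ker_eq_comap_bot,
      Ideal.mk_ker]
    exact sup_eq_left.mpr hJ
  refine ⟨⟨_, hprime⟩, ?_, rfl⟩
  obtain ⟨q₀, hq₀⟩ := exists_of_specializes X h
  have hk := ker_specMap_eq x ξ h q₀ hq₀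
  have : toPrime f x η hη ⟨_, hprime⟩ = q₀ := by
    apply PrimeSpectrum.ext
    show Ideal.comap _ _ = _
    rw [hcomap, hk]
  show X.fromSpecStalk x (toPrime f x η hη ⟨_, hprime⟩) = ξ
  rw [this, hq₀]

/-- Minimal primes of `O_{X,x}/𝔭_η O_{X,x}` give points that are maximal over the closure of
`η`. -/
theorem pt_max (q : PrimeSpectrum (X.presheaf.stalk x ⧸ extIdeal f x η hη))
    (hq : q.asIdeal ∈ minimalPrimes (X.presheaf.stalk x ⧸ extIdeal f x η hη)) (x' : X)
    (hx' : x' ⤳ pt f x η hη q) (hηx' : η ⤳ f x') : x' = pt f x η hη q := by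
  have hx'x : x' ⤳ x := hx'.trans (pt_specializes f x η hη q)
  obtain ⟨q₂, hq₂, hq₂'⟩ := exists_pt_eq f x η hη hx'x hηx'
  have hle : q₂ ≤ q := by
    show q₂.asIdeal ≤ q.asIdeal
    rw [hq₂', Ideal.map_le_iff_le_comap, ← ker_pt]
    exact (specializes_iff_ker_le hx'x (pt_specializes f x η hη q)).mp hx'
  have : q₂ = q := le_antisymm hle ((PrimeSpectrum.isMin_iff.mpr hq) hle)
  rw [← hq₂, this]

theorem pt_fib [Flat f] (q : PrimeSpectrum (X.presheaf.stalk x ⧸ extIdeal f x η hη))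
    (hq : q.asIdeal ∈ minimalPrimes (X.presheaf.stalk x ⧸ extIdeal f x η hη)) :
    f (pt f x η hη q) = η := by
  obtain ⟨ξ₃, h3, hf3⟩ := (Flat.generalizingMap f) (spec_pt f x η hη q)
  have := pt_max f x η hη q hq ξ₃ h3 (by rw [hf3])
  rw [← this, hf3]

/-- Conversely a point of the fibre over `η` that is maximal over the closure of `η` and
specializes to `x` comes from a minimal prime. -/
theorem exists_min_pt_eq {ξ : X} (h : ξ ⤳ x) (hfξ : f ξ = η)
    (hmax : ∀ x' : X, x' ⤳ ξ → η ⤳ f x' → x' = ξ) :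
    ∃ q : PrimeSpectrum (X.presheaf.stalk x ⧸ extIdeal f x η hη),
      q.asIdeal ∈ minimalPrimes (X.presheaf.stalk x ⧸ extIdeal f x η hη) ∧
        pt f x η hη q = ξ := by
  obtain ⟨q, hq, -⟩ := exists_pt_eq f x η hη h (by rw [hfξ])
  refine ⟨q, PrimeSpectrum.isMin_iff.mp ?_, hq⟩
  intro q₂ hle
  have hs : pt f x η hη q₂ ⤳ ξ := by
    rw [← hq, specializes_iff_ker_le (pt_specializes f x η hη q₂) (pt_specializes f x η hη q),
      ker_pt, ker_pt]
    exact Ideal.comap_mono hle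
  have := hmax _ hs (spec_pt f x η hη q₂)
  have e : q₂ = q := pt_injective f x η hη (this.trans hq.symm)
  rw [e]

end Quot

end Groth.Agent.H60.CycDivQSch
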