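import Mathlib
import Groth.Agent.H60.CycDivQSch

/-!
# The contribution of one generic point of the fibre, through the ring `O_{X,x}/𝔭_η O_{X,x}`
-/

set_option autoImplicit false
set_option linter.style.haveILetI false
universe u

open AlgebraicGeometry CategoryTheory CategoryTheory.Limits

namespace Groth.Agent.H60.CycDivQTerm

open Groth.Agent.H60.CycPullSq Groth.Agent.H60.CycPullComp Groth.Agent.H60.OrdFlat
  Groth.Agent.H60.CycPullDiv Groth.Agent.H71.DimFun Groth.Agent.H60.CycDivSch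
  Groth.Agent.H60.CycDivQSch

variable {X : Scheme.{u}}

/-- The order of vanishing on `(O_{X,x}/J)/𝔮` agrees with `ordAt` along `ξ ⤳ x` when `𝔮` is the
image of the prime of `ξ`. -/
theorem term_ord {x ξ : X} (h : ξ ⤳ x) (J : Ideal (X.presheaf.stalk x))
    (hJ : J ≤ RingHom.ker (Cyc.specMap x ξ h))
    (q : Ideal (X.presheaf.stalk x ⧸ J)) [hqp : q.IsPrime]
    (hq : q = (RingHom.ker (Cyc.specMap x ξ h)).map (Ideal.Quotient.mk J))
    (a' b' : X.presheaf.stalk x) :
    CycAlg.ordFrac ((X.presheaf.stalk x ⧸ J) ⧸ q) q.ResidueField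
      (algebraMap (X.presheaf.stalk x ⧸ J) q.ResidueField (Ideal.Quotient.mk J a') /
        algebraMap (X.presheaf.stalk x ⧸ J) q.ResidueField (Ideal.Quotient.mk J b')) =
    Cyc.ordAt x ξ h (Cyc.specMap x ξ h a' / Cyc.specMap x ξ h b') := by
  subst hq
  haveI := locQuot_isFractionRing h
  let e : ((X.presheaf.stalk x ⧸ J) ⧸
      (RingHom.ker (Cyc.specMap x ξ h)).map (Ideal.Quotient.mk J)) ≃+* Cyc.LocQuot x ξ h :=
    DoubleQuot.quotQuotEquivQuotOfLE hJ
  let ε : ((RingHom.ker (Cyc.specMap x ξ h)).map (Ideal.Quotient.mk J)).ResidueField ≃+*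
      X.residueField ξ :=
    IsFractionRing.ringEquivOfRingEquiv e
  have hc : ∀ r, ε (algebraMap _ _ r) =
      algebraMap (Cyc.LocQuot x ξ h) (X.residueField ξ) (e r) :=
    fun r => IsFractionRing.ringEquivOfRingEquiv_algebraMap e r
  have hε : ∀ b : X.presheaf.stalk x,
      ε (algebraMap (X.presheaf.stalk x ⧸ J) _ (Ideal.Quotient.mk J b)) =
        Cyc.specMap x ξ h b := by
    intro b
    have := hc (Ideal.Quotient.mk _ (Ideal.Quotient.mk J b))
    rw [Ideal.algebraMap_quotient_residueField_mk] at this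
    rw [this]
    show algebraMap (Cyc.LocQuot x ξ h) (X.residueField ξ)
      (DoubleQuot.quotQuotEquivQuotOfLE hJ (DoubleQuot.quotQuotMk J _ b)) = _
    rw [DoubleQuot.quotQuotEquivQuotOfLE_quotQuotMk]
    rfl
  have key := cycOrdFrac_transport e ε hc
    (algebraMap (X.presheaf.stalk x ⧸ J) _ (Ideal.Quotient.mk J a') /
      algebraMap (X.presheaf.stalk x ⧸ J) _ (Ideal.Quotient.mk J b'))
  rw [map_div₀, hε, hε] at key
  exact key.symm

/-- The image of the complement of a prime containing `J` is the complement of its image in the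
quotient by `J`. -/
theorem primeCompl_map_mk {R : Type u} [CommRing R] (J q' : Ideal R) [q'.IsPrime]
    (hJ : J ≤ q') [(q'.map (Ideal.Quotient.mk J)).IsPrime] :
    q'.primeCompl.map (Ideal.Quotient.mk J) = (q'.map (Ideal.Quotient.mk J)).primeCompl := by
  have hcomap : (q'.map (Ideal.Quotient.mk J)).comap (Ideal.Quotient.mk J) = q' := by
    rw [Ideal.comap_map_of_surjective _ Ideal.Quotient.mk_surjective,
      ← RingHom.ker_eq_comap_bot, Ideal.mk_ker]
    exact sup_eq_left.mpr hJ
  ext z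
  constructor
  · rintro ⟨b, hb, rfl⟩
    intro hz
    have : b ∈ (q'.map (Ideal.Quotient.mk J)).comap (Ideal.Quotient.mk J) := hz
    rw [hcomap] at this
    exact hb this
  · intro hz
    obtain ⟨b, rfl⟩ := Ideal.Quotient.mk_surjective z
    refine ⟨b, fun hb => hz (Ideal.mem_map_of_mem _ hb), rfl⟩

set_option backward.isDefEq.respectTransparency false in
/-- The length of the local ring of `O_{X,x}/𝔭_η O_{X,x}` at the image of the prime of a point
`ξ` of the fibre over `η` is the multiplicity of the fibre at `ξ`. -/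
theorem term_len {Y : Scheme.{u}} (f : X ⟶ Y) {x ξ : X} (h : ξ ⤳ x) (η : Y) (hfξ : f ξ = η)
    (hη : η ⤳ f x)
    (q : Ideal (X.presheaf.stalk x ⧸ extIdeal f x η hη)) [hqp : q.IsPrime]
    (hq : q = (RingHom.ker (Cyc.specMap x ξ h)).map
      (Ideal.Quotient.mk (extIdeal f x η hη))) :
    Module.length (Localization.AtPrime q) (Localization.AtPrime q) =
      Module.length (X.presheaf.stalk ξ) (X.presheaf.stalk ξ ⧸
        Ideal.map (f.stalkMap ξ).hom (IsLocalRing.maximalIdeal (Y.presheaf.stalk (f ξ)))) := by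
  subst hfξ
  subst hq
  have hJ : extIdeal f x (f ξ) hη ≤ RingHom.ker (Cyc.specMap x ξ h) :=
    (map_ker_le_iff f h hη).mpr specializes_rfl
  letI algX : Algebra (X.presheaf.stalk x) (X.presheaf.stalk ξ) :=
    (X.presheaf.stalkSpecializes h).hom.toAlgebra
  haveI locX := isLocalization_stalkSpecializes h
  letI algY : Algebra (Y.presheaf.stalk (f x)) (Y.presheaf.stalk (f ξ)) :=
    (Y.presheaf.stalkSpecializes hη).hom.toAlgebra
  haveI locY := isLocalization_stalkSpecializes hη
  have hmax : (RingHom.ker (Cyc.specMap (f x) (f ξ) hη)).map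
      (Y.presheaf.stalkSpecializes hη).hom =
      IsLocalRing.maximalIdeal (Y.presheaf.stalk (f ξ)) :=
    IsLocalization.AtPrime.map_eq_maximalIdeal (RingHom.ker (Cyc.specMap (f x) (f ξ) hη))
      (Y.presheaf.stalk (f ξ))
  have hnat : (f.stalkMap ξ).hom.comp (Y.presheaf.stalkSpecializes hη).hom =
      (X.presheaf.stalkSpecializes h).hom.comp (f.stalkMap x).hom := by
    rw [← CommRingCat.hom_comp, ← CommRingCat.hom_comp]
    exact congrArg CommRingCat.Hom.hom (Scheme.Hom.stalkSpecializes_stalkMap f ξ x h)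
  have hI : (extIdeal f x (f ξ) hη).map (X.presheaf.stalkSpecializes h).hom =
      Ideal.map (f.stalkMap ξ).hom (IsLocalRing.maximalIdeal (Y.presheaf.stalk (f ξ))) := by
    show Ideal.map _ (Ideal.map _ _) = _
    rw [Ideal.map_map, ← hnat, ← Ideal.map_map, hmax]
  let g : X.presheaf.stalk ξ →+* X.presheaf.stalk ξ ⧸
      Ideal.map (f.stalkMap ξ).hom (IsLocalRing.maximalIdeal (Y.presheaf.stalk (f ξ))) :=
    Ideal.Quotient.mk _
  let ψ : (X.presheaf.stalk x ⧸ extIdeal f x (f ξ) hη) →+* (X.presheaf.stalk ξ ⧸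
      Ideal.map (f.stalkMap ξ).hom (IsLocalRing.maximalIdeal (Y.presheaf.stalk (f ξ)))) :=
    Ideal.Quotient.lift (extIdeal f x (f ξ) hη)
      (g.comp (X.presheaf.stalkSpecializes h).hom) (fun j hj => by
        rw [RingHom.comp_apply, Ideal.Quotient.eq_zero_iff_mem, ← hI]
        exact Ideal.mem_map_of_mem _ hj)
  letI algQ : Algebra (X.presheaf.stalk x ⧸ extIdeal f x (f ξ) hη) (X.presheaf.stalk ξ ⧸
      Ideal.map (f.stalkMap ξ).hom (IsLocalRing.maximalIdeal (Y.presheaf.stalk (f ξ)))) :=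
    ψ.toAlgebra
  have hloc : IsLocalization ((RingHom.ker (Cyc.specMap x ξ h)).primeCompl.map
      (Ideal.Quotient.mk (extIdeal f x (f ξ) hη))) (X.presheaf.stalk ξ ⧸
      Ideal.map (f.stalkMap ξ).hom (IsLocalRing.maximalIdeal (Y.presheaf.stalk (f ξ)))) :=
    IsLocalization.of_surjective (RingHom.ker (Cyc.specMap x ξ h)).primeCompl
      (X.presheaf.stalk ξ) (Ideal.Quotient.mk (extIdeal f x (f ξ) hη))
      Ideal.Quotient.mk_surjective g Ideal.Quotient.mk_surjective (by ext; rfl) (by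
        rw [Ideal.mk_ker, Ideal.mk_ker]
        exact hI.symm.le)
  rw [primeCompl_map_mk _ _ hJ] at hloc
  let α := IsLocalization.algEquiv ((RingHom.ker (Cyc.specMap x ξ h)).map
      (Ideal.Quotient.mk (extIdeal f x (f ξ) hη))).primeCompl
    (Localization.AtPrime ((RingHom.ker (Cyc.specMap x ξ h)).map
      (Ideal.Quotient.mk (extIdeal f x (f ξ) hη)))) (X.presheaf.stalk ξ ⧸
      Ideal.map (f.stalkMap ξ).hom (IsLocalRing.maximalIdeal (Y.presheaf.stalk (f ξ))))
  rw [Groth.Agent.H25.LenBC.length_self_ringEquiv α.toRingEquiv]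
  exact (Module.length_eq_of_surjective (S := X.presheaf.stalk ξ)
    (R := X.presheaf.stalk ξ ⧸
      Ideal.map (f.stalkMap ξ).hom (IsLocalRing.maximalIdeal (Y.presheaf.stalk (f ξ))))
    (M := X.presheaf.stalk ξ ⧸
      Ideal.map (f.stalkMap ξ).hom (IsLocalRing.maximalIdeal (Y.presheaf.stalk (f ξ))))
    Ideal.Quotient.mk_surjective).symm

end Groth.Agent.H60.CycDivQTerm
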