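import Mathlib
import Groth.Agent.H60.CycDivPt

/-!
# Pointwise flat pullback of a principal divisor, with the dimension function upstairs only
assumed to be bounded by, and at generic points of fibres equal to, the induced one
(no finite type hypothesis; used for S1940)
-/

set_option autoImplicit false
set_option linter.style.haveILetI false
universe u

open AlgebraicGeometry CategoryTheory CategoryTheory.Limits

namespace Groth.Agent.H60.CycDivPtCore

open Groth.Agent.H60.CycPullSq Groth.Agent.H60.CycPullComp Groth.Agent.H60.OrdFlat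
  Groth.Agent.H60.CycPullDiv Groth.Agent.H71.DimFun Groth.Agent.H60.CycDivSch
  Groth.Agent.H60.CycDivQSch Groth.Agent.H60.CycDivQTerm Groth.Agent.H60.CycDivQAlg
  Groth.Agent.H60.CycDivPt

set_option backward.isDefEq.respectTransparency false in
/-- Flat pullback of `div(g)` for `g ∈ κ(η)ˣ`: the sum over the generic points `ξ` of the fibre
over `η` of the fibre multiplicity at `ξ` times `div(g|_ξ)`. -/
theorem main_pt_core (X Y : Scheme.{u}) (δX : X → ℤ) (δY : Y → ℤ)
    (hX : Cyc.IsSetup X δX) (hY : Cyc.IsSetup Y δY) (f : X ⟶ Y) [Flat f] (r : ℤ)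
    (H1 : ∀ z : X, δX z ≤ δY (f z) + r)
    (H2 : ∀ ξ : X, (∀ y : X, f y = f ξ → y ⤳ ξ → y = ξ) → δX ξ = δY (f ξ) + r)
    (η : Y) (g : Y.residueField η) (hg : g ≠ 0) (x : X) :
    Cyc.pullFun f δX δY r (Cyc.divFun δY η g) x =
      ∑ᶠ ξ : {ξ : X // (∀ x' : X, x' ⤳ ξ → η ⤳ f x' → x' = ξ) ∧ f ξ = η},
        mult f ξ.1 * Cyc.divFun δX ξ.1
          (f.residueFieldMap ξ.1 ((Y.residueFieldCongr ξ.2.2.symm).hom g)) x := by
  classical
  haveI : IsLocallyNoetherian X := hX.1
  haveI : IsLocallyNoetherian Y := hY.1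
  -- bounds for δY on the closure of η
  have hYle : ∀ y : Y, η ⤳ y → δY y ≤ δY η := fun y hy => isDimFun_mono Y δY hY.2.2 hy
  have hYlt : ∀ y : Y, η ⤳ y → y ≠ η → δY y < δY η := fun y hy e =>
    (hY.2.2 _ _ hy (fun e' => e e'.symm)).1
  -- bounds for δX over the closure of η
  have hXle : ∀ z : X, η ⤳ f z → δX z ≤ δY η + r := by
    intro z hz
    have h1 := hYle (f z) hz
    have h2 := H1 z
    omega
  -- δ at the generic points of the fibre
  have hδP : ∀ ξ : X, (∀ x' : X, x' ⤳ ξ → η ⤳ f x' → x' = ξ) → f ξ = η →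
      δX ξ = δY η + r := by
    intro ξ hmax hfξ
    have h2 := H2 ξ (fun w hw hws => hmax w hws (by
      have : f w = η := hw.trans hfξ
      rw [this]))
    rw [hfξ] at h2
    exact h2
  rw [pullFun_apply]
  by_cases hA : δX x = δY (f x) + r ∧ η ⤳ f x ∧ δY (f x) + 1 = δY η
  · -- the main case
    obtain ⟨c1, hys, hA2⟩ := hA
    rw [if_pos c1, divFun_apply_pos δY g hys hA2]
    haveI hfrac : IsFractionRing (Cyc.LocQuot (f x) η hys) (Y.residueField η) :=
      locQuot_isFractionRing hys
    -- the dimension of the local ring of the closure of η at f x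
    have hdimA : ringKrullDim (Cyc.LocQuot (f x) η hys) = 1 := by
      obtain ⟨q, hq⟩ := exists_of_specializes Y hys
      obtain ⟨d, hd, hδd⟩ := delta_eq_add_coheight Y δY hY.2.2 (f x) q
      rw [locQuot_dim Y (f x) η hys q hq, hd]
      rw [hq] at hδd
      have : d = 1 := by omega
      rw [this]
      rfl
    haveI : Ring.KrullDimLE 1 (Cyc.LocQuot (f x) η hys) := Ring.krullDimLE_iff.mpr hdimA.le
    -- a nonzero nonunit of that ring
    have hnotfield : ¬ IsField (Cyc.LocQuot (f x) η hys) := fun hF => by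
      have := ringKrullDim_eq_zero_of_isField hF
      rw [hdimA] at this
      exact one_ne_zero this
    haveI : IsLocalRing (Cyc.LocQuot (f x) η hys) :=
      IsLocalRing.of_surjective' (Ideal.Quotient.mk _) Ideal.Quotient.mk_surjective
    have hmaxA : IsLocalRing.maximalIdeal (Cyc.LocQuot (f x) η hys) ≠ ⊥ := fun h =>
      hnotfield (IsLocalRing.isField_iff_maximalIdeal_eq.mpr h)
    obtain ⟨a₀bar, ha₀m, ha₀ne⟩ := Submodule.exists_mem_ne_zero_of_ne_bot hmaxA
    obtain ⟨a₀, rfl⟩ := Ideal.Quotient.mk_surjective a₀bar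
    have ha₀p : a₀ ∉ RingHom.ker (Cyc.specMap (f x) η hys) := fun h =>
      ha₀ne (Ideal.Quotient.eq_zero_iff_mem.mpr h)
    have ha₀max : a₀ ∈ IsLocalRing.maximalIdeal (Y.presheaf.stalk (f x)) := by
      rw [IsLocalRing.mem_maximalIdeal, mem_nonunits_iff]
      intro hu
      rw [IsLocalRing.mem_maximalIdeal, mem_nonunits_iff] at ha₀m
      exact ha₀m (hu.map _)
    -- the quotient ring upstairs
    have hJle : extIdeal f x η hys ≤ IsLocalRing.maximalIdeal (X.presheaf.stalk x) :=
      (Ideal.map_mono (IsLocalRing.le_maximalIdeal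
        (RingHom.ker_isPrime (Cyc.specMap (f x) η hys)).ne_top)).trans
        (IsLocalRing.map_maximalIdeal_le (f.stalkMap x).hom)
    obtain ⟨hlocB, hmemB⟩ := quot_isLocalRing (extIdeal f x η hys) hJle
    haveI := hlocB
    have hflat : (f.stalkMap x).hom.Flat := AlgebraicGeometry.Flat.stalkMap f x
    have hB : ringKrullDim (X.presheaf.stalk x ⧸ extIdeal f x η hys) = 1 := by
      refine ringKrullDim_eq_one_of
        (ringKrullDim_quot_le X δX hX.2.2 x (extIdeal f x η hys) 1 (fun q' hq' => ?_))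
        (not_ringKrullDim_le_zero_of_nzd
          (Ideal.Quotient.mk (extIdeal f x η hys) ((f.stalkMap x).hom a₀))
          (mk_map_mem_nonZeroDivisors (f.stalkMap x).hom hflat _ a₀ ha₀p)
          (hmemB _ (map_nonunit (f.stalkMap x).hom a₀ ha₀max)))
      have hs : X.fromSpecStalk x q' ⤳ x := fromSpecStalk_specializes X x q'
      have hk := ker_specMap_eq x _ hs q' rfl
      have := hXle _ ((map_ker_le_iff f hs hys).mp (by rw [hk]; exact hq'))
      push_cast
      omega
    -- write g as a fraction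
    obtain ⟨abar, bbar, hbbar, hab⟩ :=
      IsFractionRing.div_surjective (A := Cyc.LocQuot (f x) η hys) g
    obtain ⟨a, rfl⟩ := Ideal.Quotient.mk_surjective abar
    obtain ⟨b, rfl⟩ := Ideal.Quotient.mk_surjective bbar
    haveI : IsDomain (Cyc.LocQuot (f x) η hys) :=
      (IsFractionRing.injective (Cyc.LocQuot (f x) η hys) (Y.residueField η)).isDomain
    have hb0 : b ∉ RingHom.ker (Cyc.specMap (f x) η hys) := fun h =>
      nonZeroDivisors.ne_zero hbbar (Ideal.Quotient.eq_zero_iff_mem.mpr h)
    have ha0 : a ∉ RingHom.ker (Cyc.specMap (f x) η hys) := by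
      intro h
      apply hg
      rw [← hab, Ideal.Quotient.eq_zero_iff_mem.mpr h, map_zero, zero_div]
    have hab' : g = Cyc.specMap (f x) η hys a / Cyc.specMap (f x) η hys b := hab.symm
    have key := ordFrac_flat_sum_quot (A' := Y.presheaf.stalk (f x)) (B' := X.presheaf.stalk x)
      (K := Y.residueField η) (f.stalkMap x).hom hflat
      (RingHom.ker (Cyc.specMap (f x) η hys)) hB a b ha0 hb0
    rw [hab] at key
    refine Eq.trans key ?_
    symm
    -- reindex the sum
    have hP : ∀ q : {q : PrimeSpectrum (X.presheaf.stalk x ⧸ extIdeal f x η hys) //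
        q.asIdeal ∈ minimalPrimes (X.presheaf.stalk x ⧸ extIdeal f x η hys)},
        (∀ x' : X, x' ⤳ pt f x η hys q.1 → η ⤳ f x' → x' = pt f x η hys q.1) ∧
          f (pt f x η hys q.1) = η :=
      fun q => ⟨pt_max f x η hys q.1 q.2, pt_fib f x η hys q.1 q.2⟩
    rw [finsum_subtype_reindex x
      (fun ξ => (∀ x' : X, x' ⤳ ξ → η ⤳ f x' → x' = ξ) ∧ f ξ = η)
      (fun q : {q : PrimeSpectrum (X.presheaf.stalk x ⧸ extIdeal f x η hys) //
        q.asIdeal ∈ minimalPrimes (X.presheaf.stalk x ⧸ extIdeal f x η hys)} =>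
        pt f x η hys q.1)
      (fun q q' e => Subtype.ext (pt_injective f x η hys e)) hP
      (fun q => pt_specializes f x η hys q.1)
      (fun ξ hPξ hs => by
        obtain ⟨q, hq, hqξ⟩ := exists_min_pt_eq f x η hys hs hPξ.2 hPξ.1
        exact ⟨⟨q, hq⟩, hqξ⟩) _
      (fun ξ hs => by rw [divFun_apply_neg δX _ (fun h => hs h.1), mul_zero])]
    rw [← finsum_subtype_eq_finsum_cond
      (fun q : PrimeSpectrum (X.presheaf.stalk x ⧸ extIdeal f x η hys) =>
        q.asIdeal ∈ minimalPrimes (X.presheaf.stalk x ⧸ extIdeal f x η hys))]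
    refine finsum_congr fun q => ?_
    have hfξ : f (pt f x η hys q.1) = η := pt_fib f x η hys q.1 q.2
    have hd : δX x + 1 = δX (pt f x η hys q.1) := by
      rw [hδP _ (hP q).1 hfξ]
      omega
    rw [hab']
    exact term_main δX f x η hys q.1 hfξ hd a b
  · -- the degenerate cases
    have hL : (if δX x = δY (f x) + r then
        Cyc.divFun δY η g (f x) * mult f x else 0) = 0 := by
      by_cases c1 : δX x = δY (f x) + r
      · rw [if_pos c1]
        rw [divFun_apply_neg δY g (fun h => hA ⟨c1, h.1, h.2⟩), zero_mul]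
      · rw [if_neg c1]
    rw [hL]
    symm
    refine finsum_eq_zero_of_forall_eq_zero fun ξ => ?_
    by_cases c3 : ξ.1 ⤳ x ∧ δX x + 1 = δX ξ.1
    · have hδξ := hδP ξ.1 ξ.2.1 ξ.2.2
      have h3 := c3.2
      have hys : η ⤳ f x := by
        have := c3.1.map f.continuous
        rw [ξ.2.2] at this
        exact this
      have hYx := hYle (f x) hys
      have hfx : f x = η := by
        by_contra e
        have := hYlt (f x) hys e
        have h1x := H1 x
        exact hA ⟨by omega, hys, by omega⟩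
      obtain ⟨a, ha, hag⟩ := exists_unit_specMap_eq (f x) η hys hfx g hg
      rw [divFun_apply_pos δX _ c3.1 c3.2, ← hag,
        residueFieldMap_congr_specMap f c3.1 η ξ.2.2 hys a,
        ordAt_specMap_unit c3.1 (ha.map (f.stalkMap x).hom), mul_zero]
    · rw [divFun_apply_neg δX _ c3, mul_zero]

end Groth.Agent.H60.CycDivPtCore
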