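import Mathlib
import Groth.Agent.H60.CycDivPt
import Groth.Agent.H60.CycMapComp

/-!
# S1856: flat pullback preserves rational equivalence
-/

set_option autoImplicit false
set_option linter.style.haveILetI false
universe u

open AlgebraicGeometry CategoryTheory CategoryTheory.Limits TopologicalSpace

namespace Groth.Agent.H60.CycPullRat

open Groth.Agent.H60.CycPullSq Groth.Agent.H60.CycPullComp Groth.Agent.H60.OrdFlat
  Groth.Agent.H60.CycPullDiv Groth.Agent.H71.DimFun Groth.Agent.H60.CycDivSch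
  Groth.Agent.H60.CycDivQSch Groth.Agent.H60.CycDivPt Groth.Agent.H60.CycMapComp

/-- Near a point `x` of a locally Noetherian scheme, the maximal points of a closed subset all
specialize to `x`. -/
theorem exists_open_max_specializes (X : Scheme.{u}) [IsLocallyNoetherian X] (Z : Set X)
    (hZ : IsClosed Z) (x : X) :
    ∃ U : Set X, IsOpen U ∧ x ∈ U ∧
      ∀ ξ ∈ Z, ξ ∈ U → (∀ ξ' ∈ Z, ξ' ⤳ ξ → ξ' = ξ) → ξ ⤳ x := by
  by_cases hx : x ∈ Z
  · obtain ⟨V, hV, hxV, -⟩ :=
      exists_isAffineOpen_mem_and_subset (X := X) (x := x) (U := ⊤) trivial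
    haveI : IsNoetherianRing Γ(X, V) := IsLocallyNoetherian.component_noetherian ⟨V, hV⟩
    haveI : NoetherianSpace (↥(V : Set X)) := noetherianSpace_of_isAffineOpen V hV
    haveI : QuasiSober Z := hZ.isClosedEmbedding_subtypeVal.quasiSober
    let W : TopologicalSpace.Opens Z :=
      ⟨Subtype.val ⁻¹' (V : Set X), V.2.preimage continuous_subtype_val⟩
    haveI : NoetherianSpace W := by
      let i : W → ↥(V : Set X) := fun w => ⟨w.1.1, w.2⟩
      have hi : Topology.IsInducing i := by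
        have h1 : Topology.IsInducing ((Subtype.val : ↥(V : Set X) → X) ∘ i) := by
          have : (Subtype.val : ↥(V : Set X) → X) ∘ i =
              (Subtype.val : Z → X) ∘ (Subtype.val : W → Z) := rfl
          rw [this]
          exact Topology.IsInducing.subtypeVal.comp Topology.IsInducing.subtypeVal
        exact Topology.IsInducing.of_comp
          (Continuous.subtype_mk (continuous_subtype_val.comp continuous_subtype_val) _)
          continuous_subtype_val h1
      exact hi.noetherianSpace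
    obtain ⟨U, hxU, hU⟩ :=
      Groth.Agent.S6461.exists_open_generic_specializes W (⟨x, hx⟩ : Z) hxV
    obtain ⟨U', hU'open, hU'eq⟩ := isOpen_induced_iff.mp U.2
    refine ⟨U', hU'open, ?_, ?_⟩
    · have : (⟨x, hx⟩ : Z) ∈ Subtype.val ⁻¹' U' := by rw [hU'eq]; exact hxU
      exact this
    · intro ξ hξZ hξU hmax
      have h1 : (⟨ξ, hξZ⟩ : Z) ∈ U := by
        have : (⟨ξ, hξZ⟩ : Z) ∈ Subtype.val ⁻¹' U' := hξU
        rw [hU'eq] at this
        exact this
      have h2 := hU ⟨ξ, hξZ⟩ h1 (fun ξ' hξ' =>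
        Subtype.ext (hmax ξ'.1 ξ'.2 (hξ'.map continuous_subtype_val)))
      exact h2.map continuous_subtype_val
  · exact ⟨Zᶜ, hZ.isOpen_compl, hx, fun ξ hξZ hξU => absurd hξZ hξU⟩

/-- Summation over a sigma type, fibrewise. -/
theorem finsum_sigma_eq {ι : Type*} {T : ι → Type*} (F : (Σ i, T i) → ℤ)
    (hF : (Function.support F).Finite) : ∑ᶠ s, F s = ∑ᶠ i, ∑ᶠ t, F ⟨i, t⟩ := by
  have h := finsum_mem_fiberwise (Sigma.fst : (Σ i, T i) → ι) (fun _ => True) F (fun _ => 1)
    (hF.subset Set.inter_subset_right)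
  simp only [Set.ofPred_true, mul_one, finsum_mem_univ] at h
  rw [← h]
  refine finsum_congr fun i => ?_
  have : (Sigma.fst ⁻¹' {i} : Set (Σ i, T i)) = Set.range (Sigma.mk i) := by
    ext ⟨j, t⟩
    simp only [Set.mem_preimage, Set.mem_singleton_iff, Set.mem_range]
    constructor
    · rintro rfl
      exact ⟨t, rfl⟩
    · rintro ⟨t', ht'⟩
      exact (congrArg Sigma.fst ht').symm
  rw [this, finsum_mem_range sigma_mk_injective]

variable {X : Scheme.{u}}

theorem ordFrac_pow {R K : Type u} [CommRing R] [Field K] [Algebra R K] (g : K) (hg : g ≠ 0)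
    (m : ℕ) : CycAlg.ordFrac R K (g ^ m) = m * CycAlg.ordFrac R K g := by
  unfold CycAlg.ordFrac
  split_ifs with hc
  · haveI := hc.1; haveI := hc.2.1; haveI := hc.2.2.1; haveI := hc.2.2.2
    haveI : IsDomain R := (IsFractionRing.injective R K).isDomain
    have hne : Ring.ordFrac R g ≠ 0 := by
      rw [ne_eq, map_eq_zero]
      exact hg
    obtain ⟨z, hz⟩ := WithZero.ne_zero_iff_exists.mp hne
    rw [map_pow, ← hz, ← WithZero.coe_pow, WithZero.recZeroCoe_coe, WithZero.recZeroCoe_coe,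
      toAdd_pow, nsmul_eq_mul]
  · simp

theorem divFun_pow (δ : X → ℤ) {ξ : X} (g : X.residueField ξ) (hg : g ≠ 0) (m : ℕ) (x : X) :
    Cyc.divFun δ ξ (g ^ m) x = m * Cyc.divFun δ ξ g x := by
  unfold Cyc.divFun
  split_ifs with h
  · exact ordFrac_pow g hg m
  · simp

/-- The `δ`-dimension of a generic point of the fibre over `η`. -/
theorem delta_of_max {Y : Scheme.{u}} (δX : X → ℤ) (δY : Y → ℤ) (f : X ⟶ Y)
    [LocallyOfFiniteType f] (r : ℕ) (hr : Cyc.HasRelDim f r) (hδ : Cyc.DeltaCompat f δX δY)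
    (η : Y) (ξ : X) (hmax : ∀ x' : X, x' ⤳ ξ → η ⤳ f x' → x' = ξ) (hfξ : f ξ = η) :
    δX ξ = δY η + r := by
  obtain ⟨m, hm, hδm⟩ := hδ ξ
  have hmr := (fibre_max_iff_trdeg_eq f r hr ξ m hm).mp (fun w hw hws =>
    hmax w hws (by
      have : f w = η := hw.trans hfξ
      rw [this]))
  have hδm' : δX ξ = δY (f ξ) + m := hδm
  rw [hmr, hfξ] at hδm'
  exact hδm'

/-- Only finitely many generic points of the fibre over `η` specialize to a given point. -/
theorem finite_max_specializes {Y : Scheme.{u}} [IsLocallyNoetherian X] (f : X ⟶ Y) [Flat f]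
    (η : Y) (x : X) :
    {ξ : {ξ : X // (∀ x' : X, x' ⤳ ξ → η ⤳ f x' → x' = ξ) ∧ f ξ = η} | ξ.1 ⤳ x}.Finite := by
  by_cases hi : η ⤳ f x
  · have hS : {q : PrimeSpectrum (X.presheaf.stalk x ⧸ extIdeal f x η hi) |
        q.asIdeal ∈ minimalPrimes (X.presheaf.stalk x ⧸ extIdeal f x η hi)}.Finite :=
      (Ideal.finite_minimalPrimes_of_isNoetherianRing _ ⊥).preimage
        (fun p _ q _ h => PrimeSpectrum.ext h)
    haveI : Finite {q : PrimeSpectrum (X.presheaf.stalk x ⧸ extIdeal f x η hi) //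
        q.asIdeal ∈ minimalPrimes (X.presheaf.stalk x ⧸ extIdeal f x η hi)} := hS.to_subtype
    refine (Set.finite_range (fun q : {q : PrimeSpectrum (X.presheaf.stalk x ⧸ extIdeal f x η hi) //
        q.asIdeal ∈ minimalPrimes (X.presheaf.stalk x ⧸ extIdeal f x η hi)} =>
      (⟨pt f x η hi q.1, pt_max f x η hi q.1 q.2, pt_fib f x η hi q.1 q.2⟩ :
        {ξ : X // (∀ x' : X, x' ⤳ ξ → η ⤳ f x' → x' = ξ) ∧ f ξ = η}))).subset ?_
    intro ξ hξ
    obtain ⟨q, hq, hqξ⟩ := exists_min_pt_eq f x η hi hξ ξ.2.2 ξ.2.1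
    exact ⟨⟨q, hq⟩, Subtype.ext hqξ⟩
  · convert Set.finite_empty
    ext ξ
    simp only [Set.mem_ofPred_eq, Set.mem_empty_iff_false, iff_false]
    intro hξ
    apply hi
    have := hξ.map f.continuous
    rw [ξ.2.2] at this
    exact this

end Groth.Agent.H60.CycPullRat
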