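import Mathlib
import Groth.Agent.H60.CycPullRat

/-!
# S1856: flat pullback preserves rational equivalence (main theorem)
-/

set_option autoImplicit false
set_option linter.style.haveILetI false
universe u

open AlgebraicGeometry CategoryTheory CategoryTheory.Limits TopologicalSpace

namespace Groth.Agent.H60.CycPullRatMain

open Groth.Agent.H60.CycPullSq Groth.Agent.H60.CycPullComp Groth.Agent.H60.OrdFlat
  Groth.Agent.H60.CycPullDiv Groth.Agent.H71.DimFun Groth.Agent.H60.CycDivSch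
  Groth.Agent.H60.CycDivQSch Groth.Agent.H60.CycDivPt Groth.Agent.H60.CycMapComp
  Groth.Agent.H60.CycPullRat

set_option backward.isDefEq.respectTransparency false in
/-- **S1856**. -/
theorem main (X Y : Scheme.{u}) (δX : X → ℤ) (δY : Y → ℤ) (hX : Cyc.IsSetup X δX)
    (hY : Cyc.IsSetup Y δY) (f : X ⟶ Y) [Flat f] [LocallyOfFiniteType f] (r : ℕ)
    (hr : Cyc.HasRelDim f r) (hδ : Cyc.DeltaCompat f δX δY) (k : ℤ) (α β : AlgebraicCycle Y ℤ)
    (h : Cyc.RatEquiv δY k α β) (α' β' : AlgebraicCycle X ℤ)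
    (hα' : ⇑α' = Cyc.pullFun f δX δY r ⇑α) (hβ' : ⇑β' = Cyc.pullFun f δX δY r ⇑β) :
    Cyc.RatEquiv δX (k + r) α' β' := by
  classical
  haveI : IsLocallyNoetherian X := hX.1
  obtain ⟨ι, η, g, hηδ, hg, hlf, hsum⟩ := h
  -- the new family
  let T : ι → Type u := fun i =>
    {ξ : X // (∀ x' : X, x' ⤳ ξ → η i ⤳ f x' → x' = ξ) ∧ f ξ = η i}
  let mlt : (i : ι) → T i → ℕ := fun i ξ =>
    (Module.length (X.presheaf.stalk ξ.1) (X.presheaf.stalk ξ.1 ⧸
      Ideal.map (f.stalkMap ξ.1).hom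
        (IsLocalRing.maximalIdeal (Y.presheaf.stalk (f ξ.1))))).toNat
  let gξ : (i : ι) → (ξ : T i) → X.residueField ξ.1 := fun i ξ =>
    f.residueFieldMap ξ.1 ((Y.residueFieldCongr ξ.2.2.symm).hom (g i))
  have hgξ : ∀ (i : ι) (ξ : T i), gξ i ξ ≠ 0 := by
    intro i ξ
    have h1 : (Y.residueFieldCongr ξ.2.2.symm).hom (g i) ≠ 0 := by
      intro h0
      apply hg i
      have := congrArg (Y.residueFieldCongr ξ.2.2.symm).inv h0
      simpa using this
    exact (map_ne_zero (f.residueFieldMap ξ.1).hom).mpr h1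
  -- finiteness of the set of members through a point over finitely many indices
  have hfinI : ∀ (I : Set ι), I.Finite → ∀ x : X,
      {s : Σ i, T i | s.1 ∈ I ∧ s.2.1 ⤳ x}.Finite := by
    intro I hI x
    refine (hI.biUnion (fun i _ => (finite_max_specializes f (η i) x).image
      (Sigma.mk i))).subset ?_
    rintro ⟨i, ξ⟩ ⟨hi, hξ⟩
    exact Set.mem_biUnion hi ⟨ξ, hξ, rfl⟩
  refine ⟨Σ i, T i, fun s => s.2.1, fun s => gξ s.1 s.2 ^ mlt s.1 s.2, ?_, ?_, ?_, ?_⟩
  · rintro ⟨i, ξ⟩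
    have := delta_of_max δX δY f r hr hδ (η i) ξ.1 ξ.2.1 ξ.2.2
    rw [hηδ i] at this
    show δX ξ.1 = k + r + 1
    omega
  · rintro ⟨i, ξ⟩
    exact pow_ne_zero _ (hgξ i ξ)
  · -- local finiteness
    intro x
    obtain ⟨U, hUo, hfxU, hUfin⟩ := hlf (f x)
    have hcl : ∀ i, IsClosed {z : X | η i ⤳ f z} := by
      intro i
      have : {z : X | η i ⤳ f z} = f ⁻¹' (closure {η i}) := by
        ext z
        simp only [Set.mem_ofPred_eq, Set.mem_preimage, specializes_iff_mem_closure]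
      rw [this]
      exact isClosed_closure.preimage f.continuous
    choose U' hU'o hxU' hU' using fun i =>
      exists_open_max_specializes X {z : X | η i ⤳ f z} (hcl i) x
    have hVo : IsOpen (f ⁻¹' U ∩ ⋂ i ∈ {i | (closure {η i} ∩ U).Nonempty}, U' i) :=
      (hUo.preimage f.continuous).inter (hUfin.isOpen_biInter (fun i _ => hU'o i))
    refine ⟨_, hVo, ⟨hfxU, Set.mem_iInter₂.mpr (fun i _ => hxU' i)⟩, ?_⟩
    refine (hfinI _ hUfin x).subset ?_
    rintro ⟨i, ξ⟩ ⟨z, hzcl, hzV⟩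
    have hξz : ξ.1 ⤳ z := specializes_iff_mem_closure.mpr hzcl
    have hξV := hξz.mem_open hVo hzV
    have hi : i ∈ {i | (closure {η i} ∩ U).Nonempty} := by
      refine ⟨η i, subset_closure rfl, ?_⟩
      have := hξV.1
      rw [Set.mem_preimage, ξ.2.2] at this
      exact this
    refine ⟨hi, ?_⟩
    have hξU' : ξ.1 ∈ U' i := Set.mem_iInter₂.mp hξV.2 i hi
    refine hU' i ξ.1 ?_ hξU' (fun ξ' hξ' hs => ξ.2.1 ξ' hs hξ')
    show η i ⤳ f ξ.1
    rw [ξ.2.2]
  · -- the sum
    intro x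
    obtain ⟨U, hUo, hfxU, hUfin⟩ := hlf (f x)
    have hsupp : (Function.support fun s : Σ i, T i =>
        Cyc.divFun δX s.2.1 (gξ s.1 s.2 ^ mlt s.1 s.2) x).Finite := by
      refine (hfinI _ hUfin x).subset ?_
      rintro ⟨i, ξ⟩ hs
      have hξx : ξ.1 ⤳ x := by
        by_contra hne
        exact hs (divFun_apply_neg δX _ (fun h => hne h.1))
      refine ⟨⟨f x, ?_, hfxU⟩, hξx⟩
      rw [← specializes_iff_mem_closure, ← ξ.2.2]
      exact hξx.map f.continuous
    rw [finsum_sigma_eq _ hsupp]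
    have hterm : ∀ i, ∑ᶠ ξ : T i, Cyc.divFun δX ξ.1 (gξ i ξ ^ mlt i ξ) x =
        Cyc.pullFun f δX δY r (Cyc.divFun δY (η i) (g i)) x := by
      intro i
      rw [main_pt X Y δX δY hX hY f r hr hδ (η i) (g i) (hg i) x]
      refine finsum_congr fun ξ => ?_
      rw [divFun_pow δX (gξ i ξ) (hgξ i ξ) (mlt i ξ) x]
      rfl
    rw [finsum_congr hterm]
    have hsub : (α' - β') x = α' x - β' x := by
      rw [Function.locallyFinsuppWithin.coe_sub]
      rfl
    rw [hsub, hα', hβ']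
    simp only [pullFun_apply]
    have hs := hsum (f x)
    have hsub' : (α - β) (f x) = α (f x) - β (f x) := by
      rw [Function.locallyFinsuppWithin.coe_sub]
      rfl
    rw [hsub'] at hs
    by_cases c : δX x = δY (f x) + r
    · simp only [if_pos c]
      rw [← finsum_mul, ← hs]
      ring
    · simp only [if_neg c]
      rw [finsum_zero]
      ring

end Groth.Agent.H60.CycPullRatMain
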