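import Mathlib
import Groth.Agent.H60.FinFlatDegFib
import Groth.Agent.H60.CycPullComp

/-!
# Core local identity for push–pull base change of cycles

For a cartesian square `X' = X ×_Y Y'` with `g : Y' ⟶ Y` flat, a point `x` of `X` with finite
residue field extension over `y = f x` and a point `y'` of `Y'` over `y`:
`Σ_{x' ↦ (x, y')} e(x'/x) · [κ(x') : κ(y')] = [κ(x) : κ(y)] · e(y'/y)`.
-/

set_option autoImplicit false
set_option linter.style.haveILetI false
universe u

open AlgebraicGeometry CategoryTheory CategoryTheory.Limits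

namespace Groth.Agent.H60.CycPushPullCore

open Groth.Agent.H60.CycPullSq Groth.Agent.H60.CycPullComp Groth.Agent.H60.FinFlatDegFib
  Groth.Agent.H60.CycMapComp Groth.Agent.H25.LenBC

/-- Multiplicativity of the length of a local ring along a flat local homomorphism. -/
theorem length_self_of_flat {A B : Type u} [CommRing A] [CommRing B] [IsLocalRing A]
    [IsLocalRing B] (φ : A →+* B) [hloc : IsLocalHom φ] (hφ : φ.Flat) :
    Module.length B B =
      Module.length A A * Module.length B (B ⧸ (IsLocalRing.maximalIdeal A).map φ) := by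
  have h := length_quot_map φ hφ ⊥
  have e1 : Module.length A (A ⧸ (⊥ : Ideal A)) = Module.length A A :=
    (Submodule.quotEquivOfEqBot (⊥ : Ideal A) rfl).length_eq
  have e2 : Module.length B (B ⧸ (⊥ : Ideal A).map φ) = Module.length B B :=
    (Submodule.quotEquivOfEqBot ((⊥ : Ideal A).map φ) Ideal.map_bot).length_eq
  rw [e1, e2] at h
  exact h

/-- The fibre of `X ×_Y Y' ⟶ X` over `x` is the base change of the fibre of `Y' ⟶ Y` over `f x`
to `κ(x)`. -/
theorem exists_iso_fibre {X Y Y' : Scheme.{u}} (f : X ⟶ Y) (g : Y' ⟶ Y) (x : X) :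
    ∃ φ : (pullback.fst f g).fiber x ≅
        pullback (g.fiberToSpecResidueField (f x)) (Spec.map (f.residueFieldMap x)),
      φ.hom ≫ pullback.fst _ _ ≫ g.fiberι (f x) =
        (pullback.fst f g).fiberι x ≫ pullback.snd f g := by
  have sq1 : IsPullback ((pullback.fst f g).fiberι x)
      ((pullback.fst f g).fiberToSpecResidueField x) (pullback.fst f g)
      (X.fromSpecResidueField x) := IsPullback.of_hasPullback _ _
  have sq2 : IsPullback (pullback.snd f g) (pullback.fst f g) g f :=
    (IsPullback.of_hasPullback f g).flip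
  have P1 := sq1.paste_horiz sq2
  have sq3 : IsPullback (pullback.fst (g.fiberToSpecResidueField (f x))
      (Spec.map (f.residueFieldMap x))) (pullback.snd _ _) (g.fiberToSpecResidueField (f x))
      (Spec.map (f.residueFieldMap x)) := IsPullback.of_hasPullback _ _
  have sq4 : IsPullback (g.fiberι (f x)) (g.fiberToSpecResidueField (f x)) g
      (Y.fromSpecResidueField (f x)) := IsPullback.of_hasPullback _ _
  have P2 := sq3.paste_horiz sq4
  rw [Scheme.Hom.SpecMap_residueFieldMap_fromSpecResidueField] at P2
  refine ⟨P1.isoIsPullback _ _ P2, ?_⟩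
  exact IsPullback.isoIsPullback_hom_fst _ _ P1 P2


set_option backward.isDefEq.respectTransparency false in
/-- **Core identity** for push–pull of cycles in a cartesian square with `g` flat. -/
theorem core {X Y Y' : Scheme.{u}} (f : X ⟶ Y) (g : Y' ⟶ Y) [Flat g] (x : X) (y' : Y')
    (hxy : g y' = f x)
    (hfin : letI := (f.residueFieldMap x).hom.toAlgebra
      Module.Finite (Y.residueField (f x)) (X.residueField x)) :
    ({x' | pullback.fst f g x' = x ∧ pullback.snd f g x' = y'} : Set ↥(pullback f g)).Finite ∧
    ∑ᶠ x' ∈ ({x' | pullback.fst f g x' = x ∧ pullback.snd f g x' = y'} : Set ↥(pullback f g)),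
      mult (pullback.fst f g) x' * ((pullback.snd f g).residueDegree x' : ℤ) =
        (f.residueDegree x : ℤ) * mult g y' := by
  obtain ⟨y'', rfl⟩ : y' ∈ Set.range (g.fiberι (f x)) := by rw [g.range_fiberι]; exact hxy
  letI algK : Algebra (Y.residueField (f x)) (X.residueField x) :=
    (f.residueFieldMap x).hom.toAlgebra
  haveI : Module.Finite (Y.residueField (f x)) (X.residueField x) := hfin
  have hfinK : (f.residueFieldMap x).hom.Finite := hfin
  have hflatK : (f.residueFieldMap x).hom.Flat :=
    (inferInstance : Module.Flat (Y.residueField (f x)) (X.residueField x))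
  haveI : IsFinite (Spec.map (f.residueFieldMap x)) := (IsFinite.SpecMap_iff _).2 hfinK
  haveI : Flat (Spec.map (f.residueFieldMap x)) := Flat.SpecMap_iff.2 hflatK
  set π := pullback.fst (g.fiberToSpecResidueField (f x)) (Spec.map (f.residueFieldMap x)) with hπ
  haveI : IsFinite π := MorphismProperty.pullback_fst _ _ inferInstance
  haveI : Flat π := MorphismProperty.pullback_fst _ _ inferInstance
  obtain ⟨hfinπ, hsumπ⟩ := finrank_eq_finsum_fibre π y''
  have hrank : π.finrank y'' = f.residueDegree x := by
    rw [hπ, Scheme.Hom.finrank_pullback_fst (Spec.map (f.residueFieldMap x))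
      (g.fiberToSpecResidueField (f x)) y'',
      Scheme.Hom.finrank_SpecMap_eq_finrank hfinK hflatK]
    exact congrFun (Module.rankAtStalk_eq_finrank_of_free (R := Y.residueField (f x))
      (M := X.residueField x)) _
  obtain ⟨φ, hφ⟩ := exists_iso_fibre f g x
  set ιF := (pullback.fst f g).fiberι x with hιF
  set ιT := g.fiberι (f x) with hιT
  set ψ : pullback (g.fiberToSpecResidueField (f x)) (Spec.map (f.residueFieldMap x)) ⟶
      pullback f g := φ.inv ≫ ιF with hψdef
  have hψ : ψ ≫ pullback.snd f g = π ≫ ιT := by
    rw [hψdef, Category.assoc, ← hφ, Iso.inv_hom_id_assoc]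
  have hψpt : ∀ w, pullback.snd f g (ψ w) = ιT (π w) := fun w =>
    congrArg (fun χ : pullback (g.fiberToSpecResidueField (f x))
      (Spec.map (f.residueFieldMap x)) ⟶ Y' => χ.base w) hψ
  have hψinj : Function.Injective ψ := ψ.isEmbedding.injective
  have hS : ({x' | pullback.fst f g x' = x ∧ pullback.snd f g x' = ιT y''} :
      Set ↥(pullback f g)) = ψ '' (π ⁻¹' {y''}) := by
    ext x'
    constructor
    · rintro ⟨h1, h2⟩
      obtain ⟨z, rfl⟩ : x' ∈ Set.range ιF := by
        rw [hιF, (pullback.fst f g).range_fiberι x]; exact h1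
      have hz : ψ (φ.hom z) = ιF z := by
        have : (φ.hom ≫ ψ) z = ιF z := by rw [hψdef, Iso.hom_inv_id_assoc]
        exact this
      refine ⟨φ.hom z, ?_, hz⟩
      have h3 := hψpt (φ.hom z)
      rw [hz, h2] at h3
      exact (ιT.isEmbedding.injective h3).symm
    · rintro ⟨w, hw, rfl⟩
      have hw' : π w = y'' := hw
      refine ⟨?_, ?_⟩
      · have hmem : ψ w ∈ Set.range ιF := ⟨φ.inv w, rfl⟩
        rw [hιF, (pullback.fst f g).range_fiberι x] at hmem
        exact hmem
      · rw [hψpt w, hw']
  constructor
  · rw [hS]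
    exact hfinπ.image _
  rw [hS, finsum_mem_image hψinj.injOn]
  -- pointwise identities
  have hpt : ∀ w ∈ (π ⁻¹' {y''} : Set _),
      mult (pullback.fst f g) (ψ w) * ((pullback.snd f g).residueDegree (ψ w) : ℤ) =
        mult g (ιT y'') * (mult π w * (π.residueDegree w : ℤ)) := by
    intro w hw
    have hw' : π w = y'' := hw
    -- residue degrees
    have hdeg : (pullback.snd f g).residueDegree (ψ w) = π.residueDegree w := by
      have h1 := residueDegree_comp ψ (pullback.snd f g) w
      have h2 := residueDegree_comp π ιT w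
      rw [hψ] at h1
      rw [residueDegree_eq_one_of_surjective ψ w (ψ.stalkMap_surjective w), mul_one] at h1
      rw [residueDegree_eq_one_of_surjective ιT _ (ιT.stalkMap_surjective _), one_mul] at h2
      rw [← h1, h2]
    -- multiplicities
    have hm1 : mult (pullback.fst f g) (ψ w) =
        ((Module.length ((pullback (g.fiberToSpecResidueField (f x))
          (Spec.map (f.residueFieldMap x))).presheaf.stalk w)
          ((pullback (g.fiberToSpecResidueField (f x))
          (Spec.map (f.residueFieldMap x))).presheaf.stalk w)).toNat : ℤ) := by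
      have h1 := mult_eq_length_fiber (pullback.fst f g) x (φ.inv w)
      have h2 : ψ w = ιF (φ.inv w) := rfl
      rw [h2, h1]
      congr 2
      exact length_self_ringEquiv (asIso (φ.inv.stalkMap w)).commRingCatIsoToRingEquiv
    have hm2 := length_self_of_flat (π.stalkMap w).hom (AlgebraicGeometry.Flat.stalkMap π w)
    have hm3 : mult g (ιT (π w)) = _ := mult_eq_length_fiber g (f x) (π w)
    rw [hm1, hm2, ENat.toNat_mul, hdeg, ← hw', hm3]
    unfold mult
    push_cast
    ring
  rw [finsum_mem_congr rfl hpt, ← mul_finsum_mem, ← hsumπ, hrank]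
  ring

end Groth.Agent.H60.CycPushPullCore
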