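import Mathlib
import Groth.Agent.H60.CycPushPullCore
import Groth.Agent.S9358

/-!
# S1858: flat pullback commutes with proper pushforward of cycles
-/

set_option autoImplicit false
set_option linter.style.haveILetI false
universe u

open AlgebraicGeometry CategoryTheory CategoryTheory.Limits

namespace Groth.Agent.H60.CycPushPull

open Groth.Agent.H60.CycPullSq Groth.Agent.H60.CycPullComp Groth.Agent.H60.FinFlatDegFib
  Groth.Agent.H60.CycMapComp Groth.Agent.H60.CycPushPullCore

/-- Residue field extensions of a morphism locally of finite type are finite as soon as they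
are algebraic. -/
theorem finite_residueField_of_isAlgebraic {X Y : Scheme.{u}} (f : X ⟶ Y) [LocallyOfFiniteType f]
    (x : X)
    (halg : letI := (f.residueFieldMap x).hom.toAlgebra
      Algebra.IsAlgebraic (Y.residueField (f x)) (X.residueField x)) :
    letI := (f.residueFieldMap x).hom.toAlgebra
    Module.Finite (Y.residueField (f x)) (X.residueField x) := by
  letI algK : Algebra (Y.residueField (f x)) (X.residueField x) :=
    (f.residueFieldMap x).hom.toAlgebra
  haveI : Algebra.IsAlgebraic (Y.residueField (f x)) (X.residueField x) := halg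
  letI a0 : Algebra (Y.presheaf.stalk (f x)) (X.presheaf.stalk x) := (f.stalkMap x).hom.toAlgebra
  letI a1 : Algebra (Y.presheaf.stalk (f x)) (Y.residueField (f x)) :=
    (Y.residue (f x)).hom.toAlgebra
  letI a2 : Algebra (X.presheaf.stalk x) (X.residueField x) := (X.residue x).hom.toAlgebra
  letI a3 : Algebra (Y.presheaf.stalk (f x)) (X.residueField x) :=
    ((X.residue x).hom.comp (f.stalkMap x).hom).toAlgebra
  haveI t1 : IsScalarTower (Y.presheaf.stalk (f x)) (X.presheaf.stalk x) (X.residueField x) :=
    IsScalarTower.of_algebraMap_eq' rfl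
  haveI t2 : IsScalarTower (Y.presheaf.stalk (f x)) (Y.residueField (f x)) (X.residueField x) :=
    IsScalarTower.of_algebraMap_eq' (by
      change (X.residue x).hom.comp (f.stalkMap x).hom =
        (f.residueFieldMap x).hom.comp (Y.residue (f x)).hom
      rw [← CommRingCat.hom_comp, ← CommRingCat.hom_comp, Scheme.residue_residueFieldMap])
  haveI hE : Algebra.EssFiniteType (Y.presheaf.stalk (f x)) (X.presheaf.stalk x) := by
    rw [← RingHom.essFiniteType_algebraMap, RingHom.algebraMap_toAlgebra]
    exact LocallyOfFiniteType.stalkMap f x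
  haveI hE2 : Algebra.EssFiniteType (X.presheaf.stalk x) (X.residueField x) :=
    Algebra.EssFiniteType.of_surjective (Algebra.ofId (X.presheaf.stalk x) (X.residueField x))
      (X.residue_surjective x)
  haveI hE3 : Algebra.EssFiniteType (Y.presheaf.stalk (f x)) (X.residueField x) :=
    Algebra.EssFiniteType.comp (Y.presheaf.stalk (f x)) (X.presheaf.stalk x) (X.residueField x)
  haveI hE4 : Algebra.EssFiniteType (Y.residueField (f x)) (X.residueField x) :=
    Algebra.EssFiniteType.of_comp (Y.presheaf.stalk (f x)) (Y.residueField (f x))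
      (X.residueField x)
  exact Algebra.finite_of_essFiniteType_of_isAlgebraic

/-- Cancellation for induced dimension functions. -/
theorem deltaCompat_of_comp {X Y Z : Scheme.{u}} (f : X ⟶ Y) (g : Y ⟶ Z) (δX : X → ℤ)
    (δY : Y → ℤ) (δZ : Z → ℤ) (hg : Cyc.DeltaCompat g δY δZ)
    (hfg : Cyc.DeltaCompat (f ≫ g) δX δZ) : Cyc.DeltaCompat f δX δY := by
  intro x
  obtain ⟨N, hN, hδN⟩ := hfg x
  obtain ⟨m, hm, hδm⟩ := hg (f x)
  let algYX : Algebra (Y.residueField (f x)) (X.residueField x) :=
    (f.residueFieldMap x).hom.toAlgebra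
  let algZY : Algebra (Z.residueField (g (f x))) (Y.residueField (f x)) :=
    (g.residueFieldMap (f x)).hom.toAlgebra
  let algZX : Algebra (Z.residueField (g (f x))) (X.residueField x) :=
    ((f ≫ g).residueFieldMap x).hom.toAlgebra
  have hST : IsScalarTower (Z.residueField (g (f x))) (Y.residueField (f x)) (X.residueField x) :=
    IsScalarTower.of_algebraMap_eq' (by
      change ((f ≫ g).residueFieldMap x).hom =
        (f.residueFieldMap x).hom.comp (g.residueFieldMap (f x)).hom
      rw [Scheme.residueFieldMap_comp]; rfl)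
  have h1 : FaithfulSMul (Z.residueField (g (f x))) (Y.residueField (f x)) :=
    (faithfulSMul_iff_algebraMap_injective _ _).mpr (RingHom.injective _)
  have h2 : FaithfulSMul (Y.residueField (f x)) (X.residueField x) :=
    (faithfulSMul_iff_algebraMap_injective _ _).mpr (RingHom.injective _)
  have key := trdeg_add_eq (Z.residueField (g (f x))) (Y.residueField (f x))
    (A := X.residueField x)
  have hN' : Algebra.trdeg (Z.residueField (g (f x))) (X.residueField x) = (N : Cardinal.{u}) := hN
  rw [hm, hN'] at key
  have hlt : Algebra.trdeg (Y.residueField (f x)) (X.residueField x) < Cardinal.aleph0 := by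
    refine lt_of_le_of_lt ?_ (Cardinal.natCast_lt_aleph0 (n := N))
    rw [← key]
    exact le_add_self
  obtain ⟨n, hn⟩ := Cardinal.lt_aleph0.mp hlt
  refine ⟨n, hn, ?_⟩
  rw [hn] at key
  have hmn : m + n = N := by exact_mod_cast key
  have h3 : (f ≫ g) x = g (f x) := rfl
  rw [h3] at hδN
  rw [hδN, hδm, ← hmn]
  push_cast
  ring


/-- Finite residue field extension from transcendence degree zero. -/
theorem finite_residueField_of_trdeg {X Y : Scheme.{u}} (f : X ⟶ Y) [LocallyOfFiniteType f]
    (x : X)
    (h : (letI := (f.residueFieldMap x).hom.toAlgebra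
      Algebra.trdeg (Y.residueField (f x)) (X.residueField x)) = ((0 : ℕ) : Cardinal.{u})) :
    letI := (f.residueFieldMap x).hom.toAlgebra
    Module.Finite (Y.residueField (f x)) (X.residueField x) := by
  apply finite_residueField_of_isAlgebraic
  letI := (f.residueFieldMap x).hom.toAlgebra
  rw [Nat.cast_zero] at h
  exact trdeg_eq_zero_iff.mp h

set_option backward.isDefEq.respectTransparency false in
/-- **S1858**: `g^* f_* α = f'_* g'^* α` in a cartesian square with `f` proper, `g` flat of relative
dimension `r`. -/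
theorem main_S1858 {X Y Y' : Scheme.{u}} (f : X ⟶ Y) (g : Y' ⟶ Y) [IsProper f] [Flat g]
    [LocallyOfFiniteType g] (δX : X → ℤ) (δY : Y → ℤ) (δY' : Y' → ℤ)
    (δX' : ↥(pullback f g) → ℤ) (r : ℕ) (hr : Cyc.HasRelDim g r)
    (hf : Cyc.DeltaCompat f δX δY) (hg : Cyc.DeltaCompat g δY' δY)
    (hX' : Cyc.DeltaCompat (pullback.snd f g) δX' δY')
    (α : AlgebraicCycle X ℤ) (α' : AlgebraicCycle (pullback f g) ℤ)
    (hα' : ⇑α' = Cyc.pullFun (pullback.fst f g) δX' δX r ⇑α) :
    ⇑(AlgebraicCycle.map (pullback.snd f g) δX' δY' α') =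
      Cyc.pullFun g δY' δY r ⇑(AlgebraicCycle.map f δX δY α) := by
  classical
  set g' := pullback.fst f g with hg'def
  set f' := pullback.snd f g with hf'def
  have hcond : g' ≫ f = f' ≫ g := pullback.condition
  have hsq : ∀ x' : ↥(pullback f g), f.base (g'.base x') = g.base (f'.base x') := fun x' =>
    congrArg (fun χ : pullback f g ⟶ Y => χ.base x') hcond
  have hg' : Cyc.DeltaCompat g' δX' δX := by
    refine deltaCompat_of_comp g' f δX' δX δY hf ?_
    rw [hcond]
    exact Bivar.deltaCompat_comp f' g δX' δY' δY hX' hg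
  have hr' : Cyc.HasRelDim g' r :=
    (Groth.Agent.S9358.result g f f' g' (IsPullback.of_hasPullback f g).flip r).2.2 hr
  haveI : LocallyOfFiniteType g' := MorphismProperty.pullback_fst _ _ inferInstance
  funext y'
  rw [pullFun_apply]
  simp only [AlgebraicCycle.map, Function.locallyFinsupp.map_apply]
  obtain ⟨s, hs, hδs⟩ := hg y'
  have hsr : s ≤ r := trdeg_le_of_hasRelDim g r hr y' s hs
  -- the condition on points of the fibre of f
  let B : X → Prop := fun x => δY' y' = δY (g.base y') + r ∧ δX x = δY (f.base x)
  -- pointwise description of the terms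
  have hterm : ∀ x' : ↥(pullback f g), f'.base x' = y' →
      α' x' * (AlgebraicCycle.mapCoeff f' δX' δY' x' : ℤ) =
        (if B (g'.base x') then mult g' x' * (f'.residueDegree x' : ℤ) else 0) *
          α (g'.base x') := by
    intro x' hx'
    obtain ⟨t, ht, hδt⟩ := hf (g'.base x')
    obtain ⟨t', ht', hδt'⟩ := hX' x'
    obtain ⟨s', hs', hδs'⟩ := hg' x'
    have hs'r : s' ≤ r := trdeg_le_of_hasRelDim g' r hr' x' s' hs'
    have h1 : δX (g'.base x') = δY (f.base (g'.base x')) + t := hδt
    have h2 : δX' x' = δY' (f'.base x') + t' := hδt'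
    have h3 : δX' x' = δX (g'.base x') + s' := hδs'
    have h4 : δY' y' = δY (g.base y') + s := hδs
    have h5 := hsq x'
    rw [hx'] at h5 h2
    rw [hα', pullFun_apply]
    unfold AlgebraicCycle.mapCoeff
    rw [hx']
    by_cases hB : B (g'.base x')
    · rw [if_pos hB]
      obtain ⟨hB1, hB2⟩ := hB
      rw [h5] at h1 hB2
      have e1 : δX' x' = δX (g' x') + r := by
        show δX' x' = δX (g'.base x') + (r : ℤ)
        omega
      have e2 : δX' x' = δY' y' := by omega
      rw [if_pos e1, if_pos e2]
      show α (g'.base x') * mult g' x' * _ = _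
      ring
    · rw [if_neg hB, zero_mul]
      by_cases e1 : δX' x' = δX (g' x') + r
      · by_cases e2 : δX' x' = δY' y'
        · exfalso
          apply hB
          have e1' : δX' x' = δX (g'.base x') + (r : ℤ) := e1
          rw [h5] at h1
          refine ⟨by omega, ?_⟩
          rw [h5]; omega
        · rw [if_neg e2]; simp
      · rw [if_neg e1]; simp
  -- the auxiliary function on X'
  let a : ↥(pullback f g) → ℤ := fun x' =>
    if f'.base x' = y' then α' x' * (AlgebraicCycle.mapCoeff f' δX' δY' x' : ℤ) else 0
  have ha_supp : ∀ x', a x' ≠ 0 → f'.base x' = y' := by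
    intro x' hx'
    by_contra hne
    exact hx' (if_neg hne)
  have hfinα' := Bivar.finite_fiber_inter_support f' α' y'
  have hfin_a : ({x' : ↥(pullback f g) | f.base (g'.base x') = g.base y'} ∩
      Function.support a).Finite := by
    refine hfinα'.subset ?_
    rintro x' ⟨-, hx'⟩
    have h1 := ha_supp x' hx'
    refine ⟨h1, ?_⟩
    have h2 : a x' = α' x' * (AlgebraicCycle.mapCoeff f' δX' δY' x' : ℤ) := if_pos h1
    rw [Function.mem_support] at hx' ⊢
    rw [h2] at hx'
    exact left_ne_zero_of_mul hx'
  have key := finsum_mem_fiberwise (fun x' : ↥(pullback f g) => g'.base x')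
    (fun x : X => f.base x = g.base y') a (fun _ => (1 : ℤ)) hfin_a
  simp only [mul_one] at key
  -- step 1: the left hand side
  have hL : ∑ᶠ x' ∈ (f'.base ⁻¹' {y'} : Set ↥(pullback f g)),
      α' x' * (AlgebraicCycle.mapCoeff f' δX' δY' x' : ℤ) =
      ∑ᶠ x' ∈ {x' : ↥(pullback f g) | f.base (g'.base x') = g.base y'}, a x' := by
    rw [finsum_mem_inter_support_eq' a {x' : ↥(pullback f g) | f.base (g'.base x') = g.base y'}
      (f'.base ⁻¹' {y'}) (fun x' hx' => ?_)]
    · exact finsum_mem_congr rfl fun x' hx' => (if_pos hx').symm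
    · have h1 := ha_supp x' hx'
      constructor
      · intro _; exact h1
      · intro _
        show f.base (g'.base x') = g.base y'
        rw [hsq, h1]
  rw [hL, ← key]
  -- step 3: inner sums
  have hinner : ∀ x ∈ {x : X | f.base x = g.base y'},
      ∑ᶠ x' ∈ ((fun x' : ↥(pullback f g) => g'.base x') ⁻¹' {x}), a x' =
        (if B x then (f.residueDegree x : ℤ) * mult g y' else 0) * α x := by
    intro x hx
    have hx0 : f.base x = g.base y' := hx
    have h1 : ∑ᶠ x' ∈ ((fun x' : ↥(pullback f g) => g'.base x') ⁻¹' {x}), a x' =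
        ∑ᶠ x' ∈ ({x' | g' x' = x ∧ f' x' = y'} : Set ↥(pullback f g)),
          (if B x then mult g' x' * (f'.residueDegree x' : ℤ) else 0) * α x := by
      rw [finsum_mem_inter_support_eq' a
        ((fun x' : ↥(pullback f g) => g'.base x') ⁻¹' {x})
        ({x' | g' x' = x ∧ f' x' = y'} : Set ↥(pullback f g)) (fun x' hx' => ?_)]
      · apply finsum_mem_congr rfl
        rintro x' ⟨hx'1, hx'2⟩
        have hx'1' : g'.base x' = x := hx'1
        have hx'2' : f'.base x' = y' := hx'2
        have h2 : a x' = α' x' * (AlgebraicCycle.mapCoeff f' δX' δY' x' : ℤ) := if_pos hx'2'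
        rw [h2, hterm x' hx'2', hx'1']
      · have h1 := ha_supp x' hx'
        constructor
        · intro h2; exact ⟨h2, h1⟩
        · intro h2; exact h2.1
    rw [h1]
    by_cases hB : B x
    · simp only [if_pos hB]
      rw [← finsum_mem_mul]
      congr 1
      obtain ⟨t, ht, hδt⟩ := hf x
      have ht0 : t = 0 := by
        have h2 : δX x = δY (f.base x) + t := hδt
        have h3 := hB.2
        omega
      rw [ht0] at ht
      have hfinres := finite_residueField_of_trdeg f x ht
      exact (core f g x y' hx0.symm hfinres).2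
    · simp only [if_neg hB, zero_mul]
      exact finsum_mem_zero _
  rw [finsum_mem_congr rfl hinner]
  -- step 4: compare with the right hand side
  by_cases hc : δY' y' = δY (g y') + r
  · rw [if_pos hc, finsum_mem_mul]
    apply finsum_mem_congr rfl
    intro x hx
    unfold AlgebraicCycle.mapCoeff
    by_cases hx2 : δX x = δY (f.base x)
    · have hB : B x := ⟨hc, hx2⟩
      rw [if_pos hB, if_pos hx2]
      ring
    · have hB : ¬ B x := fun h => hx2 h.2
      rw [if_neg hB, if_neg hx2]
      simp
  · rw [if_neg hc]
    have : ∀ x ∈ {x : X | f.base x = g.base y'},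
        (if B x then (f.residueDegree x : ℤ) * mult g y' else 0) * α x = 0 := by
      intro x _
      have hB : ¬ B x := fun h => hc h.1
      rw [if_neg hB, zero_mul]
    rw [finsum_mem_congr rfl this]
    exact finsum_mem_zero _

end Groth.Agent.H60.CycPushPull
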