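import Mathlib
import Groth.Agent.H60.CycPushPull
import Groth.Agent.S9684

/-!
# S1941: flat base change commutes with proper pushforward of cycles (shift version)
-/

set_option autoImplicit false
set_option linter.style.haveILetI false
universe u

open AlgebraicGeometry CategoryTheory CategoryTheory.Limits BddFib

namespace Groth.Agent.H60.CycPushPull2

open Groth.Agent.H60.CycPullSq Groth.Agent.H60.CycPullComp Groth.Agent.H60.FinFlatDegFib
  Groth.Agent.H60.CycMapComp Groth.Agent.H60.CycPushPullCore Groth.Agent.H60.CycPushPull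
  Groth.Agent.H69.FibDegRes

set_option backward.isDefEq.respectTransparency false in
/-- Residue degrees of a finite scheme over a field are positive. -/
theorem residueDegree_pos_points {k : Type u} [Field k] {T : Scheme.{u}} [IsAffine T]
    (p : T ⟶ Spec (CommRingCat.of k))
    (hfin : letI := secAlgebra (CommRingCat.of k) p; Module.Finite k Γ(T, ⊤)) (x : T) :
    0 < p.residueDegree x := by
  letI aP : Algebra k Γ(T, ⊤) := secAlgebra (CommRingCat.of k) p
  haveI : Module.Finite k Γ(T, ⊤) := hfin
  have hsurj : Function.Surjective (T.Γevaluation x).hom := Γevaluation_surjective (k := k) x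
  have hdeg : Module.finrank k (Γ(T, ⊤) ⧸ RingHom.ker (T.Γevaluation x).hom) =
      p.residueDegree x := by
    letI := (p.residueFieldMap x).hom.toAlgebra
    change _ = Module.finrank ((Spec (CommRingCat.of k)).residueField (p x)) (T.residueField x)
    refine Algebra.finrank_eq_of_equiv_equiv
      (RingEquiv.ofBijective _ (bijective_toResidueField_Spec k (p x)))
      (RingHom.quotientKerEquivOfSurjective hsurj) ?_
    ext c
    exact (Scheme.Γevaluation_naturality_apply p x _)
  rw [← hdeg]
  haveI : (RingHom.ker (T.Γevaluation x).hom).IsPrime := RingHom.ker_isPrime _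
  haveI : Nontrivial (Γ(T, ⊤) ⧸ RingHom.ker (T.Γevaluation x).hom) :=
    Ideal.Quotient.nontrivial_iff.mpr (Ideal.IsPrime.ne_top inferInstance)
  exact Module.finrank_pos

set_option backward.isDefEq.respectTransparency false in
/-- Residue degrees of a finite flat morphism are positive. -/
theorem residueDegree_pos_of_finite_flat {X Y : Scheme.{u}} (f : X ⟶ Y) [IsFinite f] [Flat f]
    (x : X) : 0 < f.residueDegree x := by
  obtain ⟨hT, hfin, -⟩ := Groth.Agent.H37.BddFibLib.fibre_finrank_eq f (f x)
  haveI := hT
  have h := residueDegree_pos_points (k := Y.residueField (f x))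
    (f.fiberToSpecResidueField (f x)) hfin (f.asFiber x)
  rw [residueDegree_fiber, f.fiberι_asFiber] at h
  exact h

set_option backward.isDefEq.respectTransparency false in
/-- The geometric setup behind the core identity. -/
theorem exists_setup {X Y Y' : Scheme.{u}} (f : X ⟶ Y) (g : Y' ⟶ Y) (x : X) :
    ∃ (W : Scheme.{u}) (π : W ⟶ g.fiber (f x)) (ψ : W ⟶ pullback f g),
      Flat π ∧ IsPreimmersion ψ ∧ Set.range ψ = (pullback.fst f g) ⁻¹' {x} ∧
        ψ ≫ pullback.snd f g = π ≫ g.fiberι (f x) ∧
        ((letI := (f.residueFieldMap x).hom.toAlgebra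
          Module.Finite (Y.residueField (f x)) (X.residueField x)) → IsFinite π) := by
  letI algK : Algebra (Y.residueField (f x)) (X.residueField x) :=
    (f.residueFieldMap x).hom.toAlgebra
  have hflatK : (f.residueFieldMap x).hom.Flat :=
    (inferInstance : Module.Flat (Y.residueField (f x)) (X.residueField x))
  haveI : Flat (Spec.map (f.residueFieldMap x)) := Flat.SpecMap_iff.2 hflatK
  obtain ⟨φ, hφ⟩ := exists_iso_fibre f g x
  refine ⟨_, pullback.fst (g.fiberToSpecResidueField (f x)) (Spec.map (f.residueFieldMap x)),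
    φ.inv ≫ (pullback.fst f g).fiberι x,
    MorphismProperty.pullback_fst (P := @Flat) _ _ inferInstance,
    inferInstance, ?_, ?_, ?_⟩
  · rw [Scheme.Hom.comp_base, TopCat.coe_comp, Set.range_comp]
    have : Set.range φ.inv = Set.univ := φ.inv.homeomorph.surjective.range_eq
    rw [this, Set.image_univ, (pullback.fst f g).range_fiberι x]
  · rw [Category.assoc, ← hφ, Iso.inv_hom_id_assoc]
  · intro hfin
    have hfinK : (f.residueFieldMap x).hom.Finite := hfin
    haveI : IsFinite (Spec.map (f.residueFieldMap x)) := (IsFinite.SpecMap_iff _).2 hfinK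
    exact MorphismProperty.pullback_fst (P := @IsFinite) _ _ inferInstance


set_option backward.isDefEq.respectTransparency false in
/-- Residue degrees of the base change are positive over points with finite residue field
extension. -/
theorem residueDegree_pos_of_mem {X Y Y' : Scheme.{u}} (f : X ⟶ Y) (g : Y' ⟶ Y) (x : X)
    (hfin : letI := (f.residueFieldMap x).hom.toAlgebra
      Module.Finite (Y.residueField (f x)) (X.residueField x))
    (z : ↥(pullback f g)) (hz : pullback.fst f g z = x) :
    0 < (pullback.snd f g).residueDegree z := by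
  obtain ⟨W, π, ψ, hπflat, hψpre, hrange, hcomm, hfinπ⟩ := exists_setup f g x
  haveI := hπflat
  haveI := hψpre
  haveI := hfinπ hfin
  obtain ⟨w, rfl⟩ : z ∈ Set.range ψ := by rw [hrange]; exact hz
  have hdeg : (pullback.snd f g).residueDegree (ψ w) = π.residueDegree w := by
    have h1 := residueDegree_comp ψ (pullback.snd f g) w
    have h2 := residueDegree_comp π (g.fiberι (f x)) w
    rw [hcomm] at h1
    rw [residueDegree_eq_one_of_surjective ψ w (ψ.stalkMap_surjective w), mul_one] at h1
    rw [residueDegree_eq_one_of_surjective (g.fiberι (f x)) _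
      ((g.fiberι (f x)).stalkMap_surjective _), one_mul] at h2
    rw [← h1, h2]
  rw [hdeg]
  exact residueDegree_pos_of_finite_flat π w

set_option backward.isDefEq.respectTransparency false in
theorem fibre_max_snd_aux {X Y Y' : Scheme.{u}} (f : X ⟶ Y) (g : Y' ⟶ Y) (x : X)
    (z : ↥(pullback f g)) (hzx : pullback.fst f g z = x)
    (hz : ∀ w, pullback.fst f g w = x → w ⤳ z → w = z) :
    ∀ y'', g y'' = f x → y'' ⤳ pullback.snd f g z → y'' = pullback.snd f g z := by
  obtain ⟨W, π, ψ, hπflat, hψpre, hrange, hcomm, -⟩ := exists_setup f g x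
  haveI := hπflat
  haveI := hψpre
  obtain ⟨w, hw⟩ : z ∈ Set.range ψ := by rw [hrange]; exact hzx
  have hψpt : ∀ w, pullback.snd f g (ψ w) = g.fiberι (f x) (π w) := fun w =>
    congrArg (fun χ : W ⟶ Y' => χ.base w) hcomm
  intro y'' hy'' hspec
  obtain ⟨t'', rfl⟩ : y'' ∈ Set.range (g.fiberι (f x)) := by
    rw [g.range_fiberι]
    exact hy''
  rw [← hw, hψpt w] at hspec ⊢
  have hspec' : t'' ⤳ π w :=
    ((g.fiberι (f x)).isEmbedding.isInducing.specializes_iff).mp hspec
  obtain ⟨w'', hw''w, hw''⟩ := (Flat.generalizingMap π) hspec'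
  have h1 : ψ w'' ⤳ ψ w := hw''w.map ψ.continuous
  have h2 : ψ w'' = ψ w := by
    rw [hw] at h1 ⊢
    apply hz _ _ h1
    have hmem : ψ w'' ∈ Set.range ψ := ⟨w'', rfl⟩
    rw [hrange] at hmem
    exact hmem
  have h3 : w'' = w := ψ.isEmbedding.injective h2
  rw [← hw'', h3]

/-- A point of `X ×_Y Y'` maximal in its fibre over `X` maps to a point of `Y'` maximal in its
fibre over `Y`. -/
theorem fibre_max_snd {X Y Y' : Scheme.{u}} (f : X ⟶ Y) (g : Y' ⟶ Y) (z : ↥(pullback f g))
    (hz : ∀ w, pullback.fst f g w = pullback.fst f g z → w ⤳ z → w = z) :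
    ∀ y'', g y'' = g (pullback.snd f g z) → y'' ⤳ pullback.snd f g z →
      y'' = pullback.snd f g z := by
  have hsq : f (pullback.fst f g z) = g (pullback.snd f g z) :=
    congrArg (fun χ : pullback f g ⟶ Y => χ.base z) pullback.condition
  intro y'' hy'' hspec
  exact fibre_max_snd_aux f g (pullback.fst f g z) z rfl hz y'' (by rw [hy'', hsq]) hspec

set_option backward.isDefEq.respectTransparency false in
/-- **S1941**: flat base change (with shift `c`) commutes with proper pushforward of cycles. -/
theorem main_S1941 {X X' Y : Scheme.{u}} (f : Y ⟶ X) (p : X' ⟶ X) [IsProper f] [Flat p]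
    (δ : X → ℤ) (δ' : X' → ℤ) (δY : Y → ℤ) (δY' : ↥(pullback f p) → ℤ)
    (hX' : Cyc.IsSetup X' δ')
    (hf : Cyc.DeltaCompat f δY δ) (hf' : Cyc.DeltaCompat (pullback.snd f p) δY' δ') (c : ℤ)
    (hc : ∀ x' : X', (∀ y, p y = p x' → y ⤳ x' → y = x') → δ' x' = δ (p x') + c)
    (hcY : ∀ y' : ↥(pullback f p),
      (∀ y, pullback.fst f p y = pullback.fst f p y' → y ⤳ y' → y = y') →
        δY' y' = δY (pullback.fst f p y') + c)
    (α : AlgebraicCycle Y ℤ) (α' : AlgebraicCycle (pullback f p) ℤ)
    (hα' : ⇑α' = Cyc.pullFun (pullback.fst f p) δY' δY c ⇑α) :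
    Cyc.pullFun p δ' δ c ⇑(AlgebraicCycle.map f δY δ α) =
      ⇑(AlgebraicCycle.map (pullback.snd f p) δY' δ' α') := by
  classical
  set q := pullback.fst f p with hqdef
  set f' := pullback.snd f p with hf'def
  have hcond : q ≫ f = f' ≫ p := pullback.condition
  have hsq : ∀ z : ↥(pullback f p), f.base (q.base z) = p.base (f'.base z) := fun z =>
    congrArg (fun χ : pullback f p ⟶ X => χ.base z) hcond
  have hdimP : Cyc.IsDimFun (pullback f p) δY' :=
    Groth.Agent.S9684.result f' δ' hX' δY' hf'
  funext x'
  rw [pullFun_apply]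
  simp only [AlgebraicCycle.map, Function.locallyFinsupp.map_apply]
  let B : Y → Prop := fun y => δ' x' = δ (p.base x') + c ∧ δY y = δ (f.base y)
  have hterm : ∀ z : ↥(pullback f p), f'.base z = x' →
      α' z * (AlgebraicCycle.mapCoeff f' δY' δ' z : ℤ) =
        (if B (q.base z) then mult q z * (f'.residueDegree z : ℤ) else 0) *
          α (q.base z) := by
    intro z hz
    obtain ⟨t, ht, hδt⟩ := hf (q.base z)
    obtain ⟨t', ht', hδt'⟩ := hf' z
    have h1 : δY (q.base z) = δ (f.base (q.base z)) + t := hδt
    have h2 : δY' z = δ' (f'.base z) + t' := hδt'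
    have h5 := hsq z
    rw [hz] at h5 h2
    have A1 := shift_iff_fibre_max q δY δY' hdimP c hcY z
    have A2 := shift_iff_fibre_max p δ δ' hX'.2.2 c hc x'
    rw [hα', pullFun_apply]
    unfold AlgebraicCycle.mapCoeff
    rw [hz]
    by_cases hB : B (q.base z)
    · rw [if_pos hB]
      obtain ⟨hB1, hB2⟩ := hB
      have ht0 : t = 0 := by omega
      rw [ht0] at ht
      have hfinres := finite_residueField_of_trdeg f (q.base z) ht
      have hpos := residueDegree_pos_of_mem f p (q.base z) hfinres z rfl
      have ht'0 : t' = 0 := by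
        letI := (f'.residueFieldMap z).hom.toAlgebra
        have hpos' : 0 < Module.finrank (X'.residueField (f'.base z))
            ((pullback f p).residueField z) := hpos
        haveI : Module.Finite (X'.residueField (f'.base z)) ((pullback f p).residueField z) :=
          Module.finite_of_finrank_pos hpos'
        haveI : Algebra.IsAlgebraic (X'.residueField (f'.base z))
            ((pullback f p).residueField z) := Algebra.IsAlgebraic.of_finite _ _
        have h0 : Algebra.trdeg (X'.residueField (f'.base z))
            ((pullback f p).residueField z) = 0 := trdeg_eq_zero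
        have ht'' : Algebra.trdeg (X'.residueField (f'.base z))
            ((pullback f p).residueField z) = (t' : Cardinal.{u}) := ht'
        rw [h0] at ht''
        exact_mod_cast ht''.symm
      rw [h5] at h1 hB2
      have e1 : δY' z = δY (q z) + c := by
        show δY' z = δY (q.base z) + c
        omega
      have e2 : δY' z = δ' x' := by omega
      rw [if_pos e1, if_pos e2]
      show α (q.base z) * mult q z * _ = _
      ring
    · rw [if_neg hB, zero_mul]
      by_cases e1 : δY' z = δY (q z) + c
      · by_cases e2 : δY' z = δ' x'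
        · exfalso
          apply hB
          have e1' : δY' z = δY (q.base z) + c := e1
          have hmaxz := A1.mp e1
          have hmaxx := fibre_max_snd f p z hmaxz
          have hz' : pullback.snd f p z = x' := hz
          rw [hz'] at hmaxx
          have e3 := A2.mpr hmaxx
          have e3' : δ' x' = δ (p.base x') + c := e3
          refine ⟨e3', ?_⟩
          rw [h5]; omega
        · rw [if_neg e2]; simp
      · rw [if_neg e1]; simp
  let a : ↥(pullback f p) → ℤ := fun z =>
    if f'.base z = x' then α' z * (AlgebraicCycle.mapCoeff f' δY' δ' z : ℤ) else 0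
  have ha_supp : ∀ z, a z ≠ 0 → f'.base z = x' := by
    intro z hz
    by_contra hne
    exact hz (if_neg hne)
  have hfinα' := Bivar.finite_fiber_inter_support f' α' x'
  have hfin_a : ({z : ↥(pullback f p) | f.base (q.base z) = p.base x'} ∩
      Function.support a).Finite := by
    refine hfinα'.subset ?_
    rintro z ⟨-, hz⟩
    have h1 := ha_supp z hz
    refine ⟨h1, ?_⟩
    have h2 : a z = α' z * (AlgebraicCycle.mapCoeff f' δY' δ' z : ℤ) := if_pos h1
    rw [Function.mem_support] at hz ⊢
    rw [h2] at hz
    exact left_ne_zero_of_mul hz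
  have key := finsum_mem_fiberwise (fun z : ↥(pullback f p) => q.base z)
    (fun y : Y => f.base y = p.base x') a (fun _ => (1 : ℤ)) hfin_a
  simp only [mul_one] at key
  have hL : ∑ᶠ z ∈ (f'.base ⁻¹' {x'} : Set ↥(pullback f p)),
      α' z * (AlgebraicCycle.mapCoeff f' δY' δ' z : ℤ) =
      ∑ᶠ z ∈ {z : ↥(pullback f p) | f.base (q.base z) = p.base x'}, a z := by
    rw [finsum_mem_inter_support_eq' a {z : ↥(pullback f p) | f.base (q.base z) = p.base x'}
      (f'.base ⁻¹' {x'}) (fun z hz => ?_)]
    · exact finsum_mem_congr rfl fun z hz => (if_pos hz).symm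
    · have h1 := ha_supp z hz
      constructor
      · intro _; exact h1
      · intro _
        show f.base (q.base z) = p.base x'
        rw [hsq, h1]
  rw [hL, ← key]
  have hinner : ∀ y ∈ {y : Y | f.base y = p.base x'},
      ∑ᶠ z ∈ ((fun z : ↥(pullback f p) => q.base z) ⁻¹' {y}), a z =
        (if B y then (f.residueDegree y : ℤ) * mult p x' else 0) * α y := by
    intro y hy
    have hy0 : f.base y = p.base x' := hy
    have h1 : ∑ᶠ z ∈ ((fun z : ↥(pullback f p) => q.base z) ⁻¹' {y}), a z =
        ∑ᶠ z ∈ ({z | q z = y ∧ f' z = x'} : Set ↥(pullback f p)),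
          (if B y then mult q z * (f'.residueDegree z : ℤ) else 0) * α y := by
      rw [finsum_mem_inter_support_eq' a
        ((fun z : ↥(pullback f p) => q.base z) ⁻¹' {y})
        ({z | q z = y ∧ f' z = x'} : Set ↥(pullback f p)) (fun z hz => ?_)]
      · apply finsum_mem_congr rfl
        rintro z ⟨hz1, hz2⟩
        have hz1' : q.base z = y := hz1
        have hz2' : f'.base z = x' := hz2
        have h2 : a z = α' z * (AlgebraicCycle.mapCoeff f' δY' δ' z : ℤ) := if_pos hz2'
        rw [h2, hterm z hz2', hz1']
      · have h1 := ha_supp z hz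
        constructor
        · intro h2; exact ⟨h2, h1⟩
        · intro h2; exact h2.1
    rw [h1]
    by_cases hB : B y
    · simp only [if_pos hB]
      rw [← finsum_mem_mul]
      congr 1
      obtain ⟨t, ht, hδt⟩ := hf y
      have ht0 : t = 0 := by
        have h2 : δY y = δ (f.base y) + t := hδt
        have h3 := hB.2
        omega
      rw [ht0] at ht
      have hfinres := finite_residueField_of_trdeg f y ht
      exact (core f p y x' hy0.symm hfinres).2
    · simp only [if_neg hB, zero_mul]
      exact finsum_mem_zero _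
  rw [finsum_mem_congr rfl hinner]
  by_cases hc' : δ' x' = δ (p x') + c
  · rw [if_pos hc', finsum_mem_mul]
    apply finsum_mem_congr rfl
    intro y hy
    unfold AlgebraicCycle.mapCoeff
    by_cases hy2 : δY y = δ (f.base y)
    · have hB : B y := ⟨hc', hy2⟩
      rw [if_pos hB, if_pos hy2]
      ring
    · have hB : ¬ B y := fun h => hy2 h.2
      rw [if_neg hB, if_neg hy2]
      simp
  · rw [if_neg hc']
    have : ∀ y ∈ {y : Y | f.base y = p.base x'},
        (if B y then (f.residueDegree y : ℤ) * mult p x' else 0) * α y = 0 := by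
      intro y _
      have hB : ¬ B y := fun h => hc' h.1
      rw [if_neg hB, zero_mul]
    rw [finsum_mem_congr rfl this]
    exact (finsum_mem_zero _).symm

end Groth.Agent.H60.CycPushPull2
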