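import Mathlib
import Groth.Agent.H60.CycPullSq
import Groth.Agent.H8.PullbackStalk

/-!
# S1897, S6477: flat pullback of the cycle of a coherent module
-/

set_option autoImplicit false
set_option linter.style.haveILetI false
universe u

open AlgebraicGeometry CategoryTheory CategoryTheory.Limits

namespace Groth.Agent.H60.CycSheafPull

open Groth.Agent.H60.CycPullSq Groth.Agent.H60.CycPullBC Groth.Agent.H60.CycPullComp

/-- The length of the stalk of the pullback of a quasi-coherent module along a flat morphism. -/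
theorem length_stalk_pullback {X Y : Scheme.{u}} (f : X ⟶ Y) [Flat f] (F : Y.Modules)
    [F.IsQuasicoherent] (x : X) :
    Module.length (X.presheaf.stalk x)
        (((Scheme.Modules.pullback f).obj F).presheaf.stalk x) =
      Module.length (Y.presheaf.stalk (f x)) (F.presheaf.stalk (f x)) *
        Module.length (X.presheaf.stalk x)
          (X.presheaf.stalk x ⧸ Ideal.map (f.stalkMap x).hom
            (IsLocalRing.maximalIdeal (Y.presheaf.stalk (f x)))) := by
  letI := (f.stalkMap x).hom.toAlgebra
  obtain ⟨e⟩ := Groth.Agent.H8.nonempty_stalk_pullback_equiv f F x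
  rw [e.length_eq]
  haveI : Module.Flat (Y.presheaf.stalk (f x)) (X.presheaf.stalk x) :=
    AlgebraicGeometry.Flat.stalkMap f x
  haveI : IsLocalHom (algebraMap (Y.presheaf.stalk (f x)) (X.presheaf.stalk x)) :=
    inferInstanceAs (IsLocalHom (f.stalkMap x).hom)
  exact IsLocalRing.length_baseChange (Y.presheaf.stalk (f x)) (X.presheaf.stalk x)
    (F.presheaf.stalk (f x))

/-- If the stalk of the pullback is nontrivial then so is the stalk downstairs. -/
theorem nontrivial_stalk_of_pullback {X Y : Scheme.{u}} (f : X ⟶ Y) [Flat f] (F : Y.Modules)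
    [F.IsQuasicoherent] (x : X)
    (h : Nontrivial (((Scheme.Modules.pullback f).obj F).presheaf.stalk x)) :
    Nontrivial (F.presheaf.stalk (f x)) := by
  by_contra hcon
  rw [not_nontrivial_iff_subsingleton] at hcon
  have h1 := length_stalk_pullback f F x
  rw [Module.length_eq_zero_iff.mpr hcon, zero_mul, Module.length_eq_zero_iff] at h1
  exact not_subsingleton _ h1

theorem sheafFun_apply {X : Scheme.{u}} (δ : X → ℤ) (k : ℤ) (F : X.Modules) (x : X) :
    Cyc.sheafFun δ k F x =
      if δ x = k then ((Module.length (X.presheaf.stalk x) (F.presheaf.stalk x)).toNat : ℤ)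
      else 0 := rfl

/-- the value of the pulled-back cycle at a point where the shift condition holds -/
theorem toNat_length_stalk_pullback {X Y : Scheme.{u}} (f : X ⟶ Y) [Flat f] (F : Y.Modules)
    [F.IsQuasicoherent] (x : X) :
    ((Module.length (X.presheaf.stalk x)
        (((Scheme.Modules.pullback f).obj F).presheaf.stalk x)).toNat : ℤ) =
      ((Module.length (Y.presheaf.stalk (f x)) (F.presheaf.stalk (f x))).toNat : ℤ) *
        mult f x := by
  unfold mult
  rw [length_stalk_pullback f F x, ENat.toNat_mul]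
  push_cast
  rfl

/-- If the stalk downstairs is trivial then the pulled-back cycle vanishes. -/
theorem toNat_length_stalk_pullback_eq_zero {X Y : Scheme.{u}} (f : X ⟶ Y) [Flat f]
    (F : Y.Modules) [F.IsQuasicoherent] (x : X) (h : ¬ Nontrivial (F.presheaf.stalk (f x))) :
    ((Module.length (X.presheaf.stalk x)
        (((Scheme.Modules.pullback f).obj F).presheaf.stalk x)).toNat : ℤ) = 0 := by
  rw [not_nontrivial_iff_subsingleton] at h
  rw [toNat_length_stalk_pullback, Module.length_eq_zero_iff.mpr h]
  simp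

/-- **S1897**. -/
theorem main_S1897 {X Y : Scheme.{u}} (δX : X → ℤ) (δY : Y → ℤ) (f : X ⟶ Y) [Flat f]
    [LocallyOfFiniteType f] (r : ℕ) (hr : Cyc.HasRelDim f r) (hδ : Cyc.DeltaCompat f δX δY)
    (k : ℤ) (F : Y.Modules) (hF : Coh.IsCoh F)
    (hdim : ∀ y : Y, Nontrivial (F.presheaf.stalk y) → δY y ≤ k) :
    (∀ x : X, Nontrivial (((Scheme.Modules.pullback f).obj F).presheaf.stalk x) →
        δX x ≤ k + r) ∧
      Cyc.pullFun f δX δY r (Cyc.sheafFun δY k F) =
        Cyc.sheafFun δX (k + r) ((Scheme.Modules.pullback f).obj F) := by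
  haveI : F.IsQuasicoherent := hF.1
  have hbound : ∀ x : X, ∃ n : ℕ, n ≤ r ∧ δX x = δY (f x) + n := by
    intro x
    obtain ⟨n, hn, hδn⟩ := hδ x
    exact ⟨n, trdeg_le_of_hasRelDim f r hr x n hn, hδn⟩
  constructor
  · intro x hx
    obtain ⟨n, hnr, hδn⟩ := hbound x
    have h1 := hdim (f x) (nontrivial_stalk_of_pullback f F x hx)
    omega
  · funext x
    obtain ⟨n, hnr, hδn⟩ := hbound x
    rw [pullFun_apply, sheafFun_apply, sheafFun_apply]
    by_cases h1 : δX x = δY (f x) + r
    · rw [if_pos h1]
      by_cases h2 : δY (f x) = k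
      · rw [if_pos h2, if_pos (by omega), toNat_length_stalk_pullback]
      · rw [if_neg h2, zero_mul, if_neg (by omega)]
    · rw [if_neg h1]
      by_cases h3 : δX x = k + r
      · rw [if_pos h3]
        symm
        apply toNat_length_stalk_pullback_eq_zero
        intro hnt
        have := hdim (f x) hnt
        omega
      · rw [if_neg h3]

/-- **S6477**. -/
theorem main_S6477 {X X' : Scheme.{u}} (p : X' ⟶ X) [Flat p] (δ : X → ℤ) (δ' : X' → ℤ)
    (hdim' : Cyc.IsDimFun X' δ') (c : ℤ)
    (hc : ∀ x' : X', (∀ y, p y = p x' → y ⤳ x' → y = x') → δ' x' = δ (p x') + c) (k : ℤ)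
    (F : X.Modules) (hF : Coh.IsCoh F)
    (hdim : ∀ x : X, Nontrivial (F.presheaf.stalk x) → δ x ≤ k) :
    (∀ x' : X', Nontrivial (((Scheme.Modules.pullback p).obj F).presheaf.stalk x') →
        δ' x' ≤ k + c) ∧
      Cyc.pullFun p δ' δ c (Cyc.sheafFun δ k F) =
        Cyc.sheafFun δ' (k + c) ((Scheme.Modules.pullback p).obj F) := by
  haveI : F.IsQuasicoherent := hF.1
  have hbound : ∀ x' : X', δ' x' ≤ δ (p x') + c := by
    intro x'
    obtain ⟨z, hzx, hfz, hzmax⟩ := exists_fibre_max_gen p x'
    have hz := hc z hzmax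
    have hfz' : p z = p x' := hfz
    rw [hfz'] at hz
    by_cases hzx' : z = x'
    · rw [← hzx']; rw [hzx'] at hz ⊢; exact hz.le
    · have hlt : δ' x' < δ' z := (hdim' z x' hzx hzx').1
      omega
  constructor
  · intro x' hx'
    have h1 := hdim (p x') (nontrivial_stalk_of_pullback p F x' hx')
    have h2 := hbound x'
    omega
  · funext x'
    have h2 := hbound x'
    rw [pullFun_apply, sheafFun_apply, sheafFun_apply]
    by_cases h1 : δ' x' = δ (p x') + c
    · rw [if_pos h1]
      by_cases h3 : δ (p x') = k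
      · rw [if_pos h3, if_pos (by omega), toNat_length_stalk_pullback]
      · rw [if_neg h3, zero_mul, if_neg (by omega)]
    · rw [if_neg h1]
      by_cases h3 : δ' x' = k + c
      · rw [if_pos h3]
        symm
        apply toNat_length_stalk_pullback_eq_zero
        intro hnt
        have := hdim (p x') hnt
        omega
      · rw [if_neg h3]

end Groth.Agent.H60.CycSheafPull
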