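import Mathlib
import Groth.Agent.H8.DevPw
import Groth.Agent.H28.ClosedStalk

/-!
# (KC) for helper8's coherent devissage squad #2: a module killed by `I ^ n` has zero stalks off
the support of `I`
-/

set_option autoImplicit false
set_option linter.style.haveILetI false
universe u
open CategoryTheory CategoryTheory.Limits AlgebraicGeometry TopologicalSpace Opposite

namespace Groth.Agent.H60.Dev

variable {X : Scheme.{u}}

theorem KC (I : X.IdealSheafData) (N : X.Modules) (n : ℕ) (hN : ClSub.KilledByIdeal (I ^ n) N)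
    (y : X) (hy : y ∉ I.support) : Subsingleton ↑(N.presheaf.stalk y) := by
  suffices h0 : ∀ t : ↑(N.presheaf.stalk y), t = 0 from ⟨fun a b => by rw [h0 a, h0 b]⟩
  intro t
  obtain ⟨V₁, h₁, s₁, rfl⟩ := TopCat.Presheaf.exists_germ_eq N.presheaf t
  obtain ⟨_, ⟨V, hV, rfl⟩, hyV, hVle⟩ :=
    X.isBasis_affineOpens.exists_subset_of_mem_open (show y ∈ (V₁ : Set X) from h₁) V₁.2
  have hle₁ : V ≤ V₁ := hVle
  have e₁ : N.presheaf.germ V₁ y h₁ s₁ =
      N.presheaf.germ V y hyV (N.presheaf.map (homOfLE hle₁).op s₁) :=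
    (TopCat.Presheaf.germ_res_apply N.presheaf (homOfLE hle₁) y hyV s₁).symm
  rw [e₁]
  set s := N.presheaf.map (homOfLE hle₁).op s₁
  -- an element of the ideal invertible at `y`
  have hy' : y ∉ X.zeroLocus (U := V) (I.ideal ⟨V, hV⟩) := fun h =>
    hy ((Scheme.IdealSheafData.mem_support_iff_of_mem (U := ⟨V, hV⟩) hyV).mpr h)
  rw [Scheme.mem_zeroLocus_iff] at hy'
  push_neg at hy'
  obtain ⟨a, haI, hya⟩ := hy'
  have hpow : a ^ n ∈ (I ^ n).ideal ⟨V, hV⟩ := by
    rw [Scheme.IdealSheafData.ideal_pow]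
    exact Ideal.pow_mem_pow haI n
  have h0 : (a ^ n) • s = 0 := hN ⟨V, hV⟩ (a ^ n) hpow s
  have hunit : IsUnit (X.presheaf.germ V y hyV (a ^ n)) := by
    rw [map_pow]
    exact ((Scheme.mem_basicOpen _ _ _ hyV).mp hya).pow n
  have h1 : X.presheaf.germ V y hyV (a ^ n) • N.presheaf.germ V y hyV s = 0 := by
    rw [← Groth.Agent.H8.germ_smul N y hyV (a ^ n) s, h0, map_zero]
  obtain ⟨u, hu⟩ := hunit
  rw [← hu] at h1
  have h2 := congrArg (fun z => (↑u⁻¹ : ↑(X.presheaf.stalk y)) • z) h1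
  simp only [smul_zero, smul_smul, Units.inv_mul, one_smul] at h2
  exact h2

end Groth.Agent.H60.Dev
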