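import Mathlib
import Groth.Agent.H60.DimFunX
import Groth.Agent.H60.Miracle
import Groth.Agent.H9.FibreFormula
import Groth.Agent.H9.FibDimTop
import Groth.Prelude.Def_EGA43
import Groth.Prelude.Def_EGA4b
import Groth.Agent.S2141

/-!
# The dimension formula at a point where a morphism is equidimensional
-/

set_option autoImplicit false
universe u

open CategoryTheory CategoryTheory.Limits AlgebraicGeometry

namespace Groth.Agent.H60.EquidimAt

open Groth.Agent.H54 Groth.Agent.H71.DimFun Groth.Agent.H9.FibreFormula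
  Groth.Agent.H9.DimFormulaScheme

/-- If all irreducible components of the fibre through `x'` have dimension `e`, then the fibre has
local dimension `e` at `x'`. -/
theorem fibreDimAt_eq_of_equidim_fibre {X Y : Scheme.{u}} (g : X ⟶ Y) [LocallyOfFiniteType g]
    (x' : X) (e : ℕ)
    (h : ∀ Z ∈ irreducibleComponents (↥(g.fiber (g.base x')) : Type u),
      topologicalKrullDim (↥Z : Type u) = e) :
    FlatMor.fibreDimAt g x' = e := by
  obtain ⟨b, hb⟩ : ∃ b : ℕ, Order.coheight (g.asFiber x') = b :=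
    ⟨_, (ENat.natCast_toNat (coheight_ne_top (fiberQ g (g.base x')) _)).symm⟩
  rw [fibreDimAt_eq g x' b hb]
  have h1 := Groth.Agent.H60.Miracle.tdeg_add_coheight_eq (fiberQ g (g.base x')) e h (g.asFiber x')
  rw [hb] at h1
  have h2 : tdeg (fiberQ g (g.base x')) (g.asFiber x') + b = e := by exact_mod_cast h1
  rw [h2]

/-- Fibre dimension is insensitive to restricting the source to an open subscheme. -/
theorem fibreDimAt_restrict {X Y : Scheme.{u}} (f : X ⟶ Y) (U : X.Opens) (x' : U.toScheme) :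
    FlatMor.fibreDimAt (U.ι ≫ f) x' = FlatMor.fibreDimAt f (U.ι.base x') := by
  rw [Groth.Agent.H9.FibDim.fibreDimAt_eq_tfd, Groth.Agent.H9.FibDim.fibreDimAt_eq_tfd]
  exact Groth.Agent.H9.FibDim.tfd_eq_of_square f.base (U.ι ≫ f).base U.ι.base id
    U.ι.isOpenEmbedding Function.injective_id (fun a => rfl) x'

/-- **EGA IV 13.3.6-type formula** at a point where `f` is equidimensional. -/
theorem main {X Y : Scheme.{u}} [IsLocallyNoetherian Y] (f : X ⟶ Y)
    [LocallyOfFiniteType f] (x : X) (h : EGA43.IsEquidimAt f x)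
    (hcat : CAlg.IsUniversallyCatenary (Y.presheaf.stalk (f.base x))) :
    letI : Algebra (Y.residueField (f.base x)) (X.residueField x) :=
      (f.residueFieldMap x).hom.toAlgebra
    ∀ 𝔭 ∈ minimalPrimes (X.presheaf.stalk x),
      ringKrullDim (X.presheaf.stalk x ⧸ 𝔭) +
          (Cardinal.toNat (Algebra.trdeg (Y.residueField (f.base x)) (X.residueField x)) :
            WithBot ℕ∞) =
        ringKrullDim (Y.presheaf.stalk (f.base x) ⧸ 𝔭.comap (f.stalkMap x).hom) +
          FlatMor.fibreDimAt f x := by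
  obtain ⟨e, U, hxU, -, hfib⟩ := h
  intro 𝔭 h𝔭
  haveI : 𝔭.IsPrime := h𝔭.1.1
  obtain ⟨v, hv⟩ : ∃ v : PrimeSpectrum (X.presheaf.stalk x), v = ⟨𝔭, inferInstance⟩ := ⟨_, rfl⟩
  have hvmin : IsMin v := by
    intro r hr
    rw [hv] at hr ⊢
    exact h𝔭.2 ⟨r.2, bot_le⟩ hr
  obtain ⟨ξ, hξ⟩ : ∃ ξ : X, X.fromSpecStalk x v = ξ := ⟨_, rfl⟩
  have hsp : ξ ⤳ x := by rw [← hξ]; exact fromSpecStalk_specializes X x v
  have hξmax : ∀ ξ' : X, ξ' ⤳ ξ → ξ' = ξ := by
    rw [← hξ]; exact generic_of_isMin X x v hvmin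
  have hξU : ξ ∈ U := hsp.mem_open U.2 hxU
  have hfx : FlatMor.fibreDimAt f x = e := by
    have h1 := fibreDimAt_restrict f U ⟨x, hxU⟩
    have h2 := fibreDimAt_eq_of_equidim_fibre (U.ι ≫ f) ⟨x, hxU⟩ e (hfib ⟨x, hxU⟩)
    rw [h1] at h2
    exact h2
  have hfξ : FlatMor.fibreDimAt f ξ = e := by
    have h1 := fibreDimAt_restrict f U ⟨ξ, hξU⟩
    have h2 := fibreDimAt_eq_of_equidim_fibre (U.ι ≫ f) ⟨ξ, hξU⟩ e (hfib ⟨ξ, hξU⟩)
    rw [h1] at h2
    exact h2
  obtain ⟨E, b, hE, hb, hform⟩ := fibre_formula f ξ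
  have hco : Order.coheight (f.asFiber ξ) = 0 := by
    rw [Order.coheight_eq_zero]
    intro z hz
    have hz' : z ⤳ f.asFiber ξ := hz
    have h1 := hz'.map (f.fiberι (f.base ξ)).continuous
    rw [f.fiberι_asFiber ξ] at h1
    have h2 := hξmax _ h1
    have h3 : z = f.asFiber ξ :=
      (f.fiberι (f.base ξ)).isEmbedding.injective (h2.trans (f.fiberι_asFiber ξ).symm)
    rw [h3]
  have hb0 : b = 0 := by
    rw [ringKrullDim_stalk_eq_coheight, hco] at hb
    have : ((0 : ℕ) : WithBot ℕ∞) = (b : WithBot ℕ∞) := by exact_mod_cast hb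
    exact_mod_cast this.symm
  have hEe : E = e := by
    rw [hfξ, hb0] at hform
    have : (e : WithBot ℕ∞) = ((E : ℕ) : WithBot ℕ∞) := by exact_mod_cast hform
    exact_mod_cast this.symm
  obtain ⟨n, hn⟩ := exists_trdeg_eq_nat f x
  obtain ⟨w, hwdef⟩ : ∃ w : PrimeSpectrum (Y.presheaf.stalk (f.base x)),
      w = PrimeSpectrum.comap (f.stalkMap x).hom v := ⟨_, rfl⟩
  have hw : Y.fromSpecStalk (f.base x) w = f.base ξ := by
    have h1 := Scheme.SpecMap_stalkMap_fromSpecStalk f (x := x)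
    have h2 := congrArg (fun φ => φ.base v) h1
    rw [hwdef, ← hξ]
    exact h2
  have hrel := Groth.Agent.H60.DimFunX.rel_eq f x ξ hsp hcat n E hn hE v hξ w hw
  rw [coheight_eq_ringKrullDim_quotient, coheight_eq_ringKrullDim_quotient] at hrel
  have hvI : v.asIdeal = 𝔭 := by rw [hv]
  have hwI : w.asIdeal = 𝔭.comap (f.stalkMap x).hom := by rw [hwdef, hv]; rfl
  rw [hvI, hwI, hEe] at hrel
  rw [hfx]
  have hnat : Cardinal.toNat (@Algebra.trdeg (Y.residueField (f.base x)) (X.residueField x) _ _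
      (f.residueFieldMap x).hom.toAlgebra) = n := by
    rw [hn]; exact Cardinal.toNat_natCast n
  rw [hnat]
  exact hrel

/-- At a point where `f` is equidimensional, minimal primes of `O_{X,x}` contract to minimal primes
of `O_{Y,f x}`. -/
theorem comap_mem_minimalPrimes {X Y : Scheme.{u}} (f : X ⟶ Y) (x : X)
    (h : EGA43.IsEquidimAt f x) (𝔭 : Ideal (X.presheaf.stalk x))
    (h𝔭 : 𝔭 ∈ minimalPrimes (X.presheaf.stalk x)) :
    𝔭.comap (f.stalkMap x).hom ∈ minimalPrimes (Y.presheaf.stalk (f.base x)) := by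
  obtain ⟨e, U, hxU, hdom, -⟩ := h
  haveI : 𝔭.IsPrime := h𝔭.1.1
  obtain ⟨v, hv⟩ : ∃ v : PrimeSpectrum (X.presheaf.stalk x), v = ⟨𝔭, inferInstance⟩ := ⟨_, rfl⟩
  have hvmin : IsMin v := by
    intro r hr
    rw [hv] at hr ⊢
    exact h𝔭.2 ⟨r.2, bot_le⟩ hr
  obtain ⟨ξ, hξ⟩ : ∃ ξ : X, X.fromSpecStalk x v = ξ := ⟨_, rfl⟩
  have hsp : ξ ⤳ x := by rw [← hξ]; exact fromSpecStalk_specializes X x v
  have hξmax : ∀ ξ' : X, ξ' ⤳ ξ → ξ' = ξ := by
    rw [← hξ]; exact generic_of_isMin X x v hvmin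
  have hξU : ξ ∈ U := hsp.mem_open U.2 hxU
  -- the closure of `ξ` in `U` is an irreducible component of `U`
  obtain ⟨ξU, hξUdef⟩ : ∃ ξU : U.toScheme, U.ι.base ξU = ξ := ⟨⟨ξ, hξU⟩, rfl⟩
  obtain ⟨ξ'', hsp'', hcomp⟩ := Groth.Agent.H54.exists_generic_specializes (X := U.toScheme) ξU
  have h1 : U.ι.base ξ'' ⤳ ξ := by
    have := hsp''.map U.ι.continuous
    rwa [hξUdef] at this
  have h2 : U.ι.base ξ'' = ξ := hξmax _ h1
  have h3 : ξ'' = ξU := U.ι.isOpenEmbedding.injective (h2.trans hξUdef.symm)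
  rw [h3] at hcomp
  obtain ⟨W, hW, -, hcl⟩ := hdom _ hcomp
  have hcl' : closure ({f.base ξ} : Set Y) = W := by
    rw [← hcl, closure_image_closure (U.ι ≫ f).continuous]
    have himg : (U.ι ≫ f).base '' ({ξU} : Set U.toScheme) = {f.base ξ} := by
      rw [Set.image_singleton, ← hξUdef]; rfl
    exact congrArg closure himg.symm
  rw [← hcl'] at hW
  obtain ⟨w, hwdef⟩ : ∃ w : PrimeSpectrum (Y.presheaf.stalk (f.base x)),
      w = PrimeSpectrum.comap (f.stalkMap x).hom v := ⟨_, rfl⟩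
  have hw : Y.fromSpecStalk (f.base x) w = f.base ξ := by
    have h1 := Scheme.SpecMap_stalkMap_fromSpecStalk f (x := x)
    have h2 := congrArg (fun φ => φ.base v) h1
    rw [hwdef, ← hξ]
    exact h2
  have hwmin : IsMin w := by
    apply isMin_of_generic Y (f.base x) w
    rw [hw]
    intro η hη
    exact eq_of_specializes_generic hW hη
  have hwI : w.asIdeal = 𝔭.comap (f.stalkMap x).hom := by rw [hwdef, hv]; rfl
  rw [← hwI]
  refine ⟨⟨w.2, bot_le⟩, fun q hq hle => ?_⟩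
  exact hwmin (b := ⟨q, hq.1⟩) hle

/-- At a point where `f` is equidimensional, with `O_{Y,y}` equidimensional and universally
catenary, every minimal prime quotient of `O_{X,x}` has dimension `dim O_{Y,y} + dim O_{X_y,x}`. -/
theorem dim_quot_minimalPrime {X Y : Scheme.{u}} [IsLocallyNoetherian Y] (f : X ⟶ Y)
    [LocallyOfFiniteType f] (x : X) (h : EGA43.IsEquidimAt f x)
    (hcat : CAlg.IsUniversallyCatenary (Y.presheaf.stalk (f.base x)))
    (hY : EGA4.IsEquidim (Y.presheaf.stalk (f.base x)))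
    (𝔭 : Ideal (X.presheaf.stalk x)) (h𝔭 : 𝔭 ∈ minimalPrimes (X.presheaf.stalk x)) :
    ringKrullDim (X.presheaf.stalk x ⧸ 𝔭) =
      ringKrullDim (Y.presheaf.stalk (f.base x)) +
        ringKrullDim ((f.fiber (f.base x)).presheaf.stalk (f.asFiber x)) := by
  have hmain := main f x h hcat 𝔭 h𝔭
  obtain ⟨n, b, hn, hb, hform⟩ := fibre_formula f x
  have hmin := comap_mem_minimalPrimes f x h 𝔭 h𝔭
  rw [hY _ hmin, hform] at hmain
  have hnat : Cardinal.toNat (@Algebra.trdeg (Y.residueField (f.base x)) (X.residueField x) _ _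
      (f.residueFieldMap x).hom.toAlgebra) = n := by
    rw [hn]; exact Cardinal.toNat_natCast n
  rw [hnat] at hmain
  obtain ⟨m, hm⟩ := Groth.Agent.H9.DimFormulaEq.exists_ringKrullDim_eq_nat
    (Y.presheaf.stalk (f.base x))
  rw [hm] at hmain ⊢
  rw [hb]
  have h2 : ringKrullDim (X.presheaf.stalk x ⧸ 𝔭) + (n : WithBot ℕ∞) =
      (((m + b) + n : ℕ) : WithBot ℕ∞) := by
    rw [hmain]; push_cast; ring
  have h3 := Groth.Agent.H9.DimFormulaEq.withBot_add_nat_cancel _ (m + b) n h2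
  rw [h3]; push_cast; rfl

/-- S3438 and S3396 together. -/
theorem dim_formula_and_equidim {X Y : Scheme.{u}} [IsLocallyNoetherian Y] (f : X ⟶ Y)
    [LocallyOfFiniteType f] (x : X) (h : EGA43.IsEquidimAt f x)
    (hcat : CAlg.IsUniversallyCatenary (Y.presheaf.stalk (f.base x)))
    (hY : EGA4.IsEquidim (Y.presheaf.stalk (f.base x))) :
    ringKrullDim (X.presheaf.stalk x) =
        ringKrullDim (Y.presheaf.stalk (f.base x)) +
          ringKrullDim ((f.fiber (f.base x)).presheaf.stalk (f.asFiber x)) ∧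
      EGA4.IsEquidim (X.presheaf.stalk x) := by
  haveI : IsLocallyNoetherian X := LocallyOfFiniteType.isLocallyNoetherian f
  have key := dim_quot_minimalPrime f x h hcat hY
  obtain ⟨Q, hQmin, hQle, hht⟩ := Groth.Agent.S2141.exists_minimalPrime_height_le
    (IsLocalRing.maximalIdeal (X.presheaf.stalk x))
  have hQne : Q ≠ ⊤ := fun hQ => (IsLocalRing.maximalIdeal.isMaximal _).ne_top
    (top_le_iff.mp (hQ ▸ hQle))
  have h1 := Groth.Agent.H9.DimFormulaGen.height_map_mk_maximalIdeal Q hQne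
  have h2 : ringKrullDim (X.presheaf.stalk x) ≤ ringKrullDim (X.presheaf.stalk x ⧸ Q) := by
    rw [← h1, ← IsLocalRing.maximalIdeal_height_eq_ringKrullDim]
    exact_mod_cast hht
  have h3 : ringKrullDim (X.presheaf.stalk x ⧸ Q) ≤ ringKrullDim (X.presheaf.stalk x) :=
    ringKrullDim_quotient_le Q
  have hdim : ringKrullDim (X.presheaf.stalk x) =
      ringKrullDim (Y.presheaf.stalk (f.base x)) +
        ringKrullDim ((f.fiber (f.base x)).presheaf.stalk (f.asFiber x)) := by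
    rw [← key Q hQmin]; exact le_antisymm h2 h3
  refine ⟨hdim, fun 𝔭 h𝔭 => ?_⟩
  rw [key 𝔭 h𝔭, hdim]

end Groth.Agent.H60.EquidimAt
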