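import Mathlib
import Groth.Agent.H9.DimFormulaScheme

/-!
# A section vanishing at a point but at no maximal point of its fibre (prime avoidance)
-/

set_option autoImplicit false
set_option linter.style.haveILetI false
universe u

open AlgebraicGeometry CategoryTheory

namespace Groth.Agent.H60.FibreMaxAvoid

open Groth.Agent.H9.DimFormulaScheme

set_option backward.isDefEq.respectTransparency.types false in
theorem main {X Y : Scheme.{u}} [IsLocallyNoetherian Y] (f : X ⟶ Y) [LocallyOfFiniteType f]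
    (x : X) (hx : ∃ x' : X, f.base x' = f.base x ∧ x' ≠ x ∧ x ∈ closure ({x'} : Set X)) :
    ∃ U : X.Opens, IsAffineOpen U ∧ x ∈ U ∧ ∃ g : Γ(X, U), x ∉ X.basicOpen g ∧
      ∀ z : X, f.base z = f.base x →
        (∀ z' : X, f.base z' = f.base x → z ∈ closure ({z'} : Set X) → z' = z) →
        z ∈ U → z ∈ X.basicOpen g := by
  classical
  obtain ⟨V, hV, hsV, -⟩ :=
    exists_isAffineOpen_mem_and_subset (X := Y) (x := f x) (U := ⊤) trivial
  obtain ⟨U, hU, hxU, e⟩ :=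
    exists_isAffineOpen_mem_and_subset (X := X) (x := x) (U := f ⁻¹ᵁ V) hsV
  letI := (f.appLE V U e).hom.toAlgebra
  haveI : Algebra.FiniteType Γ(Y, V) Γ(X, U) := f.finiteType_appLE hV hU e
  haveI : IsNoetherianRing Γ(Y, V) := IsLocallyNoetherian.component_noetherian ⟨V, hV⟩
  haveI : IsNoetherianRing Γ(X, U) := Algebra.FiniteType.isNoetherianRing Γ(Y, V) Γ(X, U)
  obtain ⟨q, hqx⟩ : ∃ q : Spec Γ(X, U), hU.fromSpec q = x :=
    ⟨hU.primeIdealOf ⟨x, hxU⟩, hU.fromSpec_primeIdealOf ⟨x, hxU⟩⟩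
  obtain ⟨I, hI⟩ : ∃ I : Ideal Γ(X, U),
      I = (q.asIdeal.comap (f.appLE V U e).hom).map (f.appLE V U e).hom := ⟨_, rfl⟩
  have hfin : I.minimalPrimes.Finite := Ideal.finite_minimalPrimes_of_isNoetherianRing _ I
  -- points of the fibre in `U`
  have hfib : ∀ Q : Spec Γ(X, U), f (hU.fromSpec Q) = f x ↔
      Q.asIdeal.comap (f.appLE V U e).hom = q.asIdeal.comap (f.appLE V U e).hom := by
    intro Q
    rw [← hqx, map_fromSpec f hU hV e Q, map_fromSpec f hU hV e q]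
    constructor
    · intro h
      have := hV.fromSpec.isOpenEmbedding.injective h
      exact congrArg PrimeSpectrum.asIdeal this
    · intro h
      congr 1
      exact PrimeSpectrum.ext h
  have key : ∀ Q : Spec Γ(X, U), f (hU.fromSpec Q) = f x →
      (∀ z' : X, f.base z' = f.base x → hU.fromSpec Q ∈ closure ({z'} : Set X) →
        z' = hU.fromSpec Q) →
      Q.asIdeal ∈ I.minimalPrimes ∧ ¬ q.asIdeal ≤ Q.asIdeal := by
    intro Q hQf hQmax
    have hQc := (hfib Q).mp hQf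
    refine ⟨⟨⟨Q.2, ?_⟩, ?_⟩, ?_⟩
    · rw [hI, Ideal.map_le_iff_le_comap, hQc]
    · rintro Q' ⟨hQ'p, hIQ'⟩ hle
      let Q'' : Spec Γ(X, U) := ⟨Q', hQ'p⟩
      have hsp : hU.fromSpec Q'' ⤳ hU.fromSpec Q := by
        apply Specializes.map _ hU.fromSpec.continuous
        exact (PrimeSpectrum.le_iff_specializes Q'' Q).mp hle
      have hf' : f (hU.fromSpec Q'') = f x := by
        rw [hfib]
        apply le_antisymm
        · rw [← hQc]; exact Ideal.comap_mono hle
        · rw [hI, Ideal.map_le_iff_le_comap] at hIQ'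
          exact hIQ'
      have h1 := hQmax _ hf' hsp.mem_closure
      have h2 : Q'' = Q := hU.fromSpec.isOpenEmbedding.injective h1
      rw [← h2]
    · intro hle
      have hsp : hU.fromSpec q ⤳ hU.fromSpec Q := by
        apply Specializes.map _ hU.fromSpec.continuous
        exact (PrimeSpectrum.le_iff_specializes q Q).mp hle
      rw [hqx] at hsp
      have h1 : x = hU.fromSpec Q := hQmax x rfl hsp.mem_closure
      obtain ⟨x', hx'f, hx'ne, hx'cl⟩ := hx
      rw [h1] at hx'cl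
      have h2 := hQmax x' hx'f hx'cl
      exact hx'ne (h2.trans h1.symm)
  -- prime avoidance
  let M' : Set (Ideal Γ(X, U)) := {Q | Q ∈ I.minimalPrimes ∧ ¬ q.asIdeal ≤ Q}
  have hM'fin : M'.Finite := hfin.subset (fun Q hQ => hQ.1)
  have hnot : ¬ ((q.asIdeal : Set Γ(X, U)) ⊆ ⋃ Q ∈ (↑hM'fin.toFinset : Set (Ideal Γ(X, U))),
      ((fun Q : Ideal Γ(X, U) => Q) Q : Set Γ(X, U))) := by
    rw [Ideal.subset_union_prime (f := fun Q : Ideal Γ(X, U) => Q) ⊥ ⊥]
    · rintro ⟨Q, hQ, hle⟩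
      rw [Set.Finite.mem_toFinset] at hQ
      exact hQ.2 hle
    · intro Q hQ _ _
      rw [Set.Finite.mem_toFinset] at hQ
      exact hQ.1.1.1
  obtain ⟨g, hgq, hgn⟩ := Set.not_subset.mp hnot
  have hmem : ∀ (Q : Spec Γ(X, U)), hU.fromSpec Q ∈ X.basicOpen g ↔ g ∉ Q.asIdeal := by
    intro Q
    have h1 := hU.fromSpec_preimage_basicOpen g
    have h2 : hU.fromSpec Q ∈ X.basicOpen g ↔ Q ∈ hU.fromSpec ⁻¹ᵁ X.basicOpen g := Iff.rfl
    rw [h2, h1]
    exact PrimeSpectrum.mem_basicOpen g Q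
  refine ⟨U, hU, hxU, g, ?_, ?_⟩
  · rw [← hqx, hmem]
    exact fun h => h hgq
  · intro z hzf hzmax hzU
    obtain ⟨Q, hQz⟩ : ∃ Q : Spec Γ(X, U), hU.fromSpec Q = z :=
      ⟨hU.primeIdealOf ⟨z, hzU⟩, hU.fromSpec_primeIdealOf ⟨z, hzU⟩⟩
    rw [← hQz] at hzf hzmax ⊢
    obtain ⟨hQmin, hQn⟩ := key Q hzf hzmax
    rw [hmem]
    intro hg
    apply hgn
    simp only [Set.mem_iUnion]
    exact ⟨Q.asIdeal, by simpa [M'] using ⟨hQmin, hQn⟩, hg⟩

end Groth.Agent.H60.FibreMaxAvoid
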