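import Mathlib

/-!
# Small helper library (helper60)

* multivariate McCoy lemma (copied from helper84's `Groth/Agent/H84/QuadCenter3.lean`, to avoid its imports);
* flatness of a quotient `X ⧸ K` of a flat module from injectivity of `(A ⧸ I) ⊗ K → (A ⧸ I) ⊗ X`
  (copied from helper12's `Groth/Agent/H12/FlatCxArt.lean`, to avoid its imports).
-/

set_option autoImplicit false
universe u

namespace Groth.Agent.H60.FlatQuot

open TensorProduct

section McCoy

open MvPolynomial

/-- Multivariate McCoy: a polynomial whose coefficients have no common nonzero annihilator in `R` is a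
non-zero-divisor. -/
theorem mccoy_mul_eq_zero {σ : Type*} {R : Type*} [CommRing R] (m : MonomialOrder σ)
    (f : MvPolynomial σ R) (hf : ∀ r : R, r • f = 0 → r = 0) :
    ∀ p : MvPolynomial σ R, f * p = 0 → p = 0 := by
  classical
  intro p
  induction' hd : m.toSyn (m.degree p) using WellFoundedLT.induction with d IH generalizing p
  intro hfp
  have star : ∀ a : R, a * m.leadingCoeff p = 0 → a • p = 0 := by
    intro a ha
    by_cases hdeg : m.degree p = 0
    · have hC : p = C (m.leadingCoeff p) := m.eq_C_of_degree_eq_zero hdeg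
      calc a • p = a • C (m.leadingCoeff p) := by rw [← hC]
        _ = C (a * m.leadingCoeff p) := by rw [smul_eq_C_mul, C_mul]
        _ = 0 := by rw [ha, C_0]
    · have h1 : a • p = a • (p - m.leadingTerm p) := by
        rw [smul_sub, MonomialOrder.leadingTerm, smul_monomial, smul_eq_mul, ha, monomial_zero,
          sub_zero]
      have h2 : m.toSyn (m.degree (a • p)) < d := by
        rw [← hd, h1]
        exact lt_of_le_of_lt m.degree_smul_le (m.degree_sub_leadingTerm_lt_degree hdeg)
      exact IH _ h2 (a • p) rfl (by rw [mul_smul_comm, hfp, smul_zero])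
  have inner : ∀ f' : MvPolynomial σ R, f' * p = 0 → ∀ α, f'.coeff α • p = 0 := by
    intro f'
    induction' hd' : m.toSyn (m.degree f') using WellFoundedLT.induction with d' IH' generalizing f'
    intro hf'p α
    have h0 : m.leadingCoeff f' • p = 0 := by
      apply star
      rw [← m.coeff_mul_of_degree_add, hf'p, coeff_zero]
    by_cases hdeg : m.degree f' = 0
    · have hC : f' = C (m.leadingCoeff f') := m.eq_C_of_degree_eq_zero hdeg
      by_cases hα : α = 0
      · subst hα
        have h5 : f'.coeff 0 = m.leadingCoeff f' := by rw [MonomialOrder.leadingCoeff, hdeg]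
        rw [h5]; exact h0
      · have h5 : f'.coeff α = 0 := by rw [hC, coeff_C, if_neg (Ne.symm hα)]
        rw [h5, zero_smul]
    · have h1 : (f' - m.leadingTerm f') * p = 0 := by
        have h6 : m.leadingTerm f' * p = monomial (m.degree f') 1 * (m.leadingCoeff f' • p) := by
          rw [MonomialOrder.leadingTerm, mul_smul_comm, ← smul_mul_assoc, smul_monomial, smul_eq_mul,
            mul_one]
        rw [sub_mul, hf'p, h6, h0, mul_zero, sub_zero]
      have h2 := IH' _ (by rw [← hd']; exact m.degree_sub_leadingTerm_lt_degree hdeg)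
        (f' - m.leadingTerm f') rfl h1 α
      by_cases hα : α = m.degree f'
      · subst hα; exact h0
      · have h5 : f'.coeff α = (f' - m.leadingTerm f').coeff α := by
          rw [coeff_sub, MonomialOrder.leadingTerm, coeff_monomial, if_neg (Ne.symm hα), sub_zero]
        rw [h5]; exact h2
  have h3 := inner f hfp
  have h4 : m.leadingCoeff p = 0 := by
    apply hf
    ext α
    have h5 := congrArg (coeff (m.degree p)) (h3 α)
    rw [coeff_smul, coeff_zero, smul_eq_mul] at h5
    rw [coeff_smul, coeff_zero, smul_eq_mul, mul_comm]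
    exact h5
  exact m.leadingCoeff_eq_zero_iff.mp h4

theorem mccoy_mem_nonZeroDivisors {n : ℕ} {R : Type*} [CommRing R]
    (f : MvPolynomial (Fin n) R) (hf : ∀ r : R, r • f = 0 → r = 0) :
    f ∈ nonZeroDivisors (MvPolynomial (Fin n) R) :=
  mem_nonZeroDivisors_iff_left.mpr (mccoy_mul_eq_zero MonomialOrder.lex f hf)

end McCoy

section Criterion

variable {A : Type u} [CommRing A] {X : Type u} [AddCommGroup X] [Module A X] (K : Submodule A X)

/-- `M ⊗ K → M ⊗ X` is injective. -/
def InjL (M : Type u) [AddCommGroup M] [Module A M] : Prop :=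
  Function.Injective (K.subtype.lTensor M)

theorem flat_quotient_of_injL [Module.Flat A X] (h : ∀ I : Ideal A, InjL K (A ⧸ I)) :
    Module.Flat A (X ⧸ K) := by
  rw [Module.Flat.iff_rTensor_injective']
  intro I
  rw [injective_iff_map_eq_zero]
  intro x hx
  obtain ⟨x', rfl⟩ := LinearMap.lTensor_surjective I (Submodule.mkQ_surjective K) x
  have h1 : K.mkQ.lTensor A (I.subtype.rTensor X x') = 0 := by
    rw [← LinearMap.comp_apply, LinearMap.lTensor_comp_rTensor, ← LinearMap.rTensor_comp_lTensor,
      LinearMap.comp_apply]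
    exact hx
  obtain ⟨y, hy⟩ :=
    (lTensor_exact A (LinearMap.exact_subtype_mkQ K) (Submodule.mkQ_surjective K) _).mp h1
  have h2 : K.subtype.lTensor (A ⧸ I) (I.mkQ.rTensor K y) = 0 := by
    rw [← LinearMap.comp_apply, LinearMap.lTensor_comp_rTensor, ← LinearMap.rTensor_comp_lTensor,
      LinearMap.comp_apply, hy, ← LinearMap.comp_apply, ← LinearMap.rTensor_comp]
    have : I.mkQ ∘ₗ I.subtype = 0 := by
      ext a
      exact (Submodule.Quotient.mk_eq_zero I).mpr a.2
    rw [this, LinearMap.rTensor_zero, LinearMap.zero_apply]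
  have h3 : I.mkQ.rTensor K y = 0 := h I (by rw [h2, map_zero])
  obtain ⟨y', rfl⟩ :=
    (rTensor_exact K (LinearMap.exact_subtype_mkQ I) (Submodule.mkQ_surjective I) y).mp h3
  have h4 : I.subtype.rTensor X (K.subtype.lTensor I y') = I.subtype.rTensor X x' := by
    rw [← hy, ← LinearMap.comp_apply, LinearMap.rTensor_comp_lTensor,
      ← LinearMap.lTensor_comp_rTensor, LinearMap.comp_apply]
  have h5 : K.subtype.lTensor I y' = x' :=
    (Module.Flat.rTensor_preserves_injective_linearMap (M := X) I.subtype I.injective_subtype) h4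
  rw [← h5, ← LinearMap.comp_apply, ← LinearMap.lTensor_comp]
  have : K.mkQ ∘ₗ K.subtype = 0 := by
    ext a
    exact (Submodule.Quotient.mk_eq_zero K).mpr a.2
  rw [this, LinearMap.lTensor_zero, LinearMap.zero_apply]

end Criterion

end Groth.Agent.H60.FlatQuot
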