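import Mathlib
import Groth.Agent.H60.GenOpenNhd

/-!
# S4923: local constancy of the set of dimensions of fibre components for open morphisms
-/

set_option autoImplicit false
set_option linter.style.haveILetI false
universe u

open AlgebraicGeometry CategoryTheory CategoryTheory.Limits Topology

namespace Groth.Agent.H60.GenOpenE

open Groth.Agent.H54 Groth.Agent.H9.DimFormulaEq Groth.Agent.H71.DimFun
  Groth.Agent.H9.FibreFormula Groth.Agent.H9.FibDim Groth.Agent.H9.Equidim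
  Groth.Agent.H60.EquidimAtFlat Groth.Agent.H60.EquidimAtConv Groth.Agent.H60.EquidimComp
  Groth.Agent.H60.EquidimFibMax Groth.Agent.H60.EquidimCrit Groth.Agent.H60.DimFormulaIff
  Groth.Agent.H60.FibreDimsGeneric Groth.Agent.H60.GenOpen Groth.Agent.H60.GenOpenApps
  Groth.Agent.H60.GenOpenGen Groth.Agent.H60.GenOpenProper Groth.Agent.H60.ConstrNhd
  Groth.Agent.H60.GenOpenMap Groth.Agent.H60.GenOpenNhd

set_option backward.isDefEq.respectTransparency.types false in
/-- The dimensions of the irreducible components of a fibre are the relative transcendence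
degrees of its maximal points. -/
theorem mem_E_iff {X Y : Scheme.{u}} (f : X ⟶ Y) [LocallyOfFiniteType f] (z : Y)
    (e : WithBot ℕ∞) :
    e ∈ (fun Z : Set ↥(f.fiber z) => topologicalKrullDim ↥Z) ''
        irreducibleComponents ↥(f.fiber z) ↔
      ∃ (z₀ : X) (n : ℕ), f.base z₀ = z ∧
        (∀ z' : X, f.base z' = f.base z₀ → z' ⤳ z₀ → z' = z₀) ∧
        @Algebra.trdeg (Y.residueField (f.base z₀)) (X.residueField z₀) _ _
          (f.residueFieldMap z₀).hom.toAlgebra = (n : Cardinal.{u}) ∧ e = (n : WithBot ℕ∞) := by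
  constructor
  · rintro ⟨Z, hZ, rfl⟩
    obtain ⟨t, htZ, htmax⟩ := exists_generic_of_component Z hZ
    obtain ⟨z₀, hz₀⟩ : ∃ z₀ : X, z₀ = (f.fiberι z).base t := ⟨_, rfl⟩
    have hfz₀ : f.base z₀ = z := by rw [hz₀]; exact fiberι_mem f z t
    refine ⟨z₀, tdeg (fiberQ f z) t, hfz₀, ?_, ?_, ?_⟩
    · intro z' hz' hsp
      obtain ⟨t', ht'⟩ : z' ∈ Set.range (f.fiberι z).base := by
        rw [f.range_fiberι]; exact hz'.trans hfz₀
      have h1 : t' ⤳ t := by
        rw [← (f.fiberι z).isEmbedding.isInducing.specializes_iff, ht', ← hz₀]; exact hsp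
      rw [← ht', htmax t' h1, hz₀]
    · have h1 := trdeg_fiber_eq f z t
      have h2 := trdeg_congr_point f hz₀
      rw [h2, h1]
    · show topologicalKrullDim ↥Z = _
      rw [← htZ, topologicalKrullDim_closure_singleton (fiberQ f z) t]
  · rintro ⟨z₀, n, rfl, hmax, hn, rfl⟩
    refine ⟨closure {f.asFiber z₀}, closure_mem_irreducibleComponents_of_forall ?_, ?_⟩
    · intro t ht
      have h2 : (f.fiberι (f.base z₀)).base t ⤳ (f.fiberι (f.base z₀)).base (f.asFiber z₀) :=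
        ht.map (f.fiberι (f.base z₀)).continuous
      rw [f.fiberι_asFiber] at h2
      have h3 : (f.fiberι (f.base z₀)).base t = (f.fiberι (f.base z₀)).base (f.asFiber z₀) := by
        rw [f.fiberι_asFiber]; exact hmax _ (fiberι_mem f _ t) h2
      exact (f.fiberι (f.base z₀)).isEmbedding.injective h3
    · show topologicalKrullDim ↥(closure {f.asFiber z₀}) = _
      rw [topologicalKrullDim_closure_singleton (fiberQ f (f.base z₀)) (f.asFiber z₀)]
      have h1 := trdeg_fiber_eq f (f.base z₀) (f.asFiber z₀)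
      have h2 := trdeg_congr_point f (f.fiberι_asFiber z₀)
      have h3 : (tdeg (fiberQ f (f.base z₀)) (f.asFiber z₀) : Cardinal.{u}) =
          (n : Cardinal.{u}) := by
        rw [← h1, h2, hn]
      have : tdeg (fiberQ f (f.base z₀)) (f.asFiber z₀) = n := by exact_mod_cast h3
      rw [this]

set_option backward.isDefEq.respectTransparency.types false in
/-- **S4923.** -/
theorem main_S4923 {X Y : Scheme.{u}} [IsLocallyNoetherian Y] (f : X ⟶ Y)
    [LocallyOfFiniteType f] [QuasiCompact f] (hf : IsOpenMap f.base) (y : Y) :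
    letI E : Y → Set (WithBot ℕ∞) := fun z =>
      (fun Z : Set ↥(f.fiber z) => topologicalKrullDim ↥Z) '' irreducibleComponents ↥(f.fiber z)
    (∀ η : Y, y ∈ closure {η} → closure {η} ∈ irreducibleComponents (Y : Type u) → E y = E η) →
      ∃ V ∈ nhds y, ∀ z ∈ V, E z = E y := by
  intro h0
  classical
  let E : Y → Set (WithBot ℕ∞) := fun z =>
    (fun Z : Set ↥(f.fiber z) => topologicalKrullDim ↥Z) '' irreducibleComponents ↥(f.fiber z)
  have h : ∀ η : Y, y ∈ closure {η} → closure {η} ∈ irreducibleComponents (Y : Type u) →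
      E y = E η := h0
  change ∃ V ∈ nhds y, ∀ z ∈ V, E z = E y
  have hopen : ∀ x : X, EGA43.IsOpenAt f.base x := isOpenAt_of_isOpenMap hf
  obtain ⟨N, hN⟩ := exists_nat_fibreDimAt_le f y
  obtain ⟨V₁, hyV₁, hV₁⟩ := exists_open_generic_of_isLocallyNoetherian y
  -- neighbourhoods for each value in `E y`
  have hVn : ∀ n : ℕ, ((n : ℕ) : WithBot ℕ∞) ∈ E y →
      ∃ V ∈ nhds y, ∀ z ∈ V, ((n : ℕ) : WithBot ℕ∞) ∈ E z := by
    intro n hn
    obtain ⟨z₀, n', hfz₀, hz₀max, hn', hnn'⟩ := (mem_E_iff f y _).mp hn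
    have hnn : n = n' := by exact_mod_cast hnn'
    subst hnn
    obtain ⟨n₀, hn₀, hfd⟩ := fibreDimAt_of_fibre_maximal f z₀ hz₀max
    have hn₀n : n₀ = n := by exact_mod_cast (hn₀.symm.trans hn')
    subst hn₀n
    have hnhds := image_mem_nhds f z₀ hz₀max
      (fun y' hy' => Groth.Agent.S3404.lift_of_isOpenAt f z₀ (hopen z₀) y' hy')
      {x : X | FlatMor.fibreDimAt f x ≤ ((n₀ : ℕ) : WithBot ℕ∞)}
      (isOpen_setOf_fibreDimAt_le f n₀) (le_of_eq hfd) n₀ (le_of_eq hfd.symm)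
    rw [hfz₀] at hnhds
    refine ⟨_, hnhds, ?_⟩
    rintro z ⟨x', ⟨hx'd, hx'U⟩, rfl⟩
    obtain ⟨z₁, m, hz₁x', hfz₁, hz₁max, hnm, hm⟩ := exists_fibre_max f x' n₀ hx'd
    have hz₁U : FlatMor.fibreDimAt f z₁ ≤ ((n₀ : ℕ) : WithBot ℕ∞) :=
      hz₁x'.mem_open (isOpen_setOf_fibreDimAt_le f n₀) hx'U
    have hmle : (m : WithBot ℕ∞) ≤ FlatMor.fibreDimAt f z₁ :=
      natCast_trdeg_le_fibreDimAt f z₁ z₁ specializes_rfl rfl m hm
    have hmn : m ≤ n₀ := by exact_mod_cast hmle.trans hz₁U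
    have hmeq : m = n₀ := le_antisymm hmn hnm
    exact (mem_E_iff f _ _).mpr ⟨z₁, m, hfz₁, hz₁max, hm, by rw [hmeq]⟩
  choose! Vn hVn1 hVn2 using hVn
  let W : ℕ → Set Y := fun n => if ((n : ℕ) : WithBot ℕ∞) ∈ E y then Vn n else Set.univ
  have hW : ∀ n, W n ∈ nhds y := by
    intro n
    by_cases hn : ((n : ℕ) : WithBot ℕ∞) ∈ E y
    · simp only [W, if_pos hn]; exact hVn1 n hn
    · simp only [W, if_neg hn]; exact Filter.univ_mem
  have hV₂ : (⋂ n ∈ Finset.range (N + 1), W n) ∈ nhds y :=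
    (Filter.biInter_finset_mem (Finset.range (N + 1))).mpr (fun n _ => hW n)
  refine ⟨(V₁ : Set Y) ∩ ⋂ n ∈ Finset.range (N + 1), W n,
    Filter.inter_mem (V₁.2.mem_nhds hyV₁) hV₂, ?_⟩
  rintro z ⟨hz1, hz2⟩
  apply Set.Subset.antisymm
  · -- `E z ⊆ E y`
    intro e he
    obtain ⟨z₀, n, hfz₀, hz₀max, hn, rfl⟩ := (mem_E_iff f z _).mp he
    obtain ⟨ξ₀, hξ₀z, hξ₀y⟩ := hV₁ z hz1
    obtain ⟨η, hηξ₀, hηmax⟩ := Groth.Agent.H71.DimFun.exists_generic_specializes Y ξ₀
    have hηz : η ⤳ f.base z₀ := by rw [hfz₀]; exact hηξ₀.trans hξ₀z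
    have hηy : η ⤳ y := hηξ₀.trans hξ₀y
    obtain ⟨ξ, m', hξz₀, hξmax, hfξ, hm1, hm2⟩ :=
      exists_generic_of_isOpenAt f z₀ hz₀max (hopen z₀) η hηz hηmax
    have hmm' : m' = n := by exact_mod_cast (hm1.symm.trans hn)
    rw [h η hηy.mem_closure (closure_mem_irreducibleComponents_of_forall hηmax)]
    exact (mem_E_iff f η _).mpr ⟨ξ, m', hfξ, fun z' _ hsp => hξmax z' hsp, hm2, by rw [hmm']⟩
  · -- `E y ⊆ E z`
    intro e he
    obtain ⟨z₀, n, hfz₀, hz₀max, hn, rfl⟩ := (mem_E_iff f y _).mp he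
    have hnN : n ≤ N := by
      have h1 : (n : WithBot ℕ∞) ≤ FlatMor.fibreDimAt f z₀ :=
        natCast_trdeg_le_fibreDimAt f z₀ z₀ specializes_rfl rfl n hn
      exact_mod_cast h1.trans (hN z₀ hfz₀)
    have hzW : z ∈ W n := by
      have := Set.mem_iInter₂.mp hz2 n (Finset.mem_range.mpr (Nat.lt_succ_of_le hnN))
      exact this
    simp only [W, if_pos he] at hzW
    exact hVn2 n he z hzW

end Groth.Agent.H60.GenOpenE
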