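import Mathlib
import Groth.Agent.H69.DirColim
import Groth.Agent.H15.NilPair.Base
import Groth.Agent.H15.NilPair.Sys
import Groth.Agent.H15.IntPair.Sys

set_option autoImplicit false
universe u
open CategoryTheory MvPolynomial Limits
open Groth.Agent.H69 Groth.Agent.H15.IntPair
open Groth.Agent.H15.NilPair (PS IT Cq mkq mkq_surjective mkq_eq_zero mkq_eq_zero_iff fp tr tr_mkq
  tr_refl tr_trans toE toE_mkq toE_tr gen_top X_mem_PS PS_mono dirNat)
open scoped Classical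

namespace Groth.Agent.H60.IntPair_KB

section transfer
variable {A : Type u} [CommRing A] {V : Type u}

theorem int_tr {S S' : Finset V} {T T' : Finset (MvPolynomial V A)} (hS : S ⊆ S') (hT : T ⊆ T')
    (q : MvPolynomial V A) (hq : q ∈ PS A S)
    (h : (algebraMap A (Cq S T)).IsIntegralElem (mkq S T ⟨q, hq⟩)) :
    (algebraMap A (Cq S' T')).IsIntegralElem (mkq S' T' ⟨q, PS_mono hS hq⟩) := by
  have h' : IsIntegral A (mkq S T ⟨q, hq⟩) := h
  have h2 := h'.map (tr (A := A) hS hT)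
  rw [tr_mkq] at h2
  exact h2

theorem bot_tr {S S' : Finset V} {T T' : Finset (MvPolynomial V A)} (hS : S ⊆ S') (hT : T ⊆ T')
    (q : MvPolynomial V A) (hq : q ∈ PS A S)
    (h : mkq S T ⟨q, hq⟩ ∈ (⊥ : Subalgebra A (Cq S T))) :
    mkq S' T' ⟨q, PS_mono hS hq⟩ ∈ (⊥ : Subalgebra A (Cq S' T')) := by
  obtain ⟨a, ha⟩ := Algebra.mem_bot.1 h
  refine Algebra.mem_bot.2 ⟨a, ?_⟩
  have h2 := congrArg (tr (A := A) hS hT) ha
  rw [AlgHom.commutes, tr_mkq] at h2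
  exact h2

theorem nil_tr {S S' : Finset V} {T T' : Finset (MvPolynomial V A)} (hS : S ⊆ S') (hT : T ⊆ T')
    (q : MvPolynomial V A) (hq : q ∈ PS A S) (h : IsNilpotent (mkq S T ⟨q, hq⟩)) :
    IsNilpotent (mkq S' T' ⟨q, PS_mono hS hq⟩) := by
  have h2 := h.map (tr (A := A) hS hT)
  rw [tr_mkq] at h2
  exact h2

end transfer

variable {A B C : Type u} [CommRing A] [CommRing B] [CommRing C] [Algebra A B] [Algebra A C]
  [Algebra B C] [IsScalarTower A B C]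

/-- (KB) -/
theorem ker_B : ∀ (j : J A B C) (x : FB j), toB j x = 0 →
    ∃ (k : J A B C) (h : j ≤ k), trB h x = 0 := by
  intro j x hx
  obtain ⟨⟨g, hg⟩, rfl⟩ := mkq_surjective _ _ x
  simp only [toB, toE_mkq] at hx
  let k : Raw A B C := ⟨j.1.Z, j.1.S, insert g j.1.TB, j.1.TC⟩
  have hjk : j.1 ≤ k := ⟨subset_rfl, subset_rfl, Finset.subset_insert _ _, subset_rfl⟩
  have hk : Valid k := by
    refine ⟨?_, ?_, ?_, ?_, ?_, ?_, ?_, ?_⟩
    · intro t ht
      rcases Finset.mem_insert.mp ht with rfl | ht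
      · exact ⟨hg, hx⟩
      · exact j.2.1 t ht
    · exact j.2.2.1
    · intro b hb
      exact int_tr (Raw.WB_mono hjk) (Raw.TB_mono hjk) _ _ (j.2.2.2.1 b hb)
    · intro c hc
      exact int_tr (Raw.WC_mono hjk) (Raw.TCC_mono hjk) _ _ (j.2.2.2.2.1 c hc)
    · intro hs b hb
      exact bot_tr (Raw.WB_mono hjk) (Raw.TB_mono hjk) _ _ (j.2.2.2.2.2.1 hs b hb)
    · exact j.2.2.2.2.2.2.1
    · intro hs b hb
      exact bot_tr (Raw.WC_mono hjk) (Raw.TCC_mono hjk) _ _ (j.2.2.2.2.2.2.2.1 hs b hb)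
    · intro hs hn x hxm
      exact nil_tr (Raw.WB_mono hjk) (Raw.TB_mono hjk) x.1 x.2
        (j.2.2.2.2.2.2.2.2 hs hn ⟨x.1, x.2⟩ hxm)
  refine ⟨⟨k, hk⟩, hjk, ?_⟩
  simp only [trB, tr_mkq]
  exact mkq_eq_zero _ (Finset.mem_insert_self _ _)

end Groth.Agent.H60.IntPair_KB
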