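import Mathlib

/-!
# (N0) for helper38's squad: triviality of the generic geometric fibre spreads out
-/

set_option autoImplicit false
universe u
open TensorProduct

namespace Groth.Agent.H60.IrrN0

/-- If `a • 1 = 0` in `B` and `a` is invertible in the field `K`, then `K ⊗[A] B` is trivial. -/
theorem subsingleton_of_smul_one_eq_zero {A B : Type u} [CommRing A] [CommRing B] [Algebra A B]
    (a : A) (ha : a • (1 : B) = 0) (K : Type u) [Field K] [Algebra A K]
    (hK : algebraMap A K a ≠ 0) : Subsingleton (K ⊗[A] B) := by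
  have h1 : ((1 : K) ⊗ₜ[A] (1 : B)) = 0 := by
    have e : (1 : K) = a • (algebraMap A K a)⁻¹ := by
      rw [Algebra.smul_def, mul_inv_cancel₀ hK]
    rw [e, TensorProduct.smul_tmul, ha, TensorProduct.tmul_zero]
  refine subsingleton_of_zero_eq_one ?_
  rw [Algebra.TensorProduct.one_def, h1]

/-- (N0) -/
theorem subsingleton_spread {A B : Type u} [CommRing A] [IsDomain A] [CommRing B] [Algebra A B]
    {Ω : Type u} [Field Ω] [Algebra A Ω]
    (hinj : Function.Injective (algebraMap A Ω)) (h : Subsingleton (Ω ⊗[A] B)) :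
    ∃ a : A, a ≠ 0 ∧ ∀ (K : Type u) [Field K] [Algebra A K], algebraMap A K a ≠ 0 →
      Subsingleton (K ⊗[A] B) := by
  classical
  let F := FractionRing A
  letI : Algebra F Ω := (IsFractionRing.lift hinj).toAlgebra
  have hst : IsScalarTower A F Ω := IsScalarTower.of_algebraMap_eq fun x => by
    change algebraMap A Ω x = (IsFractionRing.lift hinj) (algebraMap A F x)
    rw [IsFractionRing.lift_algebraMap]
  -- the `F`-linear inclusion `F → Ω` splits
  let i : F →ₗ[F] Ω := Algebra.linearMap F Ω
  have hi : LinearMap.ker i = ⊥ :=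
    LinearMap.ker_eq_bot.mpr (algebraMap F Ω).injective
  obtain ⟨r, hr⟩ := i.exists_leftInverse_of_injective hi
  let iA : F →ₗ[A] Ω := i.restrictScalars A
  let rA : Ω →ₗ[A] F := r.restrictScalars A
  have hri : rA ∘ₗ iA = LinearMap.id := by
    ext x
    exact LinearMap.congr_fun hr x
  -- hence `F ⊗[A] B` is a retract of `Ω ⊗[A] B`
  have hsub : Subsingleton (F ⊗[A] B) := by
    have hcomp : (rA.rTensor B) ∘ₗ (iA.rTensor B) = LinearMap.id := by
      rw [← LinearMap.rTensor_comp, hri, LinearMap.rTensor_id]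
    refine ⟨fun x y => ?_⟩
    have hx : x = rA.rTensor B (iA.rTensor B x) := (LinearMap.congr_fun hcomp x).symm
    have hy : y = rA.rTensor B (iA.rTensor B y) := (LinearMap.congr_fun hcomp y).symm
    rw [hx, hy, Subsingleton.elim (iA.rTensor B x) (iA.rTensor B y)]
  -- so `1 ⊗ 1 = 0` in the localization of `B`
  have h0 : (TensorProduct.mk A F B 1) (1 : B) = 0 := Subsingleton.elim _ _
  obtain ⟨s, hs⟩ := (IsLocalizedModule.eq_zero_iff (nonZeroDivisors A)
    (TensorProduct.mk A F B 1)).mp h0
  refine ⟨s.1, nonZeroDivisors.ne_zero s.2, fun K _ _ hK => ?_⟩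
  exact subsingleton_of_smul_one_eq_zero s.1 hs K hK

end Groth.Agent.H60.IrrN0
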