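import Mathlib

/-!
# (BC) for helper85's S17076 squad: base change of a morphism that is an isomorphism over an open
along a morphism landing in that open
-/

set_option autoImplicit false
universe u
open CategoryTheory CategoryTheory.Limits AlgebraicGeometry TensorProduct

namespace Groth.Agent.H60.IsoLoc

/-- (BC) -/
theorem isIso_pullback_snd_of_range_subset {X Y T : Scheme.{u}} (f : X ⟶ Y) (W : Y.Opens)
    [IsIso (f ∣_ W)] (t : T ⟶ Y) (ht : Set.range t ⊆ (W : Set Y)) :
    IsIso (pullback.snd f t) := by
  have hr : Set.range t ⊆ Set.range W.ι := by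
    rw [Scheme.Opens.range_ι]
    exact ht
  let t' : T ⟶ W := IsOpenImmersion.lift W.ι t hr
  have ht' : t' ≫ W.ι = t := IsOpenImmersion.lift_fac _ _ _
  let a : pullback f t ⟶ (f ⁻¹ᵁ W : X.Opens) :=
    (isPullback_morphismRestrict f W).lift (pullback.snd f t ≫ t') (pullback.fst f t) (by
      rw [Category.assoc, ht', pullback.condition])
  have ha1 : a ≫ (f ⁻¹ᵁ W).ι = pullback.fst f t := IsPullback.lift_snd _ _ _ _
  have ha2 : a ≫ f ∣_ W = pullback.snd f t ≫ t' := IsPullback.lift_fst _ _ _ _
  have houter : IsPullback (a ≫ (f ⁻¹ᵁ W).ι) (pullback.snd f t) f (t' ≫ W.ι) := by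
    rw [ha1, ht']
    exact IsPullback.of_hasPullback f t
  have hleft : IsPullback a (pullback.snd f t) (f ∣_ W) t' :=
    IsPullback.of_right houter ha2 (isPullback_morphismRestrict f W).flip
  exact (MorphismProperty.of_isPullback (P := MorphismProperty.isomorphisms Scheme) hleft
    (inferInstanceAs (IsIso (f ∣_ W))))

end Groth.Agent.H60.IsoLoc
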