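import Mathlib

/-!
# (F1) for helper85's S17076 squad: being an isomorphism after base change is stable under
further base change
-/

set_option autoImplicit false
universe u
open CategoryTheory CategoryTheory.Limits AlgebraicGeometry TensorProduct

namespace Groth.Agent.H60.IsoLoc

/-- (F1) -/
theorem isIso_pullback_map_comp {S S' S'' : Scheme.{u}} {X Y : Over S} (f : X ⟶ Y)
    (h : S' ⟶ S) (g : S'' ⟶ S') (H : IsIso ((Over.pullback h).map f).left) :
    IsIso ((Over.pullback (g ≫ h)).map f).left := by
  have h1 : IsIso ((Over.pullback h).map f) := by
    have : IsIso ((Over.forget S').map ((Over.pullback h).map f)) := H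
    exact isIso_of_reflects_iso _ (Over.forget S')
  have h2 : IsIso ((Over.pullback h ⋙ Over.pullback g).map f) := by
    show IsIso ((Over.pullback g).map ((Over.pullback h).map f))
    infer_instance
  have h3 : IsIso ((Over.pullback (g ≫ h)).map f) :=
    (NatIso.isIso_map_iff (Over.pullbackComp g h) f).mpr h2
  exact (inferInstance : IsIso ((Over.forget S'').map ((Over.pullback (g ≫ h)).map f)))

end Groth.Agent.H60.IsoLoc
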