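import Mathlib

/-!
# (FR) for helper85's S17076 squad: a morphism finite over an open `W` is affine and finite on
sections over every affine open inside `W`
-/

set_option autoImplicit false
universe u
open CategoryTheory CategoryTheory.Limits AlgebraicGeometry TensorProduct

namespace Groth.Agent.H60.IsoLoc

theorem finite_appLE_congr {X Y : Scheme.{u}} (f : X ⟶ Y) {U U' : Y.Opens} {V V' : X.Opens}
    (hU : U' = U) (hV : V' = V) (e : V ≤ f ⁻¹ᵁ U) (e' : V' ≤ f ⁻¹ᵁ U')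
    (h : (f.appLE U V e).hom.Finite) : (f.appLE U' V' e').hom.Finite := by
  subst hU
  subst hV
  exact h

set_option backward.isDefEq.respectTransparency.types false in
/-- Finiteness over `W` restricts to smaller opens. -/
theorem isFinite_morphismRestrict_of_le {X Y : Scheme.{u}} (f : X ⟶ Y) (W U : Y.Opens)
    [IsFinite (f ∣_ W)] (hUW : U ≤ W) : IsFinite (f ∣_ U) := by
  have e : W.ι ''ᵁ (W.ι ⁻¹ᵁ U) = U := by
    simpa [Scheme.Hom.image_preimage_eq_opensRange_inf] using hUW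
  have h1 : IsFinite (f ∣_ W ∣_ (W.ι ⁻¹ᵁ U)) := inferInstance
  have h2 : IsFinite (f ∣_ (W.ι ''ᵁ (W.ι ⁻¹ᵁ U))) :=
    ((MorphismProperty.arrow_mk_iso_iff @IsFinite
      (morphismRestrictRestrict f W (W.ι ⁻¹ᵁ U))).mp h1)
  exact (MorphismProperty.arrow_mk_iso_iff @IsFinite (morphismRestrictEq f e)).mp h2

set_option backward.isDefEq.respectTransparency false in
/-- (FR) -/
theorem affine_finite_of_isFinite_morphismRestrict {X Y : Scheme.{u}} (f : X ⟶ Y)
    (W U : Y.Opens) [IsFinite (f ∣_ W)] (hUW : U ≤ W) (hU : IsAffineOpen U) :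
    IsAffineOpen (f ⁻¹ᵁ U) ∧ (f.app U).hom.Finite := by
  have hfin : IsFinite (f ∣_ U) := isFinite_morphismRestrict_of_le f W U hUW
  have : IsAffine ↑U := hU
  have h := (HasAffineProperty.iff_of_isAffine (P := @IsFinite) (f := f ∣_ U)).mp hfin
  refine ⟨h.1, ?_⟩
  have h1 : (f ∣_ U).appTop = f.appLE (U.ι ''ᵁ ⊤) ((f ⁻¹ᵁ U).ι ''ᵁ ((f ∣_ U) ⁻¹ᵁ ⊤))
      (image_morphismRestrict_preimage f U ⊤).le := morphismRestrict_app' f U ⊤
  have h2 := h.2
  rw [h1] at h2
  rw [Scheme.Hom.app_eq_appLE]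
  exact finite_appLE_congr f (U := U.ι ''ᵁ ⊤) (V := (f ⁻¹ᵁ U).ι ''ᵁ ((f ∣_ U) ⁻¹ᵁ ⊤))
    (by simp) (by simp) _ _ h2

end Groth.Agent.H60.IsoLoc
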