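import Mathlib

/-!
# (GA) for helper85's S17076 squad: a morphism is an isomorphism over an affine open with affine
preimage as soon as the map on sections is bijective
-/

set_option autoImplicit false
universe u
open CategoryTheory CategoryTheory.Limits AlgebraicGeometry TensorProduct

namespace Groth.Agent.H60.IsoLoc

theorem bijective_appLE_congr {X Y : Scheme.{u}} (f : X ⟶ Y) {U U' : Y.Opens} {V V' : X.Opens}
    (hU : U' = U) (hV : V' = V) (e : V ≤ f ⁻¹ᵁ U) (e' : V' ≤ f ⁻¹ᵁ U')
    (h : Function.Bijective (f.appLE U V e).hom) : Function.Bijective (f.appLE U' V' e').hom := by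
  subst hU
  subst hV
  exact h

set_option backward.isDefEq.respectTransparency false in
/-- (GA) -/
theorem isIso_morphismRestrict_of_bijective_appLE {X Y : Scheme.{u}} (f : X ⟶ Y) (U : Y.Opens)
    (V : X.Opens) (e : V = f ⁻¹ᵁ U) (hU : IsAffineOpen U) (hV : IsAffineOpen V)
    (h : Function.Bijective (f.appLE U V e.le).hom) : IsIso (f ∣_ U) := by
  subst e
  have : IsAffine ↑U := hU
  have : IsAffine ↑(f ⁻¹ᵁ U) := hV
  rw [← MorphismProperty.isomorphisms.iff,
    HasAffineProperty.iff_of_isAffine (P := MorphismProperty.isomorphisms Scheme)]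
  refine ⟨inferInstance, ?_⟩
  rw [ConcreteCategory.isIso_iff_bijective]
  have h1 : (f ∣_ U).appTop = f.appLE (U.ι ''ᵁ ⊤) ((f ⁻¹ᵁ U).ι ''ᵁ ((f ∣_ U) ⁻¹ᵁ ⊤))
      (image_morphismRestrict_preimage f U ⊤).le := morphismRestrict_app' f U ⊤
  rw [h1]
  exact bijective_appLE_congr f (by simp) (by simp) _ _ h

end Groth.Agent.H60.IsoLoc
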