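import Mathlib

/-!
# (GL) for helper85's S17076 squad: being an isomorphism over an open is local on that open
-/

set_option autoImplicit false
universe u
open CategoryTheory CategoryTheory.Limits AlgebraicGeometry TensorProduct

namespace Groth.Agent.H60.IsoLoc

/-- If `f` restricts to an isomorphism over `U`, it does so over every smaller open. -/
theorem isIso_morphismRestrict_of_le {X Y : Scheme.{u}} (f : X ⟶ Y) (U U' : Y.Opens) (h : U' ≤ U)
    [IsIso (f ∣_ U)] : IsIso (f ∣_ U') := by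
  have e : U.ι ''ᵁ (U.ι ⁻¹ᵁ U') = U' := by
    simpa [Scheme.Hom.image_preimage_eq_opensRange_inf] using h
  have h1 : IsIso (f ∣_ U ∣_ (U.ι ⁻¹ᵁ U')) := inferInstance
  have h2 : IsIso (f ∣_ (U.ι ''ᵁ (U.ι ⁻¹ᵁ U'))) :=
    ((MorphismProperty.isomorphisms Scheme).arrow_mk_iso_iff
      (morphismRestrictRestrict f U (U.ι ⁻¹ᵁ U'))).mp h1
  exact ((MorphismProperty.isomorphisms Scheme).arrow_mk_iso_iff (morphismRestrictEq f e)).mp h2

/-- (GL) -/
theorem isIso_morphismRestrict_of_forall_exists {X Y : Scheme.{u}} (f : X ⟶ Y) (W : Y.Opens)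
    (H : ∀ y ∈ W, ∃ U : Y.Opens, y ∈ U ∧ IsIso (f ∣_ U)) : IsIso (f ∣_ W) := by
  choose U hyU hU using H
  refine IsZariskiLocalAtTarget.of_iSup_eq_top (P := MorphismProperty.isomorphisms Scheme)
    (fun y : W => W.ι ⁻¹ᵁ (U y.1 y.2)) ?_ (fun y => ?_)
  · rw [eq_top_iff]
    intro z _
    exact TopologicalSpace.Opens.mem_iSup.mpr ⟨z, hyU z.1 z.2⟩
  · have h3 : IsIso (f ∣_ (W.ι ''ᵁ (W.ι ⁻¹ᵁ (U y.1 y.2)))) := by
      have := hU y.1 y.2
      refine isIso_morphismRestrict_of_le f (U y.1 y.2) _ ?_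
      simp [Scheme.Hom.image_preimage_eq_opensRange_inf]
    exact ((MorphismProperty.isomorphisms Scheme).arrow_mk_iso_iff
      (morphismRestrictRestrict f W (W.ι ⁻¹ᵁ (U y.1 y.2)))).mpr h3

end Groth.Agent.H60.IsoLoc
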