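import Groth.Agent.H34.KeyDefs
import Groth.Agent.S1848
import Groth.Agent.S1851
import Groth.Agent.H85.CycOpen
import Groth.Agent.H95.StalkPrimes

/-!
# (S2b) for helper34's S1920 squad, core: the key lemma S1851 on a scheme, for elements of the local
ring at `x`, given the termwise comparison (S2a) as a hypothesis
-/

set_option autoImplicit false
set_option linter.style.haveILetI false

universe u

open CategoryTheory AlgebraicGeometry TopologicalSpace Opposite

namespace Groth.Agent.H60.Key_S2b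

variable {X : Scheme.{u}} [IsIntegral X]

open Classical in
/-- (S2b) with (S2a) as a hypothesis. -/
theorem skl_elem_of_term [IsLocallyNoetherian X] (x : X)
    (hx : ringKrullDim (X.presheaf.stalk x) = 2)
    (a b : X.presheaf.stalk x) (ha : a ≠ 0) (hb : b ≠ 0)
    (hterm : ∀ (ξ : X) (h : ξ ⤳ x), ringKrullDim (X.presheaf.stalk ξ) = 1 →
      ∀ (q : Ideal (X.presheaf.stalk x)) [q.IsPrime], q = RingHom.ker (Cyc.specMap x ξ h) →
      CycAlg.ordFrac (X.presheaf.stalk x ⧸ q) q.ResidueField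
        (CycAlg.tameSymbol (Localization.AtPrime q)
          (algebraMap (X.presheaf.stalk x) (Localization.AtPrime q) a)
          (algebraMap (X.presheaf.stalk x) (Localization.AtPrime q) b)) =
      Cyc.ordAt x ξ h (CycAlg.tameSymbol (X.presheaf.stalk ξ)
        ((X.presheaf.stalkSpecializes h).hom a) ((X.presheaf.stalkSpecializes h).hom b))) :
    ∑ᶠ ξ : X, (if h : ξ ⤳ x ∧ ringKrullDim (X.presheaf.stalk ξ) = 1 then
      Cyc.ordAt x ξ h.1 (CycAlg.tameSymbol (X.presheaf.stalk ξ)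
        ((X.presheaf.stalkSpecializes h.1).hom a) ((X.presheaf.stalkSpecializes h.1).hom b))
      else 0) = 0 := by
  have hS := Groth.Agent.S1851.result (X.presheaf.stalk x) hx a b
    (mem_nonZeroDivisors_of_ne_zero ha) (mem_nonZeroDivisors_of_ne_zero hb)
  refine Eq.trans ?_ hS
  -- both sides as sums over subtypes
  let F : X → ℤ := fun ξ => if h : ξ ⤳ x ∧ ringKrullDim (X.presheaf.stalk ξ) = 1 then
      Cyc.ordAt x ξ h.1 (CycAlg.tameSymbol (X.presheaf.stalk ξ)
        ((X.presheaf.stalkSpecializes h.1).hom a) ((X.presheaf.stalkSpecializes h.1).hom b))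
      else 0
  let T : PrimeSpectrum (X.presheaf.stalk x) → ℤ := fun q =>
    CycAlg.ordFrac (X.presheaf.stalk x ⧸ q.asIdeal) q.asIdeal.ResidueField
      (CycAlg.tameSymbol (Localization.AtPrime q.asIdeal)
        (algebraMap (X.presheaf.stalk x) (Localization.AtPrime q.asIdeal) a)
        (algebraMap (X.presheaf.stalk x) (Localization.AtPrime q.asIdeal) b))
  show ∑ᶠ ξ : X, F ξ =
    ∑ᶠ (q : PrimeSpectrum (X.presheaf.stalk x)) (_ : q.asIdeal.height = 1), T q
  have hL : ∑ᶠ ξ : X, F ξ =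
      ∑ᶠ ξ : {ξ : X // ξ ⤳ x ∧ ringKrullDim (X.presheaf.stalk ξ) = 1}, F ξ.1 := by
    rw [finsum_subtype_eq_finsum_cond
      (fun ξ : X => ξ ⤳ x ∧ ringKrullDim (X.presheaf.stalk ξ) = 1)]
    refine finsum_congr fun ξ => ?_
    rw [finsum_eq_if]
    split_ifs with hs
    · rfl
    · exact dif_neg hs
  have hR : ∑ᶠ (q : PrimeSpectrum (X.presheaf.stalk x)) (_ : q.asIdeal.height = 1), T q =
      ∑ᶠ q : {q : PrimeSpectrum (X.presheaf.stalk x) // q.asIdeal.height = 1}, T q.1 :=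
    (finsum_subtype_eq_finsum_cond
      (fun q : PrimeSpectrum (X.presheaf.stalk x) => q.asIdeal.height = 1)).symm
  rw [hL, hR]
  have hker : ∀ (ξ : X) (h : ξ ⤳ x), RingHom.ker (Cyc.specMap x ξ h) =
      (IsLocalRing.maximalIdeal (X.presheaf.stalk ξ)).comap (X.presheaf.stalkSpecializes h).hom :=
    fun ξ h => Groth.Agent.H95.CycZero.ker_specMap h
  refine finsum_eq_of_bijective
    (fun ξ : {ξ : X // ξ ⤳ x ∧ ringKrullDim (X.presheaf.stalk ξ) = 1} =>
      (⟨⟨RingHom.ker (Cyc.specMap x ξ.1 ξ.2.1), RingHom.ker_isPrime _⟩, by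
        show (RingHom.ker (Cyc.specMap x ξ.1 ξ.2.1)).height = 1
        rw [hker]
        exact Groth.Agent.H95.StalkPrimes.height_eq_one_of_dim_eq_one ξ.2.1 ξ.2.2⟩ :
        {q : PrimeSpectrum (X.presheaf.stalk x) // q.asIdeal.height = 1})) ⟨?_, ?_⟩ ?_
  · rintro ⟨ξ, hξ⟩ ⟨ξ', hξ'⟩ e
    have e1 : RingHom.ker (Cyc.specMap x ξ hξ.1) = RingHom.ker (Cyc.specMap x ξ' hξ'.1) :=
      congrArg (fun z : {q : PrimeSpectrum (X.presheaf.stalk x) // q.asIdeal.height = 1} =>
        z.1.asIdeal) e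
    exact Subtype.ext (Groth.Agent.H95.CycZero.eq_of_ker_specMap_eq hξ.1 hξ'.1 e1)
  · rintro ⟨q, hq⟩
    haveI := q.2
    obtain ⟨ζ, h, hd, hζ⟩ :=
      Groth.Agent.H95.StalkPrimes.exists_generization_of_height_one x q.asIdeal hq
    refine ⟨⟨ζ, h, hd⟩, Subtype.ext (PrimeSpectrum.ext ?_)⟩
    show RingHom.ker (Cyc.specMap x ζ h) = q.asIdeal
    rw [hker, hζ]
  · rintro ⟨ξ, hξ⟩
    show F ξ = _
    have hFξ : F ξ = Cyc.ordAt x ξ hξ.1 (CycAlg.tameSymbol (X.presheaf.stalk ξ)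
        ((X.presheaf.stalkSpecializes hξ.1).hom a) ((X.presheaf.stalkSpecializes hξ.1).hom b)) :=
      dif_pos hξ
    rw [hFξ]
    haveI : (RingHom.ker (Cyc.specMap x ξ hξ.1)).IsPrime := RingHom.ker_isPrime _
    exact (hterm ξ hξ.1 hξ.2 (RingHom.ker (Cyc.specMap x ξ hξ.1)) rfl).symm

end Groth.Agent.H60.Key_S2b
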