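import Mathlib
import Groth.Agent.H38.NormalConn

/-!
# A connected locally Noetherian scheme with normal local rings is integral (piece (LS-INT))
-/

set_option autoImplicit false
set_option linter.style.haveILetI false
universe u
open CategoryTheory Limits AlgebraicGeometry

namespace Groth.Agent.H60.LS_INT

theorem isIntegral_of_normal {S : Scheme.{u}} [ConnectedSpace S] [IsLocallyNoetherian S]
    (hnorm : ∀ x : S, IsDomain (S.presheaf.stalk x) ∧ IsIntegrallyClosed (S.presheaf.stalk x)) :
    IsIntegral S := by
  haveI : IrreducibleSpace S :=
    Groth.Agent.H38.NormalConn.irreducibleSpace_of_normal_connected S hnorm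
  haveI : ∀ x : S, _root_.IsReduced (S.presheaf.stalk x) := fun x => by
    haveI := (hnorm x).1
    infer_instance
  haveI : IsReduced S := isReduced_of_isReduced_stalk S
  exact isIntegral_of_irreducibleSpace_of_isReduced S

end Groth.Agent.H60.LS_INT
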