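import Mathlib
import Groth.Prelude.Def_Red2

/-!
# The structure map of a Zariski-locally split torus is open (piece (LS-OPEN) for helper43)
-/

set_option autoImplicit false
set_option linter.style.haveILetI false
universe u
open CategoryTheory Limits MonoidalCategory CartesianMonoidalCategory MonObj GrpObj AlgebraicGeometry

namespace Groth.Agent.H60.LS_OPEN

/-- `Spec ℤ[ℤ^r] ⟶ Spec ℤ` is universally open (flat and of finite presentation). -/
theorem universallyOpen_diag (r : ℕ) :
    UniversallyOpen (Red.diag (ULift.{u} ℤ) (Fin r → ℤ)).hom := by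
  haveI : IsNoetherianRing (ULift.{u} ℤ) := isNoetherianRing_of_ringEquiv ℤ ULift.ringEquiv.symm
  have hFP : Algebra.FinitePresentation (ULift.{u} ℤ)
      (MonoidAlgebra (ULift.{u} ℤ) (Multiplicative (Fin r → ℤ))) := by
    haveI : Monoid.FG (Multiplicative (Fin r → ℤ)) := inferInstance
    haveI : Algebra.FiniteType (ULift.{u} ℤ)
        (MonoidAlgebra (ULift.{u} ℤ) (Multiplicative (Fin r → ℤ))) := inferInstance
    exact Algebra.FinitePresentation.of_finiteType.1 inferInstance
  have hfl : Flat (Red.diag (ULift.{u} ℤ) (Fin r → ℤ)).hom := by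
    change Flat (Spec.map (CommRingCat.ofHom (algebraMap (ULift.{u} ℤ)
      (MonoidAlgebra (ULift.{u} ℤ) (Multiplicative (Fin r → ℤ))))))
    rw [HasRingHomProperty.Spec_iff (P := @Flat)]
    exact RingHom.flat_algebraMap_iff.2 inferInstance
  have hfp : LocallyOfFinitePresentation (Red.diag (ULift.{u} ℤ) (Fin r → ℤ)).hom := by
    change LocallyOfFinitePresentation (Spec.map (CommRingCat.ofHom (algebraMap (ULift.{u} ℤ)
      (MonoidAlgebra (ULift.{u} ℤ) (Multiplicative (Fin r → ℤ))))))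
    rw [HasRingHomProperty.Spec_iff (P := @LocallyOfFinitePresentation)]
    exact RingHom.finitePresentation_algebraMap.2 hFP
  infer_instance

/-- (LS-OPEN) -/
theorem isOpenMap_of_locSplit {S : Scheme.{u}} {T : Over S} [GrpObj T]
    (hT : ∀ s : S, ∃ U : S.Opens, s ∈ U ∧ ∃ r : ℕ,
      Red.IsSplitTorusWith (Fin r → ℤ) (Red.bc U.ι T)) : IsOpenMap T.hom.base := by
  intro W hW
  rw [isOpen_iff_forall_mem_open]
  rintro _ ⟨t, htW, rfl⟩
  obtain ⟨U, hsU, r, ⟨e⟩⟩ := hT (T.hom.base t)
  let e' : Red.bc U.ι T ≅ Red.DS (U : Scheme.{u}) (Fin r → ℤ) := (Grp.forget _).mapIso e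
  let q : pullback T.hom U.ι ⟶ (U : Scheme.{u}) := pullback.snd T.hom U.ι
  have hq : q = e'.hom.left ≫ (Red.DS (U : Scheme.{u}) (Fin r → ℤ)).hom :=
    (Over.w e'.hom).symm
  haveI := universallyOpen_diag.{u} r
  haveI : UniversallyOpen (Red.DS (U : Scheme.{u}) (Fin r → ℤ)).hom := by
    change UniversallyOpen (pullback.snd (Red.diag (ULift.{u} ℤ) (Fin r → ℤ)).hom _)
    infer_instance
  have hopen : IsOpenMap q.base := by
    haveI : IsIso e'.hom.left :=
      (inferInstance : IsIso ((Over.forget (U : Scheme.{u})).map e'.hom))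
    rw [hq, Scheme.Hom.comp_base, TopCat.coe_comp]
    exact ((Red.DS (U : Scheme.{u}) (Fin r → ℤ)).hom.isOpenMap).comp
      e'.hom.left.isOpenEmbedding.isOpenMap
  refine ⟨U.ι.base '' (q.base '' ((pullback.fst T.hom U.ι).base ⁻¹' W)), ?_, ?_, ?_⟩
  · rintro _ ⟨_, ⟨p, hp, rfl⟩, rfl⟩
    refine ⟨(pullback.fst T.hom U.ι).base p, hp, ?_⟩
    have := congr($(pullback.condition (f := T.hom) (g := U.ι)).base p)
    exact this
  · exact U.ι.isOpenEmbedding.isOpenMap _
      (hopen _ (hW.preimage (pullback.fst T.hom U.ι).continuous))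
  · obtain ⟨p, hp1, hp2⟩ := Scheme.Pullback.exists_preimage_pullback (f := T.hom) (g := U.ι) t
      ⟨T.hom.base t, hsU⟩ rfl
    refine ⟨q.base p, ⟨p, ?_, rfl⟩, ?_⟩
    · change (pullback.fst T.hom U.ι).base p ∈ W
      rw [hp1]
      exact htW
    · change U.ι.base ((pullback.snd T.hom U.ι).base p) = _
      rw [hp2]
      rfl

end Groth.Agent.H60.LS_OPEN
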