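import Mathlib
import Groth.Prelude.Def_Flat
import Groth.Prelude.Def_Cyc
import Groth.Agent.H60.FlatDim
import Groth.Agent.H9.SchemeDimStalk
import Groth.Agent.H9.FibDimRing

/-!
# Local dimension of the source of a flat morphism of relative dimension `d`
-/

set_option autoImplicit false
universe u

open CategoryTheory CategoryTheory.Limits AlgebraicGeometry TopologicalSpace

namespace Groth.Agent.H60.LocalDimFlat

open Groth.Agent.H54 Groth.Agent.H60.Miracle Groth.Agent.H60.FlatDim

theorem iSup_add_nat_le {ι : Sort*} (g : ι → WithBot ℕ∞) (d : ℕ) (c : WithBot ℕ∞)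
    (h : ∀ i, g i + (d : WithBot ℕ∞) ≤ c) : (⨆ i, g i) + (d : WithBot ℕ∞) ≤ c := by
  induction c using WithBot.recBotCoe with
  | bot =>
    have hg : ∀ i, g i = ⊥ := fun i => by
      have h1 := h i
      rw [le_bot_iff, WithBot.add_eq_bot] at h1
      rcases h1 with h1 | h1
      · exact h1
      · exact absurd h1 (by simp)
    simp [hg]
  | coe c =>
    induction c using ENat.recTopCoe with
    | top => exact le_top
    | coe n =>
      have key : ∀ i, g i = ⊥ ∨ (d ≤ n ∧ g i ≤ (((n - d : ℕ) : ℕ∞) : WithBot ℕ∞)) := by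
        intro i
        have h1 := h i
        induction hgi : g i using WithBot.recBotCoe with
        | bot => exact Or.inl rfl
        | coe a =>
          right
          rw [hgi] at h1
          induction a using ENat.recTopCoe with
          | top =>
            exfalso
            have : ((⊤ : ℕ∞) : WithBot ℕ∞) + (d : WithBot ℕ∞) = ((⊤ : ℕ∞) : WithBot ℕ∞) := by
              norm_cast
            rw [this] at h1
            have h2 : (⊤ : ℕ∞) ≤ (n : ℕ∞) := by exact_mod_cast h1
            simp at h2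
          | coe m =>
            have h2 : m + d ≤ n := by exact_mod_cast h1
            refine ⟨by omega, ?_⟩
            have : m ≤ n - d := by omega
            exact_mod_cast this
      by_cases hdn : d ≤ n
      · have h1 : ∀ i, g i ≤ (((n - d : ℕ) : ℕ∞) : WithBot ℕ∞) := fun i => by
          rcases key i with h0 | ⟨-, h0⟩
          · rw [h0]; exact bot_le
          · exact h0
        calc (⨆ i, g i) + (d : WithBot ℕ∞) ≤ (((n - d : ℕ) : ℕ∞) : WithBot ℕ∞) + (d : WithBot ℕ∞) :=
              add_le_add_left (iSup_le h1) _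
          _ = ((n : ℕ∞) : WithBot ℕ∞) := by
              have h2 : n - d + d = n := by omega
              have : (d : WithBot ℕ∞) = ((d : ℕ∞) : WithBot ℕ∞) := rfl
              rw [this, ← WithBot.coe_add]
              exact_mod_cast h2
      · have hg : ∀ i, g i = ⊥ := fun i => by
          rcases key i with h0 | ⟨h0, -⟩
          · exact h0
          · exact absurd h0 hdn
        simp [hg]

/-- The dimension of an open subset of a scheme is the supremum of the dimensions of the
local rings at its points. -/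
theorem dim_opens_eq_iSup {Z : Scheme.{u}} (W : Z.Opens) :
    topologicalKrullDim ((W : Set Z)) =
      ⨆ w : W, ((Order.coheight (w : Z) : ℕ∞) : WithBot ℕ∞) := by
  have h := Groth.Agent.H9.FibDim.topologicalKrullDim_eq_iSup_stalk W.toScheme
  refine h.trans ?_
  refine iSup_congr fun w => ?_
  rw [ringKrullDim_stalk_eq_coheight, ← coheight_eq_of_isOpenImmersion W.ι]
  rfl

/-- For `f` flat, locally of finite type, of relative dimension `d` between locally Noetherian
schemes, `dim U = dim f(U) + d` for every open `U`. -/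
theorem dim_opens_eq {X Y : Scheme.{u}} [IsLocallyNoetherian X] [IsLocallyNoetherian Y]
    (f : X ⟶ Y) [Flat f] [LocallyOfFiniteType f] (d : ℕ) (hd : Cyc.HasRelDim f d)
    (U : X.Opens) (V : Y.Opens) (hV : (V : Set Y) = f.base '' (U : Set X)) :
    topologicalKrullDim ((U : Set X)) =
      topologicalKrullDim ((V : Set Y)) + (d : WithBot ℕ∞) := by
  rw [dim_opens_eq_iSup U, dim_opens_eq_iSup V]
  apply le_antisymm
  · apply iSup_le
    intro u
    have h1 := coheight_eq_add_of_flat f (f.base u.1) (f.asFiber u.1)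
    rw [f.fiberι_asFiber] at h1
    have h2 := tdeg_add_coheight_eq (fiberQ f (f.base u.1)) d (hd _) (f.asFiber u.1)
    have h3 : (Order.coheight (f.asFiber u.1) : ℕ∞) ≤ d := by rw [← h2]; exact le_add_self
    rw [h1]
    have hfu : f.base u.1 ∈ V := by
      rw [← SetLike.mem_coe, hV]; exact ⟨u.1, u.2, rfl⟩
    calc _ ≤ ((Order.coheight (f.base u.1) : ℕ∞) : WithBot ℕ∞) + (d : WithBot ℕ∞) :=
          add_le_add_right (by exact_mod_cast h3) _
      _ ≤ _ := add_le_add_left
          (le_iSup (fun v : V => ((Order.coheight (v : Y) : ℕ∞) : WithBot ℕ∞))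
            ⟨f.base u.1, hfu⟩) _
  · apply iSup_add_nat_le
    intro v
    obtain ⟨u, huU, huv⟩ : (v : Y) ∈ f.base '' (U : Set X) := by rw [← hV]; exact v.2
    have hne : ((f.fiberι v.1).base ⁻¹' (U : Set X)).Nonempty := by
      have : u ∈ Set.range (f.fiberι v.1).base := by rw [f.range_fiberι]; exact huv
      obtain ⟨z, hz⟩ := this
      exact ⟨z, by simpa [hz] using huU⟩
    have hopen : IsOpen ((f.fiberι v.1).base ⁻¹' (U : Set X)) :=
      U.2.preimage (f.fiberι v.1).continuous
    obtain ⟨z, hzU, hzcl⟩ := nonempty_inter_closedPoints hne hopen.isLocallyClosed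
    have htd := tdeg_eq_zero_of_isClosed (fiberQ f v.1) z hzcl
    have h2 := tdeg_add_coheight_eq (fiberQ f v.1) d (hd v.1) z
    rw [htd] at h2
    simp only [Nat.cast_zero, zero_add] at h2
    have h1 := coheight_eq_add_of_flat f v.1 z
    have hfz : f.base (f.fiberι v.1 z) = v.1 := fiberι_mem f v.1 z
    rw [hfz, h2] at h1
    have h1' : ((Order.coheight (v : Y) : ℕ∞) : WithBot ℕ∞) + (d : WithBot ℕ∞) =
        ((Order.coheight (f.fiberι v.1 z) : ℕ∞) : WithBot ℕ∞) := by
      rw [h1]; rfl
    rw [h1']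
    exact le_iSup (fun u : U => ((Order.coheight (u : X) : ℕ∞) : WithBot ℕ∞))
      ⟨f.fiberι v.1 z, hzU⟩

/-- `dim_x X = dim_{f x} Y + d` for a flat morphism locally of finite type of relative
dimension `d` between locally Noetherian schemes. -/
theorem localDim_eq {X Y : Scheme.{u}} [IsLocallyNoetherian X] [IsLocallyNoetherian Y]
    (f : X ⟶ Y) [Flat f] [LocallyOfFiniteType f] (d : ℕ) (hd : Cyc.HasRelDim f d) (x : X) :
    FlatMor.localDim ↑X x = FlatMor.localDim ↑Y (f.base x) + (d : WithBot ℕ∞) := by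
  have : Nonempty {U : Opens X // x ∈ U} := ⟨⟨⊤, trivial⟩⟩
  have : Nonempty {V : Opens Y // f.base x ∈ V} := ⟨⟨⊤, trivial⟩⟩
  obtain ⟨⟨U0, hxU0⟩, hU0⟩ := ciInf_mem
    (fun U : {U : Opens X // x ∈ U} => topologicalKrullDim (U.1 : Set X))
  obtain ⟨⟨V0, hyV0⟩, hV0⟩ := ciInf_mem
    (fun V : {V : Opens Y // f.base x ∈ V} => topologicalKrullDim (V.1 : Set Y))
  have hopen : IsOpenMap f.base := f.isOpenMap
  let U1 : X.Opens := U0 ⊓ f ⁻¹ᵁ V0
  let V1 : Y.Opens := ⟨f.base '' (U1 : Set X), hopen _ U1.2⟩
  have hxU1 : x ∈ U1 := ⟨hxU0, hyV0⟩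
  have hyV1 : f.base x ∈ V1 := ⟨x, hxU1, rfl⟩
  have hX : FlatMor.localDim ↑X x = topologicalKrullDim (U1 : Set X) := by
    apply le_antisymm
    · exact iInf_le (fun U : {U : Opens X // x ∈ U} => topologicalKrullDim (U.1 : Set X))
        ⟨U1, hxU1⟩
    · change _ ≤ ⨅ U : {U : Opens X // x ∈ U}, topologicalKrullDim (U.1 : Set X)
      rw [← hU0]
      exact Groth.Agent.H9.FibDim.dim_mono_subset (fun a ha => ha.1)
  have hY : FlatMor.localDim ↑Y (f.base x) = topologicalKrullDim (V1 : Set Y) := by
    apply le_antisymm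
    · exact iInf_le (fun V : {V : Opens Y // f.base x ∈ V} => topologicalKrullDim (V.1 : Set Y))
        ⟨V1, hyV1⟩
    · change _ ≤ ⨅ V : {V : Opens Y // f.base x ∈ V}, topologicalKrullDim (V.1 : Set Y)
      rw [← hV0]
      apply Groth.Agent.H9.FibDim.dim_mono_subset
      rintro _ ⟨a, ha, rfl⟩
      exact ha.2
  rw [hX, hY]
  exact dim_opens_eq f d hd U1 V1 rfl

end Groth.Agent.H60.LocalDimFlat
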