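import Mathlib

/-!
# (EPI) for S5279: morphisms can be compared after a flat surjective base change, Zariski-locally
-/

set_option autoImplicit false
universe u
open CategoryTheory CategoryTheory.Limits AlgebraicGeometry

namespace Groth.Agent.H60.MREPI

set_option backward.isDefEq.respectTransparency false in
/-- (EPI) morphisms can be compared after a flat surjective base change, Zariski-locally on it. -/
theorem hom_ext_of_flat_cover {S S' Z Y : Scheme.{u}} (f : S' ⟶ S) [Flat f] [Surjective f]
    (W : S' → S'.Opens) (hW : ∀ s' : S', s' ∈ W s') (h : Z ⟶ S) (u v : Z ⟶ Y)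
    (huv : ∀ s' : S', pullback.fst h ((W s').ι ≫ f) ≫ u = pullback.fst h ((W s').ι ≫ f) ≫ v) :
    u = v := by
  have : Flat (pullback.fst h f) := MorphismProperty.pullback_fst (P := @Flat) _ _ inferInstance
  have : Surjective (pullback.fst h f) := inferInstance
  have : Epi (pullback.fst h f) := Flat.epi_of_flat_of_surjective _
  rw [← cancel_epi (pullback.fst h f)]
  refine Scheme.hom_ext_of_forall _ _ (fun p => ?_)
  refine ⟨pullback.snd h f ⁻¹ᵁ W (pullback.snd h f p), hW _, ?_⟩
  let φ : ((pullback.snd h f ⁻¹ᵁ W (pullback.snd h f p) : (pullback h f).Opens) : Scheme) ⟶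
      pullback h ((W (pullback.snd h f p)).ι ≫ f) :=
    pullback.lift ((pullback.snd h f ⁻¹ᵁ W (pullback.snd h f p)).ι ≫ pullback.fst h f)
      (pullback.snd h f ∣_ W (pullback.snd h f p)) (by
        rw [Category.assoc, pullback.condition, ← Category.assoc (pullback.snd h f ∣_ _),
          morphismRestrict_ι, Category.assoc])
  have hφ : (pullback.snd h f ⁻¹ᵁ W (pullback.snd h f p)).ι ≫ pullback.fst h f =
      φ ≫ pullback.fst h ((W (pullback.snd h f p)).ι ≫ f) := (pullback.lift_fst _ _ _).symm
  rw [← Category.assoc, ← Category.assoc, hφ, Category.assoc, Category.assoc,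
    huv (pullback.snd h f p)]

end Groth.Agent.H60.MREPI
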