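import Mathlib

/-!
# (TOP) for S5279: morphisms agreeing on a nilpotent thickening have the same preimages of opens
-/

set_option autoImplicit false
universe u
open CategoryTheory CategoryTheory.Limits AlgebraicGeometry

namespace Groth.Agent.H60.MRTOP

/-- A closed immersion with locally nilpotent ideal is surjective. -/
theorem surjective_of_nil {S S₀ : Scheme.{u}} (i₀ : S₀ ⟶ S) [IsClosedImmersion i₀]
    (hnil : ∀ x : S, ∃ U : S.affineOpens, x ∈ (U : S.Opens) ∧ IsNilpotent (i₀.ker.ideal U)) :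
    Surjective i₀ := by
  refine ⟨fun x => ?_⟩
  obtain ⟨U, hxU, hU⟩ := hnil x
  have hx : x ∈ i₀.ker.support := by
    rw [Scheme.IdealSheafData.mem_support_iff_of_mem hxU, Scheme.mem_zeroLocus_iff]
    intro f hf hxf
    obtain ⟨n, hn⟩ := hU
    have hfn : f ^ n = 0 := by
      have : f ^ n ∈ (i₀.ker.ideal U) ^ n := Ideal.pow_mem_pow hf n
      rw [hn] at this
      exact this
    have hu : IsUnit (S.presheaf.germ U.1 x hxU f) := (Scheme.mem_basicOpen S f x hxU).mp hxf
    have hu' := hu.pow n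
    rw [← map_pow, hfn, map_zero] at hu'
    exact not_isUnit_zero hu'
  have h1 := Scheme.Hom.support_ker i₀
  have h2 : x ∈ (i₀.ker.support : Set S) := hx
  rw [h1, i₀.isClosedEmbedding.isClosed_range.closure_eq] at h2
  exact h2

/-- (TOP) two morphisms that agree on the nilpotent thickening have the same preimages of opens. -/
theorem preimage_eq_of_nil {S S₀ : Scheme.{u}} (i₀ : S₀ ⟶ S) [IsClosedImmersion i₀]
    (hnil : ∀ x : S, ∃ U : S.affineOpens, x ∈ (U : S.Opens) ∧ IsNilpotent (i₀.ker.ideal U))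
    {T X : Scheme.{u}} (t : T ⟶ S) (y x : T ⟶ X)
    (h : pullback.fst t i₀ ≫ y = pullback.fst t i₀ ≫ x) (U : X.Opens) : y ⁻¹ᵁ U = x ⁻¹ᵁ U := by
  have : Surjective i₀ := surjective_of_nil i₀ hnil
  have : Surjective (pullback.fst t i₀) := inferInstance
  have hpt : ∀ p : T, y p = x p := by
    intro p
    obtain ⟨q, rfl⟩ := (pullback.fst t i₀).surjective p
    have := congrArg (fun φ : pullback t i₀ ⟶ X => φ q) h
    simpa using this
  ext p
  show y p ∈ U ↔ x p ∈ U
  rw [hpt p]

end Groth.Agent.H60.MRTOP
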