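import Mathlib
import Groth.Agent.H38.UnivOpenAtDim
import Groth.Agent.H38.UnivOpenFibreDim
import Groth.Agent.H38.ProdLocalDim
import Groth.Agent.H69.EquidimAff
import Groth.Agent.H69.ChevScheme
import Groth.Agent.H69.GUAffineSpace
import Groth.Agent.H70.NormalFibre
import Groth.Agent.H38.ValLocal
import Groth.Agent.H60.UnivOpenAtFibre
import Groth.Agent.H60.GenOpenGen
import Groth.Agent.H7.UnivOpenAtPoly
import Groth.Agent.H25.UnivOpenAt
import Groth.Agent.S3404
import Groth.Agent.S3449
import Groth.Agent.H52.SrcFin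
import Groth.Agent.H60.FibreDimBC
import Groth.Agent.H60.UnivOpenAtComp
import Groth.Agent.H32.ValWit

/-!
# S6083: a quasi-finite `S`-morphism `X ⟶ 𝔸ⁿ_S` is universally open at `x` when `X ⟶ S` is
universally open at the generic point of an `n`-dimensional component of the fibre through `x`
-/

set_option autoImplicit false
set_option linter.style.haveILetI false
universe u

open AlgebraicGeometry CategoryTheory CategoryTheory.Limits Topology

namespace Groth.Agent.H60.QuasiSecOpen

open Groth.Agent.H54 Groth.Agent.H9.FibreFormula Groth.Agent.H9.FibDim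
  Groth.Agent.H38.SectionComp Groth.Agent.H38.UnivOpenFibreDim Groth.Agent.H69.Chev
  Groth.Agent.H69.GeomUnibranch Groth.Agent.H60.GenOpenGen Groth.Agent.H60.UnivOpenAtFibre
  Groth.Agent.H60.UnivOpenAtComp Groth.Agent.H9.Equidim

set_option backward.isDefEq.respectTransparency false in
/-- A point of `𝔸ⁿ_T` over the generic point of an irreducible `T` whose residue field has
transcendence degree at least `n` over that of the generic point is the generic point. -/
theorem eq_genericPoint_of_le_trdeg {T : Scheme.{u}} [IrreducibleSpace T] (n : ℕ)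
    (π : ↥𝔸(ULift.{u} (Fin n); T))
    (hπ : (𝔸(ULift.{u} (Fin n); T) ↘ T).base π = genericPoint T) (m : ℕ)
    (hm : @Algebra.trdeg (T.residueField ((𝔸(ULift.{u} (Fin n); T) ↘ T).base π))
      ((𝔸(ULift.{u} (Fin n); T)).residueField π) _ _
      ((𝔸(ULift.{u} (Fin n); T) ↘ T).residueFieldMap π).hom.toAlgebra = (m : Cardinal.{u}))
    (hnm : n ≤ m) : π = genericPoint ↥𝔸(ULift.{u} (Fin n); T) := by
  set q := (𝔸(ULift.{u} (Fin n); T) ↘ T) with hq
  obtain ⟨n₂, b₂, h1, h2, h3⟩ := fibre_formula q π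
  rw [fibreDimAt_affineSpace_over] at h3
  have h4 : n = n₂ + b₂ := by exact_mod_cast h3
  have h5 : n₂ = m := by
    have : (n₂ : Cardinal.{u}) = (m : Cardinal.{u}) := by rw [← h1, hm]
    exact_mod_cast this
  have hb : b₂ = 0 := by omega
  rw [ringKrullDim_stalk_eq_coheight, hb] at h2
  have h6 : Order.coheight (q.asFiber π) = 0 := by exact_mod_cast h2
  have hmax : IsMax (q.asFiber π) := Order.coheight_eq_zero.mp h6
  set ω := genericPoint ↥𝔸(ULift.{u} (Fin n); T) with hω
  have hωπ : ω ⤳ π := genericPoint_specializes π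
  have hqω : q.base ω = q.base π := by
    have h7 : q.base ω ⤳ q.base π := hωπ.map q.continuous
    have h8 : q.base π ⤳ q.base ω := by rw [hπ]; exact genericPoint_specializes _
    exact (h7.antisymm h8).eq
  obtain ⟨a, ha⟩ := exists_fiber_pt q (q.base π) ω hqω
  have h9 : a ⤳ q.asFiber π := by
    rw [← (q.fiberι (q.base π)).isEmbedding.isInducing.specializes_iff, ha, q.fiberι_asFiber]
    exact hωπ
  have h10 : q.asFiber π ⤳ a := Scheme.le_iff_specializes.mp (hmax (Scheme.le_iff_specializes.mpr h9))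
  have h11 : π ⤳ ω := by
    have := h10.map (q.fiberι (q.base π)).continuous
    rwa [ha, q.fiberι_asFiber] at this
  exact (h11.antisymm hωπ).eq

set_option backward.isDefEq.respectTransparency false in
/-- Lifting a fibre-maximal generization `z` of `x` to a base change: over any point `p` above
`x` there is a fibre-maximal generization of `p` above `z`. -/
theorem exists_max_lift {X S T : Scheme.{u}} (f : X ⟶ S) [LocallyOfFiniteType f] (γ : T ⟶ S)
    (p : ↥(pullback f γ)) (z : X) (hz : z ⤳ (pullback.fst f γ).base p)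
    (hfz : f.base z = f.base ((pullback.fst f γ).base p))
    (hmax : ∀ z' : X, f.base z' = f.base z → z' ⤳ z → z' = z) :
    ∃ z' : ↥(pullback f γ), (pullback.fst f γ).base z' = z ∧
      (pullback.snd f γ).base z' = (pullback.snd f γ).base p ∧ z' ⤳ p ∧
      ∀ w : ↥(pullback f γ), (pullback.snd f γ).base w = (pullback.snd f γ).base z' →
        w ⤳ z' → w = z' := by
  set a := (pullback.snd f γ).base p with ha
  have hcond : ∀ e : ↥(pullback f γ), f.base ((pullback.fst f γ).base e) =
      γ.base ((pullback.snd f γ).base e) := fun e =>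
    congrArg (fun q => q.base e) (pullback.condition (f := f) (g := γ))
  obtain ⟨a₀, ha₀⟩ := exists_fiber_pt (pullback.snd f γ) a p rfl
  have hfza : f.base z = γ.base a := hfz.trans (hcond p)
  obtain ⟨z₀, hz₀⟩ := exists_fiber_pt f (γ.base a) z hfza
  have hQa₀ : (f.fiberι (γ.base a)).base ((Qmap f γ a).base a₀) = (pullback.fst f γ).base p := by
    rw [Qmap_fiberι_apply, ha₀]
  have hz₀Q : z₀ ⤳ (Qmap f γ a).base a₀ := by
    rw [← (f.fiberι (γ.base a)).isEmbedding.isInducing.specializes_iff, hz₀, hQa₀]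
    exact hz
  obtain ⟨b, hba₀, hQb⟩ := Groth.Agent.S3404.lift_of_isOpenAt (Qmap f γ a) a₀
    (fun U hU => (isOpenMap_Qmap f γ a).image_mem_nhds hU) z₀ hz₀Q
  obtain ⟨ζ, hζb, hζcomp⟩ := exists_generic_specializes b
  have hQζ : (f.fiberι (γ.base a)).base ((Qmap f γ a).base ζ) = z := by
    apply hmax
    · rw [fiberι_mem, hfza]
    · rw [← hz₀, ← hQb]
      exact (hζb.map (Qmap f γ a).continuous).map (f.fiberι (γ.base a)).continuous
  refine ⟨((pullback.snd f γ).fiberι a).base ζ, ?_, fiberι_mem _ _ ζ, ?_, ?_⟩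
  · rw [← Qmap_fiberι_apply, hQζ]
  · rw [← ha₀]
    exact (hζb.trans hba₀).map ((pullback.snd f γ).fiberι a).continuous
  · intro w hw1 hw2
    obtain ⟨b', rfl⟩ := exists_fiber_pt (pullback.snd f γ) a w (hw1.trans (fiberι_mem _ _ ζ))
    have hb' : b' ⤳ ζ := by
      rw [← ((pullback.snd f γ).fiberι a).isEmbedding.isInducing.specializes_iff]; exact hw2
    rw [eq_of_specializes_generic hζcomp hb']

theorem trdeg_congr_hom {X Y : Scheme.{u}} {f f' : X ⟶ Y} (h : f = f') (x : X) :
    @Algebra.trdeg (Y.residueField (f.base x)) (X.residueField x) _ _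
        (f.residueFieldMap x).hom.toAlgebra =
    @Algebra.trdeg (Y.residueField (f'.base x)) (X.residueField x) _ _
        (f'.residueFieldMap x).hom.toAlgebra := by
  subst h; rfl

/-- The local rings of the spectrum of a valuation ring are geometrically unibranch. -/
theorem isGeomUnibranch_stalk_of_valuationRing (A : Type u) [CommRing A] [IsDomain A]
    [ValuationRing A] (y : ↥(Spec (CommRingCat.of A))) :
    CAlg2.IsGeomUnibranch ((Spec (CommRingCat.of A)).presheaf.stalk y) := by
  haveI : y.asIdeal.IsPrime := y.isPrime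
  letI alg : Algebra A ((Spec (CommRingCat.of A)).presheaf.stalk y) :=
    StructureSheaf.stalkAlgebra (R := A) y
  haveI hloc : IsLocalization.AtPrime ((Spec (CommRingCat.of A)).presheaf.stalk y) y.asIdeal :=
    StructureSheaf.IsLocalization.to_stalk (R := A) y
  haveI : IsDomain ((Spec (CommRingCat.of A)).presheaf.stalk y) :=
    IsLocalization.isDomain_of_le_nonZeroDivisors _ (M := y.asIdeal.primeCompl)
      (Ideal.primeCompl_le_nonZeroDivisors y.asIdeal)
  haveI : ValuationRing ((Spec (CommRingCat.of A)).presheaf.stalk y) :=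
    Groth.Agent.H38.ValLocal.valuationRing_of_isLocalization y.asIdeal.primeCompl _
  haveI : IsIntegrallyClosed ((Spec (CommRingCat.of A)).presheaf.stalk y) := by
    classical
    letI := IsBezout.toGCDDomain ((Spec (CommRingCat.of A)).presheaf.stalk y)
    exact GCDMonoid.toIsIntegrallyClosed
  exact Groth.Agent.H70.NormalFibre.isGeomUnibranch_of_isIntegrallyClosed _

/-- The package of hypotheses at a point: a fibre-maximal generization in the same fibre at which
`f` is universally open and the fibre has local dimension at least `n`. -/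
def Good {X S : Scheme.{u}} (f : X ⟶ S) (n : ℕ) (x : X) : Prop :=
  ∃ z : X, z ⤳ x ∧ f.base z = f.base x ∧
    (∀ z' : X, f.base z' = f.base z → z' ⤳ z → z' = z) ∧
    EGA43.IsUnivOpenAt f z ∧ (n : WithBot ℕ∞) ≤ FlatMor.fibreDimAt f z

theorem fibreDimAt_congr_hom {X Y : Scheme.{u}} {f f' : X ⟶ Y} (h : f = f') (x : X) :
    FlatMor.fibreDimAt f x = FlatMor.fibreDimAt f' x := by
  subst h; rfl

set_option backward.isDefEq.respectTransparency false in
/-- `Good` is stable under base change (any pullback square). -/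
theorem Good.of_isPullback {X S T X' : Scheme.{u}} {f : X ⟶ S} [LocallyOfFiniteType f]
    {γ : T ⟶ S} {π : X' ⟶ X} {f' : X' ⟶ T} (sq : IsPullback π f' f γ)
    (n : ℕ) (p : X') (h : Good f n (π.base p)) : Good f' n p := by
  have hf' : f' = sq.isoPullback.hom ≫ pullback.snd f γ := by simp
  have hπ : π = sq.isoPullback.hom ≫ pullback.fst f γ := by simp
  obtain ⟨e, he⟩ : ∃ e : X' ≅ pullback f γ, e = sq.isoPullback := ⟨_, rfl⟩
  rw [← he] at hf' hπ
  obtain ⟨z, hzx, hfz, hmax, hopen, hdim⟩ := h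
  have hfst : ∀ a, (pullback.fst f γ).base (e.hom.base a) = π.base a := fun a => by
    rw [← Scheme.Hom.comp_apply, ← hπ]
  have hsnd : ∀ a, (pullback.snd f γ).base (e.hom.base a) = f'.base a := fun a => by
    rw [← Scheme.Hom.comp_apply, ← hf']
  obtain ⟨z', hz'1, hz'2, hz'p, hz'max⟩ := exists_max_lift f γ (e.hom.base p) z
    (by rw [hfst]; exact hzx) (by rw [hfst]; exact hfz) hmax
  have hinv : ∀ a, e.hom.base (e.inv.base a) = a := fun a => by
    rw [← Scheme.Hom.comp_apply, e.inv_hom_id]; rfl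
  have hinv' : ∀ a, e.inv.base (e.hom.base a) = a := fun a => by
    rw [← Scheme.Hom.comp_apply, e.hom_inv_id]; rfl
  refine ⟨e.inv.base z', ?_, ?_, ?_, ?_, ?_⟩
  · have := hz'p.map e.inv.continuous
    rwa [hinv'] at this
  · rw [← hsnd, hinv, hz'2, hsnd]
  · intro w hw1 hw2
    have h2 : e.hom.base w = z' := by
      apply hz'max
      · rw [hsnd, hw1, ← hsnd, hinv]
      · have := hw2.map e.hom.continuous
        rwa [hinv] at this
    rw [← h2, hinv']
  · refine Groth.Agent.H25.isUnivOpenAt_of_isPullback sq z hopen (e.inv.base z') ?_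
    rw [← hfst, hinv, hz'1]
  · have h3 : FlatMor.fibreDimAt f' (e.inv.base z') = FlatMor.fibreDimAt f z := by
      rw [fibreDimAt_congr_hom hf', fibreDimAt_comp_of_isOpenImmersion, hinv,
        Groth.Agent.H60.FibreDimBC.fibreDimAt_baseChange f γ z', hz'1]
    rw [h3]
    exact hdim

set_option backward.isDefEq.respectTransparency false in
set_option maxHeartbeats 1600000 in
/-- **Key lemma**: generizations of `u x` lift to generizations of `x`. -/
theorem generizations_lift {X S P T : Scheme.{u}} (n : ℕ) (f : X ⟶ S) [LocallyOfFiniteType f]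
    (q : P ⟶ S) (b : P ⟶ 𝔸(ULift.{u} (Fin n); T)) (t : S ⟶ T)
    (hpb : IsPullback b q (𝔸(ULift.{u} (Fin n); T) ↘ T) t)
    (u : X ⟶ P) [LocallyQuasiFinite u] [LocallyOfFiniteType u] (hu : u ≫ q = f)
    (x : X) (hgood : Good f n x)
    (p' : P) (hp' : p' ⤳ u.base x) : ∃ x' : X, x' ⤳ x ∧ u.base x' = p' := by
  obtain ⟨z, hzx, hfz, hmax, hopen, hdim⟩ := hgood
  -- a valuation ring realizing the specialization
  obtain ⟨A, γ, hw, hγc⟩ := Groth.Agent.H32.ValWit.exists_valuationSubring_of_specializes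
    (𝟙 P) p' (u.base x) (by simpa using hp')
  obtain ⟨c, hc⟩ : ∃ c : ↥(Spec (CommRingCat.of A)), c = IsLocalRing.closedPoint A := ⟨_, rfl⟩
  have hγc' : γ.base c = u.base x := by rw [hc]; exact hγc
  haveI : IrreducibleSpace (Spec (CommRingCat.of A)) :=
    inferInstanceAs (IrreducibleSpace (PrimeSpectrum A))
  have hγη : γ.base (genericPoint (Spec (CommRingCat.of A))) = p' := by
    have h1 := congrArg (fun q => q.base (IsLocalRing.closedPoint (P.residueField p'))) hw
    simp only [Category.comp_id] at h1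
    have h2 : (P.fromSpecResidueField p').base (IsLocalRing.closedPoint (P.residueField p')) = p' :=
      Scheme.fromSpecResidueField_apply _ _
    have h3 : (Spec.map (CommRingCat.ofHom (algebraMap A (P.residueField p')))).base
        (IsLocalRing.closedPoint (P.residueField p')) = genericPoint (Spec (CommRingCat.of A)) := by
      rw [genericPoint_eq_bot_of_affine]
      apply PrimeSpectrum.ext
      show Ideal.comap (algebraMap A (P.residueField p'))
        (IsLocalRing.closedPoint (P.residueField p')).asIdeal = ⊥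
      have h0 : (IsLocalRing.closedPoint (P.residueField p')).asIdeal = ⊥ :=
        IsLocalRing.maximalIdeal_eq_bot
      rw [h0, ← RingHom.ker_eq_comap_bot, RingHom.ker_eq_bot_iff_eq_zero]
      intro a ha
      exact Subtype.ext ha
    rw [← h3]
    have h4 : (P.fromSpecResidueField p').base (IsLocalRing.closedPoint (P.residueField p')) =
      γ.base ((Spec.map (CommRingCat.ofHom (algebraMap A (P.residueField p')))).base
        (IsLocalRing.closedPoint (P.residueField p'))) := h1
    rw [← h4, h2]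
  obtain ⟨η, hη⟩ : ∃ η : ↥(Spec (CommRingCat.of A)), η = genericPoint (Spec (CommRingCat.of A)) :=
    ⟨_, rfl⟩
  rw [← hη] at hγη
  -- base change to the valuation ring
  obtain ⟨g, hg⟩ : ∃ g : Spec (CommRingCat.of A) ⟶ S, g = γ ≫ q := ⟨_, rfl⟩
  -- the point `x''` of the base change over `x` and the closed point
  obtain ⟨w₀, hw₀1, hw₀2⟩ := Scheme.Pullback.exists_preimage_pullback (f := u) (g := γ) x c
    hγc'.symm
  let θ : pullback u γ ⟶ pullback f g := pullback.lift (pullback.fst u γ) (pullback.snd u γ)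
    (by rw [← hu, hg, ← Category.assoc, pullback.condition, Category.assoc])
  have hθ1 : θ ≫ pullback.fst f g = pullback.fst u γ := pullback.lift_fst _ _ _
  have hθ2 : θ ≫ pullback.snd f g = pullback.snd u γ := pullback.lift_snd _ _ _
  obtain ⟨x'', hx''⟩ : ∃ x'' : ↥(pullback f g), x'' = θ.base w₀ := ⟨_, rfl⟩
  have hx''1 : (pullback.fst f g).base x'' = x := by
    rw [hx'', ← Scheme.Hom.comp_apply, hθ1]; exact hw₀1
  have hx''2 : (pullback.snd f g).base x'' = c := by
    rw [hx'', ← Scheme.Hom.comp_apply, hθ2]; exact hw₀2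
  -- the fibre-maximal point `z'`
  obtain ⟨z', hz'1, hz'2, hz'x'', hz'max⟩ := exists_max_lift f g x'' z
    (by rw [hx''1]; exact hzx) (by rw [hx''1]; exact hfz) hmax
  have hz'c : (pullback.snd f g).base z' = c := hz'2.trans hx''2
  have hopenA : EGA43.IsOpenAt (pullback.snd f g).base z' := hopen _ g z' hz'1
  obtain ⟨ξ, hξz', hξη, hle⟩ :=
    Groth.Agent.H38.UnivOpenAtDim.exists_generization_fibreDimAt_le (pullback.snd f g) c hc z'
      hz'c hz'max hopenA
  rw [Groth.Agent.H60.FibreDimBC.fibreDimAt_baseChange f g z', hz'1] at hle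
  have hnξ : (n : WithBot ℕ∞) ≤ FlatMor.fibreDimAt (pullback.snd f g) ξ := hdim.trans hle
  obtain ⟨ξ', hξ'ξ, hfξ', hξ'max, hfdξ'⟩ := exists_fibre_max' (pullback.snd f g) ξ
  obtain ⟨m₁, hm₁, hfdm₁⟩ := fibreDimAt_of_fibre_maximal (pullback.snd f g) ξ' hξ'max
  have hnm₁ : n ≤ m₁ := by
    rw [← hfdξ', hfdm₁] at hnξ; exact_mod_cast hnξ
  have hξ'η : (pullback.snd f g).base ξ' = η := by rw [hfξ', hξη, hη]
  -- the affine space over the valuation ring
  have hpb' := AffineSpace.isPullback_map (n := ULift.{u} (Fin n)) (g ≫ t)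
  let β : 𝔸(ULift.{u} (Fin n); Spec (CommRingCat.of A)) ⟶ P :=
    hpb.lift (AffineSpace.map (ULift.{u} (Fin n)) (g ≫ t))
      ((𝔸(ULift.{u} (Fin n); Spec (CommRingCat.of A)) ↘ Spec (CommRingCat.of A)) ≫ g)
      (by rw [AffineSpace.map_over, Category.assoc])
  have hβ1 : β ≫ b = AffineSpace.map (ULift.{u} (Fin n)) (g ≫ t) := hpb.lift_fst _ _ _
  have hβ2 : β ≫ q =
      (𝔸(ULift.{u} (Fin n); Spec (CommRingCat.of A)) ↘ Spec (CommRingCat.of A)) ≫ g :=
    hpb.lift_snd _ _ _
  have hpbβ : IsPullback β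
      (𝔸(ULift.{u} (Fin n); Spec (CommRingCat.of A)) ↘ Spec (CommRingCat.of A)) q g :=
    IsPullback.of_right (by rw [hβ1]; exact hpb') hβ2 hpb
  let u' : pullback f g ⟶ 𝔸(ULift.{u} (Fin n); Spec (CommRingCat.of A)) :=
    hpbβ.lift (pullback.fst f g ≫ u) (pullback.snd f g)
      (by rw [Category.assoc, hu]; exact pullback.condition)
  have hu'1 : u' ≫ β = pullback.fst f g ≫ u := hpbβ.lift_fst _ _ _
  have hu'2 : u' ≫ (𝔸(ULift.{u} (Fin n); Spec (CommRingCat.of A)) ↘ Spec (CommRingCat.of A)) =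
      pullback.snd f g := hpbβ.lift_snd _ _ _
  have hpbu : IsPullback (pullback.fst f g) u' u β := by
    refine IsPullback.of_bot ?_ hu'1.symm hpbβ
    rw [hu'2, hu]
    exact IsPullback.of_hasPullback f g
  haveI : LocallyQuasiFinite u' :=
    MorphismProperty.of_isPullback (P := @LocallyQuasiFinite) hpbu inferInstance
  haveI : LocallyOfFiniteType u' :=
    MorphismProperty.of_isPullback (P := @LocallyOfFiniteType) hpbu inferInstance
  let σ : Spec (CommRingCat.of A) ⟶ 𝔸(ULift.{u} (Fin n); Spec (CommRingCat.of A)) :=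
    hpbβ.lift γ (𝟙 _) (by rw [Category.id_comp, hg])
  have hσ1 : σ ≫ β = γ := hpbβ.lift_fst _ _ _
  have hσ2 : σ ≫ (𝔸(ULift.{u} (Fin n); Spec (CommRingCat.of A)) ↘ Spec (CommRingCat.of A)) =
      𝟙 _ := hpbβ.lift_snd _ _ _
  have hθσ : θ ≫ u' = pullback.snd u γ ≫ σ := by
    apply hpbβ.hom_ext
    · rw [Category.assoc, hu'1, ← Category.assoc, hθ1, Category.assoc, hσ1, pullback.condition]
    · rw [Category.assoc, hu'2, hθ2, Category.assoc, hσ2, Category.comp_id]
  have hu'x'' : u'.base x'' = σ.base c := by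
    rw [hx'', ← Scheme.Hom.comp_apply, hθσ, Scheme.Hom.comp_apply, hw₀2]
  -- the integral closed subscheme with generic point `ξ'`
  obtain ⟨Z₁, j, hj, hZ₁, hr⟩ := Groth.Agent.H38.ProdLocalDim.exists_integral_closedImmersion ξ'
  haveI := hj
  haveI := hZ₁
  haveI : IrreducibleSpace ↥Z₁ := inferInstance
  have hP' : ∀ y : ↥𝔸(ULift.{u} (Fin n); Spec (CommRingCat.of A)),
      CAlg2.IsGeomUnibranch ((𝔸(ULift.{u} (Fin n); Spec (CommRingCat.of A))).presheaf.stalk y) := by
    intro y
    apply isGeomUnibranch_affineSpace_stalk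
    exact isGeomUnibranch_stalk_of_valuationRing A _
  obtain ⟨ζ₁, hζ₁⟩ : ξ' ∈ Set.range j.base := by rw [hr]; exact subset_closure rfl
  -- dominance
  have hπη : (𝔸(ULift.{u} (Fin n); Spec (CommRingCat.of A)) ↘ Spec (CommRingCat.of A)).base
      (u'.base ξ') = genericPoint (Spec (CommRingCat.of A)) := by
    rw [← Scheme.Hom.comp_apply, hu'2, hξ'η, hη]
  have htr1 := Groth.Agent.S3449.trdeg_residueFieldMap_comp u'
    (𝔸(ULift.{u} (Fin n); Spec (CommRingCat.of A)) ↘ Spec (CommRingCat.of A)) ξ'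
  rw [trdeg_eq_zero_of_locallyQuasiFinite u' ξ', trdeg_congr_hom hu'2 ξ', hm₁, Nat.cast_zero,
    add_zero] at htr1
  have hπgen := eq_genericPoint_of_le_trdeg n (u'.base ξ') hπη m₁ htr1 hnm₁
  have hdense : DenseRange (j ≫ u').base := by
    intro y
    have h1 : genericPoint ↥𝔸(ULift.{u} (Fin n); Spec (CommRingCat.of A)) ⤳ y :=
      genericPoint_specializes y
    have h2 : (j ≫ u').base ζ₁ = genericPoint ↥𝔸(ULift.{u} (Fin n); Spec (CommRingCat.of A)) := by
      rw [Scheme.Hom.comp_apply, hζ₁, hπgen]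
    have h3 : genericPoint ↥𝔸(ULift.{u} (Fin n); Spec (CommRingCat.of A)) ∈
        Set.range (j ≫ u').base := ⟨ζ₁, h2⟩
    exact closure_mono (Set.singleton_subset_iff.mpr h3) h1.mem_closure
  haveI : UniversallyOpen (j ≫ u') := universallyOpen_of_lqf_of_denseRange (j ≫ u') hP' hdense
  -- lifting the generic point of the section
  obtain ⟨x₁, hx₁⟩ : x'' ∈ Set.range j.base := by
    rw [hr]; exact ((hξ'ξ.trans hξz').trans hz'x'').mem_closure
  have hg₁x₁ : (j ≫ u').base x₁ = σ.base c := by
    rw [Scheme.Hom.comp_apply, hx₁, hu'x'']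
  have hηc : η ⤳ c := by rw [hη]; exact genericPoint_specializes c
  obtain ⟨w₁, hw₁x₁, hw₁⟩ := Groth.Agent.S3404.lift_of_isOpenAt (j ≫ u') x₁
    (fun U hU => (j ≫ u').isOpenMap.image_mem_nhds hU) (σ.base η)
    (by rw [hg₁x₁]; exact hηc.map σ.continuous)
  refine ⟨(pullback.fst f g).base (j.base w₁), ?_, ?_⟩
  · rw [← hx''1, ← hx₁]
    exact (hw₁x₁.map j.continuous).map (pullback.fst f g).continuous
  · have h1 : u.base ((pullback.fst f g).base (j.base w₁)) = β.base (u'.base (j.base w₁)) := by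
      have := congrArg (fun φ : pullback f g ⟶ P => φ.base (j.base w₁)) hu'1
      exact this.symm
    have h2 : u'.base (j.base w₁) = σ.base η := by
      rw [← Scheme.Hom.comp_apply]; exact hw₁
    rw [h1, h2, ← Scheme.Hom.comp_apply, hσ1, hγη]

set_option backward.isDefEq.respectTransparency false in
set_option maxHeartbeats 800000 in
/-- **S6083.** -/
theorem main_S6083 (X S : Scheme.{u}) (f : X ⟶ S) [LocallyOfFinitePresentation f]
    (s : S) (x : X) (hxs : f.base x = s) (n : ℕ)
    (u : X ⟶ 𝔸(ULift.{u} (Fin n); S)) [LocallyQuasiFinite u]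
    (hu : u ≫ (𝔸(ULift.{u} (Fin n); S) ↘ S) = f)
    (Z : Set ↥(f.base ⁻¹' {s})) (hZ : Z ∈ irreducibleComponents ↥(f.base ⁻¹' {s}))
    (hxZ : x ∈ (Subtype.val '' Z))
    (z : X) (hz : z ∈ Subtype.val '' Z ∧ Subtype.val '' Z ⊆ closure {z})
    (hopen : EGA43.IsUnivOpenAt f z)
    (hdimZ : topologicalKrullDim ↥Z = n) :
    EGA43.IsUnivOpenAt u x := by
  haveI : LocallyOfFiniteType f := inferInstance
  haveI hulfp : LocallyOfFinitePresentation u :=
    Groth.Agent.H52.lfp_of_comp_of_lft' u (𝔸(ULift.{u} (Fin n); S) ↘ S)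
      (by rw [hu]; infer_instance) inferInstance
  haveI : LocallyOfFiniteType u := inferInstance
  -- the package of hypotheses at `x`
  have hgood : Good f n x := by
    obtain ⟨z₀, hz₀Z, hz₀⟩ := hz.1
    have hfz : f.base z = s := by rw [← hz₀]; exact z₀.2
    have hzx : z ⤳ x := specializes_iff_mem_closure.mpr (hz.2 hxZ)
    have hZcl : Z ⊆ closure {z₀} := by
      intro t ht
      have h1 : t.1 ∈ closure ({z} : Set X) := hz.2 ⟨t, ht, rfl⟩
      have h2 : z ⤳ t.1 := specializes_iff_mem_closure.mpr h1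
      have h3 : z₀ ⤳ t := by
        rw [← Topology.IsInducing.subtypeVal.specializes_iff, hz₀]; exact h2
      exact h3.mem_closure
    have hmax : ∀ z' : X, f.base z' = f.base z → z' ⤳ z → z' = z := by
      intro z' hz'1 hz'2
      let z'₀ : ↥(f.base ⁻¹' {s}) := ⟨z', hz'1.trans hfz⟩
      have h1 : z'₀ ⤳ z₀ := by
        rw [← Topology.IsInducing.subtypeVal.specializes_iff, hz₀]; exact hz'2
      have h2 : closure {z₀} ⊆ closure {z'₀} := specializes_iff_closure_subset.mp h1
      have h3 : closure ({z'₀} : Set ↥(f.base ⁻¹' {s})) ⊆ Z :=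
        hZ.2 isIrreducible_singleton.closure (hZcl.trans h2)
      have h4 : z'₀ ∈ closure ({z₀} : Set ↥(f.base ⁻¹' {s})) := hZcl (h3 (subset_closure rfl))
      have h5 : z₀ ⤳ z'₀ := specializes_iff_mem_closure.mpr h4
      have h6 : z'₀ = z₀ := (h1.antisymm h5).eq
      have h7 := congrArg Subtype.val h6
      rw [hz₀] at h7
      exact h7
    refine ⟨z, hzx, hfz.trans hxs.symm, hmax, hopen, ?_⟩
    rw [← dim_closure_inter_fibre_of_fibre_maximal f z hmax, ← hdimZ]
    have hmem : ∀ t : ↥Z, (t.1.1 : X) ∈ closure ({z} : Set X) ∩ f.base ⁻¹' {f.base z} :=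
      fun t => ⟨hz.2 ⟨t.1, t.2, rfl⟩, (t.1.2 : f.base t.1.1 = s).trans hfz.symm⟩
    have h1 : Topology.IsInducing (fun t : ↥Z => (t.1.1 : X)) :=
      Topology.IsInducing.subtypeVal.comp Topology.IsInducing.subtypeVal
    exact (Topology.IsInducing.codRestrict h1 hmem).topologicalKrullDim_le
  apply Groth.Agent.H7.isUnivOpenAt_of_isOpenAt_affineSpace_map
  intro m p hp
  have sqX := (AffineSpace.isPullback_map (n := ULift.{u} (Fin m)) f).flip
  have sqP := (AffineSpace.isPullback_map (n := ULift.{u} (Fin m))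
    (𝔸(ULift.{u} (Fin n); S) ↘ S)).flip
  have squ := (AffineSpace.isPullback_map (n := ULift.{u} (Fin m)) u).flip
  haveI : LocallyOfFiniteType (AffineSpace.map (ULift.{u} (Fin m)) f) :=
    MorphismProperty.of_isPullback (P := @LocallyOfFiniteType) sqX inferInstance
  haveI : LocallyQuasiFinite (AffineSpace.map (ULift.{u} (Fin m)) u) :=
    MorphismProperty.of_isPullback (P := @LocallyQuasiFinite) squ inferInstance
  haveI hlfpm : LocallyOfFinitePresentation (AffineSpace.map (ULift.{u} (Fin m)) u) :=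
    MorphismProperty.of_isPullback (P := @LocallyOfFinitePresentation) squ hulfp
  haveI : LocallyOfFiniteType (AffineSpace.map (ULift.{u} (Fin m)) u) := inferInstance
  have hgood' : Good (AffineSpace.map (ULift.{u} (Fin m)) f) n p :=
    Good.of_isPullback sqX n p (by
      have hp' : (𝔸(ULift.{u} (Fin m); X) ↘ X).base p = x := hp
      rw [hp']; exact hgood)
  have humq : AffineSpace.map (ULift.{u} (Fin m)) u ≫
      AffineSpace.map (ULift.{u} (Fin m)) (𝔸(ULift.{u} (Fin n); S) ↘ S) =
      AffineSpace.map (ULift.{u} (Fin m)) f := by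
    rw [← AffineSpace.map_comp, hu]
  exact ((Groth.Agent.S3404.result (AffineSpace.map (ULift.{u} (Fin m)) u) p).2 hlfpm).mpr
    (fun y' hy' => generizations_lift n (AffineSpace.map (ULift.{u} (Fin m)) f)
      (AffineSpace.map (ULift.{u} (Fin m)) (𝔸(ULift.{u} (Fin n); S) ↘ S))
      (𝔸(ULift.{u} (Fin m); 𝔸(ULift.{u} (Fin n); S)) ↘ 𝔸(ULift.{u} (Fin n); S))
      (𝔸(ULift.{u} (Fin m); S) ↘ S) sqP
      (AffineSpace.map (ULift.{u} (Fin m)) u) humq p hgood' y' hy')

end Groth.Agent.H60.QuasiSecOpen
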