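import Mathlib

/-!
# (Dcore) for helper85's S3220 squad: flat descent of "generated by one nonzerodivisor", locally at
a prime. Route: equational criterion of flatness (no localization of `B`).
-/

set_option autoImplicit false
universe u

namespace Groth.Agent.H60.RelDiv_Dcore

/-- uniformizing a finite family of multipliers outside a prime -/
theorem exists_uniform {A : Type u} [CommRing A] (p : Ideal A) [p.IsPrime] (J : Ideal A)
    (s : Finset A) (h : ∀ a ∈ s, ∃ g : A, g ∉ p ∧ g * a ∈ J) :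
    ∃ g : A, g ∉ p ∧ ∀ a ∈ Ideal.span (s : Set A), g * a ∈ J := by
  classical
  induction s using Finset.induction_on with
  | empty =>
    refine ⟨1, fun h1 => (Ideal.IsPrime.ne_top ‹_›) ((Ideal.eq_top_iff_one _).mpr h1), ?_⟩
    intro a ha
    rw [Finset.coe_empty, Ideal.span_empty, Ideal.mem_bot] at ha
    rw [ha, mul_zero]
    exact J.zero_mem
  | insert a s _ ih =>
    obtain ⟨g₁, hg₁, hga⟩ := h a (Finset.mem_insert_self a s)
    obtain ⟨g₂, hg₂, hgs⟩ := ih (fun x hx => h x (Finset.mem_insert_of_mem hx))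
    refine ⟨g₁ * g₂, fun hmem => ?_, ?_⟩
    · rcases (Ideal.IsPrime.mem_or_mem ‹_› hmem) with h1 | h1
      · exact hg₁ h1
      · exact hg₂ h1
    · intro x hx
      rw [Finset.coe_insert, Ideal.mem_span_insert] at hx
      obtain ⟨c, z, hz, rfl⟩ := hx
      have e : g₁ * g₂ * (c * a + z) = (g₂ * c) * (g₁ * a) + g₁ * (g₂ * z) := by ring
      rw [e]
      exact J.add_mem (J.mul_mem_left _ hga) (J.mul_mem_left _ (hgs z hz))

/-- a sum outside a prime has a term outside the prime -/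
theorem exists_term_notMem {B : Type u} [CommRing B] (𝔮 : Ideal B) {k : ℕ} (t : Fin k → B)
    (h : ∑ j, t j ∉ 𝔮) : ∃ j, t j ∉ 𝔮 := by
  by_contra hcon
  push Not at hcon
  exact h (𝔮.sum_mem fun j _ => hcon j)

/-- (Dcore) -/
theorem exists_away_principal_nzd {A B : Type u} [CommRing A] [CommRing B] [IsNoetherianRing A]
    [Algebra A B] [Module.Flat A B] (I : Ideal A) (b : B) (hb : b ∈ nonZeroDivisors B)
    (hI : I.map (algebraMap A B) = Ideal.span {b}) (𝔮 : Ideal B) [𝔮.IsPrime] :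
    ∃ g : A, g ∉ 𝔮.comap (algebraMap A B) ∧ ∃ a' : Localization.Away g,
      a' ∈ nonZeroDivisors (Localization.Away g) ∧
      I.map (algebraMap A (Localization.Away g)) = Ideal.span {a'} := by
  classical
  have hbz : ∀ z : B, b * z = 0 → z = 0 := fun z hz =>
    (mem_nonZeroDivisors_iff.mp hb).2 z (by rw [mul_comm]; exact hz)
  -- every element of `I` is a multiple of `b` in `B`
  have hdiv : ∀ a ∈ I, ∃ u : B, algebraMap A B a = b * u := by
    intro a ha
    have h1 : algebraMap A B a ∈ Ideal.span {b} := hI ▸ Ideal.mem_map_of_mem _ ha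
    obtain ⟨u, hu⟩ := Ideal.mem_span_singleton'.mp h1
    exact ⟨u, by rw [← hu, mul_comm]⟩
  -- a generator `a₁` whose cofactor is a unit at `𝔮`
  obtain ⟨a₁, ha₁, u₁, hu₁, hu₁𝔮⟩ : ∃ a₁ ∈ I, ∃ u₁ : B, algebraMap A B a₁ = b * u₁ ∧ u₁ ∉ 𝔮 := by
    by_contra hcon
    push Not at hcon
    have hle : I.map (algebraMap A B) ≤ Ideal.span {b} * 𝔮 := by
      rw [Ideal.map_le_iff_le_comap]
      intro a ha
      obtain ⟨u, hu⟩ := hdiv a ha
      rw [Ideal.mem_comap, hu]
      exact Ideal.mul_mem_mul (Ideal.mem_span_singleton_self b) (hcon a ha u hu)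
    have hbm : b ∈ Ideal.span {b} * 𝔮 := hle (hI ▸ Ideal.mem_span_singleton_self b)
    obtain ⟨v, hv, hbv⟩ := Ideal.mem_span_singleton_mul.mp hbm
    have h1 : b * (v - 1) = 0 := by rw [mul_sub, hbv, mul_one, sub_self]
    have h2 : v = 1 := sub_eq_zero.mp (hbz _ h1)
    exact (Ideal.IsPrime.ne_top ‹_›) ((Ideal.eq_top_iff_one _).mpr (h2 ▸ hv))
  have hp : (𝔮.comap (algebraMap A B)).IsPrime := Ideal.comap_isPrime _ _
  -- Goal 1: every element of `I` is a multiple of `a₁` up to a multiplier outside `p`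
  have hstep1 : ∀ a ∈ I, ∃ g : A, g ∉ 𝔮.comap (algebraMap A B) ∧ g * a ∈ Ideal.span {a₁} := by
    intro a ha
    obtain ⟨u, hu⟩ := hdiv a ha
    have hrel : ∑ i : Fin 2, (![a, -a₁] i) • (![u₁, u] i) = 0 := by
      rw [Fin.sum_univ_two]
      simp only [Matrix.cons_val_zero, Matrix.cons_val_one]
      rw [Algebra.smul_def, Algebra.smul_def, map_neg, hu, hu₁]
      ring
    obtain ⟨k, α, y, hx, hα⟩ := Module.Flat.isTrivialRelation_of_sum_smul_eq_zero
      (R := A) (M := B) (f := ![a, -a₁]) (x := ![u₁, u]) hrel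
    have h0 := hx 0
    simp only [Matrix.cons_val_zero] at h0
    rw [h0] at hu₁𝔮
    obtain ⟨j, hj⟩ := exists_term_notMem 𝔮 _ hu₁𝔮
    refine ⟨α 0 j, fun hmem => hj ?_, ?_⟩
    · rw [Algebra.smul_def]
      exact 𝔮.mul_mem_right _ (Ideal.mem_comap.mp hmem)
    · have h1 := hα j
      rw [Fin.sum_univ_two] at h1
      simp only [Matrix.cons_val_zero, Matrix.cons_val_one] at h1
      rw [Ideal.mem_span_singleton']
      refine ⟨α 1 j, ?_⟩
      linear_combination -h1
  -- Goal 2: the annihilator of `a₁` is killed by multipliers outside `p`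
  have hstep2 : ∀ n : A, n * a₁ = 0 → ∃ g : A, g ∉ 𝔮.comap (algebraMap A B) ∧
      g * n ∈ (⊥ : Ideal A) := by
    intro n hn
    have h1 : algebraMap A B n * u₁ = 0 := by
      apply hbz
      have h2 := congrArg (algebraMap A B) hn
      rw [map_mul, hu₁, map_zero] at h2
      rw [← h2]
      ring
    have hrel : ∑ i : Fin 1, ((fun _ => n) i : A) • ((fun _ => u₁) i : B) = 0 := by
      rw [Fin.sum_univ_one, Algebra.smul_def]
      exact h1
    obtain ⟨k, α, y, hx, hα⟩ := Module.Flat.isTrivialRelation_of_sum_smul_eq_zero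
      (R := A) (M := B) (f := fun _ : Fin 1 => n) (x := fun _ : Fin 1 => u₁) hrel
    have h0 := hx 0
    simp only at h0
    rw [h0] at hu₁𝔮
    obtain ⟨j, hj⟩ := exists_term_notMem 𝔮 _ hu₁𝔮
    refine ⟨α 0 j, fun hmem => hj ?_, ?_⟩
    · rw [Algebra.smul_def]
      exact 𝔮.mul_mem_right _ (Ideal.mem_comap.mp hmem)
    · have h2 := hα j
      rw [Fin.sum_univ_one] at h2
      rw [Ideal.mem_bot, mul_comm]
      exact h2
  -- uniformize
  obtain ⟨s, hs⟩ := (isNoetherianRing_iff_ideal_fg A).mp ‹_› I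
  obtain ⟨G₁, hG₁, hG₁I⟩ := exists_uniform (𝔮.comap (algebraMap A B)) (Ideal.span {a₁}) s
    (fun a ha => hstep1 a (hs ▸ Ideal.subset_span ha))
  rw [hs] at hG₁I
  obtain ⟨s', hs'⟩ := (isNoetherianRing_iff_ideal_fg A).mp ‹_›
    (Submodule.annihilator (Ideal.span {a₁}) : Ideal A)
  have hann : ∀ n : A, n ∈ (Submodule.annihilator (Ideal.span {a₁}) : Ideal A) ↔ n * a₁ = 0 :=
    fun n => by rw [Submodule.mem_annihilator_span_singleton, smul_eq_mul]
  obtain ⟨G₂, hG₂, hG₂N⟩ := exists_uniform (𝔮.comap (algebraMap A B)) ⊥ s'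
    (fun n hn => hstep2 n ((hann n).mp (hs' ▸ Ideal.subset_span hn)))
  rw [hs'] at hG₂N
  refine ⟨G₁ * G₂, fun hmem => ?_, algebraMap A _ a₁, ?_, ?_⟩
  · rcases hp.mem_or_mem hmem with h1 | h1
    · exact hG₁ h1
    · exact hG₂ h1
  · -- nonzerodivisor
    have hG : IsUnit (algebraMap A (Localization.Away (G₁ * G₂)) (G₁ * G₂)) :=
      IsLocalization.Away.algebraMap_isUnit _
    have hG₂u : IsUnit (algebraMap A (Localization.Away (G₁ * G₂)) G₂) := by
      rw [map_mul] at hG
      exact isUnit_of_mul_isUnit_right hG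
    rw [mem_nonZeroDivisors_iff]
    have key : ∀ z : Localization.Away (G₁ * G₂),
        z * algebraMap A (Localization.Away (G₁ * G₂)) a₁ = 0 → z = 0 := by
      intro z hz
      obtain ⟨x, ⟨_, m, rfl⟩, rfl⟩ := IsLocalization.exists_mk'_eq (Submonoid.powers (G₁ * G₂)) z
      rw [IsLocalization.mk'_eq_zero_iff]
      have h1 : algebraMap A (Localization.Away (G₁ * G₂)) (x * a₁) = 0 := by
        rw [map_mul]
        have hspec := IsLocalization.mk'_spec' (Localization.Away (G₁ * G₂)) x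
          (⟨(G₁ * G₂) ^ m, m, rfl⟩ : Submonoid.powers (G₁ * G₂))
        rw [← hspec, mul_assoc, hz, mul_zero]
      obtain ⟨⟨_, m', rfl⟩, hm'⟩ :=
        (IsLocalization.map_eq_zero_iff (Submonoid.powers (G₁ * G₂)) _ _).mp h1
      have h3 : ((G₁ * G₂) ^ m' * x) * a₁ = 0 := by rw [mul_assoc]; exact hm'
      have h4 := hG₂N _ ((hann _).mpr h3)
      rw [Ideal.mem_bot] at h4
      -- `G₂ * (G₁ G₂)^m' * x = 0`; multiply by `G₁` to get a power of `G₁ G₂`
      refine ⟨⟨(G₁ * G₂) ^ (m' + 1), m' + 1, rfl⟩, ?_⟩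
      show (G₁ * G₂) ^ (m' + 1) * x = 0
      have e : (G₁ * G₂) ^ (m' + 1) * x = G₁ * (G₂ * ((G₁ * G₂) ^ m' * x)) := by ring
      rw [e, h4, mul_zero]
    exact ⟨fun z hz => key z ((mul_comm _ _).trans hz), key⟩
  · -- the ideal is generated by `a₁`
    have hG : IsUnit (algebraMap A (Localization.Away (G₁ * G₂)) (G₁ * G₂)) :=
      IsLocalization.Away.algebraMap_isUnit _
    have hG₁u : IsUnit (algebraMap A (Localization.Away (G₁ * G₂)) G₁) := by
      rw [map_mul] at hG
      exact isUnit_of_mul_isUnit_left hG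
    apply le_antisymm
    · rw [Ideal.map_le_iff_le_comap]
      intro a ha
      rw [Ideal.mem_comap]
      obtain ⟨t, ht⟩ := Ideal.mem_span_singleton'.mp (hG₁I a ha)
      have h1 := congrArg (algebraMap A (Localization.Away (G₁ * G₂))) ht
      rw [map_mul, map_mul] at h1
      obtain ⟨v, hv⟩ := hG₁u
      rw [Ideal.mem_span_singleton']
      refine ⟨↑v⁻¹ * algebraMap A _ t, ?_⟩
      rw [mul_assoc, h1, ← hv, ← mul_assoc, Units.inv_mul, one_mul]
    · rw [Ideal.span_le, Set.singleton_subset_iff]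
      exact Ideal.mem_map_of_mem _ ha₁

end Groth.Agent.H60.RelDiv_Dcore
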