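import Mathlib
import Groth.Agent.H29.FiberStalkAt

/-!
# Local rings of the closed fibre over a local base

For a local ring `R`, a morphism `f : P ⟶ Spec R` and a pullback square exhibiting `X` as
`P ×_{Spec R} Spec (R/m)`, the local ring of `X` at `x` is `O_{P,i x} / m O_{P,i x}`.
-/

set_option autoImplicit false
set_option linter.style.haveILetI false
universe u
open CategoryTheory CategoryTheory.Limits AlgebraicGeometry IsLocalRing

namespace Groth.Agent.H60.ResidueFibre

theorem nonempty_stalkEquiv (R : Type u) [CommRing R] [IsLocalRing R] {P X : Scheme.{u}}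
    (f : P ⟶ Spec (CommRingCat.of R)) (i : X ⟶ P)
    (q : X ⟶ Spec (CommRingCat.of (IsLocalRing.ResidueField R)))
    (hsq : IsPullback i q f (Spec.map (CommRingCat.ofHom (IsLocalRing.residue R)))) (x : X) :
    Nonempty ((P.presheaf.stalk (i x) ⧸ Ideal.map (f.stalkMap (i x)).hom
      (maximalIdeal ((Spec (CommRingCat.of R)).presheaf.stalk (f (i x))))) ≃+*
        X.presheaf.stalk x) := by
  let s : Spec (CommRingCat.of R) := closedPoint R
  haveI : (maximalIdeal R).IsMaximal := maximalIdeal.isMaximal R
  let b : (R ⧸ maximalIdeal R) ≃+* (maximalIdeal R).ResidueField :=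
    RingEquiv.ofBijective (algebraMap (R ⧸ maximalIdeal R) (maximalIdeal R).ResidueField)
      (Ideal.bijective_algebraMap_quotient_residueField _)
  let β : CommRingCat.of (IsLocalRing.ResidueField R) ≅
      CommRingCat.of (s.asIdeal.ResidueField) := b.toCommRingCatIso
  let ε : Spec ((Spec (CommRingCat.of R)).residueField s) ⟶
      Spec (CommRingCat.of (IsLocalRing.ResidueField R)) :=
    Spec.map (Scheme.Spec.residueFieldIso (CommRingCat.of R) s).inv ≫ Spec.map β.hom
  haveI : IsIso ε := by dsimp only [ε]; infer_instance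
  have hβ : CommRingCat.ofHom (IsLocalRing.residue R) ≫ β.hom =
      CommRingCat.ofHom (algebraMap R s.asIdeal.ResidueField) := by
    ext r
    exact (IsScalarTower.algebraMap_apply R (R ⧸ maximalIdeal R)
      (maximalIdeal R).ResidueField r).symm
  have hε : ε ≫ Spec.map (CommRingCat.ofHom (IsLocalRing.residue R)) =
      (Spec (CommRingCat.of R)).fromSpecResidueField s := by
    dsimp only [ε]
    rw [Category.assoc, ← Spec.map_comp, hβ]
    exact Scheme.Spec.map_residueFieldIso_inv_eq_fromSpecResidueField (CommRingCat.of R) s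
  have hsq' : IsPullback i (q ≫ inv ε) f
      ((Spec (CommRingCat.of R)).fromSpecResidueField s) := by
    refine IsPullback.of_iso hsq (Iso.refl X) (Iso.refl P) (asIso ε).symm (Iso.refl _)
      (by simp) (by simp) (by simp) ?_
    rw [← hε]
    simp
  have hfib : IsPullback (f.fiberι s) (f.fiberToSpecResidueField s) f
      ((Spec (CommRingCat.of R)).fromSpecResidueField s) :=
    IsPullback.of_hasPullback _ _
  let φ : X ≅ f.fiber s := hsq'.isoIsPullback _ _ hfib
  have hφ : φ.hom ≫ f.fiberι s = i := IsPullback.isoIsPullback_hom_fst _ _ hsq' hfib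
  have hy : (f.fiberι s) (φ.hom x) = i x := by
    have h : (φ.hom ≫ f.fiberι s) x = i x := by rw [hφ]
    exact h
  obtain ⟨e1⟩ := Groth.Agent.H29.FiberStalkAt.nonempty_fiberStalkEquiv_of_eq f s (φ.hom x) (i x) hy
  exact ⟨e1.trans (asIso (φ.hom.stalkMap x)).commRingCatIsoToRingEquiv⟩

end Groth.Agent.H60.ResidueFibre
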