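import Groth.Prelude.Def_C1
import Groth.Prelude.Def_Cyc
import Groth.Prelude.Def_Pic
import Groth.Prelude.Def_Omega4
import Groth.Agent.H95.SecOrd
import Groth.Agent.H95.AssGen
import Groth.Agent.H22.PullGen
import Groth.Agent.H39.PullTrack5
import Groth.Agent.H54.KeyCIa
import Groth.Agent.H17.ExtFlat.LocGen
import Groth.Agent.H88.PicPn

set_option autoImplicit false
set_option linter.style.haveILetI false
universe u
open CategoryTheory AlgebraicGeometry TopologicalSpace Opposite

namespace Groth.Agent.H60.S1924_SB2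

open Groth.Agent.H18.TensorGen (IsGen exists_isGen)
open Groth.Agent.H8 (res_res res_smul)

variable {Y : Scheme.{u}}

/-- (SB2) A section of an invertible module whose germs generate all the stalks over `W` freely
generates the module over `W`. -/
theorem isGen_of_genAt {M : Y.Modules} (hM : PicF.IsInvertible M) {W : Y.Opens} (μ : Γ(M, W))
    (h : ∀ y (hy : y ∈ W), Groth.Agent.H95.AssGen.GenAt M (M.presheaf.germ W y hy μ)) :
    IsGen M W μ := by
  apply Groth.Agent.H17.ExtFlat.isGen_of_locally M W μ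
  intro y hy
  obtain ⟨V, τ, hyV, hτ⟩ := exists_isGen hM y
  obtain ⟨g, hg⟩ := (hτ (V ⊓ W) inf_le_left).2
    (M.presheaf.map (homOfLE (inf_le_right : V ⊓ W ≤ W)).op μ)
  have hg' : M.presheaf.map (homOfLE (inf_le_right : V ⊓ W ≤ W)).op μ =
      g • M.presheaf.map (homOfLE (inf_le_left : V ⊓ W ≤ V)).op τ := hg.symm
  have hz : y ∈ V ⊓ W := ⟨hyV, hy⟩
  have hu := Groth.Agent.H95.AssGen.isUnit_germ_of_genAt hτ μ g hg' y hyV hy hz (h y hy)
  have hD : Y.basicOpen g ≤ V ⊓ W := Y.basicOpen_le g
  refine ⟨Y.basicOpen g, hD.trans inf_le_right, (Scheme.mem_basicOpen Y g y hz).mpr hu, ?_⟩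
  have hgunit : IsUnit (Y.presheaf.map (homOfLE hD).op g) :=
    RingedSpace.isUnit_res_basicOpen Y.toRingedSpace g
  have hτD : IsGen M (Y.basicOpen g) (M.presheaf.map (homOfLE (hD.trans inf_le_left)).op τ) :=
    hτ.res _
  have key := Groth.Agent.H88.PicPn.IsGen.unit_smul hτD _ hgunit
  have heq : M.presheaf.map (homOfLE (hD.trans inf_le_right)).op μ =
      Y.presheaf.map (homOfLE hD).op g •
        M.presheaf.map (homOfLE (hD.trans inf_le_left)).op τ := by
    have h1 := congrArg (M.presheaf.map (homOfLE hD).op) hg'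
    rw [res_res, res_smul, res_res] at h1
    exact h1
  rw [heq]
  exact key

end Groth.Agent.H60.S1924_SB2
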