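import Mathlib
import Groth.Agent.H60.GenOpenE
import Groth.Agent.H60.GenOpenComp
import Groth.Prelude.Def_FDesc

/-!
# Dimension of the section component of a fibre (S4954)
-/

set_option autoImplicit false
set_option linter.style.haveILetI false
universe u

open AlgebraicGeometry CategoryTheory CategoryTheory.Limits Topology

namespace Groth.Agent.H60.SectionComp

open Groth.Agent.H54 Groth.Agent.H9.DimFormulaEq Groth.Agent.H71.DimFun
  Groth.Agent.H9.FibreFormula Groth.Agent.H9.FibDim Groth.Agent.H9.Equidim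
  Groth.Agent.H60.EquidimAtFlat Groth.Agent.H60.EquidimAtConv Groth.Agent.H60.EquidimComp
  Groth.Agent.H60.EquidimFibMax Groth.Agent.H60.EquidimCrit Groth.Agent.H60.DimFormulaIff
  Groth.Agent.H60.FibreDimsGeneric Groth.Agent.H60.GenOpen Groth.Agent.H60.GenOpenApps
  Groth.Agent.H60.GenOpenGen Groth.Agent.H60.GenOpenProper Groth.Agent.H60.GenOpenComp

set_option backward.isDefEq.respectTransparency.types false in
/-- If the connected component of a fibre through `x₀` is irreducible, its dimension is the fibre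
dimension at `x₀`. -/
theorem dim_eq_fibreDimAt_of_irreducible {X Y : Scheme.{u}} (f : X ⟶ Y) [LocallyOfFiniteType f]
    (y : Y) (x₀ : X) (hx₀ : f.base x₀ = y)
    (hirr : IsIrreducible (connectedComponentIn (f.base ⁻¹' {y}) x₀)) :
    topologicalKrullDim ↥(connectedComponentIn (f.base ⁻¹' {y}) x₀) = FlatMor.fibreDimAt f x₀ := by
  have hx₀F : x₀ ∈ f.base ⁻¹' {y} := hx₀
  have hZy : connectedComponentIn (f.base ⁻¹' {y}) x₀ ⊆ f.base ⁻¹' {y} :=
    connectedComponentIn_subset _ _
  have hx₀Z : x₀ ∈ connectedComponentIn (f.base ⁻¹' {y}) x₀ := mem_connectedComponentIn hx₀F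
  have hsub : ∀ Z' : Set X, IsIrreducible Z' → Z' ⊆ f.base ⁻¹' {y} → x₀ ∈ Z' →
      Z' ⊆ connectedComponentIn (f.base ⁻¹' {y}) x₀ := fun Z' hZ' hZ'y hx₀Z' =>
    hZ'.2.isPreconnected.subset_connectedComponentIn hx₀Z' hZ'y
  have hZmax : ∀ Z' : Set X, IsIrreducible Z' → Z' ⊆ f.base ⁻¹' {y} →
      connectedComponentIn (f.base ⁻¹' {y}) x₀ ⊆ Z' →
      Z' = connectedComponentIn (f.base ⁻¹' {y}) x₀ := fun Z' hZ' hZ'y hle =>
    Set.Subset.antisymm (hsub Z' hZ' hZ'y (hle hx₀Z)) hle
  obtain ⟨ζ₀, hfζ₀, hZeq, hζ₀max⟩ :=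
    exists_generic_of_maximal_irreducible f y _ hZy hirr hZmax
  have hcoh : Order.coheight (f.asFiber ζ₀) = ((0 : ℕ) : ℕ∞) := by
    rw [coheight_asFiber_of_fibre_maximal f ζ₀ hζ₀max]; rfl
  have hfdζ := fibreDimAt_eq f ζ₀ 0 hcoh
  have hdimZ : topologicalKrullDim ↥(connectedComponentIn (f.base ⁻¹' {y}) x₀) =
      FlatMor.fibreDimAt f ζ₀ := by
    rw [← hZeq, ← hfζ₀, dim_closure_inter_fibre f ζ₀, hfdζ]
    rfl
  rw [hdimZ]
  have hζ₀x₀ : ζ₀ ⤳ x₀ := by
    have : x₀ ∈ closure ({ζ₀} : Set X) ∩ f.base ⁻¹' {y} := hZeq ▸ hx₀Z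
    exact specializes_iff_mem_closure.mpr this.1
  obtain ⟨N, b, -, -, hform⟩ := fibre_formula f x₀
  apply le_antisymm
  · rw [hform]
    exact hζ₀x₀.mem_open (isOpen_setOf_fibreDimAt_le f (N + b))
      (by show FlatMor.fibreDimAt f x₀ ≤ _; rw [hform])
  · obtain ⟨z₁, m, hz₁x₀, hfz₁, hz₁max, hNm, hm⟩ :=
      exists_fibre_max f x₀ (N + b) (le_of_eq hform.symm)
    have hfz₁y : f.base z₁ = y := hfz₁.trans hx₀
    have h1 : closure ({z₁} : Set X) ∩ f.base ⁻¹' {y} ⊆
        connectedComponentIn (f.base ⁻¹' {y}) x₀ :=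
      hsub _ (isIrreducible_of_mem_of_subset_closure (a := z₁) ⟨subset_closure rfl, hfz₁y⟩
        Set.inter_subset_left) Set.inter_subset_right ⟨hz₁x₀.mem_closure, hx₀⟩
    have h2 : z₁ ∈ closure ({ζ₀} : Set X) ∩ f.base ⁻¹' {y} :=
      hZeq ▸ h1 ⟨subset_closure rfl, hfz₁y⟩
    have h3 : ζ₀ ⤳ z₁ := specializes_iff_mem_closure.mpr h2.1
    have h4 : ζ₀ = z₁ := hz₁max ζ₀ (hfζ₀.trans hfz₁y.symm) h3
    subst h4
    rw [hform]
    have h5 : (m : WithBot ℕ∞) ≤ FlatMor.fibreDimAt f ζ₀ :=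
      natCast_trdeg_le_fibreDimAt f ζ₀ ζ₀ specializes_rfl rfl m hm
    exact le_trans (by exact_mod_cast hNm) h5

/-- Upper semicontinuity of `y ↦ dim_{g y}(X_y)` for a section `g`. -/
theorem upperSemicontinuous_fibreDimAt_section {X Y : Scheme.{u}} (f : X ⟶ Y)
    [LocallyOfFiniteType f] (g : Y ⟶ X) :
    UpperSemicontinuous (fun y : Y => FlatMor.fibreDimAt f (g.base y)) := by
  intro y c hc
  obtain ⟨n, b, -, -, hform⟩ := fibre_formula f (g.base y)
  have hopen := (isOpen_setOf_fibreDimAt_le f (n + b)).preimage g.continuous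
  have hy : y ∈ g.base ⁻¹' {x : X | FlatMor.fibreDimAt f x ≤ ((n + b : ℕ) : WithBot ℕ∞)} := by
    show FlatMor.fibreDimAt f (g.base y) ≤ _; rw [hform]
  filter_upwards [hopen.mem_nhds hy] with z hz
  have hz' : FlatMor.fibreDimAt f (g.base z) ≤ ((n + b : ℕ) : WithBot ℕ∞) := hz
  exact lt_of_le_of_lt hz' (by rw [← hform]; exact hc)

/-- The projection from the base change of a scheme over a field to a field extension is
surjective. -/
theorem bcπ_surjective {k : Type u} [Field k] {F : Scheme.{u}}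
    (s : F ⟶ Spec (CommRingCat.of k)) (K : Type u) [Field K] [Algebra k K] :
    Function.Surjective (FBase.bcπ s K).base := by
  intro x
  have hsub : Subsingleton (PrimeSpectrum k) := inferInstance
  obtain ⟨z, hz, -⟩ := Scheme.Pullback.exists_preimage_pullback (f := s)
    (g := Spec.map (CommRingCat.ofHom (algebraMap k K))) x
    (⊥ : PrimeSpectrum K) (Subsingleton.elim (α := PrimeSpectrum k) _ _)
  exact ⟨z, hz⟩

/-- Irreducibility of a subset of a fibre from irreducibility of its preimage in a base change of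
the fibre to a field extension. -/
theorem isIrreducible_of_bc {X Y : Scheme.{u}} (f : X ⟶ Y) (y : Y) (S : Set X)
    (hS : S ⊆ f.base ⁻¹' {y})
    (K : Type u) [Field K] [Algebra (IsLocalRing.ResidueField (Y.presheaf.stalk y)) K]
    (h : IsIrreducible ((FBase.bcπ (f.fiberToSpecResidueField y) K ≫ f.fiberι y).base ⁻¹' S)) :
    IsIrreducible S := by
  have hrange : S ⊆ Set.range (FBase.bcπ (f.fiberToSpecResidueField y) K ≫ f.fiberι y).base := by
    intro x hx
    obtain ⟨t, ht⟩ : x ∈ Set.range (f.fiberι y).base := by rw [f.range_fiberι]; exact hS hx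
    obtain ⟨t', ht'⟩ := bcπ_surjective (f.fiberToSpecResidueField y) K t
    exact ⟨t', by rw [Scheme.Hom.comp_apply, ht', ht]⟩
  rw [← Set.image_preimage_eq_of_subset hrange]
  exact h.image _ (Scheme.Hom.continuous _).continuousOn

/-- **S4954.** -/
theorem main_S4954 {X Y : Scheme.{u}} (f : X ⟶ Y) [LocallyOfFinitePresentation f] (g : Y ⟶ X)
    (hg : g ≫ f = 𝟙 Y)
    (hirr : ∀ y : Y, (∀ (K : Type u) [Field K]
        [Algebra (IsLocalRing.ResidueField (Y.presheaf.stalk y)) K],
        IsIrreducible ((FBase.bcπ (f.fiberToSpecResidueField y) K ≫ f.fiberι y).base ⁻¹'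
          connectedComponentIn (f.base ⁻¹' {y}) (g.base y)))) :
    UpperSemicontinuous (fun y : Y =>
      topologicalKrullDim ↥(connectedComponentIn (f.base ⁻¹' {y}) (g.base y))) := by
  have hfg : ∀ y : Y, f.base (g.base y) = y := by
    intro y
    have h1 := congrArg (fun ψ : Y ⟶ Y => ψ.base y) hg
    exact h1
  have hdim : ∀ y : Y, topologicalKrullDim ↥(connectedComponentIn (f.base ⁻¹' {y}) (g.base y)) =
      FlatMor.fibreDimAt f (g.base y) := by
    intro y
    apply dim_eq_fibreDimAt_of_irreducible f y (g.base y) (hfg y)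
    exact isIrreducible_of_bc f y _ (connectedComponentIn_subset _ _)
      (IsLocalRing.ResidueField (Y.presheaf.stalk y)) (hirr y _)
  have := upperSemicontinuous_fibreDimAt_section f g
  convert this using 1
  funext y
  exact hdim y

end Groth.Agent.H60.SectionComp
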