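import Mathlib
import Groth.Agent.H60.SectionComp
import Groth.Agent.H60.UnivOpenAtFibre
import Groth.Agent.H60.FibreDimBC
import Groth.Agent.H7.UnivOpenAtDVR

/-!
# S3458: universal openness along a geometrically irreducible section component of constant
dimension
-/

set_option autoImplicit false
set_option linter.style.haveILetI false
universe u

open AlgebraicGeometry CategoryTheory CategoryTheory.Limits Topology

namespace Groth.Agent.H60.SectionUnivOpen

open Groth.Agent.H54 Groth.Agent.H9.DimFormulaEq Groth.Agent.H71.DimFun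
  Groth.Agent.H9.FibreFormula Groth.Agent.H9.FibDim Groth.Agent.H9.Equidim
  Groth.Agent.H60.EquidimAtFlat Groth.Agent.H60.EquidimAtConv Groth.Agent.H60.EquidimComp
  Groth.Agent.H60.EquidimFibMax Groth.Agent.H60.EquidimCrit Groth.Agent.H60.DimFormulaIff
  Groth.Agent.H60.FibreDimsGeneric Groth.Agent.H60.GenOpen Groth.Agent.H60.GenOpenApps
  Groth.Agent.H60.GenOpenGen Groth.Agent.H60.GenOpenProper Groth.Agent.H60.GenOpenComp
  Groth.Agent.H60.SectionComp Groth.Agent.H60.UnivOpenAtTop Groth.Agent.H60.UnivOpenAtComp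
  Groth.Agent.H60.UnivOpenAtMain Groth.Agent.H60.UnivOpenAtFibre Groth.Agent.H60.FibreDimBC

set_option backward.isDefEq.respectTransparency false in
/-- The part of the fibre over `s` of a base change `X ×_Y Y' ⟶ Y'` lying over a subset `S` of
`X` which is "geometrically irreducible in the fibre over `h s`" is irreducible. -/
theorem isIrreducible_fibre_baseChange {X Y Y' : Scheme.{u}} (f : X ⟶ Y) (h : Y' ⟶ Y) (s : Y')
    (S : Set X)
    (hgi : ∀ (K : Type u) [Field K]
      [Algebra (IsLocalRing.ResidueField (Y.presheaf.stalk (h.base s))) K],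
      IsIrreducible ((FBase.bcπ (f.fiberToSpecResidueField (h.base s)) K ≫
        f.fiberι (h.base s)).base ⁻¹' S)) :
    IsIrreducible {q : ↥(pullback f h) | (pullback.snd f h).base q = s ∧
      (pullback.fst f h).base q ∈ S} := by
  letI alg : Algebra (IsLocalRing.ResidueField (Y.presheaf.stalk (h.base s)))
      (Y'.residueField s) := (h.residueFieldMap s).hom.toAlgebra
  have hirr := hgi (Y'.residueField s)
  have sq := isPullback_fiberToSpecResidueField_of_isPullback (IsPullback.of_hasPullback f h) s
  have hmap : Spec.map (CommRingCat.ofHom (algebraMap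
      (IsLocalRing.ResidueField (Y.presheaf.stalk (h.base s))) (Y'.residueField s))) =
      Spec.map (h.residueFieldMap s) := rfl
  set μ := pullback.map (pullback.snd f h) (Y'.fromSpecResidueField s) f
    (Y.fromSpecResidueField (h.base s)) (pullback.fst f h) (Spec.map (h.residueFieldMap s)) h
    (IsPullback.of_hasPullback f h).w.symm (by simp) with hμ
  have hμι : μ ≫ f.fiberι (h.base s) = (pullback.snd f h).fiberι s ≫ pullback.fst f h := by
    rw [hμ]
    exact pullback.lift_fst _ _ _
  let e : (pullback.snd f h).fiber s ≅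
      FBase.bc (f.fiberToSpecResidueField (h.base s)) (Y'.residueField s) := sq.isoPullback
  have heπ : e.hom ≫ FBase.bcπ (f.fiberToSpecResidueField (h.base s)) (Y'.residueField s) = μ :=
    sq.isoPullback_hom_fst
  have himage : {q : ↥(pullback f h) | (pullback.snd f h).base q = s ∧
      (pullback.fst f h).base q ∈ S} =
      (e.inv ≫ (pullback.snd f h).fiberι s).base ''
        ((FBase.bcπ (f.fiberToSpecResidueField (h.base s)) (Y'.residueField s) ≫
          f.fiberι (h.base s)).base ⁻¹' S) := by
    ext q
    constructor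
    · rintro ⟨hq1, hq2⟩
      obtain ⟨qt, hqt⟩ : q ∈ Set.range ((pullback.snd f h).fiberι s).base := by
        rw [(pullback.snd f h).range_fiberι]; exact hq1
      refine ⟨e.hom.base qt, ?_, ?_⟩
      · show (FBase.bcπ (f.fiberToSpecResidueField (h.base s)) (Y'.residueField s) ≫
          f.fiberι (h.base s)).base (e.hom.base qt) ∈ S
        rw [← Scheme.Hom.comp_apply, ← Category.assoc, heπ, hμι, Scheme.Hom.comp_apply, hqt]
        exact hq2
      · rw [← Scheme.Hom.comp_apply, ← Category.assoc, Iso.hom_inv_id, Category.id_comp, hqt]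
    · rintro ⟨b, hb, rfl⟩
      have hb' : (FBase.bcπ (f.fiberToSpecResidueField (h.base s)) (Y'.residueField s) ≫
          f.fiberι (h.base s)).base b ∈ S := hb
      refine ⟨?_, ?_⟩
      · have : (e.inv ≫ (pullback.snd f h).fiberι s).base b ∈
            Set.range ((pullback.snd f h).fiberι s).base :=
          ⟨e.inv.base b, by rw [Scheme.Hom.comp_apply]⟩
        rw [(pullback.snd f h).range_fiberι] at this
        exact this
      · have h1 : (e.inv ≫ (pullback.snd f h).fiberι s) ≫ pullback.fst f h =
            FBase.bcπ (f.fiberToSpecResidueField (h.base s)) (Y'.residueField s) ≫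
              f.fiberι (h.base s) := by
          rw [Category.assoc, ← hμι, ← heπ, Category.assoc, Iso.inv_hom_id_assoc]
        show (pullback.fst f h).base ((e.inv ≫ (pullback.snd f h).fiberι s).base b) ∈ S
        rw [← Scheme.Hom.comp_apply, h1]
        exact hb'
  rw [himage]
  exact hirr.image _ (Scheme.Hom.continuous _).continuousOn

/-- A point whose local fibre dimension does not exceed its transcendence degree is
fibre-maximal. -/
theorem fibre_maximal_of_fibreDimAt_le {X Y : Scheme.{u}} (f : X ⟶ Y) [LocallyOfFiniteType f]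
    (t : X) (m : ℕ)
    (hm : @Algebra.trdeg (Y.residueField (f.base t)) (X.residueField t) _ _
        (f.residueFieldMap t).hom.toAlgebra = (m : Cardinal.{u}))
    (hle : FlatMor.fibreDimAt f t ≤ (m : WithBot ℕ∞)) :
    ∀ z' : X, f.base z' = f.base t → z' ⤳ t → z' = t := by
  obtain ⟨n, b, hn, hb, hform⟩ := fibre_formula f t
  have hnm : n = m := by
    have : (n : Cardinal.{u}) = (m : Cardinal.{u}) := by rw [← hn, hm]
    exact_mod_cast this
  subst hnm
  have hb0 : b = 0 := by
    rw [hform] at hle
    have : n + b ≤ n := by exact_mod_cast hle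
    omega
  subst hb0
  rw [ringKrullDim_stalk_eq_coheight] at hb
  have hco : Order.coheight (f.asFiber t) = 0 := by exact_mod_cast hb
  have hmax : IsMax (f.asFiber t) := Order.coheight_eq_zero.mp hco
  intro z' hz' hsp
  obtain ⟨zt, hzt⟩ : z' ∈ Set.range (f.fiberι (f.base t)).base := by
    rw [f.range_fiberι]; exact hz'
  have h1 : zt ⤳ f.asFiber t := by
    rw [← (f.fiberι (f.base t)).isEmbedding.isInducing.specializes_iff, hzt, f.fiberι_asFiber]
    exact hsp
  have h2 : f.asFiber t ≤ zt := Scheme.le_iff_specializes.mpr h1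
  have h3 : f.asFiber t ⤳ zt := Scheme.le_iff_specializes.mp (hmax h2)
  have h4 : zt = f.asFiber t := (h1.antisymm h3).eq
  rw [← hzt, h4, f.fiberι_asFiber]

/-- A generization inside the fibre lies in the same connected component of the fibre. -/
theorem mem_connectedComponentIn_of_specializes {X Y : Scheme.{u}} (f : X ⟶ Y) (y : Y) {a b : X}
    (hab : a ⤳ b) (ha : f.base a = y) (hb : f.base b = y) :
    a ∈ connectedComponentIn (f.base ⁻¹' {y}) b := by
  have haC : a ∈ closure ({a} : Set X) ∩ f.base ⁻¹' {y} := ⟨subset_closure rfl, ha⟩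
  have hbC : b ∈ closure ({a} : Set X) ∩ f.base ⁻¹' {y} := ⟨hab.mem_closure, hb⟩
  have hirr : IsIrreducible (closure ({a} : Set X) ∩ f.base ⁻¹' {y}) :=
    isIrreducible_of_mem_of_subset_closure haC Set.inter_subset_left
  exact hirr.2.isPreconnected.subset_connectedComponentIn hbC Set.inter_subset_right haC

set_option backward.isDefEq.respectTransparency.types false in
/-- S3458. -/
theorem main_S3458 {X Y : Scheme.{u}} [IsLocallyNoetherian Y]
    (f : X ⟶ Y) [LocallyOfFiniteType f] (g : Y ⟶ X) (hg : g ≫ f = 𝟙 Y)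
    (hgi : ∀ (y : Y) (K : Type u) [Field K]
      [Algebra (IsLocalRing.ResidueField (Y.presheaf.stalk y)) K],
      IsIrreducible ((FBase.bcπ (f.fiberToSpecResidueField y) K ≫ f.fiberι y).base ⁻¹'
        (connectedComponentIn (f.base ⁻¹' {y}) (g.base y))))
    (y : Y)
    (hc : ∃ V ∈ nhds y, ∀ z ∈ V,
      topologicalKrullDim ↥(connectedComponentIn (f.base ⁻¹' {z}) (g.base z)) =
        topologicalKrullDim ↥(connectedComponentIn (f.base ⁻¹' {y}) (g.base y))) :
    ∀ x ∈ connectedComponentIn (f.base ⁻¹' {y}) (g.base y), EGA43.IsUnivOpenAt f x := by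
  intro x hx
  have hfg : ∀ z : Y, f.base (g.base z) = z := by
    intro z
    have h1 := congrArg (fun ψ : Y ⟶ Y => ψ.base z) hg
    exact h1
  have hdim : ∀ z : Y, topologicalKrullDim ↥(connectedComponentIn (f.base ⁻¹' {z}) (g.base z)) =
      FlatMor.fibreDimAt f (g.base z) := by
    intro z
    apply dim_eq_fibreDimAt_of_irreducible f z (g.base z) (hfg z)
    exact isIrreducible_of_bc f z _ (connectedComponentIn_subset _ _)
      (IsLocalRing.ResidueField (Y.presheaf.stalk z)) (hgi z _)
  obtain ⟨V, hV, hVc⟩ := hc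
  have hfx' : x ∈ f.base ⁻¹' {y} := connectedComponentIn_subset (f.base ⁻¹' {y}) (g.base y) hx
  have hfx : f.base x = y := hfx'
  apply Groth.Agent.H7.isUnivOpenAt_of_dvr_criterion
  intro A _ _ _ h hs x' hx' hsx'
  have hsy : h.base (IsLocalRing.closedPoint A) = y := hs.trans hfx
  let η' : ↥(Spec (CommRingCat.of A)) := (⟨⊥, Ideal.isPrime_bot⟩ : PrimeSpectrum A)
  have hη's : η' ⤳ (IsLocalRing.closedPoint A : ↥(Spec (CommRingCat.of A))) :=
    (PrimeSpectrum.le_iff_specializes (⟨⊥, Ideal.isPrime_bot⟩ : PrimeSpectrum A)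
      (IsLocalRing.closedPoint A)).mp bot_le
  have hη'max : ∀ t : ↥(Spec (CommRingCat.of A)), t ⤳ η' → t = η' := by
    intro t ht
    have h1 : (show PrimeSpectrum A from t) ≤ (⟨⊥, Ideal.isPrime_bot⟩ : PrimeSpectrum A) :=
      (PrimeSpectrum.le_iff_specializes _ _).mpr ht
    exact PrimeSpectrum.ext (le_bot_iff.mp h1)
  have hη'ne : η' ≠ (IsLocalRing.closedPoint A : ↥(Spec (CommRingCat.of A))) := by
    intro h0
    have h2 : (⊥ : Ideal A) = IsLocalRing.maximalIdeal A := congrArg PrimeSpectrum.asIdeal h0
    exact IsDiscreteValuationRing.not_a_field A h2.symm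
  -- the induced section
  have hσw : (h ≫ g) ≫ f = 𝟙 _ ≫ h := by
    rw [Category.assoc, hg, Category.comp_id, Category.id_comp]
  let σ := pullback.lift (h ≫ g) (𝟙 _) hσw
  have hσ1 : σ ≫ pullback.fst f h = h ≫ g := pullback.lift_fst _ _ _
  have hσ2 : σ ≫ pullback.snd f h = 𝟙 _ := pullback.lift_snd _ _ _
  have hσfst : ∀ a, (pullback.fst f h).base (σ.base a) = g.base (h.base a) := fun a => by
    rw [← Scheme.Hom.comp_apply, hσ1, Scheme.Hom.comp_apply]
  have hσsnd : ∀ a, (pullback.snd f h).base (σ.base a) = a := fun a => by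
    rw [← Scheme.Hom.comp_apply, hσ2]; rfl
  have hcond : ∀ q : ↥(pullback f h),
      f.base ((pullback.fst f h).base q) = h.base ((pullback.snd f h).base q) := by
    intro q
    have := congrArg (fun φ : pullback f h ⟶ Y => φ.base q) (pullback.condition (f := f) (g := h))
    simpa only [Scheme.Hom.comp_apply] using this
  -- the common dimension
  obtain ⟨n, b, -, -, hform⟩ := fibre_formula f (g.base y)
  have hy'V : h.base η' ∈ V := by
    have h1 : h.base η' ⤳ y := hsy ▸ hη's.map h.continuous
    exact mem_of_mem_nhds (h1 hV)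
  have hdη' : FlatMor.fibreDimAt f (g.base (h.base η')) = ((n + b : ℕ) : WithBot ℕ∞) := by
    rw [← hdim, hVc _ hy'V, hdim, hform]
  have hA1 : FlatMor.fibreDimAt (pullback.snd f h) (σ.base η') = ((n + b : ℕ) : WithBot ℕ∞) := by
    rw [fibreDimAt_baseChange, hσfst, hdη']
  have hA2 : FlatMor.fibreDimAt (pullback.snd f h) (σ.base (IsLocalRing.closedPoint A)) =
      ((n + b : ℕ) : WithBot ℕ∞) := by
    rw [fibreDimAt_baseChange, hσfst, hsy, hform]
  -- the generic point `ζ'` of the relevant component of the generic fibre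
  obtain ⟨ζ', hζ'σ, hfζ', hζ'fmax, hζ'dim⟩ := exists_fibre_max' (pullback.snd f h) (σ.base η')
  have hfζ'η : (pullback.snd f h).base ζ' = η' := hfζ'.trans (hσsnd η')
  let W : TopologicalSpace.Closeds ↥(pullback f h) := ⟨closure {ζ'}, isClosed_closure⟩
  have hrange : Set.range (Scheme.IdealSheafData.vanishingIdeal W).subschemeι.base =
      (closure {ζ'} : Set ↥(pullback f h)) := by
    rw [Scheme.IdealSheafData.range_subschemeι,
      Scheme.IdealSheafData.coe_support_vanishingIdeal]
    rfl
  set ι := (Scheme.IdealSheafData.vanishingIdeal W).subschemeι with hι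
  have hσsZ : σ.base (IsLocalRing.closedPoint A) ∈ closure ({ζ'} : Set ↥(pullback f h)) :=
    (hζ'σ.trans (hη's.map σ.continuous)).mem_closure
  obtain ⟨w₀, hw₀⟩ : σ.base (IsLocalRing.closedPoint A) ∈ Set.range ι.base := by
    rw [hrange]; exact hσsZ
  have h3 := le_fibreDimAt_comp_of_range_eq_closure (pullback.snd f h) ζ' hζ'fmax ι hrange w₀
  obtain ⟨t', ht'w₀, hgt', ht'max, ht'dim⟩ := exists_fibre_max' (ι ≫ pullback.snd f h) w₀
  obtain ⟨m, hm, hfdm⟩ := fibreDimAt_of_fibre_maximal (ι ≫ pullback.snd f h) t' ht'max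
  have hdm : n + b ≤ m := by
    have : ((n + b : ℕ) : WithBot ℕ∞) ≤ (m : WithBot ℕ∞) := by
      rw [← hfdm, ht'dim, ← hA1, ← hζ'dim]
      exact h3
    exact_mod_cast this
  have htrdeg : @Algebra.trdeg ((Spec (CommRingCat.of A)).residueField
        ((pullback.snd f h).base (ι.base t'))) ((pullback f h).residueField (ι.base t')) _ _
        ((pullback.snd f h).residueFieldMap (ι.base t')).hom.toAlgebra = (m : Cardinal.{u}) := by
    rw [← trdeg_comp_of_surjectiveOnStalks ι (pullback.snd f h) t']
    exact hm
  have htσs : ι.base t' ⤳ σ.base (IsLocalRing.closedPoint A) := by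
    have := ht'w₀.map ι.continuous
    rwa [hw₀] at this
  have hft : (pullback.snd f h).base (ι.base t') = IsLocalRing.closedPoint A := by
    have h1 := hgt'
    rw [Scheme.Hom.comp_apply, Scheme.Hom.comp_apply, hw₀, hσsnd] at h1
    exact h1
  have htle : FlatMor.fibreDimAt (pullback.snd f h) (ι.base t') ≤ ((n + b : ℕ) : WithBot ℕ∞) :=
    htσs.mem_open (isOpen_setOf_fibreDimAt_le (pullback.snd f h) (n + b)) hA2.le
  have htmax := fibre_maximal_of_fibreDimAt_le (pullback.snd f h) (ι.base t') m htrdeg
    (htle.trans (by exact_mod_cast hdm))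
  -- the irreducible part `P` of the closed fibre
  have hP := isIrreducible_fibre_baseChange f h (IsLocalRing.closedPoint A)
    (connectedComponentIn (f.base ⁻¹' {h.base (IsLocalRing.closedPoint A)})
      (g.base (h.base (IsLocalRing.closedPoint A))))
    (hgi (h.base (IsLocalRing.closedPoint A)))
  have htP : ι.base t' ∈ {q : ↥(pullback f h) | (pullback.snd f h).base q =
      IsLocalRing.closedPoint A ∧ (pullback.fst f h).base q ∈
        connectedComponentIn (f.base ⁻¹' {h.base (IsLocalRing.closedPoint A)})
          (g.base (h.base (IsLocalRing.closedPoint A)))} := by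
    refine ⟨hft, ?_⟩
    apply mem_connectedComponentIn_of_specializes f
    · have := htσs.map (pullback.fst f h).continuous
      rwa [hσfst] at this
    · rw [hcond, hft]
    · exact hfg _
  have hx'P : x' ∈ {q : ↥(pullback f h) | (pullback.snd f h).base q =
      IsLocalRing.closedPoint A ∧ (pullback.fst f h).base q ∈
        connectedComponentIn (f.base ⁻¹' {h.base (IsLocalRing.closedPoint A)})
          (g.base (h.base (IsLocalRing.closedPoint A)))} := by
    refine ⟨hsx', ?_⟩
    rw [hx', hsy]
    exact hx
  obtain ⟨ρ, hρ⟩ := QuasiSober.sober hP.closure isClosed_closure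
  have hρcl := hρ.def
  have hρt : ρ ⤳ ι.base t' := by
    rw [specializes_iff_mem_closure, hρcl]; exact subset_closure htP
  have hρx' : ρ ⤳ x' := by
    rw [specializes_iff_mem_closure, hρcl]; exact subset_closure hx'P
  have hρs : (pullback.snd f h).base ρ = (pullback.snd f h).base (ι.base t') := by
    have h1 : (pullback.snd f h).base ρ ⤳ (pullback.snd f h).base (ι.base t') :=
      hρt.map (pullback.snd f h).continuous
    have h2 : (pullback.snd f h).base (ι.base t') ⤳ (pullback.snd f h).base ρ := by
      rw [hft, specializes_iff_mem_closure]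
      have hρmem : ρ ∈ closure {q : ↥(pullback f h) | (pullback.snd f h).base q =
          IsLocalRing.closedPoint A ∧ (pullback.fst f h).base q ∈
          connectedComponentIn (f.base ⁻¹' {h.base (IsLocalRing.closedPoint A)})
            (g.base (h.base (IsLocalRing.closedPoint A)))} := hρcl ▸ subset_closure rfl
      have h6 : (pullback.snd f h).base '' {q : ↥(pullback f h) | (pullback.snd f h).base q =
          IsLocalRing.closedPoint A ∧ (pullback.fst f h).base q ∈
          connectedComponentIn (f.base ⁻¹' {h.base (IsLocalRing.closedPoint A)})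
            (g.base (h.base (IsLocalRing.closedPoint A)))} ⊆
          {(IsLocalRing.closedPoint A : ↥(Spec (CommRingCat.of A)))} := by
        rintro _ ⟨q, hq, rfl⟩
        exact hq.1
      exact closure_mono h6
        (image_closure_subset_closure_image (pullback.snd f h).continuous ⟨ρ, hρmem, rfl⟩)
    exact (h1.antisymm h2).eq
  have hρeq : ρ = ι.base t' := htmax ρ hρs hρt
  have hζ'x' : ζ' ⤳ x' := by
    have h1 : ζ' ⤳ ι.base t' := by
      rw [specializes_iff_mem_closure, ← hrange]
      exact ⟨t', rfl⟩
    exact h1.trans (hρeq ▸ hρx')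
  refine ⟨ζ', hζ'x', ?_⟩
  rw [hfζ'η]
  exact hη'ne

end Groth.Agent.H60.SectionUnivOpen
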