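import Groth.Agent.H98.GrHt
import Groth.Agent.H29.FinDimDepth

/-!
# (M3) for helper98's S19756 squad: `dim X_m = dim X` for a finitely generated graded module over a
positively graded Noetherian *local ring `(R, m)`.
-/

set_option autoImplicit false
universe u
open DirectSum

namespace Groth.Agent.H60.SegMod_M3

section

variable {R : Type u} [CommRing R] (𝒜 : ℤ → AddSubgroup R) [GradedRing 𝒜]
  {X : Type u} [AddCommGroup X] [Module R X] (𝒳 : ℤ → AddSubgroup X) [DirectSum.Decomposition 𝒳]
  [SetLike.GradedSMul 𝒜 𝒳]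

include 𝒳 in
/-- the annihilator of a graded module is a homogeneous ideal -/
theorem annihilator_isHomogeneous : (Module.annihilator R X).IsHomogeneous 𝒜 := by
  classical
  intro i a ha
  rw [Module.mem_annihilator] at ha ⊢
  intro x
  induction x using DirectSum.Decomposition.inductionOn 𝒳 with
  | zero => rw [smul_zero]
  | @homogeneous j x =>
    have h := Groth.Agent.H98.GrCat.comp_smul_hom 𝒜 𝒳 x.2 a (i + j)
    rw [ha, decompose_zero] at h
    have e : i + j - j = i := by abel
    rw [e] at h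
    exact h.symm
  | add x y hx hy => rw [smul_add, hx, hy, add_zero]

/-- the homogeneous core as a point of the spectrum -/
noncomputable def coreP (P : PrimeSpectrum R) : PrimeSpectrum R :=
  ⟨(P.asIdeal.homogeneousCore 𝒜).toIdeal, Ideal.IsPrime.homogeneousCore P.2⟩

theorem coreP_le (P : PrimeSpectrum R) : coreP 𝒜 P ≤ P :=
  Ideal.toIdeal_homogeneousCore_le 𝒜 P.asIdeal

include 𝒳 in
theorem coreP_mem [Module.Finite R X] {P : PrimeSpectrum R} (hP : P ∈ Module.support R X) :
    coreP 𝒜 P ∈ Module.support R X := by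
  rw [Module.mem_support_iff_of_finite] at hP ⊢
  have h := annihilator_isHomogeneous 𝒜 𝒳
  calc Module.annihilator R X = ((Module.annihilator R X).homogeneousCore 𝒜).toIdeal :=
        (h.toIdeal_homogeneousCore_eq_self).symm
    _ ≤ _ := Ideal.homogeneousCore_mono 𝒜 hP

omit [GradedRing 𝒜] [DirectSum.Decomposition 𝒳] [SetLike.GradedSMul 𝒜 𝒳] in
theorem height_ne_top [IsNoetherianRing R] (x : ↥(Module.support R X)) : Order.height x ≠ ⊤ := by
  have h1 := Order.height_le_height_apply_of_strictMono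
    (fun y : ↥(Module.support R X) => y.1) (fun a b hab => hab) x
  have h2 : Order.height x.1 ≠ ⊤ := by
    rw [← PrimeSpectrum.height_eq_orderHeight]
    exact Ideal.height_ne_top x.1.2.ne_top
  exact ne_top_of_le_ne_top h2 h1

/-- `ht_{Supp X} P ≤ ht_{Supp X} P* + 1` -/
theorem height_le_core_add_one [IsNoetherianRing R] [Module.Finite R X] :
    ∀ (n : ℕ) (P : PrimeSpectrum R) (hP : P ∈ Module.support R X),
      Order.height (⟨P, hP⟩ : ↥(Module.support R X)) ≤ n →
      Order.height (⟨P, hP⟩ : ↥(Module.support R X)) ≤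
        Order.height (⟨coreP 𝒜 P, coreP_mem 𝒜 𝒳 hP⟩ : ↥(Module.support R X)) + 1 := by
  intro n
  induction n with
  | zero =>
    intro P hP h
    exact h.trans (by rw [Nat.cast_zero]; exact zero_le)
  | succ n ih =>
    intro P hP h
    obtain ⟨k, hk⟩ := ENat.ne_top_iff_exists.1
      (height_ne_top (⟨coreP 𝒜 P, coreP_mem 𝒜 𝒳 hP⟩ : ↥(Module.support R X)))
    rw [← hk]
    have e1 : ((k : ℕ∞) + 1) = ((k + 1 : ℕ) : ℕ∞) := by push_cast; rfl
    rw [e1, Order.height_le_coe_iff]
    intro Q hQP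
    have hQn : Order.height Q ≤ n := by
      have h1 : Order.height Q < Order.height (⟨P, hP⟩ : ↥(Module.support R X)) :=
        Order.height_strictMono hQP (lt_top_iff_ne_top.2 (height_ne_top Q))
      have h2 := lt_of_lt_of_le h1 h
      obtain ⟨q, hq⟩ := ENat.ne_top_iff_exists.1 (height_ne_top Q)
      rw [← hq] at h2 ⊢
      have h4 : q < n + 1 := by exact_mod_cast h2
      exact_mod_cast Nat.lt_succ_iff.1 h4
    have ih' := ih Q.1 Q.2 hQn
    have hQPi : Q.1.asIdeal < P.asIdeal := hQP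
    have hmono : coreP 𝒜 Q.1 ≤ coreP 𝒜 P := Ideal.homogeneousCore_mono 𝒜 hQPi.le
    have hQk : Order.height Q ≤ k := by
      rw [hk]
      by_cases heq : coreP 𝒜 Q.1 = coreP 𝒜 P
      · have hQle : Q.1.asIdeal ≤ (coreP 𝒜 P).asIdeal :=
          Groth.Agent.H98.GrHt.le_of_lt_of_core 𝒜 (coreP 𝒜 P).2
            (P.asIdeal.homogeneousCore 𝒜).isHomogeneous P.2 Q.1.2
            (by rw [← heq]; exact coreP_le 𝒜 Q.1) hQPi
            (fun e s hs hsP => Ideal.mem_homogeneousCore_of_homogeneous_of_mem ⟨e, hs⟩ hsP)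
        exact Order.height_mono
          (show Q ≤ (⟨coreP 𝒜 P, coreP_mem 𝒜 𝒳 hP⟩ : ↥(Module.support R X)) from hQle)
      · have hlt : (⟨coreP 𝒜 Q.1, coreP_mem 𝒜 𝒳 Q.2⟩ : ↥(Module.support R X)) <
            ⟨coreP 𝒜 P, coreP_mem 𝒜 𝒳 hP⟩ :=
          lt_of_le_of_ne hmono (fun h => heq (congrArg Subtype.val h))
        exact ih'.trans (Order.height_add_one_le hlt)
    exact lt_of_le_of_lt hQk (by exact_mod_cast Nat.lt_succ_self k)

end

/-- (M3) -/
theorem supportDim_atStarMax {R : Type u} [CommRing R] [IsNoetherianRing R] (𝒜 : ℤ → AddSubgroup R)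
    [GradedRing 𝒜] (hpos : ∀ n : ℤ, n < 0 → 𝒜 n = ⊥) (m : HomogeneousIdeal 𝒜)
    (hm : GrLC.IsStarLocal 𝒜 m) [m.toIdeal.IsPrime]
    (X : Type u) [AddCommGroup X] [Module R X] (𝒳 : ℤ → AddSubgroup X) [DirectSum.Decomposition 𝒳]
    [SetLike.GradedSMul 𝒜 𝒳] [Module.Finite R X] :
    Module.supportDim (Localization.AtPrime m.toIdeal) (LocalizedModule m.toIdeal.primeCompl X) =
      Module.supportDim R X := by
  have hmax : m.toIdeal.IsMaximal := Groth.Agent.H98.GrCat.isMaximal_of_isCoatom 𝒜 hpos m hm.1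
  let mP : PrimeSpectrum R := ⟨m.toIdeal, inferInstance⟩
  by_cases hX : Subsingleton X
  · rw [Module.supportDim_eq_bot_of_subsingleton, Module.supportDim_eq_bot_of_subsingleton]
  · rw [not_subsingleton_iff_nontrivial] at hX
    have hann : Module.annihilator R X ≠ ⊤ := by
      intro h
      have h1 : (1 : R) ∈ Module.annihilator R X := h ▸ Submodule.mem_top
      rw [Module.mem_annihilator] at h1
      obtain ⟨x, y, hxy⟩ := hX
      exact hxy (by rw [← one_smul R x, ← one_smul R y, h1 x, h1 y])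
    have hmS : mP ∈ Module.support R X := by
      rw [Module.mem_support_iff_of_finite]
      exact Groth.Agent.H98.GrHt.le_of_isStarLocal 𝒜 m hm
        ⟨Module.annihilator R X, annihilator_isHomogeneous 𝒜 𝒳⟩
        (fun h => hann (congrArg HomogeneousIdeal.toIdeal h))
    have h1 : Module.supportDim (Localization.AtPrime m.toIdeal)
        (LocalizedModule m.toIdeal.primeCompl X) =
        ((Order.height (⟨mP, hmS⟩ : ↥(Module.support R X)) : ℕ∞) : WithBot ℕ∞) :=
      Groth.Agent.H29.FinDimDepth.supportDim_atPrime_eq_height mP hmS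
    rw [h1]
    apply le_antisymm
    · exact Order.height_le_krullDim _
    · rw [Module.supportDim, Order.krullDim_eq_iSup_height]
      apply iSup_le
      intro P
      rw [WithBot.coe_le_coe]
      have hcp_le : coreP 𝒜 P.1 ≤ mP :=
        Groth.Agent.H98.GrHt.le_of_isStarLocal 𝒜 m hm (P.1.asIdeal.homogeneousCore 𝒜)
          (fun h => (coreP 𝒜 P.1).2.ne_top (by
            show (P.1.asIdeal.homogeneousCore 𝒜).toIdeal = ⊤
            rw [h]
            rfl))
      by_cases heq : coreP 𝒜 P.1 = mP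
      · have h2 : m.toIdeal ≤ P.1.asIdeal := by
          have h3 := coreP_le 𝒜 P.1
          rw [heq] at h3
          exact h3
        have h3 : m.toIdeal = P.1.asIdeal := hmax.eq_of_le P.1.2.ne_top h2
        have h4 : P = ⟨mP, hmS⟩ := Subtype.ext (PrimeSpectrum.ext h3.symm)
        rw [h4]
      · have hlt : (⟨coreP 𝒜 P.1, coreP_mem 𝒜 𝒳 P.2⟩ : ↥(Module.support R X)) < ⟨mP, hmS⟩ :=
          lt_of_le_of_ne hcp_le (fun h => heq (congrArg Subtype.val h))
        obtain ⟨n, hn⟩ := ENat.ne_top_iff_exists.1 (height_ne_top P)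
        have h5 := height_le_core_add_one 𝒜 𝒳 n P.1 P.2 (le_of_eq hn.symm)
        exact h5.trans (Order.height_add_one_le hlt)

end Groth.Agent.H60.SegMod_M3
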