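import Mathlib

set_option autoImplicit false

universe u v w

open CategoryTheory CategoryTheory.Limits Opposite

namespace Groth.Agent.H60.UM_P5

/-- A morphism of the underlying abelian sheaves of two sheaves of `Λ`-modules which commutes
with all the scalar multiplications lifts to a morphism of sheaves of `Λ`-modules. -/
theorem exists_lift_of_comm {C : Type u} [Category.{w} C] (J : GrothendieckTopology C)
    (Λ : Type v) [CommRing Λ]
    [J.HasSheafCompose (forget₂ (ModuleCat.{v} Λ) AddCommGrpCat.{v})]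
    {F' F : Sheaf J (ModuleCat.{v} Λ)}
    (h : (sheafCompose J (forget₂ (ModuleCat.{v} Λ) AddCommGrpCat.{v})).obj F' ⟶
      (sheafCompose J (forget₂ (ModuleCat.{v} Λ) AddCommGrpCat.{v})).obj F)
    (hcomm : ∀ a : Λ,
      (sheafCompose J (forget₂ (ModuleCat.{v} Λ) AddCommGrpCat.{v})).map (a • 𝟙 F') ≫ h =
        h ≫ (sheafCompose J (forget₂ (ModuleCat.{v} Λ) AddCommGrpCat.{v})).map (a • 𝟙 F)) :
    ∃ g : F' ⟶ F,
      (sheafCompose J (forget₂ (ModuleCat.{v} Λ) AddCommGrpCat.{v})).map g = h := by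
  -- the underlying additive maps
  let φ : ∀ U : Cᵒᵖ, F'.obj.obj U →+ F.obj.obj U := fun U => (h.hom.app U).hom
  have key : ∀ (U : Cᵒᵖ) (a : Λ) (x : F'.obj.obj U), φ U (a • x) = a • φ U x := by
    intro U a x
    have h1 := congrArg (fun k => (k.hom.app U).hom x) (hcomm a)
    exact h1
  have nat : ∀ {U V : Cᵒᵖ} (f : U ⟶ V) (x : F'.obj.obj U),
      φ V ((F'.obj.map f).hom x) = (F.obj.map f).hom (φ U x) := by
    intro U V f x
    have h1 := congrArg (fun k => k.hom x) (h.hom.naturality f)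
    exact h1
  let ψ : ∀ U : Cᵒᵖ, F'.obj.obj U ⟶ F.obj.obj U := fun U =>
    ModuleCat.ofHom { toFun := φ U, map_add' := map_add _, map_smul' := fun a x => key U a x }
  have ψnat : ∀ {U V : Cᵒᵖ} (f : U ⟶ V), F'.obj.map f ≫ ψ V = ψ U ≫ F.obj.map f := by
    intro U V f
    ext x
    exact nat f x
  let τ : F'.obj ⟶ F.obj := { app := ψ, naturality := fun _ _ f => ψnat f }
  refine ⟨⟨τ⟩, ?_⟩
  ext U x
  rfl

end Groth.Agent.H60.UM_P5
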