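import Mathlib
import Groth.Agent.H38.UnivOpenAtDim
import Groth.Agent.H60.UnivOpenAtFibre
import Groth.Agent.H60.UnivOpenAtComp
import Groth.Agent.H60.EquidimComp
import Groth.Agent.H7.ChevalleyPointwise
import Groth.Agent.H9.FibDimTop

/-!
# S14075: a universally open morphism locally of finite type satisfies condition (T)
(every point lies on an irreducible component which is equidimensional over the base at it).
No Noetherian hypotheses.
-/

set_option autoImplicit false
set_option linter.style.haveILetI false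
universe u

open AlgebraicGeometry CategoryTheory CategoryTheory.Limits Topology

namespace Groth.Agent.H60.UnivOpenCondT

open Groth.Agent.H54 Groth.Agent.H9.FibDim Groth.Agent.H60.EquidimAtFlat
  Groth.Agent.H60.EquidimCrit Groth.Agent.H60.UnivOpenAtFibre Groth.Agent.H60.UnivOpenAtComp

set_option backward.isDefEq.respectTransparency false in
/-- If `f` is universally open at a fibre-maximal generization of `x` of the same local fibre
dimension, then `x` lies on an irreducible component equidimensional over the base at `x`. -/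
theorem exists_component_isEquidimAt {X S : Scheme.{u}} (f : X ⟶ S) [LocallyOfFiniteType f]
    (x z : X) (hzx : z ⤳ x) (hfz : f.base z = f.base x)
    (hzmax : ∀ z' : X, f.base z' = f.base z → z' ⤳ z → z' = z)
    (hzdim : FlatMor.fibreDimAt f z = FlatMor.fibreDimAt f x)
    (hopen : EGA43.IsUnivOpenAt f z) :
    ∃ W : TopologicalSpace.Closeds X, (W : Set X) ∈ irreducibleComponents (X : Type u) ∧
      ∃ w : ↥((Scheme.IdealSheafData.vanishingIdeal W).subscheme),
        (Scheme.IdealSheafData.vanishingIdeal W).subschemeι.base w = x ∧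
        EGA43.IsEquidimAt ((Scheme.IdealSheafData.vanishingIdeal W).subschemeι ≫ f) w := by
  have hzmax' : ∀ x' : X, f.base x' = f.base z → z ∈ closure {x'} → x' = z :=
    fun x' h1 h2 => hzmax x' h1 (specializes_iff_mem_closure.mpr h2)
  have hb' : ∀ U : X.Opens, z ∈ U → ∀ y' : S, y' ⤳ f.base z →
      FlatMor.fibreDimAt f z ≤ topologicalKrullDim ↥((U : Set X) ∩ f.base ⁻¹' {y'}) :=
    fun U hzU y' hy' =>
      Groth.Agent.H38.UnivOpenAtDim.fibreDimAt_le_of_isUnivOpenAt f z hzmax' hopen U hzU y' hy'
  obtain ⟨Z, hZ, hzZ, hcl, hdim⟩ :=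
    Groth.Agent.H38.UnivOpenAtDim.exists_component_of_forall_le f z hb'
      (irreducibleComponent (f.base z)) (irreducibleComponent_mem_irreducibleComponents _)
      mem_irreducibleComponent
  have hZcl : IsClosed Z := isClosed_of_mem_irreducibleComponents Z hZ
  obtain ⟨ξ, hξ⟩ := QuasiSober.sober hZ.1 hZcl
  have hξcl : closure ({ξ} : Set X) = Z := hξ.def
  have hξz : ξ ⤳ z := by rw [specializes_iff_mem_closure, hξcl]; exact hzZ
  have hξx : ξ ⤳ x := hξz.trans hzx
  have hξmax : ∀ t : X, t ⤳ ξ → t = ξ := by
    intro t ht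
    have h1 : closure ({t} : Set X) ≤ Z := by
      apply hZ.2 isIrreducible_singleton.closure
      rw [← hξcl]
      exact specializes_iff_closure_subset.mp ht
    have h2 : ξ ⤳ t := by
      rw [specializes_iff_mem_closure, hξcl]; exact h1 (subset_closure rfl)
    exact (ht.antisymm h2).eq
  have hξfmax : ∀ z' : X, f.base z' = f.base ξ → z' ⤳ ξ → z' = ξ := fun z' _ h => hξmax z' h
  have hηcl : closure ({f.base ξ} : Set S) = irreducibleComponent (f.base z) := by
    rw [← Groth.Agent.H60.EquidimCrit.closure_image_closure, hξcl, hcl]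
  -- the generic fibre dimension of the component equals the fibre dimension at `x`
  obtain ⟨hd1, hd2⟩ := hdim (f.base ξ) hηcl
  have hdimξ : FlatMor.fibreDimAt f ξ = FlatMor.fibreDimAt f x := by
    rw [← hzdim, hd1, hd2, ← hξcl]
    exact (dim_closure_inter_fibre_of_fibre_maximal f ξ hξfmax).symm
  obtain ⟨n, hn⟩ := Groth.Agent.H38.FibreDimCons.exists_fibreDimAt_eq f x
  let W : TopologicalSpace.Closeds X := ⟨Z, hZcl⟩
  set ι := (Scheme.IdealSheafData.vanishingIdeal W).subschemeι with hι
  have hrange : Set.range ι.base = (W : Set X) := by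
    rw [hι, Scheme.IdealSheafData.range_subschemeι,
      Scheme.IdealSheafData.coe_support_vanishingIdeal]
  have hrange' : Set.range ι.base = closure ({ξ} : Set X) := by rw [hrange, hξcl]; rfl
  have hemb : Topology.IsEmbedding ι.base := ι.isClosedEmbedding.isEmbedding
  obtain ⟨w, hw⟩ : x ∈ Set.range ι.base := by
    rw [hrange']; exact hξx.mem_closure
  obtain ⟨ξZ, hξZ⟩ : ξ ∈ Set.range ι.base := by
    rw [hrange']; exact subset_closure rfl
  have hgen : ∀ t, ξZ ⤳ t := by
    intro t
    rw [← hemb.isInducing.specializes_iff, hξZ, specializes_iff_mem_closure, ← hrange']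
    exact ⟨t, rfl⟩
  refine ⟨W, hZ, w, hw, ?_⟩
  have hUo : IsOpen {t | FlatMor.fibreDimAt (ι ≫ f) t ≤ n} :=
    isOpen_setOf_fibreDimAt_le (ι ≫ f) n
  have hwU : FlatMor.fibreDimAt (ι ≫ f) w ≤ n := by
    have h1 := fibreDimAt_comp_le ι f w
    rw [hw, hn] at h1
    exact h1
  apply isEquidimAt_of_forall' (ι ≫ f) w n ⟨_, hUo⟩ hwU
  · intro ζ _ hζmax
    have hζ : ξZ = ζ := hζmax ξZ (hgen ζ)
    subst hζ
    have h1 : (ι ≫ f).base ξZ = f.base ξ := by
      rw [Scheme.Hom.comp_apply, hξZ]
    have h2 : (ι ≫ f).base w = f.base x := by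
      rw [Scheme.Hom.comp_apply, hw]
    rw [h1, h2]
    refine ⟨?_, hξx.map f.continuous⟩
    rw [hηcl]
    exact irreducibleComponent_mem_irreducibleComponents _
  · intro t ht
    apply le_antisymm ht
    have h1 := le_fibreDimAt_comp_of_range_eq_closure f ξ hξfmax ι hrange' t
    rw [hdimξ, hn] at h1
    exact h1

/-- **S14075**: a universally open morphism locally of finite type satisfies condition (T). -/
theorem main {X S : Scheme.{u}} (f : X ⟶ S) [LocallyOfFiniteType f]
    [UniversallyOpen f] (x : X) :
    ∃ W : TopologicalSpace.Closeds X, (W : Set X) ∈ irreducibleComponents (X : Type u) ∧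
      ∃ w : ↥((Scheme.IdealSheafData.vanishingIdeal W).subscheme),
        (Scheme.IdealSheafData.vanishingIdeal W).subschemeι.base w = x ∧
        EGA43.IsEquidimAt ((Scheme.IdealSheafData.vanishingIdeal W).subschemeι ≫ f) w := by
  obtain ⟨z, hzx, hfz, hzmax, hzdim⟩ := exists_fibre_max' f x
  exact exists_component_isEquidimAt f x z hzx hfz hzmax hzdim
    (Groth.Agent.H7.isUnivOpenAt_of_universallyOpen' f z)

end Groth.Agent.H60.UnivOpenCondT
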