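import Mathlib
import Groth.Agent.H69.DimAffSpaceC

set_option autoImplicit false
set_option linter.style.haveILetI false
universe u
open CategoryTheory CategoryTheory.Limits AlgebraicGeometry

namespace Groth.Agent.H60.WI_DS

/-- A locally closed subset of a scheme is the range of an immersion. -/
theorem exists_immersion_range {W : Scheme.{u}} (A : Set W) (hA : IsLocallyClosed A) :
    ∃ (𝒜 : Scheme.{u}) (j : 𝒜 ⟶ W), IsImmersion j ∧ Set.range j.base = A := by
  let Zc : TopologicalSpace.Closeds W := ⟨closure A, isClosed_closure⟩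
  let I := Scheme.IdealSheafData.vanishingIdeal Zc
  let U : W.Opens := ⟨coborder A, hA.isOpen_coborder⟩
  let V : I.subscheme.Opens := I.subschemeι ⁻¹ᵁ U
  refine ⟨V.toScheme, V.ι ≫ I.subschemeι, inferInstance, ?_⟩
  rw [Scheme.Hom.comp_base, TopCat.coe_comp, Set.range_comp, Scheme.Opens.range_ι]
  change I.subschemeι.base '' (I.subschemeι.base ⁻¹' (coborder A)) = A
  rw [Set.image_preimage_eq_inter_range, Scheme.IdealSheafData.range_subschemeι,
    Scheme.IdealSheafData.coe_support_vanishingIdeal]
  exact coborder_inter_closure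

/-- The source of an embedding-like morphism has the dimension of its range. -/
theorem dim_eq_of_range_eq {𝒜 W : Scheme.{u}} (j : 𝒜 ⟶ W) [IsPreimmersion j] (A : Set W)
    (h : Set.range j.base = A) : topologicalKrullDim 𝒜 = topologicalKrullDim ↥A := by
  subst h
  exact (j.isEmbedding.toHomeomorph).isHomeomorph.topologicalKrullDim_eq

variable (k : Type u) [Field k]

/-- (DS) dimension does not increase under a surjection of locally closed subsets -/
theorem dim_le_of_image_eq {W W' : Scheme.{u}} (p : W ⟶ Spec (CommRingCat.of k))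
    (p' : W' ⟶ Spec (CommRingCat.of k)) [LocallyOfFiniteType p] [LocallyOfFiniteType p']
    (g : W ⟶ W') (hg : g ≫ p' = p) (A : Set W) (hA : IsLocallyClosed A) (B : Set W')
    (hB : IsLocallyClosed B) (hAB : g.base '' A = B) :
    topologicalKrullDim ↥B ≤ topologicalKrullDim ↥A := by
  obtain ⟨𝒜, j, hj, hjr⟩ := exists_immersion_range A hA
  obtain ⟨ℬ, j', hj', hjr'⟩ := exists_immersion_range B hB
  haveI := hj
  haveI := hj'
  rw [← dim_eq_of_range_eq j A hjr, ← dim_eq_of_range_eq j' B hjr']
  -- the fibre product
  let fst := pullback.fst (j ≫ g) j'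
  let snd := pullback.snd (j ≫ g) j'
  have hrange : Set.range (j ≫ g).base = B := by
    rw [Scheme.Hom.comp_base, TopCat.coe_comp, Set.range_comp, hjr, hAB]
  have hfst : Function.Surjective fst.base := by
    rw [← Set.range_eq_univ]
    have := Scheme.Pullback.range_fst (j ≫ g) j'
    rw [this, hjr', ← hrange]
    ext x
    simp
  have hsnd : Function.Surjective snd.base := by
    rw [← Set.range_eq_univ]
    have := Scheme.Pullback.range_snd (j ≫ g) j'
    rw [this, hrange, ← hjr']
    ext x
    simp
  -- `fst` is a surjective immersion, hence a homeomorphism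
  have hhomeo : IsHomeomorph fst.base :=
    isHomeomorph_iff_isEmbedding_surjective.2 ⟨fst.isEmbedding, hfst⟩
  rw [← hhomeo.topologicalKrullDim_eq]
  have hcomm : snd ≫ (j' ≫ p') = fst ≫ j ≫ p := by
    rw [← hg, ← Category.assoc, ← pullback.condition]
    simp [fst, Category.assoc]
  exact Groth.Agent.H69.DimAffSpace.topologicalKrullDim_le_of_surjective k (j' ≫ p')
    (fst ≫ j ≫ p) snd hcomm hsnd

end Groth.Agent.H60.WI_DS
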