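import Mathlib

set_option autoImplicit false

open Order Topology TopologicalSpace

namespace Groth.Agent.H60.WI_TL

/-- (TL) a proper closed subset of an irreducible set of finite dimension has smaller
dimension. -/
theorem dim_lt_of_ssubset_irreducible {T : Type*} [TopologicalSpace T] (Y C : Set T)
    (hYi : IsIrreducible Y) (hC : IsClosed C) (hCY : C ⊂ Y)
    (hfin : topologicalKrullDim ↥Y < ⊤) : topologicalKrullDim ↥C < topologicalKrullDim ↥Y := by
  classical
  have hirr : IrreducibleSpace ↥Y := Subtype.irreducibleSpace hYi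
  -- the inclusion `C → Y`
  let ι : ↥C → ↥Y := Set.inclusion hCY.subset
  have hι : IsInducing ι := (Topology.IsEmbedding.inclusion hCY.subset).isInducing
  let f : IrreducibleCloseds ↥C → IrreducibleCloseds ↥Y := IrreducibleCloseds.map ι hι.continuous
  have hf : StrictMono f := IrreducibleCloseds.map_strictMono_of_isInducing hι
  -- the top element of `IrreducibleCloseds Y`
  let top : IrreducibleCloseds ↥Y :=
    ⟨Set.univ, (irreducibleSpace_def _).1 hirr, isClosed_univ⟩
  -- the image of `C` in `Y` is a proper closed subset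
  have hCcl : IsClosed (Subtype.val ⁻¹' C : Set ↥Y) := hC.preimage continuous_subtype_val
  have hlt : ∀ c : IrreducibleCloseds ↥C, f c < top := by
    intro c
    have hsub : (f c : Set ↥Y) ⊆ Subtype.val ⁻¹' C := by
      change closure (ι '' (c : Set ↥C)) ⊆ _
      refine closure_minimal ?_ hCcl
      rintro _ ⟨x, -, rfl⟩
      exact x.2
    obtain ⟨y, hyY, hyC⟩ := Set.exists_of_ssubset hCY
    refine lt_of_le_of_ne (fun x _ => Set.mem_univ x) ?_
    intro heq
    have : (⟨y, hyY⟩ : ↥Y) ∈ (f c : Set ↥Y) := by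
      have h2 : (f c : Set ↥Y) = (top : Set ↥Y) := congrArg (fun z : IrreducibleCloseds ↥Y => (z : Set ↥Y)) heq
      rw [h2]
      exact Set.mem_univ _
    exact hyC (hsub this)
  -- `dim Y` is a natural number
  have hne : Nonempty (IrreducibleCloseds ↥Y) := ⟨top⟩
  have hbot : ⊥ < topologicalKrullDim ↥Y := Order.bot_lt_krullDim
  obtain ⟨m, hm⟩ : ∃ m : ℕ, topologicalKrullDim ↥Y = (m : WithBot ℕ∞) := by
    have h1 : topologicalKrullDim ↥Y ≠ ⊥ := hbot.ne'
    have h2 : topologicalKrullDim ↥Y ≠ ⊤ := hfin.ne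
    obtain ⟨e, he⟩ := WithBot.ne_bot_iff_exists.1 h1
    have h3 : e ≠ ⊤ := by
      rintro rfl
      exact h2 he.symm
    obtain ⟨m, rfl⟩ := ENat.ne_top_iff_exists.1 h3
    exact ⟨m, he.symm⟩
  rw [hm]
  unfold topologicalKrullDim
  rw [Order.krullDim_lt_coe_iff]
  intro l
  have hlast : (l.map f hf).last < top := hlt _
  let l' : LTSeries (IrreducibleCloseds ↥Y) := (l.map f hf).snoc top hlast
  have hlen := LTSeries.length_le_krullDim l'
  have hm' : krullDim (IrreducibleCloseds ↥Y) = (m : WithBot ℕ∞) := hm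
  rw [hm'] at hlen
  have h4 : l'.length = l.length + 1 := rfl
  rw [h4] at hlen
  have h5 : l.length + 1 ≤ m := by exact_mod_cast hlen
  omega

end Groth.Agent.H60.WI_TL
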